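import Cfsg.Agent.Lib.J4Type.OctFacts

/-!
Two-subgroups of the stabiliser of an octad through the two deleted points (helper19).

* `HexOct.smul`, `exists_hexOct`, `exists_le_stabO` : every 2-subgroup of the duad stabiliser fixes such an octad
* `HexOct.normal_eq_top` : the stabiliser modulo the octad group is simple
* `HexOct.natCard_le_four_mul` : an elementary subgroup has at most four cosets of the octad group
* `HexOct.natCard_inter_le` : commuting with an involution outside leaves at most four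
-/

set_option autoImplicit false
set_option linter.style.haveILetI false
open scoped Pointwise
open Cfsg MulAction

namespace Cfsg.Agent.J4Type

open Cfsg.Agent.Golay Cfsg.Agent.GolayOrbits

theorem elementary_six_le {α : Type*} [Fintype α] [DecidableEq α] (h6 : Fintype.card α = 6)
    (Q : Subgroup (Equiv.Perm α)) (hQ : Q ≤ alternatingGroup α) (h2 : ∀ x ∈ Q, x * x = 1) :
    Nat.card ↥Q ≤ 4 := by
  haveI : Fact (Nat.Prime 2) := ⟨Nat.prime_two⟩
  haveI : Nontrivial α := Fintype.one_lt_card_iff_nontrivial.1 (by omega)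
  set A := alternatingGroup α
  have hA : Nat.card ↥A = 360 := by
    rw [nat_card_alternatingGroup, Nat.card_eq_fintype_card, h6]; rfl
  set Q' := Q.subgroupOf A
  have hQ' : Nat.card ↥Q' = Nat.card ↥Q := Nat.card_congr (Subgroup.subgroupOfEquivOfLe hQ).toEquiv
  have hp : IsPGroup 2 ↥Q' := fun x => ⟨1, Subtype.ext (Subtype.ext (by
    simpa [pow_two] using h2 _ (Subgroup.mem_subgroupOf.1 x.2)))⟩
  obtain ⟨S, hS⟩ := hp.exists_le_sylow
  obtain ⟨k, hk⟩ := IsPGroup.iff_card.1 S.isPGroup'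
  have hdvd := Subgroup.card_subgroup_dvd_card (S : Subgroup ↥A)
  rw [hk, hA] at hdvd
  have hk3 : k ≤ 3 := by
    by_contra hh
    have h16 : 2 ^ 4 ∣ 360 := (Nat.pow_dvd_pow 2 (by omega)).trans hdvd
    norm_num at h16
  have hle := Subgroup.card_dvd_of_le hS
  obtain ⟨j, hj⟩ := IsPGroup.iff_card.1 hp
  rw [← hQ', hj]
  rw [hj, hk] at hle
  have hjk : j ≤ k := (Nat.pow_dvd_pow_iff_le_right (by norm_num)).1 hle
  by_contra hh
  have hj3 : j = k := by
    rcases Nat.lt_or_ge j 3 with h | h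
    · exact absurd (Nat.pow_le_pow_right (show 1 ≤ 2 by norm_num) (Nat.le_of_lt_succ h)) hh
    · omega
  have hSQ : (S : Subgroup ↥A) = Q' := (Subgroup.eq_of_le_of_card_ge hS (by rw [hj, hk, hj3])).symm
  -- an element of order four
  let e := Fintype.equivFinOfCardEq h6
  let c0 : Equiv.Perm (Fin 6) :=
    Equiv.swap 0 1 * Equiv.swap 1 2 * Equiv.swap 2 3 * Equiv.swap 4 5
  let c : Equiv.Perm α := e.symm.permCongr c0
  have hmul : ∀ f g : Equiv.Perm (Fin 6), e.symm.permCongr (f * g) =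
      e.symm.permCongr f * e.symm.permCongr g := fun f g => Equiv.ext fun x => by simp [Equiv.permCongr_apply]
  have h4 : c * c * (c * c) = 1 := by
    rw [← hmul, ← hmul, show c0 * c0 * (c0 * c0) = 1 by decide]
    exact Equiv.ext fun x => by simp [Equiv.permCongr_apply]
  have hne : c * c ≠ 1 := by
    intro h
    rw [← hmul] at h
    have := Equiv.ext_iff.1 h (e.symm 0)
    simp only [Equiv.permCongr_apply, Equiv.symm_symm, Equiv.apply_symm_apply, Equiv.Perm.one_apply,
      EmbeddingLike.apply_eq_iff_eq] at this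
    exact absurd this (by decide)
  have hcA : c ∈ A := by
    rw [Equiv.Perm.mem_alternatingGroup, Equiv.Perm.sign_permCongr]
    decide
  have hcp : IsPGroup 2 ↥(Subgroup.zpowers (⟨c, hcA⟩ : ↥A)) := by
    rintro ⟨x, hx⟩
    obtain ⟨n, rfl⟩ := Subgroup.mem_zpowers_iff.1 hx
    refine ⟨2, Subtype.ext (Subtype.ext ?_)⟩
    show (c ^ n) ^ 2 ^ 2 = 1
    rw [← zpow_natCast, ← zpow_mul, mul_comm, zpow_mul, zpow_natCast,
      show c ^ 2 ^ 2 = c * c * (c * c) by simp [pow_succ, mul_assoc], h4, one_zpow]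
  obtain ⟨T, hT⟩ := hcp.exists_le_sylow
  obtain ⟨g, rfl⟩ := MulAction.exists_smul_eq ↥A S T
  have hm : (⟨c, hcA⟩ : ↥A) ∈ ((g • S : Sylow 2 ↥A) : Subgroup ↥A) := hT (Subgroup.mem_zpowers _)
  rw [Sylow.coe_subgroup_smul, Subgroup.mem_pointwise_smul_iff_inv_smul_mem, hSQ] at hm
  have h5 := h2 _ (Subgroup.mem_subgroupOf.1 hm)
  apply hne
  simp only [MulAut.smul_def, MulAut.inv_def, MulAut.conj_symm_apply, Subgroup.coe_mul,
    InvMemClass.coe_inv] at h5
  calc c * c = (g : Equiv.Perm α) * (((g : Equiv.Perm α)⁻¹ * c * g) * ((g : Equiv.Perm α)⁻¹ * c * g)) *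
        (g : Equiv.Perm α)⁻¹ := by group
    _ = 1 := by rw [h5]; group

namespace HexOct

variable {o : Finset GolayPt}

theorem smul (ho : HexOct o) {g : Equiv.Perm GolayPt} (hg : g ∈ pairStab) : HexOct (g • o) := by
  obtain ⟨hgM, h | h⟩ := mem_pairStab.1 hg
  · refine ⟨smul_mem_octads hgM ho.mem, ?_, ?_⟩
    · rw [← h.1]; exact Finset.smul_mem_smul_finset ho.a
    · rw [← h.2]; exact Finset.smul_mem_smul_finset ho.b
  · refine ⟨smul_mem_octads hgM ho.mem, ?_, ?_⟩
    · rw [← h.2]; exact Finset.smul_mem_smul_finset ho.b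
    · rw [← h.1]; exact Finset.smul_mem_smul_finset ho.a

theorem exists_hexOct : ∃ o, HexOct o := by
  haveI : Fact (Nat.Prime 2) := ⟨Nat.prime_two⟩
  obtain ⟨x, hx⟩ := exists_prime_orderOf_dvd_card' (G := ↥Spor.M22) 2 (by rw [natCard_M22']; norm_num)
  obtain ⟨o, ho, -⟩ := exists_hexOct_of_involution x.2
    (by rw [← pow_two, ← SubgroupClass.coe_pow, ← hx, pow_orderOf_eq_one]; rfl)
    (fun h => by rw [OneMemClass.coe_eq_one] at h; rw [h, orderOf_one] at hx; norm_num at hx)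
  exact ⟨o, ho⟩

/-- A 2-subgroup of the duad stabiliser fixes an octad through the two points. -/
theorem exists_le_stabO {S : Subgroup (Equiv.Perm GolayPt)} (hS : IsPGroup 2 S) (hle : S ≤ pairStab) :
    ∃ o, HexOct o ∧ S ≤ stabO o := by
  obtain ⟨o, ho⟩ := exists_hexOct
  obtain ⟨g, hg, h⟩ := ho.exists_conj_le_stabO hS hle
  refine ⟨g⁻¹ • o, ho.smul (inv_mem hg), fun s hs => ⟨hle hs, ?_⟩⟩
  have h' : (g * s * g⁻¹) • o = o := (h s hs).2
  show s • g⁻¹ • o = g⁻¹ • o
  rw [eq_inv_smul_iff, ← mul_smul, ← mul_smul]; exact h'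

theorem normal_eq_top (ho : HexOct o) (N : Subgroup ↥(stab0 o)) [N.Normal]
    (hA : ∀ g : ↥(stab0 o), (g : Equiv.Perm GolayPt) ∈ octadFix o → g ∈ N) {g : ↥(stab0 o)} (hg : g ∈ N)
    (hg' : (g : Equiv.Perm GolayPt) ∉ octadFix o) : N = ⊤ := by
  classical
  haveI : IsSimpleGroup ↥(alternatingGroup (Six o)) := alternatingGroup.isSimpleGroup (by
    rw [Nat.card_eq_fintype_card, ho.card_six]; norm_num)
  let r : ↥(stab0 o) →* ↥(alternatingGroup (Six o)) :=
    (sixRes0 o).codRestrict _ fun g => ho.range_sixRes0 ▸ ⟨g, rfl⟩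
  have hr : Function.Surjective r := fun e => by
    obtain ⟨g, hg⟩ := ho.exists_even e.2
    exact ⟨g, Subtype.ext hg⟩
  haveI : (N.map r).Normal := Subgroup.Normal.map inferInstance r hr
  rcases IsSimpleGroup.eq_bot_or_eq_top_of_normal (N.map r) inferInstance with e | e
  · exfalso
    have h1 : r g = 1 := by rw [← Subgroup.mem_bot, ← e]; exact ⟨g, hg, rfl⟩
    exact hg' ((ho.mem_ker_sixRes0 g).1 (congrArg Subtype.val h1))
  · refine (Subgroup.eq_top_iff' _).2 fun x => ?_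
    obtain ⟨k, hk, hkx⟩ := (e ▸ Subgroup.mem_top (r x) : r x ∈ N.map r)
    have : k⁻¹ * x ∈ N := hA _ ((ho.mem_ker_sixRes0 _).1 (by
      have h1 : r (k⁻¹ * x) = 1 := by rw [map_mul, map_inv, hkx, inv_mul_cancel]
      exact congrArg Subtype.val h1))
    simpa using mul_mem hk this

theorem natCard_le_four_mul (ho : HexOct o) (B : Subgroup (Equiv.Perm GolayPt)) (hB : B ≤ stab0 o)
    (h2 : ∀ x ∈ B, x * x = 1) :
    Nat.card ↥B ≤ 4 * Nat.card ↥(B ⊓ octadFix o : Subgroup (Equiv.Perm GolayPt)) := by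
  classical
  let f : ↥B →* Equiv.Perm (Six o) := (sixRes0 o).comp (Subgroup.inclusion hB)
  have hker : Nat.card f.ker = Nat.card ↥(B ⊓ octadFix o : Subgroup (Equiv.Perm GolayPt)) :=
    Nat.card_congr
      { toFun := fun g => ⟨((g : ↥B) : Equiv.Perm GolayPt), g.1.2, (ho.mem_ker_sixRes0 _).1 g.2⟩
        invFun := fun a => ⟨⟨a, a.2.1⟩, (ho.mem_ker_sixRes0 ⟨a, hB a.2.1⟩).2 a.2.2⟩ }
  have hrange : Nat.card f.range ≤ 4 := by
    refine elementary_six_le ho.card_six f.range ?_ ?_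
    · rintro _ ⟨b, rfl⟩
      rw [← ho.range_sixRes0]
      exact ⟨_, rfl⟩
    · rintro _ ⟨b, rfl⟩
      rw [← map_mul, show b * b = 1 from Subtype.ext (h2 b b.2), map_one]
  have h := f.ker.index_mul_card
  rw [Subgroup.index_ker, hker] at h
  rw [← h]
  exact Nat.mul_le_mul_right _ hrange

/-- An involution outside the octad group centralises at most four of its elements. -/
theorem natCard_inter_le (ho : HexOct o) {f : Equiv.Perm GolayPt} (hf : f ∈ Spor.M22) (hf2 : f * f = 1)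
    (hfA : f ∉ octadFix o) (D : Subgroup (Equiv.Perm GolayPt)) (hD : D ≤ octadFix o)
    (hc : ∀ d ∈ D, d * f = f * d) : Nat.card ↥D ≤ 4 := by
  obtain ⟨o', ho', hfo'⟩ := exists_hexOct_of_involution hf hf2 (fun h => hfA (h ▸ one_mem _))
  have hne : o ≠ o' := fun e => hfA (e ▸ hfo')
  have hf1 : f ≠ 1 := fun h => hfA (h ▸ one_mem _)
  refine le_trans (Subgroup.card_le_of_le (le_inf hD fun d hd => ?_)) (ho.natCard_fix_inter_le ho' hne)
  rw [MulAction.mem_stabilizer_iff]
  refine Finset.eq_of_subset_of_card_le ?_ (by rw [Finset.card_smul_finset])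
  intro y hy
  obtain ⟨x, hx, rfl⟩ := Finset.mem_smul_finset.1 hy
  refine (ho'.fix_octadFix hfo' hf1 _).1 ?_
  show f (d x) = d x
  rw [← Equiv.Perm.mul_apply, ← hc d hd, Equiv.Perm.mul_apply, (ho'.fix_octadFix hfo' hf1 x).2 hx]

end HexOct

end Cfsg.Agent.J4Type
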