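import Cfsg.Agent.Lib.J4Type.Hexad
import Cfsg.Agent.Lib.J4Type.OctTwo

/-!
Elementary abelian subgroups of order at least 2^11 of the centraliser (helper19).

* `natCard_isotropic_le` : a totally isotropic additive subgroup of the module has at most 64 elements
* `exists_Cfix_ne` : an element over an involution outside the octad group moves the fixed space
* `fix_semilinear_le` : fixed vectors of an outer element
* `elem_image_eq` : such a subgroup maps onto the octad group and meets `E` in the preimage of its fixed space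
-/

set_option autoImplicit false
set_option linter.style.haveILetI false
set_option linter.unusedSectionVars false
open scoped Pointwise
open Cfsg Subgroup

namespace Cfsg.Agent.J4Type.Setting

open Cfsg.Agent.Golay

variable {G : Type*} [Group G] [Finite G] {z : G} {P : Subgroup G} (S : Setting z P)
include S

/-- The inclusion of `E`. -/
abbrev inE (e : ↥(Ez z)) : ↥(Cz z) := ⟨(e : G), Ez_le_Cz z e.2⟩

theorem mem_E_of_sq {h : ↥(Cz z)} (hκ : S.κ h = 1) (h2 : h * h = 1) : (h : G) ∈ Ez z := by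
  rw [← S.rho_eq_one_iff]
  obtain ⟨n, hn⟩ := S.rho_of_κ_one hκ
  rw [hn]
  refine S.gen_pow_eq_one ?_
  rw [← hn, ← map_mul, h2, map_one]

theorem natCard_isotropic_le (Y : AddSubgroup S.WS) (hY : ∀ u ∈ Y, ∀ v ∈ Y, S.beta u v = 0) :
    Nat.card ↥Y ≤ 64 := by
  let M : Submodule (ZMod 2) S.WS :=
    { toAddSubmonoid := Y.toAddSubmonoid
      smul_mem' := fun c x hx => by
        rcases LargeExtraspecial.OutForm.two_cases c with rfl | rfl
        · rw [zero_smul]; exact Y.zero_mem
        · rw [one_smul]; exact hx }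
  have hnd : S.beta.Nondegenerate := ⟨fun v h => S.beta_nondeg v h,
    fun v h => S.beta_nondeg v fun w => (S.beta_comm v w).trans (h w)⟩
  have hM : M ≤ S.beta.orthogonal M := fun u hu v hv => hY v hv u hu
  have h1 := Submodule.finrank_mono hM
  rw [LinearMap.BilinForm.finrank_orthogonal hnd] at h1
  have h12 : Module.finrank (ZMod 2) S.WS = 12 := by
    have h := Module.natCard_eq_pow_finrank (K := ZMod 2) (V := S.WS)
    rw [S.card_WS, Nat.card_zmod] at h
    exact (Nat.pow_right_injective (le_refl 2) h).symm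
  have hc : Nat.card ↥M = 2 ^ Module.finrank (ZMod 2) M := by
    rw [Module.natCard_eq_pow_finrank (K := ZMod 2), Nat.card_zmod]
  show Nat.card ↥M ≤ 64
  rw [hc, show 64 = 2 ^ 6 by norm_num]
  exact Nat.pow_le_pow_right (by norm_num) (by omega)

variable {o : Finset GolayPt} (ho : HexOct o)
include ho

/-- An element over an involution outside the octad group moves the fixed space. -/
theorem exists_Cfix_ne {h : ↥(Cz z)} (hf : S.κ h ∈ stab0 o) (hfA : S.κ h ∉ octadFix o) :
    ∃ v ∈ S.Cfix o, S.rho h v ≠ v := by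
  by_contra hcon
  push Not at hcon
  -- elements acting by scalars on the fixed space
  have hlift : ∀ g ∈ stab0 o, ∃ k : ↥(Cz z), S.κ k = g := fun g hg => by
    obtain ⟨k, -, hk⟩ := S.frattini' (m22_le_pairStab hg.1)
    exact ⟨k, hk⟩
  have hker : ∀ k : ↥(Cz z), S.κ k = 1 → ∀ v : S.WS, ∃ c : K4, S.rho k v = c • v := by
    intro k hk v
    obtain ⟨n, hn⟩ := S.rho_of_κ_one hk
    refine ⟨K4.zeta ^ n, ?_⟩
    rw [hn]
    clear hn
    induction n with
    | zero => simp
    | succ n ih =>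
      rw [pow_succ', pow_succ', LinearEquiv.mul_apply, ih, mul_smul, S.zeta_smul, ← S.omega_eq]
  let N : Subgroup ↥(stab0 o) :=
    { carrier := {g | ∀ k : ↥(Cz z), S.κ k = g → ∀ v ∈ S.Cfix o, ∃ c : K4, S.rho k v = c • v}
      one_mem' := fun k hk v _ => hker k hk v
      mul_mem' := by
        intro a b ha hb k hk v hv
        obtain ⟨k1, hk1⟩ := hlift a a.2
        obtain ⟨c, hc⟩ := hb (k1⁻¹ * k) (by
          rw [map_mul, map_inv, hk1, hk, Subgroup.coe_mul, inv_mul_cancel_left]) v hv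
        obtain ⟨d, hd⟩ := ha k1 hk1 v hv
        refine ⟨c * d, ?_⟩
        have hi : k1 ∈ S.innerH := by show S.κ k1 ∈ Spor.M22; rw [hk1]; exact a.2.1
        calc S.rho k v = S.rho k1 (S.rho (k1⁻¹ * k) v) := by
              rw [← LinearEquiv.mul_apply, ← map_mul, mul_inv_cancel_left]
          _ = S.linK hi (c • v) := by rw [hc]; rfl
          _ = c • S.rho k1 v := by rw [map_smul]; rfl
          _ = (c * d) • v := by rw [hd, mul_smul]
      inv_mem' := by
        intro a ha k hk v hv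
        obtain ⟨c, hc⟩ := ha k⁻¹ (by rw [map_inv, hk, InvMemClass.coe_inv, inv_inv]) v hv
        refine ⟨c⁻¹, ?_⟩
        have hi : k ∈ S.innerH := by show S.κ k ∈ Spor.M22; rw [hk]; exact (stab0 o).inv_mem a.2 |>.1
        have h1 : v = S.linK hi (c • v) := by
          rw [← hc]
          show v = S.rho k (S.rho k⁻¹ v)
          rw [← LinearEquiv.mul_apply, ← map_mul, mul_inv_cancel, map_one]; rfl
        have h2 : v = c • S.rho k v := h1.trans (map_smul (S.linK hi) c v)
        by_cases hc0 : c = 0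
        · rw [hc0, zero_smul] at h2
          rw [h2, map_zero, smul_zero]
        · conv_rhs => rw [h2]
          rw [smul_smul, inv_mul_cancel₀ hc0, one_smul] }
  haveI : N.Normal := ⟨fun a ha g k hk v hv => by
    obtain ⟨l, hl⟩ := hlift g g.2
    have hi : l ∈ S.innerH := by show S.κ l ∈ Spor.M22; rw [hl]; exact g.2.1
    have hv' : S.rho l⁻¹ v ∈ S.Cfix o := S.rho_mem_Cfix ho (by
      rw [map_inv, hl]; exact (stabO o).inv_mem (stab0_le_stabO o g.2)) hv
    obtain ⟨c, hc⟩ := ha (l⁻¹ * k * l) (by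
      rw [map_mul, map_mul, map_inv, hl, hk]
      simp [mul_assoc]) _ hv'
    refine ⟨c, ?_⟩
    have hll : ∀ w, S.rho l (S.rho l⁻¹ w) = w := fun w => by
      rw [← LinearEquiv.mul_apply, ← map_mul, mul_inv_cancel, map_one]; rfl
    calc S.rho k v = S.rho l (S.rho (l⁻¹ * k * l) (S.rho l⁻¹ v)) := by
          rw [← LinearEquiv.mul_apply, ← LinearEquiv.mul_apply, ← map_mul, ← map_mul]
          congr 2; group
      _ = S.linK hi (c • S.rho l⁻¹ v) := by rw [hc]; rfl
      _ = c • S.rho l (S.rho l⁻¹ v) := by rw [map_smul]; rfl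
      _ = c • v := by rw [hll]⟩
  have hrest : ∀ a : ↥(stab0 o), ∀ k : ↥(Cz z), S.κ k = a →
      (∀ v ∈ S.Cfix o, S.rho k v = v) → a ∈ N := by
    intro a k hk hfix k' hk' v hv
    obtain ⟨c, hc⟩ := hker (k⁻¹ * k') (by rw [map_mul, map_inv, hk, hk', inv_mul_cancel]) v
    refine ⟨c, ?_⟩
    have hi : k ∈ S.innerH := by show S.κ k ∈ Spor.M22; rw [hk]; exact a.2.1
    calc S.rho k' v = S.rho k (S.rho (k⁻¹ * k') v) := by
          rw [← LinearEquiv.mul_apply, ← map_mul, mul_inv_cancel_left]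
      _ = S.linK hi (c • v) := by rw [hc]; rfl
      _ = c • v := by rw [map_smul, S.linK_apply, hfix v hv]
  have htop : N = ⊤ := ho.normal_eq_top N (fun a ha => by
    obtain ⟨k, -, hk, -, hI⟩ := S.exists_invLift (S.fix_M22 ho ha).1 (S.fix_M22 ho ha).2
    exact hrest a k hk fun v hv => hI ▸ (S.mem_Cfix ho).1 hv _ ha)
    (g := ⟨S.κ h, hf⟩) (hrest _ h rfl hcon) hfA
  -- a line is invariant
  obtain ⟨v, hv, hv0⟩ : ∃ v ∈ S.Cfix o, v ≠ 0 := Submodule.exists_mem_ne_zero_of_ne_bot fun e => by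
    have := S.finrank_Cfix ho
    rw [e, finrank_bot] at this
    omega
  rcases S.finrank_cases ho (U := Submodule.span K4 {v}) fun k hk u hu => by
      obtain ⟨d, rfl⟩ := Submodule.mem_span_singleton.1 hu
      obtain ⟨c, hc⟩ := (show (⟨S.κ k, hk⟩ : ↥(stab0 o)) ∈ N from htop ▸ Subgroup.mem_top _) k rfl v hv
      have hi : k ∈ S.innerH := hk.1
      rw [show S.rho k (d • v) = d • S.rho k v from map_smul (S.linK hi) d v, hc, smul_smul]
      exact Submodule.smul_mem _ _ (Submodule.mem_span_singleton_self v) with e | e | e <;>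
    rw [finrank_span_singleton hv0] at e <;> omega

omit ho in
/-- The fixed vectors of an outer element inside a subspace. -/
theorem fix_semilinear_le {h : ↥(Cz z)} (hh : h ∉ S.innerH) (M : Submodule K4 S.WS) (Y : AddSubgroup S.WS)
    (hY : ∀ v ∈ Y, S.rho h v = v) (hYM : ∀ v ∈ Y, v ∈ M) :
    Nat.card ↥Y * Nat.card ↥Y ≤ Nat.card ↥M := by
  rw [← Nat.card_prod]
  refine Nat.card_le_card_of_injective (fun p : ↥Y × ↥Y => (⟨(p.1 : S.WS) + S.omega p.2, M.add_mem
    (hYM _ p.1.2) (by rw [← S.zeta_smul]; exact M.smul_mem _ (hYM _ p.2.2))⟩ : ↥M)) ?_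
  rintro ⟨a, b⟩ ⟨c, d⟩ hab
  have h1 : (a : S.WS) + S.omega b = c + S.omega d := congrArg Subtype.val hab
  set u : S.WS := (a : S.WS) + c
  set w : S.WS := (b : S.WS) + d
  have hu : S.rho h u = u := hY _ (Y.add_mem a.2 c.2)
  have hw : S.rho h w = w := hY _ (Y.add_mem b.2 d.2)
  have h2 : u = S.omega w := by
    rw [map_add]
    have h3 := congrArg (fun x => x + ((c : S.WS) + S.omega b)) h1
    calc u = (a : S.WS) + S.omega b + ((c : S.WS) + S.omega b) := by
          show (a : S.WS) + c = _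
          rw [add_add_add_comm, ZModModule.add_self, add_zero]
      _ = _ := by rw [h3]; rw [add_add_add_comm, ZModModule.add_self, zero_add, add_comm]
  have h4 : S.omega (S.omega w) = S.omega w := by
    conv_lhs => rw [← hw, ← S.rho_outer hh, ← h2, hu, h2]
  have hw0 : w = 0 := by
    have h5 : S.omega w = 0 := S.omega_fix h4
    rw [h5, map_zero] at h4
    have h6 := S.omega_sum w
    rw [h5, map_zero, zero_add] at h6
    exact h6.symm
  have hu0 : u = 0 := by rw [h2, hw0, map_zero]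
  have e1 : (a : S.WS) = c := by
    have := eq_neg_of_add_eq_zero_left hu0
    rwa [ZModModule.neg_eq_self] at this
  have e2 : (b : S.WS) = d := by
    have := eq_neg_of_add_eq_zero_left hw0
    rwa [ZModModule.neg_eq_self] at this
  exact Prod.ext (Subtype.ext e1) (Subtype.ext e2)

/-- **The elementary abelian subgroups of order at least 2^11 in the stabiliser of an octad.** -/
theorem elem_image_eq (V : Subgroup ↥(Cz z)) (hsq : ∀ x ∈ V, x * x = 1)
    (hc : ∀ x ∈ V, ∀ y ∈ V, x * y = y * x) (hzV : (⟨z, self_mem_Cz z⟩ : ↥(Cz z)) ∈ V)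
    (hle : V.map S.κ ≤ stabO o) (hcard : 2 ^ 11 ≤ Nat.card ↥V) :
    V.map S.κ = octadFix o ∧ (∀ e : ↥(Ez z), inE e ∈ V ↔ S.pr e ∈ S.Cfix o) ∧
      Nat.card ↥V = 2 ^ 11 := by
  classical
  set B := V.map S.κ with hB
  -- the part inside `E`
  let j : ↥(Ez z) →* ↥(Cz z) := Subgroup.inclusion (Ez_le_Cz z)
  let Y : AddSubgroup S.WS :=
    { carrier := {w | ∃ e : ↥(Ez z), inE e ∈ V ∧ S.pr e = w}
      zero_mem' := ⟨1, V.one_mem, S.pr_one⟩
      add_mem' := by
        rintro _ _ ⟨a, ha, rfl⟩ ⟨b, hb, rfl⟩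
        exact ⟨a * b, V.mul_mem ha hb, S.pr_mul a b⟩
      neg_mem' := by
        rintro _ ⟨a, ha, rfl⟩
        exact ⟨a, ha, (ZModModule.neg_eq_self _).symm⟩ }
  have hfixY : ∀ h ∈ V, ∀ v ∈ Y, S.rho h v = v := by
    rintro h hh _ ⟨e, he, rfl⟩
    rw [S.rho_fix_iff]
    exact Or.inl (mul_inv_eq_iff_eq_mul.2 (congrArg Subtype.val (hc h hh _ he)))
  have hiso : ∀ u ∈ Y, ∀ v ∈ Y, S.beta u v = 0 := by
    rintro _ ⟨a, ha, rfl⟩ _ ⟨b, hb, rfl⟩
    exact (S.beta_pr a b).2 (congrArg Subtype.val (hc _ ha _ hb))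
  have hY64 := S.natCard_isotropic_le Y hiso
  let VE : Subgroup ↥(Ez z) := V.comap j
  let f : ↥VE →* Multiplicative ↥Y :=
    { toFun := fun e => Multiplicative.ofAdd ⟨S.pr e, e, e.2, rfl⟩
      map_one' := congrArg Multiplicative.ofAdd (Subtype.ext S.pr_one)
      map_mul' := fun a b => congrArg Multiplicative.ofAdd (Subtype.ext (S.pr_mul a b)) }
  have hfs : Function.Surjective f := fun w => by
    obtain ⟨e, he, hw⟩ := (Multiplicative.toAdd w).2
    exact ⟨⟨e, he⟩, Subtype.ext hw⟩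
  have hzE : inE (⟨z, S.z_mem_E⟩ : ↥(Ez z)) ∈ V := hzV
  have hker : Nat.card f.ker = 2 := by
    rw [Nat.card_eq_two_iff]
    refine ⟨1, ⟨⟨⟨z, S.z_mem_E⟩, hzE⟩, ?_⟩, fun h => ?_, ?_⟩
    · exact congrArg Multiplicative.ofAdd (Subtype.ext ((S.pr_eq_zero _).2 (Or.inr rfl)))
    · exact S.z_ne (congrArg (fun k : f.ker => (((k : ↥VE) : ↥(Ez z)) : G)) h).symm
    · refine Set.eq_univ_of_forall fun k => ?_
      rcases (S.pr_eq_zero _).1 (congrArg Subtype.val (k.2 : f k = 1)) with h | h
      · exact Or.inl (Subtype.ext (Subtype.ext (Subtype.ext h)))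
      · exact Or.inr (Subtype.ext (Subtype.ext (Subtype.ext h)))
  have hVE : Nat.card ↥VE = 2 * Nat.card ↥Y := by
    have h := f.ker.index_mul_card
    rw [Subgroup.index_ker, MonoidHom.range_eq_top.2 hfs, Subgroup.card_top, hker,
      Nat.card_congr Multiplicative.toAdd] at h
    omega
  let g : ↥V →* Equiv.Perm GolayPt := S.κ.comp V.subtype
  have hgker : Nat.card g.ker = Nat.card ↥VE := Nat.card_congr
    { toFun := fun x => ⟨⟨((x : ↥V) : ↥(Cz z)), S.mem_E_of_sq x.2 (hsq _ x.1.2)⟩, x.1.2⟩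
      invFun := fun e => ⟨⟨j e, e.2⟩, S.κ_E (e : ↥(Ez z)).2⟩
      left_inv := fun x => rfl
      right_inv := fun e => rfl }
  have hV : Nat.card ↥V = 2 * Nat.card ↥Y * Nat.card ↥B := by
    have h := g.ker.index_mul_card
    rw [Subgroup.index_ker, hgker, hVE, MonoidHom.range_comp, V.range_subtype, ← hB] at h
    rw [← h, mul_comm]
  have hBsq : ∀ b ∈ B, b * b = 1 := by
    rintro _ ⟨x, hx, rfl⟩; rw [← map_mul, hsq x hx, map_one]
  have hBc : ∀ a ∈ B, ∀ b ∈ B, a * b = b * a := by
    rintro _ ⟨x, hx, rfl⟩ _ ⟨y, hy, rfl⟩; rw [← map_mul, hc x hx y hy, map_mul]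
  set B0 := B ⊓ Spor.M22 with hB0
  have hB0le : B0 ≤ stab0 o := fun b hb => ⟨hb.2, (hle hb.1).2⟩
  -- inner elements of `B` act as the involutions
  have hinv : ∀ b ∈ B0, ∀ v ∈ Y, S.invLift b v = v := by
    rintro b ⟨⟨x, hx, rfl⟩, hb⟩ v hv
    rw [S.invLift_eq hb (by rw [← map_mul, hsq x hx, map_one])]
    exact hfixY x hx v hv
  -- at most twice the inner part
  have hB2 : Nat.card ↥B ≤ 2 * Nat.card ↥B0 := by
    by_cases hout : ∃ s ∈ B, s ∉ Spor.M22
    · obtain ⟨s, hs, hs'⟩ := hout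
      have hsA : s pA ≠ pA := fun h => hs' ((mem_M22_iff (hle hs).1).2 h)
      have hprod : ∀ b ∈ B, b ∉ Spor.M22 → s * b ∈ B0 := by
        intro b hb hb'
        refine ⟨B.mul_mem hs hb, (mem_M22_iff (pairStab.mul_mem (hle hs).1 (hle hb).1)).2 ?_⟩
        rw [Equiv.Perm.mul_apply]
        rcases (mem_pairStab.1 (hle hb).1).2 with ⟨h, -⟩ | ⟨h, -⟩
        · exact absurd ((mem_M22_iff (hle hb).1).2 h) hb'
        · rcases (mem_pairStab.1 (hle hs).1).2 with ⟨h', -⟩ | ⟨-, h'⟩
          · exact absurd h' hsA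
          · rw [h, h']
      let φ : ↥B → Bool × ↥B0 := fun b =>
        if h : (b : Equiv.Perm GolayPt) ∈ Spor.M22 then (true, ⟨b, b.2, h⟩)
        else (false, ⟨s * b, hprod b b.2 h⟩)
      refine (Nat.card_le_card_of_injective φ ?_).trans (by rw [Nat.card_prod]; simp)
      intro a b hab
      by_cases h1 : (a : Equiv.Perm GolayPt) ∈ Spor.M22 <;>
        by_cases h2 : (b : Equiv.Perm GolayPt) ∈ Spor.M22 <;>
        simp only [φ, h1, h2, dite_true, dite_false, Prod.mk.injEq, Subtype.mk.injEq] at hab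
      · exact Subtype.ext (congrArg Subtype.val hab.2 :)
      · exact absurd hab.1 (by simp)
      · exact absurd hab.1 (by simp)
      · exact Subtype.ext (mul_left_cancel hab.2)
    · push Not at hout
      have : B ≤ B0 := le_inf le_rfl hout
      exact (Subgroup.card_le_of_le this).trans (by omega)
  -- the inner part is the group of the octad
  have hA : B0 = octadFix o := by
    by_cases h16 : 16 ≤ Nat.card ↥B0
    · by_contra hne
      set D := B0 ⊓ octadFix o
      have h4 := ho.natCard_le_four_mul B0 hB0le (fun x hx => hBsq x hx.1)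
      have hDne : D ≠ octadFix o := fun e => hne (le_antisymm (fun b hb => ho.centralizes_octadFix
        hb.2.1.1 fun a ha => hBc b hb.1 a ((e.symm ▸ ha : a ∈ D).1).1) (e ▸ inf_le_left))
      obtain ⟨f, hf, hfA⟩ : ∃ f ∈ B0, f ∉ octadFix o := by
        by_contra hh
        push Not at hh
        refine hne (Subgroup.eq_of_le_of_card_ge hh ?_)
        rw [natCard_octadFix ho.mem]
        exact h16
      have hD4 : Nat.card ↥D ≤ 4 := ho.natCard_inter_le hf.2 (hBsq f hf.1) hfA D inf_le_right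
        fun d hd => hBc d hd.1.1 f hf.1
      have h4' : Nat.card ↥B0 ≤ 4 * Nat.card ↥D := h4
      have hD : Nat.card ↥D = 4 := by omega
      have hB0c : Nat.card ↥B0 = 16 := by omega
      haveI := Fintype.ofFinite ↥D
      obtain ⟨a, b, ha1, hb1, hab⟩ : ∃ a b : ↥D, a ≠ 1 ∧ b ≠ 1 ∧ a ≠ b := by
        have h3 : 2 < Fintype.card ↥D := by rw [← Nat.card_eq_fintype_card, hD]; norm_num
        obtain ⟨a, b, c, hab, hac, hbc⟩ := Fintype.two_lt_card_iff.1 h3
        by_cases ha : a = 1
        · exact ⟨b, c, fun h => hab (ha.trans h.symm), fun h => hac (ha.trans h.symm), hbc⟩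
        by_cases hb : b = 1
        · exact ⟨a, c, ha, fun h => hbc (hb.trans h.symm), hac⟩
        · exact ⟨a, b, ha, hb, hab⟩
      have hYC : ∀ v ∈ Y, v ∈ S.Cfix o := fun v hv =>
        S.mem_Cfix_of_two ho a.2.2 (fun h => ha1 (Subtype.ext h)) b.2.2 (fun h => hb1 (Subtype.ext h))
          (fun h => hab (Subtype.ext h)) (hinv _ a.2.1 v hv) (hinv _ b.2.1 v hv)
      obtain ⟨x, hx, rfl⟩ := hf.1
      have hi : x ∈ S.innerH := hf.2
      obtain ⟨v0, hv0, hv0ne⟩ := S.exists_Cfix_ne ho (hB0le hf) hfA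
      let K : Submodule K4 S.WS := S.Cfix o ⊓ LinearMap.eqLocus (S.linK hi) LinearMap.id
      have hK : Module.finrank K4 K ≤ 2 := by
        have hlt : K < S.Cfix o := lt_of_le_of_ne inf_le_left fun e => hv0ne
          (show S.linK hi v0 = v0 from (e.symm ▸ hv0 : v0 ∈ K).2)
        have := Submodule.finrank_lt_finrank_of_lt hlt
        rw [S.finrank_Cfix ho] at this
        omega
      have hYK : Nat.card ↥Y ≤ 16 := by
        refine (Nat.card_le_card_of_injective (fun v : ↥Y => (⟨v, hYC v v.2, hfixY x hx v v.2⟩ : ↥K))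
          fun a b h => Subtype.ext (congrArg Subtype.val h :)).trans ?_
        rw [natCard_eq_four_pow]
        exact (Nat.pow_le_pow_right (by norm_num) hK).trans (by norm_num)
      nlinarith
    · exfalso
      haveI : Fact (Nat.Prime 2) := ⟨Nat.prime_two⟩
      obtain ⟨k, hk⟩ := IsPGroup.iff_card.1 (show IsPGroup 2 ↥B0 from fun x => ⟨1, Subtype.ext (by
        simpa [pow_two] using hBsq _ x.2.1)⟩)
      have hk3 : k ≤ 3 := by
        by_contra hh
        have : 2 ^ 4 ≤ 2 ^ k := Nat.pow_le_pow_right (by norm_num) (by omega)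
        omega
      have h8 : Nat.card ↥B0 ≤ 8 := hk ▸ (Nat.pow_le_pow_right (by norm_num) hk3).trans (by norm_num)
      have hB16 : Nat.card ↥B = 16 := le_antisymm (by omega) (by nlinarith)
      have hY' : Nat.card ↥Y = 64 := le_antisymm hY64 (by nlinarith)
      obtain ⟨s, hs, hs'⟩ : ∃ s ∈ B, s ∉ Spor.M22 := by
        by_contra hh
        push Not at hh
        have h' : Nat.card ↥B ≤ Nat.card ↥B0 := Subgroup.card_le_of_le (le_inf le_rfl hh : B ≤ B0)
        omega
      haveI := Fintype.ofFinite ↥B0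
      obtain ⟨b, hb1⟩ := Fintype.exists_ne_of_one_lt_card
        (show 1 < Fintype.card ↥B0 by rw [← Nat.card_eq_fintype_card]; omega) 1
      obtain ⟨x, hx, rfl⟩ := hs
      have hb2 : (b : Equiv.Perm GolayPt) * b = 1 := hBsq _ b.2.1
      set M := LinearMap.ker (S.mv (b : Equiv.Perm GolayPt))
      have hM : Module.finrank K4 M ≤ 5 := by
        have hne : M ≠ ⊤ := fun e => hb1 (Subtype.ext (S.invLift_eq_one b.2.2 hb2
          (LinearEquiv.ext fun v => (S.mv_eq_zero_iff b.2.2 hb2 v).1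
            (LinearMap.mem_ker.1 (e ▸ Submodule.mem_top : v ∈ M)))))
        have := Submodule.finrank_lt hne
        rw [S.finrank_WS] at this
        omega
      have h := S.fix_semilinear_le (h := x) (fun hi => hs' hi) M Y (hfixY x hx) fun v hv =>
        LinearMap.mem_ker.2 ((S.mv_eq_zero_iff b.2.2 hb2 v).2 (hinv _ b.2 v hv))
      rw [hY', natCard_eq_four_pow] at h
      have h5 := Nat.pow_le_pow_right (show 1 ≤ 4 by norm_num) hM
      omega
  have hBA : B = octadFix o := by
    refine le_antisymm (fun b hb => ho.centralizes_octadFix (pairStab_le_M24 (hle hb).1)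
      fun a ha => hBc b hb a (hA.symm ▸ ha : a ∈ B0).1) (hA ▸ inf_le_left)
  have hB16 : Nat.card ↥B = 16 := by rw [hBA]; exact natCard_octadFix ho.mem
  have hYC : ∀ v ∈ Y, v ∈ S.Cfix o := fun v hv => (S.mem_Cfix ho).2 fun a ha =>
    hinv a (hA.symm ▸ ha) v hv
  have hY' : Nat.card ↥Y = 64 := le_antisymm hY64 (by nlinarith)
  refine ⟨hBA, fun e => ⟨fun he => hYC _ ⟨e, he, rfl⟩, fun he => ?_⟩, by rw [hV, hY', hB16]; norm_num⟩
  have hset : (Y : Set S.WS) = (S.Cfix o : Set S.WS) := by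
    refine Set.eq_of_subset_of_ncard_le hYC ?_ (Set.toFinite _)
    rw [← Nat.card_coe_set_eq, ← Nat.card_coe_set_eq]
    show Nat.card ↥(S.Cfix o) ≤ Nat.card ↥Y
    rw [hY', natCard_eq_four_pow, S.finrank_Cfix ho]
    norm_num
  obtain ⟨e', he', hee⟩ := (hset.symm ▸ he : S.pr e ∈ (Y : Set S.WS))
  rcases (S.pr_eq_iff e e').1 hee.symm with h | h
  · rwa [show e = e' from Subtype.ext h]
  · rw [show inE e = inE e' * ⟨z, self_mem_Cz z⟩ from Subtype.ext h]
    exact V.mul_mem he' hzV

end Cfsg.Agent.J4Type.Setting
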