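import Cfsg.Agent.Lib.J4Type.Space
import Cfsg.Agent.Lib.ZStar.Glauberman
import Cfsg.Agent.Lib.ZStarPrimePower.Proved

/-!
Groups of Janko-four type: a conjugate of `z` other than `z` lies in the inner part of `C(z)` (helper26).

* `Setting.mem_innerH_mul` : the inner part has index two
* `Setting.exists_conj_z` : `z` is not isolated
* `Setting.natCard_range_ge` : an outer involution moves at least half of `W`
* `Setting.exists_inner_conj_z` : not all the conjugates of `z` in `C(z)` other than `z` are outer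
-/

set_option autoImplicit false
set_option linter.unusedSectionVars false
open Cfsg Subgroup

namespace Cfsg.Agent.J4Type

open LargeExtraspecial

namespace Setting

variable {G : Type*} [Group G] [Finite G] {z : G} {P : Subgroup G} (S : Setting z P)
include S

theorem κ_pA (h : ↥(Cz z)) : S.κ h pA = pA ∧ S.κ h pB = pB ∨ S.κ h pA = pB ∧ S.κ h pB = pA :=
  (mem_pairStab.1 (S.κ_mem h)).2

/-- The inner part has index two. -/
theorem mem_innerH_mul (a b : ↥(Cz z)) : a * b ∈ S.innerH ↔ (a ∈ S.innerH ↔ b ∈ S.innerH) := by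
  rw [S.mem_innerH, S.mem_innerH, S.mem_innerH, map_mul, Equiv.Perm.mul_apply]
  rcases S.κ_pA a with ⟨a1, a2⟩ | ⟨a1, a2⟩ <;> rcases S.κ_pA b with ⟨b1, b2⟩ | ⟨b1, b2⟩ <;>
    simp [a1, a2, b1, b2]

/-- `z` is not isolated. -/
theorem exists_conj_z (hs : IsSimpleGroup G) (hG : ¬ IsMulCommutative G) :
    ∃ g : G, g * z * g⁻¹ ∈ Cz z ∧ g * z * g⁻¹ ≠ z := by
  haveI := hs
  haveI : Fact (Nat.Prime 2) := ⟨Nat.prime_two⟩
  by_contra hcon
  push Not at hcon
  have hiso : IsIsolatedInvolution z := ⟨S.orderOf_z, fun g hg => hcon g (mem_Cz.2 hg.eq.symm)⟩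
  have hO : pPrimeCore 2 G = ⊥ := by
    haveI := Cores.pPrimeCore_normal (G := G) 2
    refine ((inferInstance : (pPrimeCore 2 G).Normal).eq_bot_or_eq_top).resolve_right fun h => ?_
    have h2 : orderOf z ∣ Nat.card ↥(pPrimeCore 2 G) :=
      Subgroup.orderOf_dvd_natCard _ (h ▸ mem_top z)
    rw [S.orderOf_z] at h2
    exact Nat.prime_two.coprime_iff_not_dvd.1 (Cores.coprime_card_pPrimeCore 2).symm h2
  have hc : z ∈ Subgroup.center G := by
    refine Subgroup.mem_center_iff.2 fun g => ?_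
    have h := ZStar.zStar_of_brauerSuzuki ZStarPrimePower.uniqueInvolutionZStar_proved hiso g
    rw [hO, mem_bot, mul_inv_eq_one, mul_inv_eq_iff_eq_mul] at h
    exact h.symm
  rcases (inferInstance : (Subgroup.center G).Normal).eq_bot_or_eq_top with h | h
  · rw [h, mem_bot] at hc
    exact S.z_ne hc
  · exact hG ⟨⟨fun a b => Subgroup.mem_center_iff.1 (h ▸ mem_top b) a⟩⟩

/-- The map `v ↦ v + x v` on `W`. -/
noncomputable def dlt (X : ↥(Cz z)) : S.WS →ₗ[ZMod 2] S.WS :=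
  (S.rho X).toLinearMap + LinearMap.id

theorem dlt_apply (X : ↥(Cz z)) (v : S.WS) : S.dlt X v = S.rho X v + v := rfl

/-- An outer involution moves at least half of `W`. -/
theorem natCard_range_ge {X : ↥(Cz z)} (hX : X ∉ S.innerH) :
    2 ^ 6 ≤ Nat.card ↥(LinearMap.range (S.dlt X)) := by
  have hfix : ∀ {v : S.WS}, v ∈ LinearMap.ker (S.dlt X) → S.rho X v = v := fun {v} hv => by
    rw [LinearMap.mem_ker, dlt_apply, ← ZModModule.sub_eq_add] at hv
    exact sub_eq_zero.1 hv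
  have hdis : ∀ {v : S.WS}, v ∈ LinearMap.ker (S.dlt X) → S.omega v ∈ LinearMap.ker (S.dlt X) →
      v = 0 := fun {v} hv hw => by
    have h := S.rho_outer hX v
    rw [hfix hv, hfix hw] at h
    have h0 : S.omega v = 0 := S.omega_fix h.symm
    rw [omega_apply] at h0
    exact (LinearEquiv.map_eq_zero_iff _).1 h0
  have hinj : Function.Injective fun p : ↥(LinearMap.ker (S.dlt X)) × ↥(LinearMap.ker (S.dlt X)) =>
      (p.1 : S.WS) + S.omega p.2 := by
    rintro ⟨a, b⟩ ⟨c, d⟩ h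
    have h1 : S.omega ((b : S.WS) + d) = (a : S.WS) + c := by
      have h' : ((a : S.WS) + c) + (S.omega b + S.omega d) = 0 := by
        rw [add_add_add_comm, show (a : S.WS) + S.omega b = c + S.omega d from h,
          ← ZModModule.sub_eq_add, sub_self]
      rw [← ZModModule.sub_eq_add, sub_eq_zero] at h'
      rw [map_add, h']
    have hb : (b : S.WS) + d = 0 := hdis (add_mem b.2 d.2) (h1 ▸ add_mem a.2 c.2)
    rw [← ZModModule.sub_eq_add, sub_eq_zero] at hb
    rw [Prod.mk.injEq]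
    refine ⟨Subtype.ext ?_, Subtype.ext hb⟩
    simp only [hb] at h
    exact add_right_cancel h
  have hker : Nat.card ↥(LinearMap.ker (S.dlt X)) ≤ 2 ^ 6 := by
    have h := Nat.card_le_card_of_injective _ hinj
    rw [Nat.card_prod, S.card_WS] at h
    by_contra hlt
    nlinarith
  have h2 := Submodule.card_eq_card_quotient_mul_card (LinearMap.ker (S.dlt X))
  rw [Nat.card_congr (LinearMap.quotKerEquivRange (S.dlt X)).toEquiv, S.card_WS] at h2
  nlinarith

theorem beta_dlt {X : ↥(Cz z)} (hX2 : X * X = 1) (v w : S.WS) :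
    S.beta (S.dlt X v) w = S.beta v (S.dlt X w) := by
  have h : S.rho X (S.rho X w) = w := by
    rw [← LinearEquiv.mul_apply, ← map_mul, hX2, map_one]; rfl
  rw [dlt_apply, dlt_apply, map_add, LinearMap.add_apply, map_add]
  congr 1
  conv_lhs => rw [← h, S.beta_rho]

theorem qS_dlt_add {X : ↥(Cz z)} (hX2 : X * X = 1) {v w : S.WS}
    (hv : v ∈ LinearMap.range (S.dlt X)) (hw : w ∈ LinearMap.range (S.dlt X)) :
    S.qS (v + w) = S.qS v + S.qS w := by
  obtain ⟨a, rfl⟩ := hv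
  obtain ⟨b, rfl⟩ := hw
  have h0 : S.dlt X (S.dlt X b) = 0 := by
    have h : S.rho X (S.rho X b) = b := by
      rw [← LinearEquiv.mul_apply, ← map_mul, hX2, map_one]; rfl
    rw [dlt_apply, dlt_apply, map_add, h, add_comm b, ← ZModModule.sub_eq_add]
    exact sub_self _
  rw [S.qS_add, S.beta_dlt hX2, h0, map_zero, add_zero]

/-- **A conjugate of `z` other than `z` in the inner part of `C(z)`.** -/
theorem exists_inner_conj_z (hs : IsSimpleGroup G) (hG : ¬ IsMulCommutative G) :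
    ∃ g : G, ∃ h : g * z * g⁻¹ ∈ Cz z, g * z * g⁻¹ ≠ z ∧ (⟨g * z * g⁻¹, h⟩ : ↥(Cz z)) ∈ S.innerH := by
  classical
  obtain ⟨g, hgC, hgz⟩ := S.exists_conj_z hs hG
  by_contra hcon
  push Not at hcon
  set x := g * z * g⁻¹ with hxdef
  set X : ↥(Cz z) := ⟨x, hgC⟩ with hXdef
  have hXout : X ∉ S.innerH := fun h => hcon g hgC hgz h
  have hxx : x * x = 1 := by
    calc x * x = g * (z * z) * g⁻¹ := by rw [hxdef]; group
      _ = 1 := by rw [S.z_sq]; group
  have hX2 : X * X = 1 := Subtype.ext hxx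
  -- the parity in the centraliser of `x`
  have hback : ∀ {h : G}, h * x = x * h → g⁻¹ * h * g ∈ Cz z := by
    intro h hh
    refine mem_Cz.2 ?_
    calc g⁻¹ * h * g * z = g⁻¹ * (h * x) * g := by rw [hxdef]; group
      _ = _ := by rw [hh, hxdef]; group
  let In : G → Prop := fun h => ∃ hh : g⁻¹ * h * g ∈ Cz z, (⟨_, hh⟩ : ↥(Cz z)) ∈ S.innerH
  have hIn_mul : ∀ {a b : G}, a * x = x * a → b * x = x * b → (In (a * b) ↔ (In a ↔ In b)) := by
    intro a b ha hb
    have hab : a * b * x = x * (a * b) := by rw [mul_assoc, hb, ← mul_assoc, ha, mul_assoc]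
    have e : (⟨_, hback ha⟩ : ↥(Cz z)) * ⟨_, hback hb⟩ = ⟨_, hback hab⟩ :=
      Subtype.ext (by simp only [Subgroup.coe_mul]; group)
    have hm := S.mem_innerH_mul ⟨_, hback ha⟩ ⟨_, hback hb⟩
    rw [e] at hm
    exact ⟨fun ⟨_, h⟩ => ⟨fun ⟨_, h'⟩ => ⟨_, (hm.1 h).1 h'⟩, fun ⟨_, h'⟩ => ⟨_, (hm.1 h).2 h'⟩⟩,
      fun h => ⟨_, hm.2 ⟨fun h' => (h.1 ⟨_, h'⟩).2, fun h' => (h.2 ⟨_, h'⟩).2⟩⟩⟩
  have hIn_one : In 1 := ⟨by simp, by
    have : (⟨g⁻¹ * 1 * g, by simp⟩ : ↥(Cz z)) = 1 := Subtype.ext (by simp)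
    rw [this]; exact one_mem _⟩
  -- conjugates of `z` commuting with `x`, other than `x`, are outer there
  have hout : ∀ c : G, c * z * c⁻¹ * x = x * (c * z * c⁻¹) → c * z * c⁻¹ ≠ x → ¬ In (c * z * c⁻¹) := by
    rintro c hc hne ⟨hh, hi⟩
    have e : g⁻¹ * (c * z * c⁻¹) * g = (g⁻¹ * c) * z * (g⁻¹ * c)⁻¹ := by group
    refine hcon (g⁻¹ * c) (e ▸ hh) (fun h => hne ?_) ?_
    · rw [← e] at h
      rw [hxdef]
      calc c * z * c⁻¹ = g * (g⁻¹ * (c * z * c⁻¹) * g) * g⁻¹ := by group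
        _ = _ := by rw [h]
    · convert hi using 2
      exact e.symm
  have hxz : x * z = z * x := mem_Cz.1 hgC
  have hz_out : ¬ In z := by
    have h := hout 1 (by simpa using hxz.symm) (by simpa using Ne.symm hgz)
    simpa using h
  have hx_in : In x := by
    have e : g⁻¹ * x * g = z := by rw [hxdef]; group
    refine ⟨e.symm ▸ self_mem_Cz z, S.mem_innerH_of_mem_E ?_⟩
    show g⁻¹ * x * g ∈ Ez z
    rw [e]; exact S.z_mem_E
  -- commutators with `x`
  let s : G → G := fun e => e * x * e⁻¹ * x⁻¹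
  have hs_out : ∀ e : G, s e * x = x * s e → s e ≠ 1 → ¬ In (s e) := by
    intro e he hne hi
    have e' : e * g * z * (e * g)⁻¹ = s e * x := by simp only [s, hxdef]; group
    refine hout (e * g) (by rw [e', ← mul_assoc x, ← he]) ?_ ?_
    · rw [e']; exact fun h => hne (mul_eq_right.1 h)
    · rw [e', hIn_mul he rfl]
      exact ⟨fun _ => hx_in, fun _ => hi⟩
  have hs_mem : ∀ {e : G}, e ∈ Ez z → s e ∈ Ez z := fun {e} he => by
    rw [show s e = e * (x * e⁻¹ * x⁻¹) by simp only [s]; group]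
    exact mul_mem he (conj_mem_Ez hgC (inv_mem he))
  have hpr : ∀ {e : G} (he : e ∈ Ez z), S.pr ⟨s e, hs_mem he⟩ = S.dlt X (S.pr ⟨e, he⟩) := by
    intro e he
    have e1 : (⟨s e, hs_mem he⟩ : ↥(Ez z)) =
        ⟨e, he⟩ * ⟨x * e⁻¹ * x⁻¹, conj_mem_Ez hgC (inv_mem he)⟩ :=
      Subtype.ext (by simp only [s, Subgroup.coe_mul]; group)
    rw [e1, S.pr_mul, dlt_apply, add_comm, ← S.pr_inv ⟨e, he⟩, S.rho_pr]
    congr 1
  have hcomm : ∀ {e : G}, s e * s e = 1 → s e * x = x * s e := by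
    intro e h
    have h1 : (s e)⁻¹ = s e := inv_eq_of_mul_eq_one_right h
    have h2 : x * s e * x⁻¹ = (s e)⁻¹ := by
      simp only [s]
      calc x * (e * x * e⁻¹ * x⁻¹) * x⁻¹ = x * e * x * e⁻¹ * (x * x)⁻¹ := by group
        _ = x * e * x⁻¹ * e⁻¹ := by
            rw [hxx, inv_one, mul_one, show x⁻¹ = x from inv_eq_of_mul_eq_one_right hxx]
        _ = _ := by group
    rw [h1, mul_inv_eq_iff_eq_mul] at h2
    exact h2.symm
  -- the forced value of the form
  have key : ∀ v u : S.WS, S.qS (S.dlt X v) = 0 → S.qS (S.dlt X u) = 0 → S.dlt X v ≠ 0 →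
      S.dlt X u ≠ 0 → S.dlt X v + S.dlt X u ≠ 0 → S.beta v (S.dlt X u) = 1 := by
    intro v u qv qu hv hu hvu
    obtain ⟨a, ha, rfl⟩ := S.exists_pr v
    obtain ⟨b, hb, rfl⟩ := S.exists_pr u
    have qab : S.qS (S.dlt X (S.pr ⟨a * b, mul_mem ha hb⟩)) = 0 := by
      rw [show (⟨a * b, mul_mem ha hb⟩ : ↥(Ez z)) = ⟨a, ha⟩ * ⟨b, hb⟩ from rfl, S.pr_mul, map_add,
        S.qS_dlt_add hX2 (LinearMap.mem_range_self _ _) (LinearMap.mem_range_self _ _), qv, qu, add_zero]
    have good : ∀ {c : G} (hc : c ∈ Ez z), S.qS (S.dlt X (S.pr ⟨c, hc⟩)) = 0 →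
        S.dlt X (S.pr ⟨c, hc⟩) ≠ 0 → s c * x = x * s c ∧ ¬ In (s c) := by
      intro c hc hq hne
      rw [← hpr hc, S.qS_pr] at hq
      refine ⟨hcomm hq, hs_out c (hcomm hq) fun h => hne ?_⟩
      rw [← hpr hc, show (⟨s c, hs_mem hc⟩ : ↥(Ez z)) = 1 from Subtype.ext h, S.pr_one]
    obtain ⟨ca, oa⟩ := good ha qv hv
    obtain ⟨cb, ob⟩ := good hb qu hu
    obtain ⟨-, oab⟩ := good (mul_mem ha hb) qab (by
      rw [show (⟨a * b, mul_mem ha hb⟩ : ↥(Ez z)) = ⟨a, ha⟩ * ⟨b, hb⟩ from rfl, S.pr_mul, map_add]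
      exact hvu)
    rw [← hpr hb]
    rcases OutForm.two_cases (S.beta (S.pr ⟨a, ha⟩) (S.pr ⟨s b, hs_mem hb⟩)) with h | h
    · exfalso
      apply oab
      have h1 : a * s b = s b * a := (S.beta_pr ⟨a, ha⟩ ⟨s b, hs_mem hb⟩).1 h
      have e : s (a * b) = s b * s a := by
        calc s (a * b) = a * s b * a⁻¹ * s a := by simp only [s]; group
          _ = _ := by rw [h1, mul_inv_cancel_right]
      rw [e, hIn_mul cb ca]
      exact ⟨fun h => absurd h ob, fun h => absurd h oa⟩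
    · exact h
  -- three independent values
  set R := LinearMap.range (S.dlt X) with hR
  haveI : Fintype ↥R := Fintype.ofFinite _
  set Z0 := Finset.univ.filter fun w : ↥R => S.qS (w : S.WS) = 0 with hZ0
  have hZ : 32 ≤ Z0.card := by
    have hsum := Finset.card_filter_add_card_filter_not (s := (Finset.univ : Finset ↥R))
      (fun w : ↥R => S.qS (w : S.WS) = 0)
    have hle : (Finset.univ.filter fun w : ↥R => ¬ S.qS (w : S.WS) = 0).card ≤ Z0.card := by
      by_cases hne : ∃ w : ↥R, ¬ S.qS (w : S.WS) = 0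
      · obtain ⟨w0, hw0⟩ := hne
        refine Finset.card_le_card_of_injOn (fun w => w + w0) (fun w hw => ?_)
          (fun a _ b _ h => add_right_cancel h)
        simp only [Finset.coe_filter, Finset.mem_univ, true_and, Set.mem_setOf_eq, hZ0] at hw ⊢
        rw [Submodule.coe_add, S.qS_dlt_add hX2 w.2 w0.2,
          (OutForm.two_cases _).resolve_left hw, (OutForm.two_cases _).resolve_left hw0]
        decide
      · push Not at hne
        rw [Finset.filter_false_of_mem (fun w _ h => h (hne w))]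
        simp
    have hcard := S.natCard_range_ge hXout
    rw [← hR, Nat.card_eq_fintype_card, ← Finset.card_univ] at hcard
    rw [← hZ0] at hsum
    omega
  have pick : ∀ F : Finset ↥R, F.card < 32 → ∃ w ∈ Z0, w ∉ F := fun F hF =>
    Finset.exists_mem_notMem_of_card_lt_card (lt_of_lt_of_le hF hZ)
  obtain ⟨w2, h2, n2⟩ := pick {0} (by simp)
  obtain ⟨w3, h3, n3⟩ := pick {0, w2} (lt_of_le_of_lt Finset.card_le_two (by norm_num))
  obtain ⟨w1, h1, n1⟩ := pick {0, w2, w3, w2 + w3} (lt_of_le_of_lt Finset.card_le_four (by norm_num))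
  simp only [hZ0, Finset.mem_filter, Finset.mem_univ, true_and] at h1 h2 h3
  simp only [Finset.mem_insert, Finset.mem_singleton, not_or] at n1 n2 n3
  obtain ⟨_, v1, rfl⟩ := w1
  obtain ⟨_, v2, rfl⟩ := w2
  obtain ⟨_, v3, rfl⟩ := w3
  simp only [Ne, Subtype.ext_iff, Submodule.coe_add, ZeroMemClass.coe_zero] at n1 n2 n3 h1 h2 h3
  have hne : ∀ {a b : S.WS}, ¬ a = b → a + b ≠ 0 := fun {a b} h h' => h (by
    rwa [← ZModModule.sub_eq_add, sub_eq_zero] at h')
  have k2 := key v1 v2 h1 h2 n1.1 n2 (hne n1.2.1)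
  have k3 := key v1 v3 h1 h3 n1.1 n3.1 (hne n1.2.2.1)
  have k23 := key v1 (v2 + v3) h1
    (by rw [map_add, S.qS_dlt_add hX2 (LinearMap.mem_range_self _ _) (LinearMap.mem_range_self _ _),
      h2, h3, add_zero]) n1.1
    (by rw [map_add]; exact hne (Ne.symm n3.2)) (by rw [map_add]; exact hne n1.2.2.2)
  rw [map_add, map_add, k2, k3] at k23
  exact absurd k23 (by decide)

end Setting

end Cfsg.Agent.J4Type
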