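import Cfsg.Agent.Lib.J4Type.Elem11
import Cfsg.Agent.Lib.J4Type.FusionOuter

/-!
A conjugate of `z` other than `z` inside an elementary subgroup of order 2^11 through `z` (helper19).

* `Setting.exists_conj_mem_Vo_of_mem_E` : a conjugate inside `E`
* `Setting.exists_conj_mem_Vo_of_inner` : an inner conjugate, none inside `E`
* `Setting.exists_conj_mem_Vo`
-/

set_option autoImplicit false
set_option maxHeartbeats 1000000
set_option linter.style.haveILetI false
set_option linter.unusedSectionVars false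
open scoped Pointwise commutatorElement
open Cfsg Subgroup

namespace Cfsg.Agent.J4Type

open Cfsg.Agent.Golay

theorem natCard_le_two_mul_inf (B : Subgroup (Equiv.Perm GolayPt)) (hle : B ≤ pairStab) :
    Nat.card ↥B ≤ 2 * Nat.card ↥(B ⊓ Spor.M22 : Subgroup (Equiv.Perm GolayPt)) := by
  classical
  by_cases hout : ∃ s ∈ B, s ∉ Spor.M22
  · obtain ⟨s, hs, hs'⟩ := hout
    have hprod : ∀ b ∈ B, b ∉ Spor.M22 → s * b ∈ B ⊓ Spor.M22 := by
      intro b hb hb'
      refine ⟨B.mul_mem hs hb, (mem_M22_iff (pairStab.mul_mem (hle hs) (hle hb))).2 ?_⟩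
      rw [Equiv.Perm.mul_apply]
      rcases (mem_pairStab.1 (hle hb)).2 with ⟨h, -⟩ | ⟨h, -⟩
      · exact absurd ((mem_M22_iff (hle hb)).2 h) hb'
      · rcases (mem_pairStab.1 (hle hs)).2 with ⟨h', -⟩ | ⟨-, h'⟩
        · exact absurd ((mem_M22_iff (hle hs)).2 h') hs'
        · rw [h, h']
    let φ : ↥B → Bool × ↥(B ⊓ Spor.M22 : Subgroup (Equiv.Perm GolayPt)) := fun b =>
      if h : (b : Equiv.Perm GolayPt) ∈ Spor.M22 then (true, ⟨b, b.2, h⟩)
      else (false, ⟨s * b, hprod b b.2 h⟩)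
    refine (Nat.card_le_card_of_injective φ ?_).trans (by rw [Nat.card_prod]; simp)
    intro a b hab
    by_cases h1 : (a : Equiv.Perm GolayPt) ∈ Spor.M22 <;>
      by_cases h2 : (b : Equiv.Perm GolayPt) ∈ Spor.M22 <;>
      simp only [φ, h1, h2, dite_true, dite_false, Prod.mk.injEq, Subtype.mk.injEq] at hab
    · exact Subtype.ext (congrArg Subtype.val hab.2 :)
    · exact absurd hab.1 (by simp)
    · exact absurd hab.1 (by simp)
    · exact Subtype.ext (mul_left_cancel hab.2)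
  · push Not at hout
    have : B ≤ B ⊓ Spor.M22 := le_inf le_rfl hout
    exact (Subgroup.card_le_of_le this).trans (by omega)

theorem HexOct.natCard_le_eight_mul {o : Finset GolayPt} (ho : HexOct o) (B : Subgroup (Equiv.Perm GolayPt))
    (hB : B ≤ stab0 o) (hp : IsPGroup 2 ↥B) :
    Nat.card ↥B ≤ 8 * Nat.card ↥(B ⊓ octadFix o : Subgroup (Equiv.Perm GolayPt)) := by
  classical
  haveI : Fact (Nat.Prime 2) := ⟨Nat.prime_two⟩
  let f : ↥B →* Equiv.Perm (Six o) := (sixRes0 o).comp (Subgroup.inclusion hB)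
  have hker : Nat.card f.ker = Nat.card ↥(B ⊓ octadFix o : Subgroup (Equiv.Perm GolayPt)) :=
    Nat.card_congr
      { toFun := fun g => ⟨((g : ↥B) : Equiv.Perm GolayPt), g.1.2, (ho.mem_ker_sixRes0 _).1 g.2⟩
        invFun := fun a => ⟨⟨a, a.2.1⟩, (ho.mem_ker_sixRes0 ⟨a, hB a.2.1⟩).2 a.2.2⟩ }
  obtain ⟨k, hk⟩ := IsPGroup.iff_card.1 (hp.of_surjective f.rangeRestrict f.rangeRestrict_surjective)
  have hle : f.range ≤ alternatingGroup (Six o) := by
    rintro _ ⟨b, rfl⟩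
    rw [← ho.range_sixRes0]
    exact ⟨_, rfl⟩
  have h360 : Nat.card ↥(alternatingGroup (Six o)) = 360 := by
    haveI : Nontrivial (Six o) := Fintype.one_lt_card_iff_nontrivial.1 (by rw [ho.card_six]; norm_num)
    rw [nat_card_alternatingGroup, Nat.card_eq_fintype_card, ho.card_six]; rfl
  have hd := Subgroup.card_dvd_of_le hle
  rw [hk, h360] at hd
  have hk3 : k ≤ 3 := by
    by_contra hh
    have h16 : 2 ^ 4 ∣ 360 := (Nat.pow_dvd_pow 2 (by omega)).trans hd
    norm_num at h16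
  have h := f.ker.index_mul_card
  rw [Subgroup.index_ker, hker, hk] at h
  rw [← h]
  exact Nat.mul_le_mul_right _ ((Nat.pow_le_pow_right (by norm_num) hk3).trans (by norm_num))

namespace Setting

open LargeExtraspecial (conjS mem_conjS)

variable {G : Type*} [Group G] [Finite G] {z : G} {P : Subgroup G} (S : Setting z P)
include S

theorem mem_E_of_pow_four {h : ↥(Cz z)} (hκ : S.κ h = 1) (h4 : h * h * (h * h) = 1) : (h : G) ∈ Ez z := by
  rw [← S.rho_eq_one_iff]
  obtain ⟨n, hn⟩ := S.rho_of_κ_one hκ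
  rw [hn]
  refine S.gen_pow_eq_one ?_
  have h2 : S.rho S.genH ^ n * S.rho S.genH ^ n = (S.rho S.genH ^ n * S.rho S.genH ^ n) *
      (S.rho S.genH ^ n * S.rho S.genH ^ n) * (S.rho S.genH ^ n * S.rho S.genH ^ n) *
      (S.rho S.genH ^ n * S.rho S.genH ^ n) := by
    simp only [← pow_add]
    calc S.rho S.genH ^ (n + n) = S.rho S.genH ^ (n + n) * ((S.rho S.genH ^ 3) ^ (2 * n)) := by
          rw [S.rho_gen_cube, one_pow, mul_one]
      _ = _ := by rw [← pow_mul, ← pow_add]; congr 1; omega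
  have h1 : (S.rho S.genH ^ n * S.rho S.genH ^ n) * (S.rho S.genH ^ n * S.rho S.genH ^ n) = 1 := by
    rw [← hn, ← map_mul, ← map_mul, h4, map_one]
  rw [h2, mul_assoc, h1, one_mul]

theorem natCard_le_pr (H : Subgroup ↥(Ez z)) (Y : AddSubgroup S.WS) (hH : ∀ e ∈ H, S.pr e ∈ Y) :
    Nat.card ↥H ≤ 2 * Nat.card ↥Y := by
  classical
  have hs := S.pr_surjective
  choose sec hsec using hs
  let φ : ↥H → Bool × ↥Y := fun e => (decide ((e : ↥(Ez z)) = sec (S.pr e)), ⟨S.pr e, hH e e.2⟩)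
  refine (Nat.card_le_card_of_injective φ ?_).trans (by rw [Nat.card_prod]; simp)
  intro a b hab
  simp only [φ, Prod.mk.injEq, Subtype.mk.injEq, decide_eq_decide] at hab
  obtain ⟨h1, h2⟩ := hab
  apply Subtype.ext
  by_cases ha : (a : ↥(Ez z)) = sec (S.pr a)
  · rw [ha, h1.1 ha, h2]
  · have hb : ¬ (b : ↥(Ez z)) = sec (S.pr b) := fun e => ha (h1.2 e)
    have e1 := ((S.pr_eq_iff a (sec (S.pr a))).1 (hsec _).symm).resolve_left fun e => ha (Subtype.ext e)
    have e2 := ((S.pr_eq_iff b (sec (S.pr b))).1 (hsec _).symm).resolve_left fun e => hb (Subtype.ext e)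
    apply Subtype.ext
    rw [e1, e2, h2]

/-- The elements of `E` commuting with an element of `E` have index at most two. -/
theorem natCard_cent_E {x : G} (hx : x ∈ Ez z) :
    2 ^ 12 ≤ Nat.card ↥((Subgroup.centralizer ({x} : Set G)).subgroupOf (Ez z)) := by
  let H : Subgroup ↥(Ez z) := (Subgroup.centralizer ({x} : Set G)).subgroupOf (Ez z)
  let f : ↥(Ez z) →* Multiplicative (ZMod 2) :=
    { toFun := fun e => Multiplicative.ofAdd (S.beta (S.pr ⟨x, hx⟩) (S.pr e))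
      map_one' := by simp [S.pr_one]
      map_mul' := fun a b => by rw [S.pr_mul, map_add]; rfl }
  have hker : f.ker ≤ H := fun e he => by
    rw [Subgroup.mem_subgroupOf, mem_centralizer_singleton_iff]
    exact ((S.beta_pr ⟨x, hx⟩ e).1 he).symm
  have h := f.ker.index_mul_card
  rw [Subgroup.index_ker, S.card_E] at h
  have h2 : Nat.card f.range ≤ 2 := by
    have := Nat.card_le_card_of_injective (fun r : f.range => (r : Multiplicative (ZMod 2)))
      Subtype.val_injective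
    simpa using this
  have h3 : Nat.card f.range * Nat.card f.ker ≤ 2 * Nat.card f.ker := Nat.mul_le_mul_right _ h2
  have h4 := Subgroup.card_le_of_le hker
  show 2 ^ 12 ≤ Nat.card ↥H
  omega

/-- A vector fixed by a large elementary subgroup lies in the fixed space of an octad group. -/
theorem mem_Cfix_of_elem {o : Finset GolayPt} (ho : HexOct o) (A : Subgroup (Equiv.Perm GolayPt))
    (hle : A ≤ stabO o) (hsq : ∀ a ∈ A, a * a = 1) (hc : 32 ≤ Nat.card ↥A) {v : S.WS}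
    (hv : ∀ a ∈ A, a ∈ Spor.M22 → S.invLift a v = v) : v ∈ S.Cfix o := by
  classical
  set A0 := A ⊓ Spor.M22
  have h2 := natCard_le_two_mul_inf A (fun a ha => (hle ha).1)
  have h4 := ho.natCard_le_four_mul A0 (fun a ha => ⟨ha.2, (hle ha.1).2⟩) fun a ha => hsq a ha.1
  set D := A0 ⊓ octadFix o
  haveI := Fintype.ofFinite ↥D
  have h3 : 2 < Fintype.card ↥D := by
    have e2 : Nat.card ↥A ≤ 2 * Nat.card ↥A0 := h2
    have e4 : Nat.card ↥A0 ≤ 4 * Nat.card ↥D := h4
    rw [← Nat.card_eq_fintype_card]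
    omega
  obtain ⟨a, b, ha1, hb1, hab⟩ : ∃ a b : ↥D, a ≠ 1 ∧ b ≠ 1 ∧ a ≠ b := by
    obtain ⟨a, b, c, hab, hac, hbc⟩ := Fintype.two_lt_card_iff.1 h3
    by_cases ha : a = 1
    · exact ⟨b, c, fun h => hab (ha.trans h.symm), fun h => hac (ha.trans h.symm), hbc⟩
    by_cases hb : b = 1
    · exact ⟨a, c, ha, fun h => hbc (hb.trans h.symm), hac⟩
    · exact ⟨a, b, ha, hb, hab⟩
  exact S.mem_Cfix_of_two ho a.2.2 (fun h => ha1 (Subtype.ext h)) b.2.2 (fun h => hb1 (Subtype.ext h))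
    (fun h => hab (Subtype.ext h)) (hv _ a.2.1.1 a.2.1.2) (hv _ b.2.1.1 b.2.1.2)

/-- A conjugate inside `E`. -/
theorem exists_conj_mem_Vo_of_mem_E {g : G} (hs : g * z * g⁻¹ ∈ Ez z) (hsz : g * z * g⁻¹ ≠ z) :
    ∃ o, ∃ ho : HexOct o, ∃ h : g * z * g⁻¹ ∈ Cz z, (⟨g * z * g⁻¹, h⟩ : ↥(Cz z)) ∈ S.Vo ho := by
  classical
  haveI : Fact (Nat.Prime 2) := ⟨Nat.prime_two⟩
  set x := g * z * g⁻¹ with hx
  have hzc : g⁻¹ * z * g ∈ Ez z := mem_conjS.1 (S.data.mem_conj hs hsz (by rw [S.card_E]; norm_num))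
  set x' := g⁻¹ * z * g
  let H : Subgroup ↥(Ez z) := (Subgroup.centralizer ({x'} : Set G)).subgroupOf (Ez z)
  have hin : ∀ f : ↥H, g * ((f : ↥(Ez z)) : G) * g⁻¹ ∈ Cz z := fun f => by
    have hf : ((f : ↥(Ez z)) : G) * x' = x' * ((f : ↥(Ez z)) : G) :=
      mem_centralizer_singleton_iff.1 (Subgroup.mem_subgroupOf.1 f.2)
    rw [mem_Cz]
    calc g * ((f : ↥(Ez z)) : G) * g⁻¹ * z = g * (((f : ↥(Ez z)) : G) * x') * g⁻¹ := by
          simp only [x']; group
      _ = _ := by rw [hf]; simp only [x']; group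
  let ψ : ↥H →* ↥(Cz z) :=
    { toFun := fun f => ⟨g * ((f : ↥(Ez z)) : G) * g⁻¹, hin f⟩
      map_one' := Subtype.ext (by simp)
      map_mul' := fun a b => Subtype.ext (by simp [mul_assoc]) }
  have hψsq : ∀ f : ↥H, ((ψ f * ψ f : ↥(Cz z)) : G) = 1 ∨ ((ψ f * ψ f : ↥(Cz z)) : G) = x := fun f => by
    have e : ((ψ f * ψ f : ↥(Cz z)) : G) = g * (((f : ↥(Ez z)) : G) * ((f : ↥(Ez z)) : G)) * g⁻¹ := by
      simp [ψ, mul_assoc]
    rcases S.data.sq (f : ↥(Ez z)).2 with h | h <;> rw [e, h]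
    · exact Or.inl (by simp)
    · exact Or.inr rfl
  let φ : ↥H →* Equiv.Perm GolayPt := S.κ.comp ψ
  -- the kernel is abelian
  let K : Subgroup ↥(Ez z) := φ.ker.map H.subtype
  let Y : AddSubgroup S.WS :=
    { carrier := {w | ∃ e ∈ K, S.pr e = w}
      zero_mem' := ⟨1, one_mem _, S.pr_one⟩
      add_mem' := by
        rintro _ _ ⟨a, ha, rfl⟩ ⟨b, hb, rfl⟩
        exact ⟨a * b, mul_mem ha hb, S.pr_mul a b⟩
      neg_mem' := by
        rintro _ ⟨a, ha, rfl⟩
        exact ⟨a, ha, (ZModModule.neg_eq_self _).symm⟩ }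
  have hgE : ∀ e ∈ K, g * (e : G) * g⁻¹ ∈ Ez z := by
    rintro _ ⟨f, hf, rfl⟩
    refine S.mem_E_of_pow_four (h := ψ f) hf (Subtype.ext ?_)
    rcases hψsq f with h | h <;> rw [Subgroup.coe_mul, h]
    · simp
    · exact (by
        rw [hx, show g * z * g⁻¹ * (g * z * g⁻¹) = g * (z * z) * g⁻¹ by group, S.z_sq]; simp :
        x * x = 1)
  have hiso : ∀ u ∈ Y, ∀ v ∈ Y, S.beta u v = 0 := by
    rintro _ ⟨a, ha, rfl⟩ _ ⟨b, hb, rfl⟩
    refine (S.beta_pr a b).2 ?_
    rcases S.data.comm a a.2 b b.2 with h | h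
    · exact commutatorElement_eq_one_iff_mul_comm.1 h
    · exfalso
      rcases S.data.comm _ (hgE a ha) _ (hgE b hb) with h' | h' <;>
        rw [show ⁅g * (a : G) * g⁻¹, g * (b : G) * g⁻¹⁆ = g * ⁅(a : G), (b : G)⁆ * g⁻¹ by
          simp only [commutatorElement_def]; group, h] at h'
      · exact S.z_ne (conj_eq_one_iff.1 h')
      · exact hsz h'
  have hK : Nat.card ↥K ≤ 128 := by
    have := S.natCard_le_pr K Y fun e he => ⟨e, he, rfl⟩
    have := S.natCard_isotropic_le Y hiso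
    omega
  have hKc : Nat.card ↥φ.ker = Nat.card ↥K :=
    Nat.card_congr (Subgroup.equivMapOfInjective _ _ (Subgroup.subtype_injective H)).toEquiv
  have h32 : 32 ≤ Nat.card φ.range := by
    have h := φ.ker.index_mul_card
    rw [Subgroup.index_ker, hKc] at h
    have hH : 2 ^ 12 ≤ Nat.card ↥H := S.natCard_cent_E hzc
    nlinarith
  have hEsq : ∀ f : ↥H, ((ψ f * ψ f : ↥(Cz z)) : G) ∈ Ez z := fun f => by
    rcases hψsq f with h | h <;> rw [h]
    · exact one_mem _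
    · exact hs
  have hsq : ∀ a ∈ φ.range, a * a = 1 := by
    rintro _ ⟨f, rfl⟩
    show S.κ (ψ f) * S.κ (ψ f) = 1
    rw [← map_mul]
    exact S.κ_E (hEsq f)
  have hpA : IsPGroup 2 ↥φ.range := fun a => ⟨1, Subtype.ext (by simpa [pow_two] using hsq _ a.2)⟩
  obtain ⟨o, ho, hle⟩ := HexOct.exists_le_stabO hpA (by rintro _ ⟨f, rfl⟩; exact S.κ_mem _)
  refine ⟨o, ho, Ez_le_Cz z hs, (S.inE_mem_Vo_iff ho ⟨x, hs⟩).2 ?_⟩
  refine S.mem_Cfix_of_elem ho φ.range hle hsq h32 ?_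
  rintro _ ⟨f, rfl⟩ hi
  have h1 : S.invLift (S.κ (ψ f)) = S.rho (ψ f) :=
    S.invLift_eq hi (by rw [← map_mul, S.rho_of_mem (hEsq f)])
  show S.invLift (S.κ (ψ f)) (S.pr ⟨x, hs⟩) = S.pr ⟨x, hs⟩
  rw [h1, S.rho_fix_iff]
  left
  show g * ((f : ↥(Ez z)) : G) * g⁻¹ * x * (g * ((f : ↥(Ez z)) : G) * g⁻¹)⁻¹ = x
  calc g * ((f : ↥(Ez z)) : G) * g⁻¹ * x * (g * ((f : ↥(Ez z)) : G) * g⁻¹)⁻¹
      = g * (((f : ↥(Ez z)) : G) * z * ((f : ↥(Ez z)) : G)⁻¹) * g⁻¹ := by rw [hx]; group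
    _ = x := by rw [S.data.z_central _ (f : ↥(Ez z)).2, mul_inv_cancel_right]

/-- An inner conjugate outside `E`, none inside. -/
theorem exists_conj_mem_Vo_of_inner {g : G} (h : g * z * g⁻¹ ∈ Cz z) (hne : g * z * g⁻¹ ≠ z)
    (hi : (⟨g * z * g⁻¹, h⟩ : ↥(Cz z)) ∈ S.innerH)
    (hno : ∀ k : G, k * z * k⁻¹ ∈ Ez z → k * z * k⁻¹ = z) :
    ∃ o, ∃ ho : HexOct o, (⟨g * z * g⁻¹, h⟩ : ↥(Cz z)) ∈ S.Vo ho := by
  classical
  haveI : Fact (Nat.Prime 2) := ⟨Nat.prime_two⟩
  set x := g * z * g⁻¹ with hxdef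
  set xH : ↥(Cz z) := ⟨x, h⟩
  have hx2 : x * x = 1 := by
    rw [hxdef, show g * z * g⁻¹ * (g * z * g⁻¹) = g * (z * z) * g⁻¹ by group, S.z_sq]; simp
  have hxH2 : xH * xH = 1 := Subtype.ext hx2
  have hxinv : x⁻¹ = x := inv_eq_of_mul_eq_one_right hx2
  have hxE : x ∉ Ez z := fun hh => hne (hno g hh)
  set a := S.κ xH
  have ha2 : a * a = 1 := by rw [← map_mul, hxH2, map_one]
  have ha1 : a ≠ 1 := fun e => hxE (S.mem_E_of_sq e hxH2)
  obtain ⟨o, ho, hao⟩ := exists_hexOct_of_involution hi ha2 ha1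
  obtain ⟨y, hy, hya⟩ := S.exists_mem_Vo ho hao
  have hrho : S.rho xH = S.invLift a := (S.invLift_eq hi (by rw [← map_mul, hxH2, map_one])).symm
  have hyrho : S.rho y = S.invLift a := ((S.mem_Vo ho).1 hy).1.2.trans (congrArg S.invLift hya)
  have heE : ((y⁻¹ * xH : ↥(Cz z)) : G) ∈ Ez z := by
    rw [← S.rho_eq_one_iff, map_mul, map_inv, hyrho, hrho, inv_mul_cancel]
  set e : ↥(Ez z) := ⟨_, heE⟩
  have hxye : x = (y : G) * e := by simp [e, xH]
  have hy2 : (y : G) * y = 1 := congrArg Subtype.val (S.Vo_sq ho hy)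
  have hfixa : S.invLift a (S.pr e) = S.pr e := by
    rw [← hyrho, S.rho_pr, ← S.pr_inv e]
    refine congrArg S.pr (Subtype.ext ?_)
    show (y : G) * e * (y : G)⁻¹ = (e : G)⁻¹
    have h1 : (y : G) * e * ((y : G) * e) = 1 := by rw [← hxye]; exact hx2
    rw [inv_eq_of_mul_eq_one_right hy2]
    exact eq_inv_of_mul_eq_one_left (by rw [← h1]; group)
  refine ⟨o, ho, ?_⟩
  by_cases hw : S.pr e ∈ S.Cfix o
  · rw [show xH = y * inE e from Subtype.ext hxye]
    exact mul_mem hy ((S.inE_mem_Vo_iff ho e).2 hw)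
  exfalso
  have hmvw : S.mv a (S.pr e) = 0 := (S.mv_eq_zero_iff (S.fix_M22 ho hao).1 ha2 _).2 hfixa
  obtain ⟨c, hc, hwc⟩ : ∃ c : ↥(Ez z), S.pr c ∈ S.Cfix o ∧ S.beta (S.pr c) (S.pr e) ≠ 0 := by
    by_contra hh
    push Not at hh
    refine hw (S.mem_Cfix_of_orth ho fun v hv => ?_)
    obtain ⟨c, rfl⟩ := S.pr_surjective v
    exact hh c hv
  have hyU : ∀ r : ↥(Ez z), S.pr r ∈ S.Cfix o → (r : G) * y = y * r := fun r hr =>
    congrArg Subtype.val (((S.mem_Vo ho).1 hy).2 r hr)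
  have hcx : x * c * x⁻¹ = (c : G) * z := by
    rw [hxye]
    have h1 := (S.beta_pr_one e c).1 ((LargeExtraspecial.OutForm.two_cases _).resolve_left
      (by rw [S.beta_comm]; exact hwc))
    calc (y : G) * e * c * ((y : G) * e)⁻¹ = (y : G) * ((e : G) * c * (e : G)⁻¹) * (y : G)⁻¹ := by group
      _ = ((y : G) * c) * z * (y : G)⁻¹ := by rw [h1]; group
      _ = (c : G) * ((y : G) * z * (y : G)⁻¹) := by rw [← hyU c hc]; group
      _ = _ := by rw [mul_inv_eq_iff_eq_mul.2 (mem_Cz.1 y.2)]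
  -- the centraliser of `x` in `E`
  let H : Subgroup ↥(Ez z) := (Subgroup.centralizer ({x} : Set G)).subgroupOf (Ez z)
  have hH : ∀ f : ↥(Ez z), f ∈ H ↔ (f : G) * x = x * f := fun f => by
    rw [Subgroup.mem_subgroupOf, mem_centralizer_singleton_iff]
  have hHker : ∀ f ∈ H, S.mv a (S.pr f) = 0 := fun f hf => by
    rw [S.mv_eq_zero_iff (S.fix_M22 ho hao).1 ha2, ← hrho, S.rho_fix_iff]
    exact Or.inl (mul_inv_eq_iff_eq_mul.2 ((hH f).1 hf).symm)
  have hxK : ∀ f : ↥(Ez z), S.mv a (S.pr f) = 0 → (f : G) * x = x * f ∨ x * f * x⁻¹ = (f : G) * z := by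
    intro f hf
    rw [S.mv_eq_zero_iff (S.fix_M22 ho hao).1 ha2, ← hrho, S.rho_fix_iff] at hf
    rcases hf with h' | h'
    · exact Or.inl (mul_inv_eq_iff_eq_mul.1 h').symm
    · exact Or.inr h'
  have hxz : x * z = z * x := mem_Cz.1 h
  have hK512 : Nat.card {f : ↥(Ez z) // S.pr f ∈ LinearMap.ker (S.mv a)} = 512 := by
    rw [S.natCard_pr_mem, natCard_eq_four_pow, S.finrank_ker_mv ho hao ha1]; norm_num
  have hH256 : 256 ≤ Nat.card ↥H := by
    let φ : {f : ↥(Ez z) // S.pr f ∈ LinearMap.ker (S.mv a)} → Bool × ↥H := fun f =>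
      if hf : f.1 ∈ H then (true, ⟨f.1, hf⟩) else (false, ⟨c * f.1, by
        rw [hH]
        have h1 := (hxK f.1 (LinearMap.mem_ker.1 f.2)).resolve_left fun e => hf ((hH _).2 e)
        refine (mul_inv_eq_iff_eq_mul.1 ?_).symm
        show x * ((c : G) * f.1) * x⁻¹ = (c : G) * f.1
        calc x * ((c : G) * f.1) * x⁻¹ = (x * c * x⁻¹) * (x * f.1 * x⁻¹) := by group
          _ = (c : G) * ((z * f.1) * z) := by rw [hcx, h1]; group
          _ = _ := by rw [← S.data.z_central _ (f.1 : ↥(Ez z)).2, mul_assoc (f.1 : G), S.z_sq, mul_one]⟩)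
    have h1 := Nat.card_le_card_of_injective φ (fun f f' hff => by
      by_cases h1 : f.1 ∈ H <;> by_cases h2 : f'.1 ∈ H <;>
        simp only [φ, h1, h2, dite_true, dite_false, Prod.mk.injEq, Subtype.mk.injEq] at hff
      · exact Subtype.ext hff.2
      · exact absurd hff.1 (by simp)
      · exact absurd hff.1 (by simp)
      · exact Subtype.ext (mul_left_cancel hff.2))
    rw [hK512, Nat.card_prod] at h1
    simp at h1
    omega
  -- the subgroup over the line
  have hRmem : ∀ r : ↥(Ez z), S.pr r ∈ LinearMap.range (S.mv a) → r ∈ H := by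
    intro r hr
    obtain ⟨u, hu⟩ := hr
    have hrC : S.pr r ∈ S.Cfix o := hu ▸ S.mv_mem_Cfix ho hao u
    have hb : S.beta (S.pr r) (S.pr e) = 0 := by
      rw [← hu, S.beta_mv (S.fix_M22 ho hao).1 ha2, hmvw, map_zero]
    rw [hH, hxye]
    calc (r : G) * ((y : G) * e) = (y : G) * ((r : G) * e) := by rw [← mul_assoc, hyU r hrC, mul_assoc]
      _ = _ := by rw [(S.beta_pr r e).1 hb, mul_assoc]
  have hRc : ∀ r : ↥(Ez z), S.pr r ∈ LinearMap.range (S.mv a) → ∀ f ∈ H, (r : G) * f = f * r := by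
    intro r hr f hf
    obtain ⟨u, hu⟩ := hr
    exact (S.beta_pr r f).1 (by rw [← hu, S.beta_mv (S.fix_M22 ho hao).1 ha2, hHker f hf, map_zero])
  -- conjugates of `x` over the line
  have hxr : ∀ r : ↥(Ez z), S.pr r ∈ LinearMap.range (S.mv a) →
      ∃ f : G, f * x * f⁻¹ = x * r := by
    intro r hr
    obtain ⟨u, hu⟩ := hr
    obtain ⟨f, rfl⟩ := S.pr_surjective u
    let d : ↥(Ez z) := ⟨x⁻¹ * (f : G) * x * (f : G)⁻¹, mul_mem (by
      simpa using conj_mem_Ez (inv_mem h) f.2) (inv_mem f.2)⟩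
    have hpd : S.pr d = S.pr r := by
      let f' : ↥(Ez z) := ⟨x * (f : G) * x⁻¹, conj_mem_Ez h f.2⟩
      have hd : d = f' * f⁻¹ := Subtype.ext (by simp [d, f', hxinv])
      rw [hd, S.pr_mul, S.pr_inv, show S.pr f' = S.rho xH (S.pr f) from (S.rho_pr xH f).symm, hrho, ← hu,
        S.mv_apply (S.fix_M22 ho hao).1 ha2]
    have hfx : (f : G) * x * (f : G)⁻¹ = x * d := by simp [d, mul_assoc]
    rcases (S.pr_eq_iff d r).1 hpd with e1 | e1
    · exact ⟨f, by rw [hfx, e1]⟩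
    · refine ⟨(c : G) * f, ?_⟩
      calc (c : G) * f * x * ((c : G) * f)⁻¹ = (c : G) * (x * (r * z)) * (c : G)⁻¹ := by
            rw [← e1, ← hfx]; group
        _ = x * ((x⁻¹ * c * x) * (r : G) * (c : G)⁻¹) * z := by
            rw [show (r : G) * z = z * r from S.data.z_central r r.2]
            calc (c : G) * (x * (z * r)) * (c : G)⁻¹ = x * ((x⁻¹ * c * x) * z * r * (c : G)⁻¹) := by group
              _ = x * ((x⁻¹ * c * x) * (z * (r * (c : G)⁻¹))) := by group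
              _ = _ := by
                rw [← S.data.z_central _ (mul_mem r.2 (inv_mem c.2))]
                group
        _ = x * ((c : G) * z * r * (c : G)⁻¹) * z := by rw [show x⁻¹ * c * x = x * c * x⁻¹ by rw [hxinv], hcx]
        _ = _ := by
            have hrc : (r : G) * c = c * r := by
              have hrC : S.pr r ∈ S.Cfix o := hu ▸ S.mv_mem_Cfix ho hao _
              exact (S.beta_pr r c).1 (S.Cfix_isotropic ho hrC hc)
            rw [mul_assoc (c : G) z r, ← S.data.z_central r r.2, ← mul_assoc (c : G), ← hrc]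
            rw [mul_assoc (r : G) c z, S.data.z_central c c.2, mul_assoc (r : G), mul_assoc z, mul_inv_cancel,
              mul_one, mul_assoc x, mul_assoc (r : G), S.z_sq, mul_one]
  -- transport to the centraliser of `z`
  have hin : ∀ f : ↥H, g⁻¹ * ((f : ↥(Ez z)) : G) * g ∈ Cz z := fun f => by
    rw [mem_Cz]
    calc g⁻¹ * ((f : ↥(Ez z)) : G) * g * z = g⁻¹ * (((f : ↥(Ez z)) : G) * x) * g := by rw [hxdef]; group
      _ = _ := by rw [(hH _).1 f.2, hxdef]; group
  let ψ : ↥H →* ↥(Cz z) :=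
    { toFun := fun f => ⟨g⁻¹ * ((f : ↥(Ez z)) : G) * g, hin f⟩
      map_one' := Subtype.ext (by simp)
      map_mul' := fun a b => Subtype.ext (by simp [mul_assoc]) }
  let φ : ↥H →* Equiv.Perm GolayPt := S.κ.comp ψ
  have hker : ∀ f ∈ φ.ker, g⁻¹ * ((f : ↥(Ez z)) : G) * g ∈ Ez z := fun f hf => by
    refine S.mem_E_of_pow_four (h := ψ f) hf (Subtype.ext ?_)
    show (g⁻¹ * ((f : ↥(Ez z)) : G) * g) * (g⁻¹ * ((f : ↥(Ez z)) : G) * g) *
      ((g⁻¹ * ((f : ↥(Ez z)) : G) * g) * (g⁻¹ * ((f : ↥(Ez z)) : G) * g)) = 1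
    calc _ = g⁻¹ * (((f : ↥(Ez z)) : G) * ((f : ↥(Ez z)) : G) *
          (((f : ↥(Ez z)) : G) * ((f : ↥(Ez z)) : G))) * g := by group
      _ = 1 := by
        rcases S.data.sq (f : ↥(Ez z)).2 with e1 | e1 <;> rw [e1]
        · simp
        · rw [S.z_sq]; simp
  have hzx : g⁻¹ * z * g ∉ Ez z := fun hh => by
    have := hno g⁻¹ (by rwa [inv_inv])
    rw [inv_inv] at this
    refine hne ?_
    calc x = g * (g⁻¹ * z * g) * g⁻¹ := by rw [this, hxdef]
      _ = z := by group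
  have hkerc : ∀ d ∈ φ.ker, ∀ b : ↥H, ((d : ↥(Ez z)) : G) * (b : ↥(Ez z)) = (b : ↥(Ez z)) * (d : ↥(Ez z)) := by
    intro d hd b
    rcases S.data.comm _ (d : ↥(Ez z)).2 _ (b : ↥(Ez z)).2 with e1 | e1
    · exact commutatorElement_eq_one_iff_mul_comm.1 e1
    · exfalso
      refine hzx ?_
      have hd' := hker d hd
      have := mul_mem hd' (conj_mem_Ez (hin b) (inv_mem hd'))
      have e2 : g⁻¹ * ((d : ↥(Ez z)) : G) * g * (g⁻¹ * ((b : ↥(Ez z)) : G) * g *
          (g⁻¹ * ((d : ↥(Ez z)) : G) * g)⁻¹ * (g⁻¹ * ((b : ↥(Ez z)) : G) * g)⁻¹) =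
          g⁻¹ * ⁅((d : ↥(Ez z)) : G), ((b : ↥(Ez z)) : G)⁆ * g := by
        rw [commutatorElement_def]; group
      rw [e1] at e2
      exact e2 ▸ this
  -- the kernel meets the subgroup over the line trivially
  have hDR : ∀ d ∈ φ.ker, S.pr (d : ↥(Ez z)) ∈ LinearMap.range (S.mv a) → d = 1 := by
    intro d hd hdr
    obtain ⟨f, hf⟩ := hxr _ hdr
    have h1 : (g⁻¹ * f * g) * z * (g⁻¹ * f * g)⁻¹ = z * (g⁻¹ * ((d : ↥(Ez z)) : G) * g) := by
      calc _ = g⁻¹ * (f * x * f⁻¹) * g := by rw [hxdef]; group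
        _ = _ := by rw [hf, hxdef]; group
    have h2 := hno (g⁻¹ * f * g) (by rw [h1]; exact mul_mem S.z_mem_E (hker d hd))
    rw [h1, mul_eq_left, show g⁻¹ * ((d : ↥(Ez z)) : G) * g = g⁻¹ * ((d : ↥(Ez z)) : G) * (g⁻¹)⁻¹ by rw [inv_inv],
      conj_eq_one_iff] at h2
    exact Subtype.ext (Subtype.ext h2)
  -- the centre of the centraliser is small
  let R : Subgroup ↥H :=
    { carrier := {r | S.pr (r : ↥(Ez z)) ∈ LinearMap.range (S.mv a)}
      one_mem' := by show S.pr 1 ∈ LinearMap.range (S.mv a); rw [S.pr_one]; exact zero_mem _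
      mul_mem' := fun {u v} hu hv => by
        show S.pr ((u : ↥(Ez z)) * v) ∈ LinearMap.range (S.mv a); rw [S.pr_mul]; exact add_mem hu hv
      inv_mem' := fun {u} hu => by
        show S.pr (u : ↥(Ez z))⁻¹ ∈ LinearMap.range (S.mv a); rw [S.pr_inv]; exact hu }
  have hR32 : Nat.card ↥R = 32 := by
    rw [show 32 = Nat.card {r : ↥(Ez z) // S.pr r ∈ LinearMap.range (S.mv a)} by
      rw [S.natCard_pr_mem, natCard_eq_four_pow, S.finrank_range_mv ho hao ha1]; norm_num]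
    exact Nat.card_congr
      { toFun := fun r => ⟨(r : ↥H), r.2⟩
        invFun := fun r => ⟨⟨r.1, hRmem _ r.2⟩, r.2⟩ }
  let Z0 : Subgroup ↥(Ez z) := (Subgroup.center ↥H).map H.subtype
  let M : Submodule (ZMod 2) S.WS :=
    { toAddSubmonoid := (LinearMap.ker (S.mv a)).toAddSubmonoid
      smul_mem' := fun t v hv => by
        rcases LargeExtraspecial.OutForm.two_cases t with rfl | rfl
        · rw [zero_smul]; exact (LinearMap.ker (S.mv a)).zero_mem
        · rw [one_smul]; exact hv }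
  have hM : Nat.card ↥M = 256 := by
    show Nat.card ↥(LinearMap.ker (S.mv a)) = 256
    rw [natCard_eq_four_pow, S.finrank_ker_mv ho hao ha1]; norm_num
  have hZ : Nat.card ↥Z0 ≤ 64 := by
    -- the projection is orthogonal to the projection of the centraliser
    let Bw : AddSubgroup S.WS :=
      { carrier := {w | ∃ f ∈ H, S.pr f = w}
        zero_mem' := ⟨1, one_mem _, S.pr_one⟩
        add_mem' := by
          rintro _ _ ⟨u, hu, rfl⟩ ⟨v, hv, rfl⟩
          exact ⟨u * v, mul_mem hu hv, S.pr_mul u v⟩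
        neg_mem' := by
          rintro _ ⟨u, hu, rfl⟩
          exact ⟨u, hu, (ZModModule.neg_eq_self _).symm⟩ }
    let N : Submodule (ZMod 2) S.WS :=
      { carrier := {w | ∀ v ∈ Bw, S.beta v w = 0}
        zero_mem' := fun v _ => map_zero _
        add_mem' := fun {u w} hu hw v hv => by rw [map_add, hu v hv, hw v hv, add_zero]
        smul_mem' := fun t w hw v hv => by rw [map_smul, hw v hv, smul_zero] }
    have hnd : S.beta.Nondegenerate := ⟨fun v h => S.beta_nondeg v h,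
      fun v h => S.beta_nondeg v fun w => (S.beta_comm v w).trans (h w)⟩
    have hY : Nat.card ↥N ≤ 32 := by
      let ev : ↥N →ₗ[ZMod 2] ZMod 2 := (S.beta (S.pr c)).comp N.subtype
      have hkerle : (LinearMap.ker ev).map N.subtype ≤ S.beta.orthogonal M := by
        rintro _ ⟨w, hw, rfl⟩ v hv
        obtain ⟨f, rfl⟩ := S.pr_surjective v
        by_cases hf : f ∈ H
        · exact w.2 _ ⟨f, hf, rfl⟩
        · have h1 := (hxK f (LinearMap.mem_ker.1 hv)).resolve_left fun e => hf ((hH _).2 e)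
          have h2 : c * f ∈ H := by
            rw [hH]
            refine (mul_inv_eq_iff_eq_mul.1 ?_).symm
            show x * ((c : G) * f) * x⁻¹ = (c : G) * f
            calc x * ((c : G) * f) * x⁻¹ = (x * c * x⁻¹) * (x * f * x⁻¹) := by group
              _ = (c : G) * ((z * f) * z) := by rw [hcx, h1]; group
              _ = _ := by rw [← S.data.z_central _ f.2, mul_assoc (f : G), S.z_sq, mul_one]
          have h3 := w.2 _ ⟨_, h2, rfl⟩
          rw [S.pr_mul, map_add, LinearMap.add_apply] at h3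
          have h4 : S.beta (S.pr c) (w : S.WS) = 0 := LinearMap.mem_ker.1 hw
          rw [h4, zero_add] at h3
          exact h3
      have h16 : Nat.card ↥(S.beta.orthogonal M) = 16 := by
        rw [Module.natCard_eq_pow_finrank (K := ZMod 2), Nat.card_zmod,
          LinearMap.BilinForm.finrank_orthogonal hnd]
        have hW : Module.finrank (ZMod 2) S.WS = 12 := by
          have h := Module.natCard_eq_pow_finrank (K := ZMod 2) (V := S.WS)
          rw [S.card_WS, Nat.card_zmod] at h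
          exact (Nat.pow_right_injective (le_refl 2) h).symm
        have hM' : Module.finrank (ZMod 2) M = 8 := by
          have h := Module.natCard_eq_pow_finrank (K := ZMod 2) (V := ↥M)
          rw [hM, Nat.card_zmod, show 256 = 2 ^ 8 by norm_num] at h
          exact (Nat.pow_right_injective (le_refl 2) h).symm
        rw [hW, hM']; norm_num
      have hk : Nat.card ↥(LinearMap.ker ev) ≤ 16 := h16 ▸
        Nat.card_le_card_of_injective (fun w : ↥(LinearMap.ker ev) => (⟨((w : ↥N) : S.WS), hkerle ⟨w, w.2, rfl⟩⟩ :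
          ↥(S.beta.orthogonal M))) fun u v huv => by
            exact Subtype.ext (Subtype.ext (congrArg Subtype.val huv :))
      have h1 := ev.toAddMonoidHom.ker.index_mul_card
      rw [AddSubgroup.index_ker] at h1
      have h2 : Nat.card ev.toAddMonoidHom.range ≤ 2 :=
        (Nat.card_le_card_of_injective _ Subtype.val_injective).trans (by simp)
      calc Nat.card ↥N = Nat.card ev.toAddMonoidHom.range * Nat.card ev.toAddMonoidHom.ker := h1.symm
        _ ≤ 2 * 16 := Nat.mul_le_mul h2 hk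
        _ = 32 := by norm_num
    have h1 := S.natCard_le_pr Z0 N.toAddSubgroup (by
      rintro _ ⟨u, hu, rfl⟩ _ ⟨f, hf, rfl⟩
      exact (S.beta_pr f (u : ↥(Ez z))).2 (congrArg (fun t : ↥H => (((t : ↥(Ez z))) : G))
        (mem_center_iff.1 hu ⟨f, hf⟩)))
    have h2 : Nat.card ↥N.toAddSubgroup = Nat.card ↥N := rfl
    omega
  have hZc : Nat.card ↥(Subgroup.center ↥H) ≤ 64 :=
    (Nat.card_congr (Subgroup.equivMapOfInjective _ _ (Subgroup.subtype_injective H)).toEquiv).trans_le hZ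
  have hRcen : R ≤ Subgroup.center ↥H := fun r hr => mem_center_iff.2 fun f => Subtype.ext (Subtype.ext
    (hRc _ hr _ f.2).symm)
  have hKcen : φ.ker ≤ Subgroup.center ↥H := fun d hd => mem_center_iff.2 fun f => Subtype.ext (Subtype.ext
    (hkerc d hd f).symm)
  have hK2 : Nat.card φ.ker ≤ 2 := by
    have h1 : Nat.card φ.ker * Nat.card ↥R ≤ 64 := by
      rw [← Nat.card_prod]
      refine (Nat.card_le_card_of_injective (fun p : ↥φ.ker × ↥R => (⟨(p.1 : ↥H) * p.2,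
        mul_mem (hKcen p.1.2) (hRcen p.2.2)⟩ : ↥(Subgroup.center ↥H))) ?_).trans hZc
      rintro ⟨d, r⟩ ⟨d', r'⟩ he
      have he' : (d : ↥H) * r = d' * r' := congrArg Subtype.val he
      have h2 : (d' : ↥H)⁻¹ * d = r' * (r : ↥H)⁻¹ := by
        rw [inv_mul_eq_iff_eq_mul, ← mul_assoc, eq_mul_inv_iff_mul_eq, he']
      have h3 := hDR _ (mul_mem (inv_mem d'.2) d.2) (by
        rw [h2]; exact (mul_mem r'.2 (inv_mem r.2) : _ ∈ R))
      have hdd : (d : ↥H) = d' := (inv_mul_eq_one.1 h3).symm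
      rw [hdd] at he'
      exact Prod.ext (Subtype.ext hdd) (Subtype.ext (mul_left_cancel he'))
    rw [hR32] at h1
    omega
  -- images in the duad stabiliser
  have h128 : 128 ≤ Nat.card φ.range := by
    have h := φ.ker.index_mul_card
    rw [Subgroup.index_ker] at h
    nlinarith
  have hHp : IsPGroup 2 ↥H := ((LargeExtraspecial.isPGroup_of_extraspecial S.extra).to_subgroup H)
  have hpB : IsPGroup 2 ↥φ.range := hHp.of_surjective φ.rangeRestrict φ.rangeRestrict_surjective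
  obtain ⟨o', ho', hle⟩ := HexOct.exists_le_stabO hpB (by rintro _ ⟨f, rfl⟩; exact S.κ_mem _)
  have hRle : R.map φ ≤ φ.range := MonoidHom.range_eq_map φ ▸ Subgroup.map_mono le_top
  have hR32' : 32 ≤ Nat.card ↥(R.map φ) := by
    refine le_of_eq_of_le hR32.symm (Nat.card_le_card_of_injective
      (fun r : ↥R => (⟨φ r, r, r.2, rfl⟩ : ↥(R.map φ))) fun r r' he => ?_)
    have he' : φ r = φ r' := congrArg Subtype.val he
    have h3 := hDR ((r : ↥H)⁻¹ * r') (by rw [MonoidHom.mem_ker, map_mul, map_inv, he', inv_mul_cancel])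
      ((mul_mem (inv_mem r.2) r'.2 : _ ∈ R))
    exact Subtype.ext (inv_mul_eq_one.1 h3)
  have hRsq : ∀ b ∈ R.map φ, b * b = 1 := by
    rintro _ ⟨r, hr, rfl⟩
    obtain ⟨u, hu⟩ := hr
    rw [← map_mul, show r * r = 1 from Subtype.ext (Subtype.ext ((S.qS_pr (r : ↥(Ez z))).1
      (hu ▸ S.qS_Cfix ho (S.mv_mem_Cfix ho hao u)))), map_one]
  have hRcB : ∀ b ∈ φ.range, ∀ r ∈ R.map φ, b * r = r * b := by
    rintro _ ⟨f, rfl⟩ _ ⟨r, hr, rfl⟩
    rw [← map_mul, ← map_mul, mem_center_iff.1 (hRcen hr) f]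
  set B0 := φ.range ⊓ Spor.M22
  set R0 := R.map φ ⊓ Spor.M22
  have hB64 : 64 ≤ Nat.card ↥B0 := by
    have : Nat.card ↥φ.range ≤ 2 * Nat.card ↥B0 := natCard_le_two_mul_inf φ.range fun b hb => (hle hb).1
    omega
  have hR16 : 16 ≤ Nat.card ↥R0 := by
    have : Nat.card ↥(R.map φ) ≤ 2 * Nat.card ↥R0 :=
      natCard_le_two_mul_inf (R.map φ) fun b hb => (hle (hRle hb)).1
    omega
  by_cases hRA : R0 ≤ octadFix o'
  · have heq : R0 = octadFix o' := Subgroup.eq_of_le_of_card_ge hRA (by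
      rw [natCard_octadFix ho'.mem]; exact hR16)
    have hBA : B0 ≤ octadFix o' := fun b hb => ho'.centralizes_octadFix hb.2.1.1 fun r hr =>
      hRcB b hb.1 r (heq.symm ▸ hr : r ∈ R0).1
    have := Subgroup.card_le_of_le hBA
    rw [natCard_octadFix ho'.mem] at this
    omega
  · obtain ⟨f, hf, hfA⟩ := SetLike.not_le_iff_exists.1 hRA
    have h4 : Nat.card ↥(B0 ⊓ octadFix o' : Subgroup (Equiv.Perm GolayPt)) ≤ 4 :=
      ho'.natCard_inter_le hf.2 (hRsq f hf.1) hfA _ inf_le_right fun d hd => hRcB d hd.1.1 f hf.1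
    have h8 : Nat.card ↥B0 ≤ 8 * Nat.card ↥(B0 ⊓ octadFix o' : Subgroup (Equiv.Perm GolayPt)) :=
      ho'.natCard_le_eight_mul B0 (fun b hb => ⟨hb.2, (hle hb.1).2⟩)
        (hpB.to_le inf_le_left)
    omega

/-- **`z` has a second conjugate in an elementary subgroup of order 2^11 through it.** -/
theorem exists_conj_mem_Vo (hs : IsSimpleGroup G) (hG : ¬ IsMulCommutative G) :
    ∃ o, ∃ ho : HexOct o, ∃ g : G, ∃ h : g * z * g⁻¹ ∈ Cz z, g * z * g⁻¹ ≠ z ∧
      (⟨g * z * g⁻¹, h⟩ : ↥(Cz z)) ∈ S.Vo ho := by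
  by_cases hE : ∃ g : G, g * z * g⁻¹ ∈ Ez z ∧ g * z * g⁻¹ ≠ z
  · obtain ⟨g, hgE, hne⟩ := hE
    obtain ⟨o, ho, h, hV⟩ := S.exists_conj_mem_Vo_of_mem_E hgE hne
    exact ⟨o, ho, g, h, hne, hV⟩
  · push Not at hE
    obtain ⟨g, h, hne, hi⟩ := S.exists_inner_conj_z hs hG
    obtain ⟨o, ho, hV⟩ := S.exists_conj_mem_Vo_of_inner h hne hi hE
    exact ⟨o, ho, g, h, hne, hV⟩

end Setting

end Cfsg.Agent.J4Type
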