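import Cfsg.Agent.Lib.J4Type.VClasses
import Cfsg.Agent.Lib.J4Type.FusionV
import Cfsg.Agent.Lib.M22Cover.GLBound

/-!
The class of `z` in `Vo` under the normaliser (helper19).

* `Setting.Vg`, `conj_le_Cz` : `Vo` in the whole group, its conjugacy in the centraliser
* `weakly_closed` : conjugates of `z` in it are conjugate under the normaliser
* `Setting.Oz`, `ncard_Oz_cases` : the possible lengths 127, 1771, 2047 and the composition of the set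
* `natCard_normalizer_eq` : the order of the normaliser
-/

set_option autoImplicit false
set_option maxHeartbeats 1000000
set_option linter.style.haveILetI false
set_option linter.unusedSectionVars false
open scoped Pointwise commutatorElement
open Cfsg Subgroup

namespace Cfsg.Agent.J4Type.Setting

open Cfsg.Agent.Golay

variable {G : Type*} [Group G] [Finite G] {z : G} {P : Subgroup G} (S : Setting z P)
  {o : Finset GolayPt} (ho : HexOct o)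

/-- `Vo` as a subgroup of the whole group. -/
abbrev Vg : Subgroup G := (S.Vo ho).map (Cz z).subtype

/-- The conjugates of `z` inside `Vo`. -/
def Oz : Set ↥(Cz z) := {x | x ∈ S.Vo ho ∧ IsConj z (x : G)}

include S ho

theorem mem_Vg_iff (x : ↥(Cz z)) : (x : G) ∈ S.Vg ho ↔ x ∈ S.Vo ho :=
  Subgroup.mem_map_iff_mem (Subgroup.subtype_injective _)

theorem exists_of_mem_Vg {x : G} (hx : x ∈ S.Vg ho) : ∃ h : ↥(Cz z), h ∈ S.Vo ho ∧ (h : G) = x := hx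

theorem Vg_le_Cz : S.Vg ho ≤ Cz z := Subgroup.map_subtype_le _

theorem z_mem_Vg : z ∈ S.Vg ho := ⟨_, S.z_mem_Vo ho, rfl⟩

theorem mem_normalizer_iff_κ (h : ↥(Cz z)) :
    (h : G) ∈ Subgroup.normalizer (S.Vg ho : Set G) ↔ S.κ h ∈ stabO o := by
  constructor
  · intro hn
    refine S.κ_of_norm ho (fun x hx => ?_) fun a ha => S.exists_mem_Vo ho ha
    exact (S.mem_Vg_iff ho _).1 ((Subgroup.mem_normalizer_iff.1 hn x).1 ((S.mem_Vg_iff ho x).2 hx))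
  · intro hk
    refine Subgroup.mem_normalizer_fintype fun x hx => ?_
    obtain ⟨y, hy, rfl⟩ := S.exists_of_mem_Vg ho hx
    exact ⟨h * y * h⁻¹, S.conj_mem_Vo ho hk hy, rfl⟩

omit ho in
/-- Elementary subgroups of order 2^11 of the centraliser are conjugate in it. -/
theorem conj_le_Cz {A B : Subgroup G} (hA : IsElementaryAbelian 2 A) (hAc : Nat.card ↥A = 2 ^ 11) (hAz : A ≤ Cz z)
    (hB : IsElementaryAbelian 2 B) (hBc : Nat.card ↥B = 2 ^ 11) (hBz : B ≤ Cz z) :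
    ∃ h ∈ Cz z, A.map (MulAut.conj h).toMonoidHom = B := by
  haveI : Fact (Nat.Prime 2) := ⟨Nat.prime_two⟩
  obtain ⟨T0, hT0⟩ := S.exists_sylow_le_Cz
  obtain ⟨W, -, huni⟩ := S.existsUnique_elem T0
  let T1 : Sylow 2 ↥(Cz z) := T0.subtype hT0
  have key : ∀ X : Subgroup G, IsElementaryAbelian 2 X → Nat.card ↥X = 2 ^ 11 → X ≤ Cz z →
      ∃ h ∈ Cz z, X.map (MulAut.conj h).toMonoidHom = W := by
    intro X hX hXc hXz
    have hp : IsPGroup 2 ↥(X.subgroupOf (Cz z)) :=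
      (IsPGroup.of_card hXc).of_equiv (Subgroup.subgroupOfEquivOfLe hXz).symm
    obtain ⟨T2, hT2⟩ := hp.exists_le_sylow
    obtain ⟨h, hh⟩ := MulAction.exists_smul_eq ↥(Cz z) T2 T1
    refine ⟨h, h.2, huni _ ⟨?_, ⟨⟨⟨?_⟩⟩, ?_⟩, ?_⟩⟩
    · rintro _ ⟨x, hx, rfl⟩
      have h1 : (⟨x, hXz hx⟩ : ↥(Cz z)) ∈ (T2 : Subgroup ↥(Cz z)) := hT2 (Subgroup.mem_subgroupOf.2 hx)
      have h2 : MulAut.conj h • (⟨x, hXz hx⟩ : ↥(Cz z)) ∈ (T1 : Subgroup ↥(Cz z)) := by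
        rw [← hh, Sylow.coe_subgroup_smul]
        exact Subgroup.smul_mem_pointwise_smul _ _ _ h1
      rw [Sylow.coe_subtype, Subgroup.mem_subgroupOf] at h2
      exact h2
    · rintro ⟨_, a, ha, rfl⟩ ⟨_, b, hb, rfl⟩
      refine Subtype.ext ?_
      show (MulAut.conj (h : G)) a * (MulAut.conj (h : G)) b = (MulAut.conj (h : G)) b * (MulAut.conj (h : G)) a
      rw [← map_mul, ← map_mul,
        show a * b = b * a from congrArg Subtype.val (hX.1.is_comm.comm ⟨a, ha⟩ ⟨b, hb⟩)]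
    · rintro _ ⟨a, ha, rfl⟩
      rw [← map_pow, hX.2 a ha, map_one]
    · rw [← Nat.card_congr (Subgroup.equivMapOfInjective _ _ (MulAut.conj (h : G)).injective).toEquiv, hXc]
  obtain ⟨a, ha, haW⟩ := key A hA hAc hAz
  obtain ⟨b, hb, hbW⟩ := key B hB hBc hBz
  refine ⟨b⁻¹ * a, mul_mem (inv_mem hb) ha, ?_⟩
  have he : B = (A.map (MulAut.conj a).toMonoidHom).map (MulAut.conj b⁻¹).toMonoidHom := by
    rw [haW, ← hbW, Subgroup.map_map]
    ext x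
    simp [Subgroup.mem_map, mul_assoc]
  rw [he, Subgroup.map_map]
  congr 1
  ext x
  simp [mul_assoc]

/-- **Weak closure.** -/
theorem weakly_closed {g : G} (hg : g * z * g⁻¹ ∈ S.Vg ho) :
    ∃ n ∈ Subgroup.normalizer (S.Vg ho : Set G), n * z * n⁻¹ = g * z * g⁻¹ := by
  obtain ⟨hel, hcard⟩ := S.isElementary_Vo ho
  let A := (S.Vg ho).map (MulAut.conj g⁻¹).toMonoidHom
  have hcomm : ∀ a ∈ S.Vg ho, ∀ b ∈ S.Vg ho, a * b = b * a := fun a ha b hb =>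
    congrArg Subtype.val (hel.1.is_comm.comm (⟨a, ha⟩ : ↥(S.Vg ho)) ⟨b, hb⟩)
  have hA : IsElementaryAbelian 2 A := by
    refine ⟨⟨⟨?_⟩⟩, ?_⟩
    · rintro ⟨_, a, ha, rfl⟩ ⟨_, b, hb, rfl⟩
      refine Subtype.ext ?_
      show (MulAut.conj g⁻¹) a * (MulAut.conj g⁻¹) b = (MulAut.conj g⁻¹) b * (MulAut.conj g⁻¹) a
      rw [← map_mul, ← map_mul, hcomm a ha b hb]
    · rintro _ ⟨a, ha, rfl⟩
      rw [← map_pow, hel.2 a ha, map_one]
  have hAc : Nat.card ↥A = 2 ^ 11 := by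
    rw [← Nat.card_congr (Subgroup.equivMapOfInjective _ _ (MulAut.conj g⁻¹).injective).toEquiv, hcard]
  have hAz : A ≤ Cz z := by
    rintro _ ⟨a, ha, rfl⟩
    show g⁻¹ * a * (g⁻¹)⁻¹ ∈ Cz z
    rw [mem_Cz, inv_inv]
    calc g⁻¹ * a * g * z = g⁻¹ * (a * (g * z * g⁻¹)) * g := by group
      _ = _ := by rw [hcomm a ha _ hg]; group
  obtain ⟨h, hh, hmap⟩ := S.conj_le_Cz hA hAc hAz hel hcard (S.Vg_le_Cz ho)
  refine ⟨g * h⁻¹, Subgroup.mem_normalizer_fintype fun x hx => ?_, ?_⟩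
  · obtain ⟨_, ⟨a, ha, rfl⟩, rfl⟩ := (hmap.symm ▸ hx : x ∈ A.map (MulAut.conj h).toMonoidHom)
    show g * h⁻¹ * (h * (g⁻¹ * a * (g⁻¹)⁻¹) * h⁻¹) * (g * h⁻¹)⁻¹ ∈ S.Vg ho
    rw [show g * h⁻¹ * (h * (g⁻¹ * a * (g⁻¹)⁻¹) * h⁻¹) * (g * h⁻¹)⁻¹ = a by group]
    exact ha
  · have h1 : h⁻¹ * z * h = z := by
      rw [mul_assoc, ← mem_Cz.1 hh]; group
    calc g * h⁻¹ * z * (g * h⁻¹)⁻¹ = g * (h⁻¹ * z * h) * g⁻¹ := by group
      _ = _ := by rw [h1]

theorem Oz_iff_of_conjH {x y : ↥(Cz z)} (h : S.conjH o x y) : x ∈ S.Oz ho ↔ y ∈ S.Oz ho := by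
  have key : ∀ {x y : ↥(Cz z)}, S.conjH o x y → x ∈ S.Oz ho → y ∈ S.Oz ho := by
    rintro x y ⟨n, hn, rfl⟩ ⟨hx, hc⟩
    exact ⟨S.conj_mem_Vo ho hn hx, hc.trans (isConj_iff.2 ⟨(n : G), rfl⟩)⟩
  exact ⟨key h, key (S.conjH_symm h)⟩

theorem zH_mem_Oz : (⟨z, self_mem_Cz z⟩ : ↥(Cz z)) ∈ S.Oz ho := ⟨S.z_mem_Vo ho, IsConj.refl z⟩

theorem one_not_mem_Oz : (1 : ↥(Cz z)) ∉ S.Oz ho := fun h => S.z_ne (isConj_one_left.1 h.2)

/-- A short element is one centralised by the kernel of its map. -/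
theorem short_iff {x : ↥(Cz z)} (hx : x ∈ S.Vo ho) (hk : S.κ x ≠ 1) :
    x ∈ S.ShortSet ho ↔ ∀ f : ↥(Ez z), S.mv (S.κ x) (S.pr f) = 0 → inE f * x = x * inE f := by
  have ha := ((S.mem_Vo ho).1 hx).1.1
  constructor
  · rintro ⟨-, -, e, he, u, hu⟩ f hf
    have h1 : (f : G) * e = e * f := by
      refine (S.beta_pr f e).1 ?_
      rw [← hu, ← S.beta_mv (S.fix_M22 ho ha).1 (S.fix_M22 ho ha).2, hf, map_zero, LinearMap.zero_apply]
    have h2 := S.yF_cent ho ha hf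
    refine Subtype.ext ?_
    show (f : G) * x = x * f
    rw [show (x : G) = (S.yF ho (S.κ x) : G) * e from (congrArg Subtype.val he).symm, ← mul_assoc, h2, mul_assoc,
      h1, mul_assoc]
  · intro h
    refine (S.coset_cases ho hx hk).resolve_right ?_
    rintro ⟨-, -, e, he, hn⟩
    obtain ⟨k, hk0, hk1⟩ := S.exists_ker_beta ho ha hk hn
    obtain ⟨f, rfl⟩ := S.pr_surjective k
    have h1 := congrArg Subtype.val (h f hk0)
    have h2 := (S.beta_pr_one f e).1 hk1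
    have h3 : (f : G) * x * (f : G)⁻¹ = (x : G) * z := by
      rw [show (x : G) = (S.yF ho (S.κ x) : G) * e from (congrArg Subtype.val he).symm]
      calc (f : G) * ((S.yF ho (S.κ x) : G) * e) * (f : G)⁻¹
          = ((f : G) * (S.yF ho (S.κ x) : G) * (f : G)⁻¹) * ((f : G) * e * (f : G)⁻¹) := by group
        _ = _ := by rw [mul_inv_eq_iff_eq_mul.2 (S.yF_cent ho ha hk0), h2, mul_assoc]
    rw [show (f : G) * x = x * f from h1, mul_inv_cancel_right] at h3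
    exact S.z_ne (mul_eq_left.1 h3.symm)

theorem short_conj {x y : ↥(Cz z)} (hxy : S.conjH o x y) (hx : x ∈ S.ShortSet ho) : y ∈ S.ShortSet ho := by
  obtain ⟨n, hn, rfl⟩ := hxy
  obtain ⟨hxV, hk, -⟩ := id hx
  have ha := ((S.mem_Vo ho).1 hxV).1.1
  have hκ : S.κ (n * x * n⁻¹) = S.κ n * S.κ x * (S.κ n)⁻¹ := by rw [map_mul, map_mul, map_inv]
  refine (S.short_iff ho (S.conj_mem_Vo ho hn hxV) (by rw [hκ]; exact fun e => hk (conj_eq_one_iff.1 e))).2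
    fun f hf => ?_
  rw [hκ] at hf
  let f' : ↥(Ez z) := ⟨(n : G)⁻¹ * f * n, by simpa using conj_mem_Ez (inv_mem n.2) f.2⟩
  have hf' : S.mv (S.κ x) (S.pr f') = 0 := by
    apply (S.rho n).injective
    rw [S.rho_mv ho n hn ha, map_zero, show S.rho n (S.pr f') = S.pr f by
      rw [S.rho_pr]; exact congrArg _ (Subtype.ext (by simp [f', mul_assoc]))]
    exact hf
  have h1 := (S.short_iff ho hxV hk).1 hx f' hf'
  have h2 : inE f = n * inE f' * n⁻¹ := Subtype.ext (by simp [f', mul_assoc])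
  rw [h2]
  calc n * inE f' * n⁻¹ * (n * x * n⁻¹) = n * (inE f' * x) * n⁻¹ := by group
    _ = _ := by rw [h1]; group

theorem yF_mem_short {a : Equiv.Perm GolayPt} (ha : a ∈ octadFix o) (ha1 : a ≠ 1) :
    S.yF ho a ∈ S.ShortSet ho ∧ S.yF ho a * ⟨z, self_mem_Cz z⟩ ∈ S.ShortSet ho := by
  obtain ⟨hy, hk, -⟩ := S.yF_spec ho ha
  constructor
  · refine ⟨hy, by rw [hk]; exact ha1, 1, ?_, ?_⟩
    · rw [hk]; exact Subtype.ext (mul_one _)
    · rw [S.pr_one]; exact zero_mem _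
  · have hk' : S.κ (S.yF ho a * ⟨z, self_mem_Cz z⟩) = a := by rw [map_mul, hk, S.κ_z, mul_one]
    refine ⟨mul_mem hy (S.z_mem_Vo ho), by rw [hk']; exact ha1, ⟨z, S.z_mem_E⟩, ?_, ?_⟩
    · rw [hk']
    · rw [(S.pr_eq_zero ⟨z, S.z_mem_E⟩).2 (Or.inr rfl)]; exact zero_mem _

theorem inter_cases {A : Set ↥(Cz z)} (hA : ∀ x ∈ A, ∀ y ∈ A, S.conjH o x y) :
    A ∩ S.Oz ho = ∅ ∨ A ⊆ S.Oz ho := by
  by_cases h : ∃ x ∈ A, x ∈ S.Oz ho
  · obtain ⟨x, hx, hxO⟩ := h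
    exact Or.inr fun y hy => (S.Oz_iff_of_conjH ho (hA x hx y hy)).1 hxO
  · push Not at h
    exact Or.inl (Set.eq_empty_iff_forall_notMem.2 fun x hx => h x hx.1 hx.2)

/-- The conjugates of `z` among the short elements: none, all, or half of them. -/
theorem short_Oz_cases :
    (S.ShortSet ho ∩ S.Oz ho).ncard = 0 ∨ (S.ShortSet ho ∩ S.Oz ho).ncard = 480 ∨
      ((S.ShortSet ho ∩ S.Oz ho).ncard = 240 ∧
        (∀ x ∈ S.ShortSet ho, x ∉ S.Oz ho → ∀ y ∈ S.ShortSet ho, y ∉ S.Oz ho → S.conjH o x y) ∧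
        ∃ y : ↥(Cz z), y ∈ S.Oz ho ∧ (y : G) * S.gen = S.gen * y ∧ S.κ y ≠ 1) := by
  classical
  obtain ⟨a, ha, ha1⟩ := S.exists_mem_fix_ne ho
  obtain ⟨hs0, hs1⟩ := S.yF_mem_short ho ha ha1
  set y0 := S.yF ho a
  set y1 := S.yF ho a * ⟨z, self_mem_Cz z⟩
  have hgen0 : (y0 : G) * S.gen = S.gen * y0 := (S.yF_spec ho ha).2.2
  have hgen1 : (y1 : G) * S.gen = S.gen * y1 :=
    ((show Commute (y0 : G) S.gen from hgen0).mul_left
      (show Commute z S.gen from (mem_Cz.1 S.gen_mem).symm)).eq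
  have hcl : ∀ x ∈ S.ShortSet ho, S.conjH o y0 x ∨ S.conjH o y1 x := fun x hx => S.short_cases ho ha ha1 hx
  by_cases h0 : y0 ∈ S.Oz ho <;> by_cases h1 : y1 ∈ S.Oz ho
  · right; left
    rw [Set.inter_eq_left.2 fun x hx => ?_, S.ncard_Short ho]
    rcases hcl x hx with h | h
    · exact (S.Oz_iff_of_conjH ho h).1 h0
    · exact (S.Oz_iff_of_conjH ho h).1 h1
  rotate_right
  · left
    rw [Set.ncard_eq_zero (Set.toFinite _), Set.eq_empty_iff_forall_notMem]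
    rintro x ⟨hx, hxO⟩
    rcases hcl x hx with h | h
    · exact h0 ((S.Oz_iff_of_conjH ho h).2 hxO)
    · exact h1 ((S.Oz_iff_of_conjH ho h).2 hxO)
  all_goals right; right
  all_goals
    have key : ∀ u v : ↥(Cz z), u ∈ S.ShortSet ho → v ∈ S.ShortSet ho → u ∈ S.Oz ho → v ∉ S.Oz ho →
        (u : G) * S.gen = S.gen * u →
        (∀ x ∈ S.ShortSet ho, S.conjH o u x ∨ S.conjH o v x) →
        (S.ShortSet ho ∩ S.Oz ho).ncard = 240 ∧
        (∀ x ∈ S.ShortSet ho, x ∉ S.Oz ho → ∀ y ∈ S.ShortSet ho, y ∉ S.Oz ho → S.conjH o x y) ∧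
        ∃ y : ↥(Cz z), y ∈ S.Oz ho ∧ (y : G) * S.gen = S.gen * y ∧ S.κ y ≠ 1 := by
      intro u v hu hv huO hvO hug hall
      have h1' : {x | S.conjH o u x} = S.ShortSet ho ∩ S.Oz ho := by
        ext x
        refine ⟨fun h => ⟨S.short_conj ho h hu, (S.Oz_iff_of_conjH ho h).1 huO⟩, fun ⟨hx, hxO⟩ => ?_⟩
        exact (hall x hx).resolve_right fun h => hvO ((S.Oz_iff_of_conjH ho h).2 hxO)
      have h2' : {x | S.conjH o v x} = S.ShortSet ho \ S.Oz ho := by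
        ext x
        refine ⟨fun h => ⟨S.short_conj ho h hv, fun hxO => hvO ((S.Oz_iff_of_conjH ho h).2 hxO)⟩,
          fun ⟨hx, hxO⟩ => ?_⟩
        exact (hall x hx).resolve_left fun h => hxO ((S.Oz_iff_of_conjH ho h).1 huO)
      have e1 := S.short_orbit_large ho hu
      have e2 := S.short_orbit_large ho hv
      rw [h1'] at e1
      rw [h2'] at e2
      have e3 := Set.ncard_inter_add_ncard_sdiff_eq_ncard (S.ShortSet ho) (S.Oz ho) (Set.toFinite _)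
      rw [S.ncard_Short ho] at e3
      refine ⟨by omega, fun x hx hxO y hy hyO => ?_, u, huO, hug, hu.2.1⟩
      have hxv : S.conjH o v x := (hall x hx).resolve_left fun h => hxO ((S.Oz_iff_of_conjH ho h).1 huO)
      have hyv : S.conjH o v y := (hall y hy).resolve_left fun h => hyO ((S.Oz_iff_of_conjH ho h).1 huO)
      exact S.conjH_trans (S.conjH_symm hxv) hyv
  · exact key y0 y1 hs0 hs1 h0 h1 hgen0 hcl
  · exact key y1 y0 hs1 hs0 h1 h0 hgen1 fun x hx => (hcl x hx).symm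

theorem ncard_Oz_eq (c : S.Coord o) :
    (S.Oz ho).ncard = 1 + (S.UhSet c ∩ S.Oz ho).ncard + (S.UpSet c ∩ S.Oz ho).ncard +
      (S.ShortSet ho ∩ S.Oz ho).ncard + (S.LongSet ho ∩ S.Oz ho).ncard := by
  have heq : S.Oz ho = ({⟨z, self_mem_Cz z⟩} ∪ (S.UhSet c ∩ S.Oz ho) ∪ (S.UpSet c ∩ S.Oz ho) ∪
      (S.ShortSet ho ∩ S.Oz ho) ∪ (S.LongSet ho ∩ S.Oz ho)) := by
    ext x
    constructor
    · intro hx
      by_cases hk : S.κ x = 1
      · rcases S.U_cases ho (c := c) hx.1 hk with h | h | h | h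
        · exact absurd (h ▸ hx) (S.one_not_mem_Oz ho)
        · exact Or.inl (Or.inl (Or.inl (Or.inl h)))
        · exact Or.inl (Or.inl (Or.inl (Or.inr ⟨h, hx⟩)))
        · exact Or.inl (Or.inl (Or.inr ⟨h, hx⟩))
      · rcases S.coset_cases ho hx.1 hk with h | h
        · exact Or.inl (Or.inr ⟨h, hx⟩)
        · exact Or.inr ⟨h, hx⟩
    · rintro ((((h | h) | h) | h) | h)
      · exact h ▸ S.zH_mem_Oz ho
      all_goals exact h.2
  conv_lhs => rw [heq]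
  rw [Set.ncard_union_eq (Set.disjoint_left.2 ?_), Set.ncard_union_eq (Set.disjoint_left.2 ?_),
    Set.ncard_union_eq (Set.disjoint_left.2 ?_), Set.ncard_union_eq (Set.disjoint_left.2 ?_),
    Set.ncard_singleton]
  · rintro x rfl ⟨h, -⟩; exact (S.Uh_subset ho h).2.2.2 rfl
  · rintro x (rfl | ⟨h, -⟩) ⟨h', -⟩
    · exact (S.Up_subset ho h').2.2.2 rfl
    · exact S.Uh_Up_disjoint ho h h'
  · rintro x ((rfl | ⟨h, -⟩) | ⟨h, -⟩) ⟨h', -⟩
    · exact h'.2.1 S.κ_z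
    · exact h'.2.1 (S.Uh_subset ho h).2.1
    · exact h'.2.1 (S.Up_subset ho h).2.1
  · rintro x (((rfl | ⟨h, -⟩) | ⟨h, -⟩) | ⟨h, -⟩) ⟨h', -⟩
    · exact h'.2.1 S.κ_z
    · exact h'.2.1 (S.Uh_subset ho h).2.1
    · exact h'.2.1 (S.Up_subset ho h).2.1
    · exact S.short_long_disjoint ho h h'

theorem ncard_Oz_image : ((↑) '' S.Oz ho : Set G).ncard = (S.Oz ho).ncard :=
  Set.ncard_image_of_injective _ Subtype.val_injective

theorem Oz_image_eq_orbit :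
    ((↑) '' S.Oz ho : Set G) = {v | ∃ n ∈ Subgroup.normalizer (S.Vg ho : Set G), n * z * n⁻¹ = v} := by
  ext v
  constructor
  · rintro ⟨x, ⟨hx, hc⟩, rfl⟩
    obtain ⟨g, hg⟩ := isConj_iff.1 hc
    obtain ⟨n, hn, hne⟩ := S.weakly_closed ho (g := g) (hg ▸ (S.mem_Vg_iff ho x).2 hx)
    exact ⟨n, hn, hne.trans hg⟩
  · rintro ⟨n, hn, rfl⟩
    have hv : n * z * n⁻¹ ∈ S.Vg ho := (Subgroup.mem_normalizer_iff.1 hn z).1 (S.z_mem_Vg ho)
    obtain ⟨x, hx, he⟩ := S.exists_of_mem_Vg ho hv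
    exact ⟨x, ⟨hx, he ▸ isConj_iff.2 ⟨n, rfl⟩⟩, he⟩

/-- The order of the normaliser from the length of the orbit. -/
theorem natCard_normalizer_eq :
    Nat.card ↥(Subgroup.normalizer (S.Vg ho : Set G)) = (S.Oz ho).ncard * (2 ^ 21 * 135) := by
  set N := Subgroup.normalizer (S.Vg ho : Set G) with hN
  letI : MulAction ↥N G := MulAction.compHom G (MulAut.conj.comp N.subtype)
  have horb : MulAction.orbit ↥N z = ((↑) '' S.Oz ho : Set G) := by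
    rw [S.Oz_image_eq_orbit ho]
    ext v
    exact ⟨fun ⟨n, hn⟩ => ⟨n, n.2, hn⟩, fun ⟨n, hn, hv⟩ => ⟨⟨n, hn⟩, hv⟩⟩
  have h := MulAction.index_stabilizer ↥N z
  rw [← Nat.card_coe_set_eq, horb, Nat.card_coe_set_eq, S.ncard_Oz_image ho] at h
  have hst : Nat.card (MulAction.stabilizer ↥N z) = Nat.card ↥(S.preM (stabO o)) := by
    refine Nat.card_congr
      { toFun := fun x => ⟨⟨((x : ↥N) : G), mem_Cz.2 (mul_inv_eq_iff_eq_mul.1 (x.2 : ((x : ↥N) : G) * z * ((x : ↥N) : G)⁻¹ = z))⟩,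
          (S.mem_normalizer_iff_κ ho _).1 (x : ↥N).2⟩
        invFun := fun h => ⟨⟨((h : ↥(Cz z)) : G), (S.mem_normalizer_iff_κ ho _).2 h.2⟩, S.conj_fix_z h.1⟩
        left_inv := fun x => rfl
        right_inv := fun h => rfl }
  have h2 := (MulAction.stabilizer ↥N z).index_mul_card
  rw [h, hst, S.natCard_Nh ho] at h2
  omega

theorem ncard_Oz_dvd : (S.Oz ho).ncard ∣ M22Cover.glOrder := by
  obtain ⟨hel, hcard⟩ := S.isElementary_Vo ho
  have h := M22Cover.orbit_dvd (A := S.Vg ho)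
    (fun x hx y hy => congrArg Subtype.val (hel.1.is_comm.comm (⟨x, hx⟩ : ↥(S.Vg ho)) ⟨y, hy⟩))
    (fun x hx => by rw [← pow_two]; exact hel.2 x hx) hcard (S.z_mem_Vg ho)
  rwa [← S.Oz_image_eq_orbit ho, S.ncard_Oz_image ho] at h

theorem two_le_ncard_Oz (hs : IsSimpleGroup G) (hG : ¬ IsMulCommutative G) : 2 ≤ (S.Oz ho).ncard := by
  obtain ⟨o1, ho1, g, h, hne, hV⟩ := S.exists_conj_mem_Vo hs hG
  obtain ⟨hel1, hc1⟩ := S.isElementary_Vo ho1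
  obtain ⟨hel, hc⟩ := S.isElementary_Vo ho
  obtain ⟨k, hk, hmap⟩ := S.conj_le_Cz hel1 hc1 (S.Vg_le_Cz ho1) hel hc (S.Vg_le_Cz ho)
  have hy : k * (g * z * g⁻¹) * k⁻¹ ∈ S.Vg ho := hmap.le ⟨_, ⟨_, hV, rfl⟩, rfl⟩
  obtain ⟨x, hx, he⟩ := S.exists_of_mem_Vg ho hy
  have hxO : x ∈ S.Oz ho := ⟨hx, he ▸ isConj_iff.2 ⟨k * g, by group⟩⟩
  have hxz : x ≠ ⟨z, self_mem_Cz z⟩ := fun e => hne (by
    have h1 : k * (g * z * g⁻¹) * k⁻¹ = z := he.symm.trans (congrArg Subtype.val e)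
    have h2 : k⁻¹ * z * k = z := by rw [mul_assoc, ← mem_Cz.1 hk]; group
    calc g * z * g⁻¹ = k⁻¹ * (k * (g * z * g⁻¹) * k⁻¹) * k := by group
      _ = z := by rw [h1, h2])
  exact (Set.one_lt_ncard (Set.toFinite _)).2 ⟨x, hxO, _, S.zH_mem_Oz ho, hxz⟩

/-- The possible lengths, with the composition of the set. -/
theorem ncard_Oz_cases (hs : IsSimpleGroup G) (hG : ¬ IsMulCommutative G) (c : S.Coord o) :
    ((S.Oz ho).ncard = 127 ∧ S.UhSet c ⊆ S.Oz ho ∧ S.UpSet c ⊆ S.Oz ho) ∨ (S.Oz ho).ncard = 2047 ∨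
    ((S.Oz ho).ncard = 1771 ∧ S.UhSet c ∩ S.Oz ho = ∅ ∧ S.UpSet c ⊆ S.Oz ho ∧ S.LongSet ho ⊆ S.Oz ho ∧
      (S.ShortSet ho ∩ S.Oz ho).ncard = 240) := by
  have key : ∀ a ∈ [0, 36], ∀ b ∈ [0, 90], ∀ d ∈ [0, 240, 480], ∀ e ∈ [0, 1440],
      (1 + a + b + d + e) ∣ M22Cover.glOrder → 2 ≤ 1 + a + b + d + e →
      (1 + a + b + d + e = 127 ∧ a = 36 ∧ b = 90) ∨ 1 + a + b + d + e = 2047 ∨
      (1 + a + b + d + e = 1771 ∧ a = 0 ∧ b = 90 ∧ d = 240 ∧ e = 1440) := by decide +kernel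
  have hall : ∀ {A : Set ↥(Cz z)} {n : ℕ}, A.ncard = n → (A ∩ S.Oz ho = ∅ ∨ A ⊆ S.Oz ho) →
      (A ∩ S.Oz ho).ncard ∈ [0, n] ∧
        ((A ∩ S.Oz ho).ncard = 0 → A ∩ S.Oz ho = ∅) ∧ ((A ∩ S.Oz ho).ncard = n → 0 < n → A ⊆ S.Oz ho) := by
    intro A n hn h
    rcases h with h | h
    · rw [h, Set.ncard_empty]
      exact ⟨by simp, fun _ => rfl, fun e h0 => absurd e h0.ne⟩
    · rw [Set.inter_eq_left.2 h, hn]
      exact ⟨by simp, fun e => by rw [← Set.ncard_eq_zero (Set.toFinite A), hn, e], fun _ _ => h⟩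
  obtain ⟨a1, a2, a3⟩ := hall (S.ncard_Uh ho (c := c)) (S.inter_cases ho fun x hx y hy => S.Uh_trans ho hx hy)
  obtain ⟨b1, -, b3⟩ := hall (S.ncard_Up ho (c := c)) (S.inter_cases ho fun x hx y hy => S.Up_trans ho hx hy)
  obtain ⟨e1, -, e3⟩ := hall (S.ncard_Long ho) (S.inter_cases ho fun x hx y hy => S.long_trans ho hx hy)
  have d1 : (S.ShortSet ho ∩ S.Oz ho).ncard ∈ [0, 240, 480] := by
    rcases S.short_Oz_cases ho with h | h | ⟨h, -⟩ <;> rw [h] <;> simp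
  have h2 := S.two_le_ncard_Oz ho hs hG
  rw [S.ncard_Oz_eq ho c] at h2 ⊢
  rcases key _ a1 _ b1 _ d1 _ e1 (S.ncard_Oz_eq ho c ▸ S.ncard_Oz_dvd ho) h2 with
    ⟨h, ha, hb⟩ | h | ⟨h, ha, hb, hd, he⟩
  · exact Or.inl ⟨h, a3 ha (by norm_num), b3 hb (by norm_num)⟩
  · exact Or.inr (Or.inl h)
  · exact Or.inr (Or.inr ⟨h, a2 ha, b3 hb (by norm_num), e3 he (by norm_num), hd⟩)

end Cfsg.Agent.J4Type.Setting
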