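import Cfsg.Agent.Lib.J4Type.Duads
import Cfsg.Agent.Lib.GolayModule.Duads

/-!
Groups of Janko-four type: an elementary abelian subgroup of order 2048 with normaliser `V : K`, `K ≅ M24`,
as the even binary words modulo the Golay code (helper26).

* `VModel` : the map `Φ`, equivariant, onto `V`, with kernel the code on even words;
* `exists_vModel` : it exists for every `SplitData`;
* `VModel.eq_duad` : the words mapped to the short orbit are the duads modulo the code.
-/

set_option autoImplicit false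
set_option linter.unusedSectionVars false

open scoped Pointwise

namespace Cfsg.Agent.J4Type

open Cfsg Cfsg.Agent.Golay MulAction

/-- Binary words on the 24 points. -/
abbrev Wd : Type := GolayPt → ZMod 2

/-- A word is even. -/
def Ev (w : Wd) : Prop := ∑ p, w p = 0

/-- A word permuted. -/
def sh (σ : ↥M24) (w : Wd) : Wd := fun p => w ((σ : Equiv.Perm GolayPt).symm p)

theorem sum_sh (σ : ↥M24) (w : Wd) : ∑ p, sh σ w p = ∑ p, w p :=
  Equiv.sum_comp (σ : Equiv.Perm GolayPt).symm w

theorem ev_add {v w : Wd} (hv : Ev v) (hw : Ev w) : Ev (v + w) := by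
  unfold Ev at *
  simp only [Pi.add_apply, Finset.sum_add_distrib, hv, hw, add_zero]

theorem ev_pair (a b : GolayPt) : Ev (GolayModule.pair a b) := by
  unfold Ev GolayModule.pair
  simp [Finset.sum_add_distrib, CharTwo.add_self_eq_zero]

variable {G : Type*} [Group G] [Finite G]

/-- The module `V` in coordinates. -/
structure VModel (D : SplitData G) where
  phi : Wd → G
  mem : ∀ w, phi w ∈ D.V
  map_add : ∀ v w, phi (v + w) = phi v * phi w
  equiv : ∀ (σ : ↥M24) (w : Wd), Ev w → D.el σ * phi w * (D.el σ)⁻¹ = phi (sh σ w)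
  surj : ∀ x ∈ D.V, ∃ w, Ev w ∧ phi w = x
  ker : ∀ w, Ev w → (phi w = 1 ↔ w ∈ golayCode)
  duad : ∀ a b : GolayPt, a ≠ b → ∃ σ, D.el σ * D.t * (D.el σ)⁻¹ = phi (GolayModule.pair a b)
  duad_all : ∀ σ, ∃ a b : GolayPt, a ≠ b ∧ phi (GolayModule.pair a b) = D.el σ * D.t * (D.el σ)⁻¹

theorem pow_val_add {M : Type*} [Monoid M] {x : M} (hx : x * x = 1) :
    ∀ a b : ZMod 2, x ^ (a + b).val = x ^ a.val * x ^ b.val := by
  intro a b
  rcases GolayModule.eq_zero_or_one a with rfl | rfl <;> rcases GolayModule.eq_zero_or_one b with rfl | rfl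
  · simp
  · simp
  · simp
  · simp [CharTwo.add_self_eq_zero, show (1 : ZMod 2).val = 1 from rfl, hx]

theorem pow_val_mul {M : Type*} [CommMonoid M] {x y : M} (a : ZMod 2) :
    (x * y) ^ a.val = x ^ a.val * y ^ a.val := mul_pow x y a.val

/-- **The coordinates exist.** -/
theorem exists_vModel (D : SplitData G) : Nonempty (VModel D) := by
  classical
  obtain ⟨d, heq, hd, hall, hinj⟩ := D.exists_duadMap
  have htri := fun {a b c : GolayPt} (hab : a ≠ b) (hac : a ≠ c) (hbc : b ≠ c) =>
    D.triangle heq hd hall hinj hab hac hbc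
  have hdV : ∀ W : Finset GolayPt, W.card = 2 → d W ∈ D.V := fun W hW => by
    obtain ⟨σ, hσ⟩ := hd W hW
    exact hσ ▸ D.conj_mem (D.el_norm σ) D.t_mem
  let iV : CommGroup ↥D.V :=
    { (inferInstance : Group ↥D.V) with mul_comm := fun x y => Subtype.ext (D.comm x.2 y.2) }
  letI := iV
  let f : GolayPt → ↥D.V := fun p =>
    if h : p = none then 1 else ⟨d {none, p}, hdV _ (Finset.card_pair (Ne.symm h))⟩
  have hsq : ∀ x : ↥D.V, x * x = 1 := fun x => Subtype.ext (D.sq_one x.2)
  let Φ : Wd → ↥D.V := fun w => ∏ p, f p ^ (w p).val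
  have hadd : ∀ v w, Φ (v + w) = Φ v * Φ w := fun v w => by
    simp only [Φ, Pi.add_apply, pow_val_add (hsq _), Finset.prod_mul_distrib]
  have hsingle : ∀ a, Φ (Pi.single a 1) = f a := fun a => by
    simp only [Φ]
    rw [Finset.prod_eq_single a (fun b _ hb => by simp [Pi.single_eq_of_ne hb]) (by simp)]
    simp [show (1 : ZMod 2).val = 1 from rfl]
  -- the label of a pair
  let g : GolayPt → GolayPt → ↥D.V := fun a b =>
    if h : a = b then 1 else ⟨d {a, b}, hdV _ (Finset.card_pair h)⟩
  have hg : ∀ a b, g a b = f a * f b := by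
    intro a b
    by_cases hab : a = b
    · subst hab; simp [g, hsq]
    · simp only [g, f, dif_neg hab]
      by_cases ha : a = none
      · subst ha; rw [dif_pos rfl, dif_neg (Ne.symm hab), one_mul]
      by_cases hb : b = none
      · subst hb
        rw [dif_pos rfl, dif_neg ha, mul_one]
        simp [Finset.pair_comm a none]
      · rw [dif_neg ha, dif_neg hb]
        exact Subtype.ext (htri (Ne.symm ha) (Ne.symm hb) hab).symm
  have hpair : ∀ a b, a ≠ b → (Φ (GolayModule.pair a b) : G) = d {a, b} := fun a b hab => by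
    rw [GolayModule.pair, hadd, hsingle, hsingle, ← hg]
    simp [g, hab]
  -- equivariance
  let c : ↥M24 → ↥D.V →* ↥D.V := fun σ =>
    { toFun := fun x => ⟨D.el σ * x * (D.el σ)⁻¹, D.conj_mem (D.el_norm σ) x.2⟩
      map_one' := Subtype.ext (by simp)
      map_mul' := fun x y => Subtype.ext (by simp only [Subgroup.coe_mul]; group) }
  have hcg : ∀ σ a b, c σ (g a b) = g ((σ : Equiv.Perm GolayPt) a) ((σ : Equiv.Perm GolayPt) b) := by
    intro σ a b
    by_cases hab : a = b
    · subst hab; simp [g]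
    · have hab' : (σ : Equiv.Perm GolayPt) a ≠ (σ : Equiv.Perm GolayPt) b :=
        fun h => hab ((σ : Equiv.Perm GolayPt).injective h)
      apply Subtype.ext
      simp only [g, c, dif_neg hab, dif_neg hab', MonoidHom.coe_mk, OneHom.coe_mk]
      rw [← heq σ _ (Finset.card_pair hab)]
      simp [Finset.smul_finset_insert, Subgroup.smul_def]
  have hequiv : ∀ (σ : ↥M24) (w : Wd), Ev w → c σ (Φ w) = Φ (sh σ w) := by
    intro σ w hw
    have hf : ∀ p, c σ (f p) = f ((σ : Equiv.Perm GolayPt) none) * f ((σ : Equiv.Perm GolayPt) p) := fun p => by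
      have h : g none p = f p := by rw [hg]; simp [f]
      rw [← h, hcg, hg]
    have hconst : ∀ x : ↥D.V, ∏ p, x ^ (w p).val = 1 := by
      intro x
      have key : ∀ (s : Finset GolayPt), ∏ p ∈ s, x ^ (w p).val = x ^ (∑ p ∈ s, w p).val := by
        intro s
        induction s using Finset.induction_on with
        | empty => simp
        | insert a s ha ih => rw [Finset.prod_insert ha, Finset.sum_insert ha, ih, pow_val_add (hsq x)]
      rw [key, show ∑ p, w p = 0 from hw]
      simp
    simp only [Φ, map_prod, map_pow, hf, pow_val_mul, Finset.prod_mul_distrib, hconst, one_mul]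
    refine Fintype.prod_equiv (σ : Equiv.Perm GolayPt) _ _ fun p => ?_
    simp [sh]
  -- the kernel
  let W : Submodule (ZMod 2) Wd :=
    { carrier := {w | Ev w ∧ Φ w = 1}
      zero_mem' := ⟨by simp [Ev], by simp [Φ]⟩
      add_mem' := fun {v w} hv hw => ⟨ev_add hv.1 hw.1, by rw [hadd, hv.2, hw.2, one_mul]⟩
      smul_mem' := fun r w hw => by
        rcases GolayModule.eq_zero_or_one r with rfl | rfl
        · rw [zero_smul]; exact ⟨by simp [Ev], by simp [Φ]⟩
        · rw [one_smul]; exact hw }
  have hWinv : ∀ σ ∈ M24, ∀ w ∈ W, (fun p => w (σ.symm p)) ∈ W := by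
    intro σ hσ w hw
    refine ⟨(sum_sh ⟨σ, hσ⟩ w).trans hw.1, ?_⟩
    show Φ (sh ⟨σ, hσ⟩ w) = 1
    rw [← hequiv ⟨σ, hσ⟩ w hw.1, hw.2, map_one]
  have htriv : ∃ w, Ev w ∧ Φ w ≠ 1 := by
    refine ⟨GolayModule.pair none (some 0), ev_pair _ _, fun h => ?_⟩
    have hne : (none : GolayPt) ≠ some 0 := by simp
    obtain ⟨σ, hσ⟩ := hd _ (Finset.card_pair hne)
    have h2 := hpair _ _ hne
    rw [h, OneMemClass.coe_one, ← hσ] at h2
    exact D.t_ne_one (conj_eq_one_iff.1 h2.symm)
  have hWcode : W = golayCode := by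
    rcases GolayModule.invariant_cases hWinv with h | h | h | h | h
    · exfalso
      exact W_not_small Φ hadd (fun w hw h1 => Or.inl (by
        have : w ∈ W := ⟨hw, h1⟩
        rw [h] at this; exact this)) D
    · exfalso
      exact W_not_small Φ hadd (fun w hw h1 => by
        have hm : w ∈ W := ⟨hw, h1⟩
        rw [h, Submodule.mem_span_singleton] at hm
        obtain ⟨r, rfl⟩ := hm
        rcases GolayModule.eq_zero_or_one r with rfl | rfl
        · exact Or.inl (zero_smul _ _)
        · exact Or.inr (one_smul _ _)) D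
    · exact h
    · exfalso
      obtain ⟨w, hw, hw1⟩ := htriv
      exact hw1 (show w ∈ W by rw [← SetLike.mem_coe, h]; exact hw).2
    · exfalso
      obtain ⟨w, hw, hw1⟩ := htriv
      exact hw1 (show w ∈ W by rw [h]; trivial).2
  -- onto
  let R : Subgroup G :=
    { carrier := {x | ∃ w, Ev w ∧ (Φ w : G) = x}
      one_mem' := ⟨0, by simp [Ev], by simp [Φ]⟩
      mul_mem' := by
        rintro x y ⟨v, hv, rfl⟩ ⟨w, hw, rfl⟩
        exact ⟨v + w, ev_add hv hw, by rw [hadd]; rfl⟩
      inv_mem' := by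
        rintro x ⟨v, hv, rfl⟩
        exact ⟨v, hv, (D.inv_eq (Φ v).2).symm⟩ }
  have hRt : ∀ σ, D.el σ * D.t * (D.el σ)⁻¹ ∈ R := fun σ => by
    obtain ⟨P, hP, hPd⟩ := hall σ
    obtain ⟨a, b, hab, rfl⟩ := Finset.card_eq_two.1 hP
    exact ⟨_, ev_pair a b, (hpair a b hab).trans hPd⟩
  have hRle : R ≤ D.V := by
    rintro x ⟨w, -, rfl⟩
    exact (Φ w).2
  have hRK : ∀ σ x, x ∈ R → D.el σ * x * (D.el σ)⁻¹ ∈ R := by
    rintro σ x ⟨w, hw, rfl⟩
    exact ⟨sh σ w, (sum_sh σ w).trans hw, by rw [← hequiv σ w hw]; rfl⟩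
  have hR : R = D.V := by
    refine le_antisymm hRle fun x hx => ?_
    by_contra hxR
    have hsub : (R : Set G) = insert 1 (Set.range fun σ : ↥M24 => D.el σ * D.t * (D.el σ)⁻¹) := by
      refine Set.Subset.antisymm (fun y hy => ?_) (Set.insert_subset (one_mem R) ?_)
      · rcases D.eq_one_or (hRle hy) with h | ⟨σ, h⟩ | ⟨σ, h⟩
        · exact Or.inl h
        · exact Or.inr ⟨σ, h⟩
        · exfalso
          rcases D.eq_one_or hx with h' | ⟨τ, h'⟩ | ⟨τ, h'⟩
          · exact hxR (h' ▸ one_mem R)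
          · exact hxR (h' ▸ hRt τ)
          · have := hRK (τ * σ⁻¹) y hy
            rw [← h, D.conj_conj, inv_mul_cancel_right, h'] at this
            exact hxR this
      · rintro _ ⟨σ, rfl⟩; exact hRt σ
    have hcard : Nat.card ↥R = 277 := by
      rw [← SetLike.coe_sort_coe, Nat.card_coe_set_eq, hsub,
        Set.ncard_insert_of_notMem ?_ (Set.toFinite _), D.t_range]
      rintro ⟨σ, h⟩
      exact D.t_ne_one (conj_eq_one_iff.1 h)
    have hdvd := Subgroup.card_dvd_of_le hRle
    rw [hcard, D.card] at hdvd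
    norm_num at hdvd
  exact ⟨{
    phi := fun w => (Φ w : G)
    mem := fun w => (Φ w).2
    map_add := fun v w => by rw [hadd]; rfl
    equiv := fun σ w hw => congrArg Subtype.val (hequiv σ w hw)
    surj := fun x hx => by rw [← hR] at hx; exact hx
    ker := fun w hw => by
      rw [← hWcode]
      exact ⟨fun h => ⟨hw, Subtype.ext h⟩, fun h => congrArg Subtype.val h.2⟩
    duad := fun a b hab => by
      obtain ⟨σ, hσ⟩ := hd _ (Finset.card_pair hab)
      exact ⟨σ, hσ.trans (hpair a b hab).symm⟩
    duad_all := fun σ => by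
      obtain ⟨P, hP, hPd⟩ := hall σ
      obtain ⟨a, b, hab, rfl⟩ := Finset.card_eq_two.1 hP
      exact ⟨a, b, hab, (hpair a b hab).trans hPd⟩ }⟩
where
  /-- The kernel on even words is not within `{0, 1}`. -/
  W_not_small {V : Subgroup G} (Φ : Wd → ↥V) (hadd : ∀ v w, Φ (v + w) = Φ v * Φ w)
      (h : ∀ w, Ev w → Φ w = 1 → w = 0 ∨ w = 1) (D' : SplitData G) (hV : V = D'.V := by rfl) : False := by
    let ι : (Fin 13 → ZMod 2) → Wd := fun x => ∑ i : Fin 13, x i • GolayModule.pair none (some ((i : ℕ) : ZMod 23))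
    have hev : ∀ x, Ev (ι x) := fun x => by
      simp only [Ev, ι, Finset.sum_apply, Pi.smul_apply, smul_eq_mul]
      rw [Finset.sum_comm]
      refine Finset.sum_eq_zero fun i _ => ?_
      rw [← Finset.mul_sum, show ∑ p, GolayModule.pair none (some ((i : ℕ) : ZMod 23)) p = 0 from ev_pair _ _, mul_zero]
    have hval : ∀ x (i : Fin 13), ι x (some ((i : ℕ) : ZMod 23)) = x i := fun x i => by
      simp only [ι, Finset.sum_apply, Pi.smul_apply, smul_eq_mul, GolayModule.pair, Pi.add_apply]
      rw [Finset.sum_eq_single i (fun j _ hj => ?_) (by simp)]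
      · simp
      · rw [Pi.single_eq_of_ne (by simp), Pi.single_eq_of_ne ?_]
        · simp
        · intro e
          exact hj ((by decide : ∀ i j : Fin 13, (((i : ℕ) : ZMod 23)) = ((j : ℕ) : ZMod 23) → i = j) i j
            (Option.some.inj e)).symm
    have h20 : ∀ x, ι x (some (20 : ZMod 23)) = 0 := fun x => by
      simp only [ι, Finset.sum_apply, Pi.smul_apply, smul_eq_mul, GolayModule.pair, Pi.add_apply]
      refine Finset.sum_eq_zero fun j _ => ?_
      rw [Pi.single_eq_of_ne (by simp), Pi.single_eq_of_ne ?_]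
      · simp
      · intro e
        exact (by decide : ∀ j : Fin 13, (20 : ZMod 23) ≠ ((j : ℕ) : ZMod 23)) j (Option.some.inj e)
    have hinj : Function.Injective fun x => Φ (ι x) := by
      intro x y hxy
      have he : ι (x + y) = ι x + ι y := by
        simp only [ι, Pi.add_apply, add_smul, Finset.sum_add_distrib]
      have h1 : Φ (ι (x + y)) = 1 := by
        rw [he, hadd, show Φ (ι x) = Φ (ι y) from hxy]
        subst hV
        exact Subtype.ext (D'.sq_one (Φ (ι y)).2)
      rcases h _ (hev _) h1 with h0 | h0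
      · funext i
        have := congrFun h0 (some ((i : ℕ) : ZMod 23))
        rw [hval, Pi.zero_apply] at this
        exact CharTwo.add_eq_zero.1 this
      · have := congrFun h0 (some (20 : ZMod 23))
        rw [h20] at this
        exact absurd this (by simp)
    have hcard := Nat.card_le_card_of_injective _ hinj
    subst hV
    rw [D'.card] at hcard
    simp at hcard

/-- The words mapped to the short orbit are the duads modulo the code. -/
theorem VModel.eq_duad {D : SplitData G} (M : VModel D) {w : Wd} (hw : Ev w) {σ : ↥M24}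
    (h : M.phi w = D.el σ * D.t * (D.el σ)⁻¹) :
    ∃ a b : GolayPt, a ≠ b ∧ w + GolayModule.pair a b ∈ golayCode := by
  obtain ⟨a, b, hab, he⟩ := M.duad_all σ
  refine ⟨a, b, hab, (M.ker _ (ev_add hw (ev_pair a b))).1 ?_⟩
  rw [M.map_add, h, ← he, D.sq_one (M.mem _)]

end Cfsg.Agent.J4Type
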