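import Cfsg.Agent.EqLemmas
import Cfsg.Agent.Lib.J4Type.VModel
import Cfsg.Agent.Lib.Golay.M22Aut

/-!
A split local subgroup `V : M24` of type `2^11`: the centraliser of a member of the short orbit
lies in the normaliser of `V`, given that this holds for the centralisers of pairs consisting of
a member of the long orbit and one of the short orbit (helper43).

* `perm_eq_one_or` : an involution of M24 centralising another one and moving no invariant pair to a
  disjoint pair is trivial or equal to it;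
* `VModel.phi_four`, `VModel.nonz_duad`, `VModel.nonz_subgroup` : the words in coordinates;
* `SplitData.mem_of_conj` : conjugates, under the centraliser of `t`, of long elements which
  normalise `V` lie in `V`;
* `SplitData.centralizer_le_normalizer_of` : the centraliser of a short element normalises `V`.
-/

set_option autoImplicit false
set_option linter.unusedSectionVars false
set_option linter.style.haveILetI false

open scoped Pointwise

namespace Cfsg.Agent.J4Type

open Cfsg Cfsg.Agent.Golay MulAction Cfsg.Agent.GolayModule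

/-- A word of the code supported on fewer than eight points is zero. -/
theorem short_code_zero {w : Wd} (hw : w ∈ golayCode) (S : Finset GolayPt) (h8 : S.card < 8)
    (h : ∀ p ∉ S, w p = 0) : w = 0 := by
  have hs : support₂ w ⊆ S := fun p hp => by_contra fun hn => (Finset.mem_filter.1 hp).2 (h p hn)
  have h0 := eq_empty_of_indW_mem (S := support₂ w) (by rwa [indW_support₂])
    ((Finset.card_le_card hs).trans_lt h8)
  rw [← indW_support₂ w, h0]
  funext p
  simp [indW]

theorem pair_swap (a b : GolayPt) : pair a b = pair b a := add_comm _ _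

theorem pair_add_pair (a b c : GolayPt) : pair a b + pair a c = pair b c := by
  rw [pair, pair, add_add_add_comm, add_self_word, zero_add]; rfl

theorem pair_left {a b : GolayPt} (h : a ≠ b) : pair a b a = 1 := by
  simp [pair, h]

theorem pair_right {a b : GolayPt} (h : a ≠ b) : pair a b b = 1 := by
  rw [pair_swap]; exact pair_left h.symm

theorem pair_off {a b p : GolayPt} (h1 : p ≠ a) (h2 : p ≠ b) : pair a b p = 0 := by
  simp [pair, h1, h2]

theorem sh_pair (σ : ↥M24) (a b : GolayPt) :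
    sh σ (pair a b) = pair ((σ : Equiv.Perm GolayPt) a) ((σ : Equiv.Perm GolayPt) b) :=
  pair_apply_perm _ a b

/-- An involution commuting with `σ` which sends no `σ`-invariant pair to a disjoint one. -/
theorem perm_eq_one_or {σ τ : Equiv.Perm GolayPt} (hσM : σ ∈ M24) (hτM : τ ∈ M24) (hσ : σ * σ = 1)
    (hτ : τ * τ = 1) (hσ1 : σ ≠ 1) (hc : τ * σ = σ * τ)
    (H : ∀ a b, a ≠ b → (σ a = b ∨ (σ a = a ∧ σ b = b)) →
      τ a = a ∨ τ a = b ∨ τ b = a ∨ τ b = b) :
    τ = 1 ∨ τ = σ := by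
  classical
  haveI : Fact (Nat.Prime 2) := ⟨Nat.prime_two⟩
  have hσσ : ∀ p, σ (σ p) = p := fun p => by rw [← Equiv.Perm.mul_apply, hσ, Equiv.Perm.one_apply]
  have hττ : ∀ p, τ (τ p) = p := fun p => by rw [← Equiv.Perm.mul_apply, hτ, Equiv.Perm.one_apply]
  have hcp : ∀ p, τ (σ p) = σ (τ p) := fun p => by rw [← Equiv.Perm.mul_apply, hc, Equiv.Perm.mul_apply]
  have hmoved : ∀ p, σ p ≠ p → τ p = p ∨ τ p = σ p := by
    intro p hp
    rcases H p (σ p) hp.symm (Or.inl rfl) with h | h | h | h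
    · exact Or.inl h
    · exact Or.inr h
    · right
      rw [hcp] at h
      rw [← hσσ (τ p), h]
    · left
      rw [hcp] at h
      exact σ.injective h
  by_contra hcon
  push Not at hcon
  obtain ⟨hτ1, hτσ⟩ := hcon
  have hle : ∀ g : Equiv.Perm GolayPt, g ∈ M24 → g * g = 1 → g ≠ 1 →
      (g.supportᶜ).card < 9 := fun g hg h2 h1 =>
    card_fixed_lt_nine (p := 2) (by norm_num) hg (orderOf_eq_prime (by rw [pow_two, h2]) h1)
  have hσ8 := hle σ hσM hσ hσ1
  have hτ8 := hle τ hτM hτ hτ1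
  have hρ8 := hle (τ * σ) (mul_mem hτM hσM) (by
      rw [mul_assoc, ← mul_assoc σ τ σ, ← hc, mul_assoc τ σ σ, hσ, mul_one, hτ])
    (fun e => hτσ (by rw [eq_inv_of_mul_eq_one_left e, inv_eq_of_mul_eq_one_right hσ]))
  set P0 := σ.support.filter fun p => τ p = p with hP0
  set P1 := σ.support.filter fun p => ¬ τ p = p with hP1
  have hsum : P0.card + P1.card = σ.support.card :=
    Finset.card_filter_add_card_filter_not (s := σ.support) (fun p => τ p = p)
  have h0 : P0 ⊆ τ.supportᶜ := fun p hp => by simpa using (Finset.mem_filter.1 hp).2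
  have h1 : P1 ⊆ (τ * σ).supportᶜ := fun p hp => by
    obtain ⟨hp1, hp2⟩ := Finset.mem_filter.1 hp
    have h := (hmoved p (Equiv.Perm.mem_support.1 hp1)).resolve_left hp2
    simp [Equiv.Perm.mul_apply, hcp, h, hσσ]
  have hc0 := Finset.card_le_card h0
  have hc1 := Finset.card_le_card h1
  have hcard : (σ.supportᶜ).card + σ.support.card = 24 := by
    rw [Finset.card_compl, Nat.sub_add_cancel (Finset.card_le_univ _)]
    simp
  have hF : (σ.supportᶜ).card = 8 := by omega
  have hP0eq : P0 = τ.supportᶜ := Finset.eq_of_subset_of_card_le h0 (by omega)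
  -- every fixed point of `σ` is moved by `τ`
  have hmv : ∀ p, σ p = p → τ p ≠ p := fun p hp h => by
    have hm : p ∈ P0 := by rw [hP0eq]; simpa using h
    exact (Equiv.Perm.mem_support.1 (Finset.mem_filter.1 hm).1) hp
  obtain ⟨p, hp⟩ := Finset.card_pos.1 (by omega : 0 < (σ.supportᶜ).card)
  obtain ⟨q, hq, hq'⟩ := Finset.exists_mem_notMem_of_card_lt_card
    (show ({p, τ p} : Finset GolayPt).card < (σ.supportᶜ).card by
      have := Finset.card_le_two (a := p) (b := τ p)
      omega)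
  simp only [Finset.mem_insert, Finset.mem_singleton, not_or] at hq'
  have hp' : σ p = p := by simpa using hp
  have hq2 : σ q = q := by simpa using hq
  rcases H p q (Ne.symm hq'.1) (Or.inr ⟨hp', hq2⟩) with h | h | h | h
  · exact hmv p hp' h
  · exact hq'.2 h.symm
  · exact hq'.2 (by rw [← hττ q, h])
  · exact hmv q hq2 h

variable {G : Type*} [Group G] [Finite G] {D : SplitData G} (M : VModel D)

namespace VModel

variable {z : G} (hzs : IsConj z D.s) (hzt : ¬ IsConj z D.t)
include M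

theorem phi_duad_ne_one {a b : GolayPt} (h : a ≠ b) : M.phi (pair a b) ≠ 1 := by
  obtain ⟨σ, hσ⟩ := M.duad a b h
  rw [← hσ]
  exact fun e => D.t_ne_one (conj_eq_one_iff.1 e)

include hzt in
theorem phi_duad_nonz {a b : GolayPt} (h : a ≠ b) : ¬ IsConj z (M.phi (pair a b)) := by
  obtain ⟨σ, hσ⟩ := M.duad a b h
  rw [← hσ]
  exact fun e => hzt (e.trans (isConj_iff.2 ⟨D.el σ, rfl⟩ : IsConj D.t _).symm)

include hzs in
/-- Four points give a member of the class of `z`. -/
theorem phi_four {a b c d : GolayPt} (hab : a ≠ b) (hac : a ≠ c) (had : a ≠ d) (hbc : b ≠ c)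
    (hbd : b ≠ d) (hcd : c ≠ d) : IsConj z (M.phi (pair a b + pair c d)) := by
  classical
  set w : Wd := pair a b + pair c d with hw
  have hev : Ev w := ev_add (ev_pair a b) (ev_pair c d)
  have hwa : w a = 1 := by rw [hw, Pi.add_apply, pair_left hab, pair_off hac had, add_zero]
  rcases D.eq_one_or (M.mem w) with h | ⟨σ, h⟩ | ⟨σ, h⟩
  · exfalso
    have h0 := short_code_zero ((M.ker w hev).1 h) {a, b, c, d}
      (lt_of_le_of_lt Finset.card_le_four (by norm_num)) (fun p hp => by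
        simp only [Finset.mem_insert, Finset.mem_singleton, not_or] at hp
        rw [hw, Pi.add_apply, pair_off hp.1 hp.2.1, pair_off hp.2.2.1 hp.2.2.2, add_zero])
    rw [h0] at hwa
    simp at hwa
  · exfalso
    obtain ⟨e, f, -, hcode⟩ := M.eq_duad hev h.symm
    have hcard : ({a, b, c, d, e, f} : Finset GolayPt).card < 8 := by
      have h1 := Finset.card_insert_le a ({b, c, d, e, f} : Finset GolayPt)
      have h2 := Finset.card_insert_le b ({c, d, e, f} : Finset GolayPt)
      have h3 := Finset.card_le_four (a := c) (b := d) (c := e) (d := f)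
      omega
    have h0 := short_code_zero hcode {a, b, c, d, e, f} hcard (fun p hp => by
        simp only [Finset.mem_insert, Finset.mem_singleton, not_or] at hp
        rw [hw, Pi.add_apply, Pi.add_apply, pair_off hp.1 hp.2.1, pair_off hp.2.2.1 hp.2.2.2.1,
          pair_off hp.2.2.2.2.1 hp.2.2.2.2.2, add_zero, add_zero])
    have hsub : ({a, b, c, d} : Finset GolayPt) ⊆ {e, f} := by
      intro p hp
      by_contra hn
      simp only [Finset.mem_insert, Finset.mem_singleton, not_or] at hp hn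
      have h1 := congrFun h0 p
      rw [Pi.add_apply, pair_off hn.1 hn.2, add_zero, Pi.zero_apply] at h1
      have h2 : w p = 1 := by
        rcases hp with rfl | rfl | rfl | rfl
        · exact hwa
        · rw [hw, Pi.add_apply, pair_right hab, pair_off hbc hbd, add_zero]
        · rw [hw, Pi.add_apply, pair_off hac.symm hbc.symm, pair_left hcd, zero_add]
        · rw [hw, Pi.add_apply, pair_off had.symm hbd.symm, pair_right hcd, zero_add]
      rw [h1] at h2
      exact zero_ne_one h2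
    have h4 : ({a, b, c, d} : Finset GolayPt).card = 4 := by simp [hab, hac, had, hbc, hbd, hcd]
    have := (Finset.card_le_card hsub).trans Finset.card_le_two
    omega
  · exact h ▸ hzs.trans (isConj_iff.2 ⟨D.el σ, rfl⟩)

include hzs in
theorem nonz_duad {v : G} (hv : v ∈ D.V) (hv1 : v ≠ 1) (hvz : ¬ IsConj z v) :
    ∃ a b : GolayPt, a ≠ b ∧ M.phi (pair a b) = v := by
  rcases D.eq_one_or hv with h | ⟨σ, h⟩ | ⟨σ, h⟩
  · exact absurd h hv1
  · obtain ⟨a, b, hab, he⟩ := M.duad_all σ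
    exact ⟨a, b, hab, he.trans h⟩
  · exact absurd (h ▸ hzs.trans (isConj_iff.2 ⟨D.el σ, rfl⟩)) hvz

include hzs hzt in
/-- A subgroup free of the class of `z` containing a short element lies in a triangle. -/
theorem nonz_subgroup {t : G} (htV : t ∈ D.V) (ht1 : t ≠ 1) (htz : ¬ IsConj z t) (K : Subgroup G)
    (hKV : K ≤ D.V) (htK : t ∈ K) (hK : ∀ w ∈ K, ¬ IsConj z w) :
    ∃ p q r : GolayPt, p ≠ q ∧ p ≠ r ∧ q ≠ r ∧ M.phi (pair p q) = t ∧
      ∀ w ∈ K, w = 1 ∨ w = M.phi (pair p q) ∨ w = M.phi (pair p r) ∨ w = M.phi (pair q r) := by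
  classical
  obtain ⟨p, q, hpq, ht⟩ := M.nonz_duad hzs htV ht1 htz
  have hex : ∀ L : List GolayPt, L.length ≤ 3 → ∃ r, r ∉ L := fun L hL => by
    obtain ⟨r, -, hr⟩ := Finset.exists_mem_notMem_of_card_lt_card
      (show L.toFinset.card < (Finset.univ : Finset GolayPt).card by
        have := List.toFinset_card_le L
        rw [Finset.card_univ, show Fintype.card GolayPt = 24 from rfl]
        omega)
    exact ⟨r, fun h => hr (List.mem_toFinset.2 h)⟩
  -- two members of the subgroup other than `1` have pairs which meet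
  have hmeet : ∀ a b c d : GolayPt, a ≠ b → c ≠ d → M.phi (pair a b) ∈ K → M.phi (pair c d) ∈ K →
      a = c ∨ a = d ∨ b = c ∨ b = d := by
    intro a b c d hab hcd h1 h2
    by_contra h
    push Not at h
    refine hK _ (mul_mem h1 h2) ?_
    rw [← M.map_add]
    exact M.phi_four hzs hab h.1 h.2.1 h.2.2.1 h.2.2.2 hcd
  by_cases hall : ∀ w ∈ K, w = 1 ∨ w = t
  · obtain ⟨r, hr⟩ := hex [p, q] (by simp)
    simp only [List.mem_cons, List.not_mem_nil, or_false, not_or] at hr
    exact ⟨p, q, r, hpq, Ne.symm hr.1, Ne.symm hr.2, ht, fun w hw =>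
      (hall w hw).imp id fun e => Or.inl (e.trans ht.symm)⟩
  push Not at hall
  obtain ⟨w, hw, hw1, hwt⟩ := hall
  obtain ⟨a, b, hab, hwab⟩ := M.nonz_duad hzs (hKV hw) hw1 (hK w hw)
  -- the pair of `w` meets `{p, q}` in one point
  obtain ⟨r, hrp, hrq, hw'⟩ : ∃ r, r ≠ p ∧ r ≠ q ∧ (w = M.phi (pair p r) ∨ w = M.phi (pair q r)) := by
    rcases hmeet p q a b hpq hab (ht ▸ htK) (hwab ▸ hw) with rfl | rfl | rfl | rfl
    · exact ⟨b, hab.symm, fun e => hwt (by rw [← hwab, ← ht, e]), Or.inl hwab.symm⟩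
    · exact ⟨a, hab, fun e => hwt (by rw [← hwab, ← ht, e, pair_swap]),
        Or.inl (by rw [← hwab, pair_swap])⟩
    · exact ⟨b, fun e => hwt (by rw [← hwab, ← ht, e, pair_swap]), hab.symm, Or.inr hwab.symm⟩
    · exact ⟨a, fun e => hwt (by rw [← hwab, ← ht, e]), hab, Or.inr (by rw [← hwab, pair_swap])⟩
  have hprqr : M.phi (pair p r) ∈ K ∧ M.phi (pair q r) ∈ K := by
    rcases hw' with e | e
    · refine ⟨e ▸ hw, ?_⟩
      rw [← pair_add_pair p q r, M.map_add, ht, ← e]
      exact mul_mem htK hw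
    · refine ⟨?_, e ▸ hw⟩
      rw [← pair_add_pair q p r, M.map_add, pair_swap q p, ht, ← e]
      exact mul_mem htK hw
  refine ⟨p, q, r, hpq, hrp.symm, hrq.symm, ht, fun u hu => ?_⟩
  by_cases hu1 : u = 1
  · exact Or.inl hu1
  obtain ⟨c, d, hcd, rfl⟩ := M.nonz_duad hzs (hKV hu) hu1 (hK u hu)
  right
  have h1 := hmeet p q c d hpq hcd (ht ▸ htK) hu
  have h2 := hmeet p r c d hrp.symm hcd hprqr.1 hu
  have h3 := hmeet q r c d hrq.symm hcd hprqr.2 hu
  have h4 : ({c, d} : Finset GolayPt) = {p, q} ∨ ({c, d} : Finset GolayPt) = {p, r} ∨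
      ({c, d} : Finset GolayPt) = {q, r} := by
    simp only [Finset.ext_iff, Finset.mem_insert, Finset.mem_singleton]
    grind
  have key : ∀ x y : GolayPt, x ≠ y → ({c, d} : Finset GolayPt) = {x, y} →
      M.phi (pair c d) = M.phi (pair x y) := by
    intro x y hxy e
    have hc : c = x ∨ c = y := by
      have : c ∈ ({x, y} : Finset GolayPt) := e ▸ Finset.mem_insert_self c _
      simpa using this
    have hd : d = x ∨ d = y := by
      have : d ∈ ({x, y} : Finset GolayPt) := e ▸ Finset.mem_insert_of_mem (Finset.mem_singleton_self d)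
      simpa using this
    rcases hc with rfl | rfl <;> rcases hd with rfl | rfl <;> first
      | rfl
      | exact absurd rfl hcd
      | rw [pair_swap]
  exact h4.imp (key _ _ hpq) (Or.imp (key _ _ hrp.symm) (key _ _ hrq.symm))

include hzs hzt in
/-- An involution whose commutator with the fixed space of another avoids the class of `z`. -/
theorem linear_rigid {y b : G} (hy : y ∈ Subgroup.normalizer (D.V : Set G)) (hyV : y ∉ D.V)
    (hy2 : y * y = 1) (hb : b ∈ Subgroup.normalizer (D.V : Set G)) (hb2 : b * b = 1)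
    (hby : b * y = y * b)
    (H : ∀ v ∈ D.V, v * y = y * v → ¬ IsConj z (v * (b * v * b⁻¹))) :
    b ∈ D.V ∨ b * y ∈ D.V := by
  have hdec : ∀ n ∈ Subgroup.normalizer (D.V : Set G),
      ∃ σ : ↥M24, ∃ u ∈ D.V, n = u * D.el σ := fun n hn => by
    obtain ⟨u, hu, k, rfl⟩ := D.exists_mul hn
    exact ⟨D.e k, u, hu, by simp [SplitData.el]⟩
  obtain ⟨σ, u, hu, rfl⟩ := hdec y hy
  obtain ⟨τ, u', hu', rfl⟩ := hdec b hb
  have hconj : ∀ (ρ : ↥M24) (c v : G), c ∈ D.V → v ∈ D.V →
      c * D.el ρ * v * (c * D.el ρ)⁻¹ = D.el ρ * v * (D.el ρ)⁻¹ := by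
    intro ρ c v hc hv
    rw [show c * D.el ρ * v * (c * D.el ρ)⁻¹ = c * (D.el ρ * v * (D.el ρ)⁻¹) * c⁻¹ by group,
      D.comm hc (D.conj_mem (D.el_norm ρ) hv), mul_inv_cancel_right]
  have hmul : ∀ (ρ ρ' : ↥M24) (c c' : G), c ∈ D.V → c' ∈ D.V →
      ∃ c'' ∈ D.V, c * D.el ρ * (c' * D.el ρ') = c'' * D.el (ρ * ρ') := fun ρ ρ' c c' hc hc' =>
    ⟨c * (D.el ρ * c' * (D.el ρ)⁻¹), mul_mem hc (D.conj_mem (D.el_norm ρ) hc'), by rw [D.el_mul]; group⟩
  have hzero : ∀ (ρ : ↥M24) (c : G), c ∈ D.V → c * D.el ρ ∈ D.V → ρ = 1 := fun ρ c hc h => by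
    have h1 : D.el ρ ∈ D.K ⊓ D.V := ⟨D.el_mem ρ, (Subgroup.mul_mem_cancel_left _ hc).1 h⟩
    rw [D.inf, Subgroup.mem_bot] at h1
    exact D.e.symm.map_eq_one_iff.1 (Subtype.ext h1)
  have hone : ∀ (ρ : ↥M24) (c : G), c ∈ D.V → ρ = 1 → c * D.el ρ ∈ D.V := fun ρ c hc h => by
    subst h; simpa [SplitData.el] using hc
  have hσ2 : σ * σ = 1 := by
    obtain ⟨c, hc, he⟩ := hmul σ σ u u hu hu
    exact hzero _ c hc (by rw [← he, hy2]; exact one_mem _)
  have hτ2 : τ * τ = 1 := by
    obtain ⟨c, hc, he⟩ := hmul τ τ u' u' hu' hu'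
    exact hzero _ c hc (by rw [← he, hb2]; exact one_mem _)
  have hcomm : τ * σ = σ * τ := by
    obtain ⟨c, hc, he⟩ := hmul τ σ u' u hu' hu
    obtain ⟨c', hc', he'⟩ := hmul σ τ u u' hu hu'
    have h : c * D.el (τ * σ) = c' * D.el (σ * τ) := by rw [← he, ← he', hby]
    have h2 : c'⁻¹ * c * D.el (τ * σ * (σ * τ)⁻¹) ∈ D.V := by
      rw [D.el_mul (τ * σ), D.el_inv, ← mul_assoc, mul_assoc c'⁻¹ c, h]
      simp
    exact mul_inv_eq_one.1 (hzero _ _ (mul_mem (inv_mem hc') hc) h2)
  have hval : ∀ ρ ρ' : ↥M24, ρ = ρ' → (ρ : Equiv.Perm GolayPt) = ρ' := fun _ _ h => congrArg _ h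
  rcases perm_eq_one_or σ.2 τ.2 (by simpa using hval _ _ hσ2) (by simpa using hval _ _ hτ2)
      (fun e => hyV (hone σ u hu (Subtype.ext e))) (by simpa using hval _ _ hcomm) (fun a b hab hinv => by
        by_contra hne
        push Not at hne
        obtain ⟨h1, h2, h3, h4⟩ := hne
        have hv : M.phi (pair a b) ∈ D.V := M.mem _
        have hfix : D.el σ * M.phi (pair a b) * (D.el σ)⁻¹ = M.phi (pair a b) := by
          rw [M.equiv σ _ (ev_pair a b), sh_pair]
          rcases hinv with e | ⟨e1, e2⟩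
          · have e' : (σ : Equiv.Perm GolayPt) b = a := by
              rw [← e, ← Equiv.Perm.mul_apply, ← Subgroup.coe_mul, hσ2]; rfl
            rw [e, e', pair_swap]
          · rw [e1, e2]
        refine H _ hv ?_ ?_
        · exact (mul_inv_eq_iff_eq_mul.1 ((hconj σ u _ hu hv).trans hfix)).symm
        · rw [hconj τ u' _ hu' hv, M.equiv τ _ (ev_pair a b), sh_pair, ← M.map_add]
          refine M.phi_four hzs hab (Ne.symm h1) (Ne.symm h3) (Ne.symm h2) (Ne.symm h4) ?_
          exact fun e => hab ((τ : Equiv.Perm GolayPt).injective e))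
    with e | e
  · exact Or.inl (hone τ u' hu' (Subtype.ext e))
  · obtain ⟨c, hc, he⟩ := hmul τ σ u' u hu' hu
    exact Or.inr (he ▸ hone _ c hc (by rw [show τ = σ from Subtype.ext e, hσ2]))

end VModel

/-- An involution fixes at least the square root of an elementary abelian group it normalises. -/
theorem natCard_le_sq_fixed {W : Subgroup G} (hc : ∀ x ∈ W, ∀ y ∈ W, x * y = y * x)
    (hsq : ∀ x ∈ W, x * x = 1) {a : G} (ha : a ∈ Subgroup.normalizer (W : Set G)) (ha2 : a * a = 1) :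
    Nat.card ↥W ≤ Nat.card ↥(W ⊓ Subgroup.centralizer ({a} : Set G)) ^ 2 := by
  have hmem : ∀ x ∈ W, a * x * a⁻¹ ∈ W := fun x hx => (Subgroup.mem_normalizer_iff.1 ha x).1 hx
  let f : ↥W →* ↥W :=
    { toFun := fun x => ⟨x * (a * x * a⁻¹), mul_mem x.2 (hmem x x.2)⟩
      map_one' := Subtype.ext (by simp)
      map_mul' := fun x y => Subtype.ext (by
        show (x : G) * y * (a * ((x : G) * y) * a⁻¹) = (x : G) * (a * x * a⁻¹) * (y * (a * y * a⁻¹))
        rw [show a * ((x : G) * y) * a⁻¹ = (a * x * a⁻¹) * (a * y * a⁻¹) by group,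
          mul_assoc (x : G) y, ← mul_assoc (y : G), hc y y.2 _ (hmem x x.2)]
        group) }
  set C := W ⊓ Subgroup.centralizer ({a} : Set G)
  have hker : Nat.card f.ker ≤ Nat.card ↥C := by
    refine Nat.card_le_card_of_injective (fun x : f.ker => (⟨((x : ↥W) : G), x.1.2, ?_⟩ : ↥C))
      fun x y h => Subtype.ext (Subtype.ext (congrArg Subtype.val h :))
    have h : ((x : ↥W) : G) * (a * (x : ↥W) * a⁻¹) = 1 := congrArg Subtype.val x.2
    rw [← eq_inv_iff_mul_eq_one, eq_comm] at h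
    have h2 : a * ((x : ↥W) : G) * a⁻¹ = (x : ↥W) := by
      have := inv_eq_iff_eq_inv.1 h
      rw [this, inv_eq_of_mul_eq_one_right (hsq _ x.1.2)]
    exact Subgroup.mem_centralizer_singleton_iff.2 (mul_inv_eq_iff_eq_mul.1 h2).symm
  have hran : Nat.card f.range ≤ Nat.card ↥C := by
    refine Nat.card_le_card_of_injective (fun x : f.range => (⟨((x : ↥W) : G), x.1.2, ?_⟩ : ↥C))
      fun x y h => Subtype.ext (Subtype.ext (congrArg Subtype.val h :))
    obtain ⟨v, hv⟩ := x.2
    have hv' : (v : G) * (a * v * a⁻¹) = (x : ↥W) := congrArg Subtype.val hv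
    refine Subgroup.mem_centralizer_singleton_iff.2 (mul_inv_eq_iff_eq_mul.1 ?_).symm
    rw [← hv']
    have hai : a⁻¹ = a := inv_eq_of_mul_eq_one_right ha2
    calc a * ((v : G) * (a * v * a⁻¹)) * a⁻¹ = (a * v * a⁻¹) * ((a * a) * v * (a⁻¹ * a⁻¹)) := by group
      _ = (a * v * a⁻¹) * v := by rw [hai, ha2, one_mul, mul_one]
      _ = _ := hc _ (hmem v v.2) _ v.2
  have h := f.ker.index_mul_card
  rw [Subgroup.index_ker] at h
  rw [← h, pow_two]
  exact Nat.mul_le_mul hran hker

/-- Products of two involutions: the translates of `x` are conjugate to `x` or to `y`. -/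
theorem mul_pow_two_mul {X : Type*} [Group X] {x y : X} (hx : x * x = 1) (hy : y * y = 1) (j : ℕ) :
    x * (x * y) ^ (2 * j) = ((x * y) ^ j)⁻¹ * x * (x * y) ^ j ∧
      x * (x * y) ^ (2 * j + 1) = ((x * y) ^ j)⁻¹ * y * (x * y) ^ j := by
  set w := x * y with hw
  have hxw : x * w * x⁻¹ = w⁻¹ := by
    rw [hw, mul_inv_rev, inv_eq_of_mul_eq_one_right hx, inv_eq_of_mul_eq_one_right hy, ← mul_assoc, hx,
      one_mul]
  have hpow : (w ^ j)⁻¹ * x = x * w ^ j := by
    rw [← inv_pow, ← hxw, conj_pow, inv_mul_cancel_right]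
  have hy' : y = x * w := by rw [hw, ← mul_assoc, hx, one_mul]
  constructor
  · rw [hpow, two_mul, pow_add, mul_assoc]
  · rw [hy', ← mul_assoc, hpow, mul_assoc x (w ^ j) w, mul_assoc x, ← pow_succ, ← pow_add,
      show j + 1 + j = 2 * j + 1 by omega]

namespace SplitData

variable (D) {z : G} (hzs : IsConj z D.s) (hzt : ¬ IsConj z D.t)
  (huniq : ∀ W : Subgroup G, W ≤ Subgroup.normalizer (D.V : Set G) → IsElementaryAbelian 2 W →
    Nat.card ↥W = 2 ^ 11 → W = D.V)
  (hstep : ∀ x ∈ D.V, IsConj z x → ∀ u ∈ D.V, u ≠ 1 → ¬ IsConj z u → ∀ g : G, g * x = x * g →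
    g * u = u * g → g ∈ Subgroup.normalizer (D.V : Set G))

include huniq hstep in
/-- The intersection with another component avoids the class of `z`. -/
theorem inter_nonz {t m : G} (ht : t ∈ D.V) (ht1 : t ≠ 1) (htz : ¬ IsConj z t) (hm : m * t = t * m)
    (hmN : m ∉ Subgroup.normalizer (D.V : Set G)) {c : G} (hc : c ∈ D.V) (hmc : m * c * m⁻¹ ∈ D.V) :
    ¬ IsConj z c := by
  intro hcz
  apply hmN
  have hmt : m * t * m⁻¹ = t := mul_inv_eq_iff_eq_mul.2 hm
  have hle : D.V.map (MulAut.conj m).toMonoidHom ≤ Subgroup.normalizer (D.V : Set G) := by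
    rintro _ ⟨v, hv, rfl⟩
    refine hstep _ hmc (hcz.trans (isConj_iff.2 ⟨m, rfl⟩)) t ht ht1 htz _ ?_ ?_
    · show m * v * m⁻¹ * (m * c * m⁻¹) = m * c * m⁻¹ * (m * v * m⁻¹)
      rw [show m * v * m⁻¹ * (m * c * m⁻¹) = m * (v * c) * m⁻¹ by group, D.comm hv hc]
      group
    · show m * v * m⁻¹ * t = t * (m * v * m⁻¹)
      nth_rewrite 1 [← hmt]
      rw [show m * v * m⁻¹ * (m * t * m⁻¹) = m * (v * t) * m⁻¹ by group, D.comm hv ht,
        show m * (t * v) * m⁻¹ = m * t * m⁻¹ * (m * v * m⁻¹) by group, hmt]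
  have hel : IsElementaryAbelian 2 (D.V.map (MulAut.conj m).toMonoidHom) := by
    refine ⟨⟨⟨?_⟩⟩, ?_⟩
    · rintro ⟨_, a, ha, rfl⟩ ⟨_, b, hb, rfl⟩
      refine Subtype.ext ?_
      show (MulAut.conj m) a * (MulAut.conj m) b = (MulAut.conj m) b * (MulAut.conj m) a
      rw [← map_mul, ← map_mul, D.comm ha hb]
    · rintro _ ⟨a, ha, rfl⟩
      rw [← map_pow, pow_two, D.sq_one ha, map_one]
  have heq := huniq _ hle hel (by
    rw [← Nat.card_congr (Subgroup.equivMapOfInjective _ _ (MulAut.conj m).injective).toEquiv, D.card])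
  refine Subgroup.mem_normalizer_fintype fun v hv => ?_
  rw [SetLike.mem_coe, ← heq]
  exact ⟨v, hv, rfl⟩

include hzs hzt huniq hstep in
/-- Conjugates of long elements normalising `V` lie in `V`. -/
theorem mem_of_conj {t m x : G} (ht : t ∈ D.V) (ht1 : t ≠ 1) (htz : ¬ IsConj z t)
    (hm : m * t = t * m) (hx : x ∈ D.V) (hxz : IsConj z x)
    (hy : m * x * m⁻¹ ∈ Subgroup.normalizer (D.V : Set G)) : m * x * m⁻¹ ∈ D.V := by
  classical
  obtain ⟨M⟩ := exists_vModel D
  by_contra hyV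
  set y := m * x * m⁻¹ with hy_def
  have hmN : m ∉ Subgroup.normalizer (D.V : Set G) := fun h => hyV (D.conj_mem h hx)
  have hyz : IsConj z y := hxz.trans (isConj_iff.2 ⟨m, rfl⟩)
  have hy2 : y * y = 1 := by rw [hy_def, show m * x * m⁻¹ * (m * x * m⁻¹) = m * (x * x) * m⁻¹ by group,
    D.sq_one hx, mul_one, mul_inv_cancel]
  have hmt : m * t * m⁻¹ = t := mul_inv_eq_iff_eq_mul.2 hm
  have hmti : m⁻¹ * t * m = t := by
    conv_lhs => rw [← hmt]
    group
  have hyt : y * t = t * y := by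
    rw [hy_def]; nth_rewrite 1 [← hmt]
    rw [show m * x * m⁻¹ * (m * t * m⁻¹) = m * (x * t) * m⁻¹ by group, D.comm hx ht,
      show m * (t * x) * m⁻¹ = m * t * m⁻¹ * (m * x * m⁻¹) by group, hmt]
  -- members of the fixed space of `y` normalise the other component
  have hpull : ∀ v ∈ D.V, v * y = y * v → m⁻¹ * v * m ∈ Subgroup.normalizer (D.V : Set G) := by
    intro v hv hvy
    refine hstep x hx hxz t ht ht1 htz _ ?_ ?_
    · rw [show m⁻¹ * v * m * x = m⁻¹ * (v * (m * x * m⁻¹)) * m by group, ← hy_def, hvy, hy_def]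
      group
    · nth_rewrite 1 [← hmti]
      rw [show m⁻¹ * v * m * (m⁻¹ * t * m) = m⁻¹ * (v * t) * m by group, D.comm hv ht,
        show m⁻¹ * (t * v) * m = m⁻¹ * t * m * (m⁻¹ * v * m) by group, hmti]
  have hnz : ∀ c ∈ D.V, m * c * m⁻¹ ∈ D.V → ¬ IsConj z c := fun c hc hmc =>
    D.inter_nonz huniq hstep ht ht1 htz hm hmN hc hmc
  -- a long element in the fixed space
  set A := D.V ⊓ Subgroup.centralizer ({y} : Set G) with hA
  have hA46 : Nat.card ↥D.V ≤ Nat.card ↥A ^ 2 :=
    natCard_le_sq_fixed (fun _ h _ h' => D.comm h h') (fun _ h => D.sq_one h) hy hy2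
  have hsmall : ∀ K : Subgroup G, K ≤ D.V → t ∈ K → (∀ w ∈ K, ¬ IsConj z w) → Nat.card ↥K ≤ 4 := by
    intro K hK htK hKz
    obtain ⟨p, q, r, -, -, -, -, hall⟩ := M.nonz_subgroup hzs hzt ht ht1 htz K hK htK hKz
    rw [← SetLike.coe_sort_coe, Nat.card_coe_set_eq]
    refine (Set.ncard_le_ncard (t := ({1, M.phi (pair p q), M.phi (pair p r), M.phi (pair q r)} :
      Set G)) (fun w hw => by simpa using hall w hw) (Set.toFinite _)).trans ?_
    refine (Set.ncard_insert_le _ _).trans ?_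
    have h1 := Set.ncard_insert_le (M.phi (pair p q)) ({M.phi (pair p r), M.phi (pair q r)} : Set G)
    have h2 := Set.ncard_insert_le (M.phi (pair p r)) ({M.phi (pair q r)} : Set G)
    rw [Set.ncard_singleton] at h2
    omega
  obtain ⟨a, haA, haz⟩ : ∃ a ∈ A, IsConj z a := by
    by_contra hcon
    push Not at hcon
    have h4 := hsmall A inf_le_left
      ⟨ht, Subgroup.mem_centralizer_singleton_iff.2 hyt.symm⟩ hcon
    have h16 := Nat.pow_le_pow_left h4 2
    rw [D.card] at hA46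
    omega
  obtain ⟨haV, hay⟩ := haA
  replace hay : a * y = y * a := Subgroup.mem_centralizer_singleton_iff.1 hay
  set a' := m⁻¹ * a * m with ha'
  have ha'N : a' ∈ Subgroup.normalizer (D.V : Set G) := hpull a haV hay
  set B := D.V ⊓ Subgroup.centralizer ({a'} : Set G) with hB
  have hB46 : Nat.card ↥D.V ≤ Nat.card ↥B ^ 2 :=
    natCard_le_sq_fixed (fun _ h _ h' => D.comm h h') (fun _ h => D.sq_one h) ha'N (by
      rw [ha', show m⁻¹ * a * m * (m⁻¹ * a * m) = m⁻¹ * (a * a) * m by group, D.sq_one haV, mul_one,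
        inv_mul_cancel])
  -- its members go into `V` up to `x`
  set K := D.V ⊓ D.V.comap (MulAut.conj m).toMonoidHom with hK
  have hmemK : ∀ c, c ∈ K ↔ c ∈ D.V ∧ m * c * m⁻¹ ∈ D.V := fun c => Iff.rfl
  have htK : t ∈ K := (hmemK t).2 ⟨ht, hmt.symm ▸ ht⟩
  have hKz : ∀ w ∈ K, ¬ IsConj z w := fun w hw =>
    hnz w ((hmemK w).1 hw).1 ((hmemK w).1 hw).2
  have hK4 := hsmall K inf_le_left htK hKz
  have hsub : (B : Set G) ⊆ (K : Set G) ∪ (fun c => c * x) '' (K : Set G) := by
    rintro b' ⟨hb', hb'a⟩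
    replace hb'a : b' * a' = a' * b' := Subgroup.mem_centralizer_singleton_iff.1 hb'a
    set b := m * b' * m⁻¹ with hb_def
    have hba : b * a = a * b := by
      rw [hb_def, show m * b' * m⁻¹ * a = m * (b' * (m⁻¹ * a * m)) * m⁻¹ by group, ← ha', hb'a, ha']
      group
    have hbt : b * t = t * b := by
      nth_rewrite 1 [← hmt]
      rw [hb_def, show m * b' * m⁻¹ * (m * t * m⁻¹) = m * (b' * t) * m⁻¹ by group, D.comm hb' ht,
        show m * (t * b') * m⁻¹ = m * t * m⁻¹ * (m * b' * m⁻¹) by group, hmt]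
    have hbN := hstep a haV haz t ht ht1 htz b hba hbt
    have hb2 : b * b = 1 := by
      rw [hb_def, show m * b' * m⁻¹ * (m * b' * m⁻¹) = m * (b' * b') * m⁻¹ by group, D.sq_one hb',
        mul_one, mul_inv_cancel]
    have hby : b * y = y * b := by
      rw [hb_def, hy_def, show m * b' * m⁻¹ * (m * x * m⁻¹) = m * (b' * x) * m⁻¹ by group, D.comm hb' hx]
      group
    rcases M.linear_rigid hzs hzt hy hyV hy2 hbN hb2 hby (fun v hv hvy hz => by
        have hv2 : v⁻¹ = v := D.inv_eq hv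
        set c := m⁻¹ * (v * (b * v * b⁻¹)) * m with hc
        have hcV : c ∈ D.V := by
          have h1 : c = (m⁻¹ * v * m) * b' * (m⁻¹ * v * m)⁻¹ * b'⁻¹ := by
            rw [hc, hb_def]
            conv_rhs => rw [show (m⁻¹ * v * m)⁻¹ = m⁻¹ * v⁻¹ * m by group, hv2]
            group
          rw [h1]
          exact mul_mem (D.conj_mem (hpull v hv hvy) hb') (inv_mem hb')
        have hmc : m * c * m⁻¹ = v * (b * v * b⁻¹) := by rw [hc]; group
        refine hnz c hcV (hmc ▸ mul_mem hv (D.conj_mem hbN hv)) (hz.trans ?_)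
        exact (isConj_iff.2 ⟨m, hmc⟩).symm) with h | h
    · exact Or.inl ((hmemK b').2 ⟨hb', h⟩)
    · refine Or.inr ⟨b' * x, (hmemK _).2 ⟨mul_mem hb' hx, ?_⟩, ?_⟩
      · rw [show m * (b' * x) * m⁻¹ = b * y by rw [hb_def, hy_def]; group]; exact h
      · show b' * x * x = b'
        rw [mul_assoc, D.sq_one hx, mul_one]
  have hB8 : Nat.card ↥B ≤ 8 := by
    rw [← SetLike.coe_sort_coe, Nat.card_coe_set_eq]
    rw [← SetLike.coe_sort_coe, Nat.card_coe_set_eq] at hK4
    refine (Set.ncard_le_ncard hsub (Set.toFinite _)).trans ((Set.ncard_union_le _ _).trans ?_)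
    have := Set.ncard_image_le (f := fun c => c * x) (Set.toFinite (K : Set G))
    omega
  have h64 := Nat.pow_le_pow_left hB8 2
  rw [D.card] at hB46
  omega

include hzs hzt huniq hstep in
/-- **The centraliser of a short element normalises `V`.** -/
theorem centralizer_le_normalizer_of {t : G} (ht : t ∈ D.V) (ht1 : t ≠ 1) (htz : ¬ IsConj z t) :
    Subgroup.centralizer ({t} : Set G) ≤ Subgroup.normalizer (D.V : Set G) := by
  classical
  obtain ⟨M⟩ := exists_vModel D
  intro m hm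
  rw [Subgroup.mem_centralizer_singleton_iff] at hm
  by_contra hmN
  set C := Subgroup.centralizer ({t} : Set G) with hC
  have hmem : ∀ g, g ∈ C ↔ g * t = t * g := fun g => Subgroup.mem_centralizer_singleton_iff
  have hmC : m ∈ C := (hmem m).2 hm
  have hmt : m * t * m⁻¹ = t := mul_inv_eq_iff_eq_mul.2 hm
  -- the intersection, pulled back
  set K := D.V ⊓ D.V.comap (MulAut.conj m).toMonoidHom with hK
  have hKz : ∀ w ∈ K, ¬ IsConj z w := fun w hw =>
    D.inter_nonz huniq hstep ht ht1 htz hm hmN hw.1 hw.2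
  obtain ⟨p, q, r, hpq, hpr, hqr, htpq, hall⟩ :=
    M.nonz_subgroup hzs hzt ht ht1 htz K inf_le_left ⟨ht, show m * t * m⁻¹ ∈ D.V from hmt.symm ▸ ht⟩ hKz
  obtain ⟨s, hs⟩ : ∃ s, s ∉ ({p, q, r} : Finset GolayPt) := by
    obtain ⟨s, -, hs⟩ := Finset.exists_mem_notMem_of_card_lt_card
      (show ({p, q, r} : Finset GolayPt).card < (Finset.univ : Finset GolayPt).card from
        lt_of_le_of_lt Finset.card_le_three (by
          rw [Finset.card_univ, show Fintype.card GolayPt = 24 from rfl]; norm_num))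
    exact ⟨s, hs⟩
  obtain ⟨u, hu⟩ : ∃ u, u ∉ ({p, q, r, s} : Finset GolayPt) := by
    obtain ⟨u, -, hu⟩ := Finset.exists_mem_notMem_of_card_lt_card
      (show ({p, q, r, s} : Finset GolayPt).card < (Finset.univ : Finset GolayPt).card from
        lt_of_le_of_lt Finset.card_le_four (by
          rw [Finset.card_univ, show Fintype.card GolayPt = 24 from rfl]; norm_num))
    exact ⟨u, hu⟩
  simp only [Finset.mem_insert, Finset.mem_singleton, not_or] at hs hu
  obtain ⟨hsp, hsq, hsr⟩ := hs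
  obtain ⟨hup, huq, hur, hus⟩ := hu
  -- `x` with `x * t` long, `y0` with `y0 * w` short
  set x := M.phi (pair p r + pair s u) with hx_def
  set y0 := M.phi (pair p q + pair r s) with hy_def
  have hxV : x ∈ D.V := M.mem _
  have hyV : y0 ∈ D.V := M.mem _
  have hxz : IsConj z x :=
    M.phi_four hzs hpr (Ne.symm hsp) (Ne.symm hup) (Ne.symm hsr) (Ne.symm hur) (Ne.symm hus)
  have hyz : IsConj z y0 := M.phi_four hzs hpq hpr (Ne.symm hsp) hqr (Ne.symm hsq) (Ne.symm hsr)
  have hxt : IsConj z (x * t) := by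
    rw [hx_def, ← htpq, ← M.map_add,
      show pair p r + pair s u + pair p q = pair r q + pair s u by rw [← pair_add_pair p r q]; abel]
    exact M.phi_four hzs hqr.symm (Ne.symm hsr) (Ne.symm hur) (Ne.symm hsq) (Ne.symm huq) (Ne.symm hus)
  have hyw : ∀ w ∈ K, w ≠ 1 → ¬ IsConj z (y0 * w) := by
    intro w hw hw1
    rcases hall w hw with e | e | e | e
    · exact absurd e hw1
    · rw [e, hy_def, ← M.map_add,
        show pair p q + pair r s + pair p q = pair r s by rw [add_right_comm, add_self_word, zero_add]]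
      exact M.phi_duad_nonz hzt (Ne.symm hsr)
    · rw [e, hy_def, ← M.map_add,
        show pair p q + pair r s + pair p r = pair q s by
          rw [add_right_comm, pair_add_pair, pair_swap q r, pair_add_pair]]
      exact M.phi_duad_nonz hzt (Ne.symm hsq)
    · rw [e, hy_def, ← M.map_add,
        show pair p q + pair r s + pair q r = pair p s by
          rw [add_right_comm, pair_swap p q, pair_add_pair, pair_swap p r, pair_add_pair]]
      exact M.phi_duad_nonz hzt (Ne.symm hsp)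
  set y := m * y0 * m⁻¹ with hym
  have hyC : y ∈ C := mul_mem (mul_mem hmC ((hmem _).2 (D.comm hyV ht))) (inv_mem hmC)
  have hxC : x ∈ C := (hmem _).2 (D.comm hxV ht)
  have hx2 : x * x = 1 := D.sq_one hxV
  have hy2 : y * y = 1 := by
    rw [hym, show m * y0 * m⁻¹ * (m * y0 * m⁻¹) = m * (y0 * y0) * m⁻¹ by group, D.sq_one hyV, mul_one,
      mul_inv_cancel]
  -- they are not conjugate in the centraliser
  have hncj : ∀ g ∈ C, g * x * g⁻¹ ≠ y := by
    intro g hg he
    have hgt : g * t * g⁻¹ = t := mul_inv_eq_iff_eq_mul.2 ((hmem g).1 hg)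
    refine hyw t ⟨ht, show m * t * m⁻¹ ∈ D.V from hmt.symm ▸ ht⟩ ht1 (hxt.trans ?_)
    refine isConj_iff.2 ⟨m⁻¹ * g, ?_⟩
    calc m⁻¹ * g * (x * t) * (m⁻¹ * g)⁻¹ = m⁻¹ * ((g * x * g⁻¹) * (g * t * g⁻¹)) * m := by group
      _ = m⁻¹ * (y * (m * t * m⁻¹)) * m := by rw [he, hgt, hmt]
      _ = y0 * t := by rw [hym]; group
  set w := x * y with hw_def
  have hwC : w ∈ C := mul_mem hxC hyC
  have hn := orderOf_pos w
  rcases Nat.even_or_odd (orderOf w) with ⟨k, hk⟩ | ⟨k, hk⟩
  swap
  · obtain ⟨h1, -⟩ := mul_pow_two_mul hx2 hy2 (k + 1)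
    rw [← hw_def, show 2 * (k + 1) = orderOf w + 1 by omega, pow_succ, pow_orderOf_eq_one, one_mul,
      hw_def, ← mul_assoc, hx2, one_mul] at h1
    refine hncj ((w ^ (k + 1))⁻¹) (inv_mem (pow_mem hwC _)) ?_
    rw [inv_inv]
    exact h1.symm
  set i := w ^ k with hi_def
  have hi2 : i * i = 1 := by rw [hi_def, ← pow_add, ← hk, pow_orderOf_eq_one]
  have hi1 : i ≠ 1 := pow_ne_one_of_lt_orderOf (by omega) (by omega)
  have hiC : i ∈ C := pow_mem hwC k
  have hxwx : x * w * x⁻¹ = w⁻¹ := by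
    rw [hw_def, mul_inv_rev, inv_eq_of_mul_eq_one_right hx2, inv_eq_of_mul_eq_one_right hy2, ← mul_assoc,
      hx2, one_mul]
  have hxi : i * x = x * i := by
    have h : x * i * x⁻¹ = i := by
      rw [hi_def, ← conj_pow, hxwx, inv_pow, ← hi_def, inv_eq_of_mul_eq_one_right hi2]
    exact (mul_inv_eq_iff_eq_mul.1 h).symm
  have hyi : i * y = y * i := by
    have h : y = x * w := by rw [hw_def, ← mul_assoc, hx2, one_mul]
    have hwi : i * w = w * i := (Commute.pow_self w k).eq
    rw [h, ← mul_assoc, hxi, mul_assoc, hwi, ← mul_assoc]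
  -- products with the central involution are long conjugates
  have hlong : ∀ g ∈ C, ∀ u v : G, u * u = 1 → v * v = 1 → (g = (u * v) ^ k) → u ∈ C → v ∈ C →
      ∃ f ∈ C, u * g = f * u * f⁻¹ ∨ u * g = f * v * f⁻¹ := by
    intro g _ u v hu hv hg huC hvC
    subst hg
    rcases Nat.even_or_odd' k with ⟨j, rfl | rfl⟩
    · exact ⟨((u * v) ^ j)⁻¹, inv_mem (pow_mem (mul_mem huC hvC) _), Or.inl (by
        rw [(mul_pow_two_mul hu hv j).1, inv_inv])⟩
    · exact ⟨((u * v) ^ j)⁻¹, inv_mem (pow_mem (mul_mem huC hvC) _), Or.inr (by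
        rw [(mul_pow_two_mul hu hv j).2, inv_inv])⟩
  have hinV : ∀ g, g ∈ C → g ∈ Subgroup.normalizer (D.V : Set G) →
      (∃ f ∈ C, g = f * x * f⁻¹ ∨ g = f * y * f⁻¹) → g ∈ D.V := by
    rintro g - hg ⟨f, hf, rfl | rfl⟩
    · exact D.mem_of_conj hzs hzt huniq hstep ht ht1 htz ((hmem f).1 hf) hxV hxz hg
    · rw [hym, show f * (m * y0 * m⁻¹) * f⁻¹ = f * m * y0 * (f * m)⁻¹ by group] at hg ⊢
      exact D.mem_of_conj hzs hzt huniq hstep ht ht1 htz ((hmem _).1 (mul_mem hf hmC)) hyV hyz hg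
  -- `i` lies in `V`
  have hiN : i ∈ Subgroup.normalizer (D.V : Set G) :=
    hstep x hxV hxz t ht ht1 htz i hxi ((hmem i).1 hiC)
  have hiV : i ∈ D.V := by
    have h := hinV (x * i) (mul_mem hxC hiC)
      (mul_mem (Subgroup.le_normalizer hxV) hiN) (hlong i hiC x y hx2 hy2 hi_def hxC hyC)
    exact (Subgroup.mul_mem_cancel_left _ hxV).1 h
  -- and in the other component
  have hi' : i = (y * x) ^ k := by
    rw [show y * x = w⁻¹ by rw [hw_def, mul_inv_rev, inv_eq_of_mul_eq_one_right hx2,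
      inv_eq_of_mul_eq_one_right hy2], inv_pow, ← hi_def, inv_eq_of_mul_eq_one_right hi2]
  obtain ⟨f, hf, hfe⟩ := hlong i hiC y x hy2 hx2 hi' hyC hxC
  set i' := m⁻¹ * i * m with hi'_def
  have hi'N : i' ∈ Subgroup.normalizer (D.V : Set G) := by
    refine hstep y0 hyV hyz t ht ht1 htz i' ?_ ?_
    · rw [hi'_def, show m⁻¹ * i * m * y0 = m⁻¹ * (i * (m * y0 * m⁻¹)) * m by group, ← hym, hyi, hym]
      group
    · exact (hmem i').1 (mul_mem (mul_mem (inv_mem hmC) hiC) hmC)
  have hyi' : y0 * i' = m⁻¹ * (y * i) * m := by rw [hi'_def, hym]; group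
  have hi'V : i' ∈ D.V := by
    have h := hinV (y0 * i') (by rw [hyi']; exact mul_mem (mul_mem (inv_mem hmC) (mul_mem hyC hiC)) hmC)
      (mul_mem (Subgroup.le_normalizer hyV) hi'N) ⟨m⁻¹ * f, mul_mem (inv_mem hmC) hf, ?_⟩
    · exact (Subgroup.mul_mem_cancel_left _ hyV).1 h
    rcases hfe with e | e
    · right; rw [hyi', e]; group
    · left; rw [hyi', e]; group
  refine hyw i' ⟨hi'V, show m * i' * m⁻¹ ∈ D.V from ?_⟩ ?_ ?_
  · rw [show m * i' * m⁻¹ = i by rw [hi'_def]; group]; exact hiV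
  · intro e
    exact hi1 (by
      rw [show i = m * i' * m⁻¹ by rw [hi'_def]; group, e, mul_one, mul_inv_cancel])
  · rw [hyi']
    refine IsConj.trans ?_ (isConj_iff.2 ⟨m⁻¹, by group⟩ : IsConj (y * i) (m⁻¹ * (y * i) * m))
    rcases hfe with e | e
    · rw [e]; exact (hyz.trans (isConj_iff.2 ⟨m, rfl⟩)).trans (isConj_iff.2 ⟨f, rfl⟩)
    · rw [e]; exact hxz.trans (isConj_iff.2 ⟨f, rfl⟩)

end SplitData

end Cfsg.Agent.J4Type
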