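import Cfsg.Agent.EqLemmas
import Cfsg.Agent.Lib.J4Type.Orbits
import Cfsg.Agent.Lib.J4Type.SplitCent

/-!
The centraliser of a short element of `Vo` lies in the normaliser of `Vo` (helper43).

* `Setting.lineStab` : the permutations whose lifts keep the line of a vector
* `Setting.lineStab_le` : for a point of the hyperoval it stabilises the octad
* `Setting.pair_centralizer_le` : the centraliser of `z` and a short element normalises `Vo`
* `Setting.centralizer_le` : the centraliser of a short element normalises `Vo`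
-/

set_option autoImplicit false
set_option maxHeartbeats 1000000
set_option linter.style.haveILetI false
set_option linter.unusedSectionVars false
open scoped Pointwise
open Cfsg Subgroup

namespace Cfsg.Agent.J4Type.Setting

open Cfsg.Agent.Golay

variable {G : Type*} [Group G] [Finite G] {z : G} {P : Subgroup G} (S : Setting z P)
  {o : Finset GolayPt}

include S

/-- The permutations all of whose lifts map the line of `v` into itself. -/
noncomputable def lineStab (v : S.WS) : Subgroup (Equiv.Perm GolayPt) where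
  carrier := {g | g ∈ pairStab ∧ ∀ k : ↥(Cz z), S.κ k = g →
    ∀ u ∈ Submodule.span K4 {v}, S.rho k u ∈ Submodule.span K4 {v}}
  one_mem' := ⟨one_mem _, fun k hk u hu => by
    obtain ⟨n, hn⟩ := S.rho_of_κ_one hk
    rw [hn]
    clear hn
    induction n with
    | zero => exact hu
    | succ n ih =>
      rw [pow_succ', LinearEquiv.mul_apply, ← S.omega_eq, ← S.zeta_smul]
      exact Submodule.smul_mem _ _ ih⟩
  mul_mem' := fun {g g'} hg hg' => ⟨mul_mem hg.1 hg'.1, fun k hk u hu => by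
    obtain ⟨k1, hk1⟩ : g ∈ S.κ.range := S.κ_range ▸ hg.1
    have h2 : S.κ (k1⁻¹ * k) = g' := by rw [map_mul, map_inv, hk1, hk, inv_mul_cancel_left]
    have h := hg.2 k1 hk1 _ (hg'.2 _ h2 u hu)
    rwa [← LinearEquiv.mul_apply, ← map_mul, mul_inv_cancel_left] at h⟩
  inv_mem' := fun {g} hg => ⟨inv_mem hg.1, fun k hk u hu => by
    have hmaps : Set.MapsTo (S.rho k⁻¹) (Submodule.span K4 {v} : Set S.WS) (Submodule.span K4 {v}) :=
      fun w hw => hg.2 k⁻¹ (by rw [map_inv, hk, inv_inv]) w hw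
    haveI : Finite S.WS := Nat.finite_of_card_ne_zero (by rw [S.card_WS]; norm_num)
    obtain ⟨⟨w, hw⟩, he⟩ := (Finite.injective_iff_surjective.1 (hmaps.restrict_inj.2
      (S.rho k⁻¹).injective.injOn)) ⟨u, hu⟩
    have he' : S.rho k⁻¹ w = u := congrArg Subtype.val he
    rwa [← he', ← LinearEquiv.mul_apply, ← map_mul, mul_inv_cancel, map_one]⟩

theorem mem_lineStab {v : S.WS} {g : Equiv.Perm GolayPt} :
    g ∈ S.lineStab v ↔ g ∈ pairStab ∧ ∀ k : ↥(Cz z), S.κ k = g →
      ∀ u ∈ Submodule.span K4 {v}, S.rho k u ∈ Submodule.span K4 {v} := Iff.rfl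

/-- It suffices to have one lift fixing the vector. -/
theorem mem_lineStab_of_fix {v : S.WS} {h : ↥(Cz z)} (hv : S.rho h v = v) :
    S.κ h ∈ S.lineStab v := by
  refine ⟨S.κ_mem h, fun k hk u hu => ?_⟩
  obtain ⟨n, hn⟩ := S.rho_of_κ_one (h := h⁻¹ * k) (by rw [map_mul, map_inv, hk, inv_mul_cancel])
  have hu' : (S.rho S.genH ^ n) u ∈ Submodule.span K4 {v} := by
    clear hn
    induction n with
    | zero => exact hu
    | succ n ih =>
      rw [pow_succ', LinearEquiv.mul_apply, ← S.omega_eq, ← S.zeta_smul]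
      exact Submodule.smul_mem _ _ ih
  rw [show S.rho k u = S.rho h ((S.rho S.genH ^ n) u) by
    rw [← hn, ← LinearEquiv.mul_apply, ← map_mul, mul_inv_cancel_left]]
  obtain ⟨c, hc⟩ := Submodule.mem_span_singleton.1 hu'
  rw [← hc]
  have hω : S.rho h (S.omega v) ∈ Submodule.span K4 {v} := by
    by_cases hi : h ∈ S.innerH
    · rw [S.rho_inner hi, hv, ← S.zeta_smul]
      exact Submodule.smul_mem _ _ (Submodule.mem_span_singleton_self v)
    · rw [S.rho_outer hi, hv, ← S.zeta_smul, ← S.zeta_smul, smul_smul]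
      exact Submodule.smul_mem _ _ (Submodule.mem_span_singleton_self v)
  rcases K4.cases' c with rfl | rfl | rfl | rfl
  · rw [zero_smul, map_zero]; exact zero_mem _
  · rw [one_smul, hv]; exact Submodule.mem_span_singleton_self v
  · rw [S.zeta_smul]; exact hω
  · rw [add_smul, one_smul, map_add, hv, S.zeta_smul]
    exact add_mem hω (Submodule.mem_span_singleton_self v)

variable (ho : HexOct o)
include ho

/-- The octad group keeps the lines of the fixed space. -/
theorem fix_le_lineStab {v : S.WS} (hv : v ∈ S.Cfix o) : octadFix o ≤ S.lineStab v := fun a ha => by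
  obtain ⟨k, -, hk, -, hI⟩ := S.exists_invLift (S.fix_M22 ho ha).1 (S.fix_M22 ho ha).2
  rw [← hk]
  exact S.mem_lineStab_of_fix (hI ▸ (S.mem_Cfix ho).1 hv a ha)

/-- The stabiliser in M22 of the octad and of a point of the hyperoval has order 960. -/
theorem natCard_lineStab_inf (c : S.Coord o) (i : Fin 6) :
    Nat.card ↥(S.lineStab (c.h i) ⊓ stab0 o) = 960 := by
  let X : Fin 6 → Submodule K4 S.WS := fun j => Submodule.span K4 {c.h j}
  have hX : Function.Injective X := fun a b hab => by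
    have h : c.h a ∈ X b := hab ▸ Submodule.mem_span_singleton_self (c.h a)
    obtain ⟨t, ht⟩ := Submodule.mem_span_singleton.1 h
    exact (S.smul_h_inj c one_ne_zero (t := t) (j := b) (by rw [one_smul, ht])).1
  have hspan : ∀ {k : ↥(Cz z)} (hk : k ∈ S.innerH) {a b : Fin 6} {d : K4}, d ≠ 0 →
      S.rho k (c.h a) = d • c.h b → (X a).map (S.linK hk) = X b := by
    intro k hk a b d hd he
    rw [Submodule.map_span, Set.image_singleton, S.linK_apply, he]
    exact Submodule.span_singleton_smul_eq hd.isUnit _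
  obtain ⟨f, hf⟩ := S.exists_six_hom X hX fun g a => by
    obtain ⟨k, hk, hkg⟩ := S.exists_inner_lift g
    obtain ⟨b, d, hd, he⟩ := c.perm k hk (hkg ▸ g.2) a
    exact ⟨b, by rw [S.sAct_eq g _ hk hkg]; exact hspan hk hd he⟩
  letI : MulAction ↥(stab0 o) (Fin 6) := MulAction.compHom (Fin 6) f
  have horb : MulAction.orbit ↥(stab0 o) i = Set.univ := by
    refine Set.eq_univ_of_forall fun j => ?_
    obtain ⟨π, hπ, hij⟩ : ∃ π ∈ alternatingGroup (Fin 6), π i = j := by
      obtain ⟨l, m, n, h1, h2, h3, h4, h5, h6⟩ := (by decide : ∀ j : Fin 6,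
        ∃ l m n, j ≠ l ∧ j ≠ m ∧ j ≠ n ∧ l ≠ m ∧ l ≠ n ∧ m ≠ n) j
      obtain ⟨l', m', n', h1', h2', h3', h4', h5', h6'⟩ := (by decide : ∀ j : Fin 6,
        ∃ l m n, j ≠ l ∧ j ≠ m ∧ j ≠ n ∧ l ≠ m ∧ l ≠ n ∧ m ≠ n) i
      obtain ⟨π, hπ, p0, -⟩ := exists_even_map j l m n h1 h2 h3 h4 h5 h6
      obtain ⟨σ, hσ, s0, -⟩ := exists_even_map i l' m' n' h1' h2' h3' h4' h5' h6'
      exact ⟨π * σ⁻¹, mul_mem hπ (inv_mem hσ), by rw [Equiv.Perm.mul_apply, ← s0]; simpa using p0⟩
    obtain ⟨k, hk, hk0, hmap, -⟩ := c.equiv π hπ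
    obtain ⟨d, hd, he⟩ := hmap i
    rw [hij] at he
    refine ⟨⟨S.κ k, hk0⟩, hX ?_⟩
    show X (f ⟨S.κ k, hk0⟩ i) = X j
    rw [hf, S.sAct_eq ⟨S.κ k, hk0⟩ _ hk rfl]
    exact hspan hk hd he
  have hst := MulAction.index_stabilizer ↥(stab0 o) i
  rw [horb, Set.ncard_univ, Nat.card_fin] at hst
  have h := (MulAction.stabilizer ↥(stab0 o) i).index_mul_card
  rw [hst, ho.natCard_stab0] at h
  have hiff : ∀ g : ↥(stab0 o), g ∈ MulAction.stabilizer ↥(stab0 o) i ↔
      (g : Equiv.Perm GolayPt) ∈ S.lineStab (c.h i) := by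
    intro g
    obtain ⟨k, hk, hkg⟩ := S.exists_inner_lift g
    constructor
    · intro hg
      have hfi : f g i = i := hg
      refine ⟨m22_le_pairStab g.2.1, fun k' hk' u hu => ?_⟩
      have hki : k' ∈ S.innerH := by show S.κ k' ∈ Spor.M22; rw [hk']; exact g.2.1
      have h1 := hf g i
      rw [hfi, S.sAct_eq g _ hki hk'] at h1
      show S.linK hki u ∈ X i
      rw [h1]
      exact Submodule.mem_map_of_mem hu
    · intro hg
      show f g i = i
      refine hX ?_
      rw [hf, S.sAct_eq g _ hk hkg]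
      refine Submodule.eq_of_le_of_finrank_eq ?_
        ((Submodule.equivMapOfInjective _ (S.linK_injective hk) _).finrank_eq).symm
      rintro _ ⟨u, hu, rfl⟩
      exact hg.2 k hkg u hu
  rw [show Nat.card ↥(S.lineStab (c.h i) ⊓ stab0 o) = Nat.card ↥(MulAction.stabilizer ↥(stab0 o) i) from
    Nat.card_congr
      { toFun := fun g => ⟨⟨g.1, g.2.2⟩, (hiff ⟨g.1, g.2.2⟩).2 g.2.1⟩
        invFun := fun g => ⟨g.1.1, (hiff g.1).1 g.2, g.1.2⟩
        left_inv := fun _ => rfl
        right_inv := fun _ => rfl }]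
  omega

/-- The orbit of the octad under a subgroup containing its group has length one more than a multiple of four. -/
theorem ncard_orbit_mod_four (Y : Subgroup (Equiv.Perm GolayPt)) (hYp : Y ≤ pairStab)
    (hA : octadFix o ≤ Y) : (MulAction.orbit ↥Y o).ncard % 4 = 1 := by
  classical
  let O : Set (Finset GolayPt) := MulAction.orbit ↥Y o \ {o}
  have hfix : ∀ a ∈ octadFix o, a • o = o := fun a ha => (ho.fix_le_stab0 ha).2
  have hinv : ∀ a ∈ octadFix o, ∀ w ∈ O, a • w ∈ O := by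
    rintro a ha w ⟨⟨y, rfl⟩, hw⟩
    refine ⟨⟨⟨a, hA ha⟩ * y, mul_smul _ _ _⟩, fun h => hw ?_⟩
    have h' : a • (y • o) = a • o := (Set.mem_singleton_iff.1 h).trans (hfix a ha).symm
    exact MulAction.injective a h'
  letI act : MulAction ↥(octadFix o) ↥O :=
    { smul := fun a w => ⟨(a : Equiv.Perm GolayPt) • (w : Finset GolayPt), hinv a a.2 w w.2⟩
      one_smul := fun w => Subtype.ext (one_smul _ _)
      mul_smul := fun a b w => Subtype.ext (mul_smul _ _ _) }
  haveI : Fact (Nat.Prime 2) := ⟨Nat.prime_two⟩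
  have h4 : ∀ w : ↥O, 4 ∣ Nat.card ↥(MulAction.orbit ↥(octadFix o) w) := by
    rintro ⟨w, ⟨y, rfl⟩, hw⟩
    have hwo : HexOct ((y : Equiv.Perm GolayPt) • o) := by
      obtain ⟨hM, hcase⟩ := mem_pairStab.1 (hYp y.2)
      refine ⟨smul_mem_octads hM ho.mem, ?_, ?_⟩ <;> rw [Finset.mem_smul_finset]
      · rcases hcase with ⟨h1, -⟩ | ⟨-, h2⟩
        · exact ⟨pA, ho.a, h1⟩
        · exact ⟨pB, ho.b, h2⟩
      · rcases hcase with ⟨-, h2⟩ | ⟨h1, -⟩
        · exact ⟨pB, ho.b, h2⟩
        · exact ⟨pA, ho.a, h1⟩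
    have hle := ho.natCard_fix_inter_le hwo (fun h => hw h.symm)
    set St := MulAction.stabilizer ↥(octadFix o) (⟨y • o, ⟨y, rfl⟩, hw⟩ : ↥O) with hSt
    have hst : Nat.card ↥St ≤ 4 := by
      refine le_trans ?_ hle
      refine Nat.card_le_card_of_injective (fun a => (⟨((a : ↥(octadFix o)) : Equiv.Perm GolayPt),
        a.1.2, congrArg Subtype.val a.2⟩ : ↥(octadFix o ⊓
          MulAction.stabilizer (Equiv.Perm GolayPt) ((y : Equiv.Perm GolayPt) • o)))) ?_
      intro a b h
      exact Subtype.ext (Subtype.ext (congrArg Subtype.val h :))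
    have h := St.index_mul_card
    rw [hSt, MulAction.index_stabilizer, ← hSt, natCard_octadFix ho.mem] at h
    rw [Nat.card_coe_set_eq]
    have hd : Nat.card ↥St ∣ 16 := Dvd.intro_left _ h
    generalize (MulAction.orbit ↥(octadFix o) (⟨y • o, ⟨y, rfl⟩, hw⟩ : ↥O)).ncard = m at h ⊢
    have hpos : 0 < Nat.card ↥St := Nat.card_pos
    generalize Nat.card ↥St = k at h hd hst hpos
    interval_cases k <;> omega
  have hO : 4 ∣ O.ncard := by
    rw [← Nat.card_coe_set_eq, Nat.card_congr (MulAction.selfEquivSigmaOrbits ↥(octadFix o) ↥O)]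
    haveI : Fintype (Quotient (MulAction.orbitRel ↥(octadFix o) ↥O)) := Fintype.ofFinite _
    rw [Nat.card_sigma]
    exact Finset.dvd_sum fun q _ => h4 _
  have hmem : o ∈ MulAction.orbit ↥Y o := MulAction.mem_orbit_self o
  have hcount : O.ncard + 1 = (MulAction.orbit ↥Y o).ncard := Set.ncard_sdiff_singleton_add_one hmem
  show (MulAction.orbit ↥Y o).ncard % 4 = 1
  omega

/-- **The stabiliser of a point of the hyperoval stabilises the octad.** -/
theorem lineStab_le (c : S.Coord o) (i : Fin 6) : S.lineStab (c.h i) ≤ stabO o := by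
  classical
  set Y := S.lineStab (c.h i) with hY
  set Y1 := Y ⊓ Spor.M22 with hY1
  have hA : octadFix o ≤ Y1 := fun a ha =>
    ⟨S.fix_le_lineStab ho (c.mem i) ha, (S.fix_M22 ho ha).1⟩
  set m := (MulAction.orbit ↥Y1 o).ncard with hm
  have hst : Nat.card ↥(MulAction.stabilizer ↥Y1 o) = 960 := by
    rw [← S.natCard_lineStab_inf ho c i]
    exact Nat.card_congr
      { toFun := fun g => ⟨g.1.1, g.1.2.1, g.1.2.2, g.2⟩
        invFun := fun g => ⟨⟨g.1, g.2.1, g.2.2.1⟩, g.2.2.2⟩
        left_inv := fun _ => rfl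
        right_inv := fun _ => rfl }
  have hY1c : m * 960 = Nat.card ↥Y1 := by
    rw [hm, ← MulAction.index_stabilizer, ← hst]
    exact Subgroup.index_mul_card _
  have hidx := (Y1.subgroupOf Spor.M22).index_mul_card
  rw [Nat.card_congr (Subgroup.subgroupOfEquivOfLe (inf_le_right : Y1 ≤ Spor.M22)).toEquiv, ← hY1c,
    natCard_M22'] at hidx
  set n := (Y1.subgroupOf Spor.M22).index with hn
  have hnm : n * m = 462 := by
    have : n * m * 960 = 462 * 960 := by rw [mul_assoc, hidx]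
    exact Nat.eq_of_mul_eq_mul_right (by norm_num) this
  have h3 : 3 ∣ n := by
    by_contra h3
    have h := S.finrank_dvd_three_of_invariant (Y := Y1) h3 (Submodule.span K4 {c.h i})
      fun h hY _ u hu => hY.1.2 h rfl u hu
    rw [finrank_span_singleton (S.h_ne_zero c i)] at h
    norm_num at h
  have hmod : m % 4 = 1 := S.ncard_orbit_mod_four ho Y1 (fun g hg => hg.1.1) hA
  have hm1 : m = 1 := by
    have hn6 : n ≠ 6 := by
      intro h6
      haveI := isSimpleGroup_M22'
      let φ := MulAction.toPermHom ↥Spor.M22 (↥Spor.M22 ⧸ Y1.subgroupOf Spor.M22)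
      have hker : φ.ker = ⊥ := by
        refine (IsSimpleGroup.eq_bot_or_eq_top_of_normal φ.ker inferInstance).resolve_right fun h => ?_
        have hle : φ.ker ≤ Y1.subgroupOf Spor.M22 := fun g hg => by
          have h1 := Equiv.ext_iff.1 (MonoidHom.mem_ker.1 hg) (QuotientGroup.mk 1)
          have h2 : QuotientGroup.mk (s := Y1.subgroupOf Spor.M22) (g * 1) = QuotientGroup.mk 1 := h1
          rw [mul_one, QuotientGroup.eq, mul_one] at h2
          exact inv_mem_iff.1 h2
        rw [h, top_le_iff] at hle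
        rw [hn, hle, Subgroup.index_top] at h6
        norm_num at h6
      have h := Nat.card_le_card_of_injective φ ((MonoidHom.ker_eq_bot_iff φ).1 hker)
      rw [natCard_M22', Nat.card_perm, ← Subgroup.index_eq_card, ← hn, h6] at h
      norm_num [Nat.factorial] at h
    have key : ∀ m ∈ Nat.divisors 462, m % 4 = 1 → 3 ∣ 462 / m → 462 / m ≠ 6 → m = 1 := by
      decide +kernel
    have hm0 : 0 < m := by omega
    have hdiv : 462 / m = n := by rw [← hnm, Nat.mul_div_cancel _ hm0]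
    exact key m (Nat.mem_divisors.2 ⟨Dvd.intro_left n hnm, by norm_num⟩) hmod (hdiv ▸ h3) (hdiv ▸ hn6)
  have hfixo : ∀ g ∈ Y1, g • o = o := by
    obtain ⟨w, hw⟩ := Set.ncard_eq_one.1 hm1
    intro g hg
    have h1 : (⟨g, hg⟩ : ↥Y1) • o ∈ MulAction.orbit ↥Y1 o := MulAction.mem_orbit _ _
    have h2 : o ∈ MulAction.orbit ↥Y1 o := MulAction.mem_orbit_self o
    rw [hw, Set.mem_singleton_iff] at h1 h2
    exact h1.trans h2.symm
  -- outer elements
  intro g hg
  refine ⟨hg.1, ?_⟩
  by_contra hne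
  have hne' : g⁻¹ • o ≠ o := fun e => hne (by
    show g • o = o
    conv_lhs => rw [← e]
    rw [smul_inv_smul])
  have hgp : g⁻¹ ∈ pairStab := inv_mem hg.1
  have hho : HexOct (g⁻¹ • o) := by
    obtain ⟨hM, hcase⟩ := mem_pairStab.1 hgp
    refine ⟨smul_mem_octads hM ho.mem, ?_, ?_⟩ <;> rw [Finset.mem_smul_finset]
    · rcases hcase with ⟨h1, -⟩ | ⟨-, h2⟩
      · exact ⟨pA, ho.a, h1⟩
      · exact ⟨pB, ho.b, h2⟩
    · rcases hcase with ⟨-, h2⟩ | ⟨h1, -⟩
      · exact ⟨pB, ho.b, h2⟩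
      · exact ⟨pA, ho.a, h1⟩
  have hle := ho.natCard_fix_inter_le hho (Ne.symm hne')
  have hall : octadFix o ≤ octadFix o ⊓ MulAction.stabilizer (Equiv.Perm GolayPt) (g⁻¹ • o) := by
    refine fun a ha => ⟨ha, ?_⟩
    have h1 := hfixo (g * a * g⁻¹) ⟨Y.mul_mem (Y.mul_mem hg (hA ha).1) (Y.inv_mem hg),
      conj_mem_M22 hg.1 (hA ha).2⟩
    show a • g⁻¹ • o = g⁻¹ • o
    conv_rhs => rw [← h1]
    rw [← mul_smul, ← mul_smul]
    congr 1
    group
  have h := (Subgroup.card_le_of_le hall).trans hle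
  rw [natCard_octadFix ho.mem] at h
  norm_num at h

/-- An element of `Vo` outside the orbit of `z` centralised together with `z` by elements of the normaliser. -/
theorem pair_centralizer_le (c : S.Coord o) (hUp : S.UpSet c ⊆ S.Oz ho) {t : G} (ht : t ∈ S.Vg ho)
    (ht1 : t ≠ 1) (htz : ¬ IsConj z t) {g : G} (hgz : g * z = z * g) (hgt : g * t = t * g) :
    g ∈ Subgroup.normalizer (S.Vg ho : Set G) := by
  obtain ⟨x, hx, rfl⟩ := S.exists_of_mem_Vg ho ht
  set h : ↥(Cz z) := ⟨g, mem_Cz.2 hgz⟩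
  suffices S.κ h ∈ stabO o from (S.mem_normalizer_iff_κ ho h).2 this
  have hhx : h * x = x * h := Subtype.ext hgt
  by_cases hk : S.κ x = 1
  · rcases S.U_cases ho (c := c) hx hk with e | e | e | e
    · exact absurd (congrArg Subtype.val e) ht1
    · exact absurd (congrArg Subtype.val e ▸ IsConj.refl z) htz
    · obtain ⟨e, rfl, i, s, hs, he⟩ := e
      have hfix : S.rho h (S.pr e) = S.pr e := by
        rw [S.rho_fix_iff]
        exact Or.inl (mul_inv_eq_iff_eq_mul.2 hgt)
      have hmem := S.mem_lineStab_of_fix hfix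
      refine S.lineStab_le ho c i ?_
      have hspan : Submodule.span K4 {S.pr e} = Submodule.span K4 {c.h i} := by
        rw [he]; exact Submodule.span_singleton_smul_eq hs.isUnit _
      rw [S.mem_lineStab] at hmem ⊢
      rwa [hspan] at hmem
    · exact absurd (hUp e).2 htz
  · have ha := ((S.mem_Vo ho).1 hx).1.1
    have hc : S.κ h * S.κ x = S.κ x * S.κ h := by rw [← map_mul, ← map_mul, hhx]
    refine ⟨S.κ_mem h, ?_⟩
    show S.κ h • o = o
    refine Finset.eq_of_subset_of_card_le (fun y hy => ?_) (by rw [Finset.card_smul_finset])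
    obtain ⟨p, hp, rfl⟩ := Finset.mem_smul_finset.1 hy
    refine (ho.fix_octadFix ha hk _).1 ?_
    show S.κ x (S.κ h p) = S.κ h p
    rw [← Equiv.Perm.mul_apply, ← hc, Equiv.Perm.mul_apply, (mem_octadFix.1 ha).2 p hp]

/-- An elementary abelian subgroup of order 2^11 of the normaliser of `Vo` is `Vo`. -/
theorem eq_Vg_of_le_normalizer {W : Subgroup G} (hW : W ≤ Subgroup.normalizer (S.Vg ho : Set G))
    (hel : IsElementaryAbelian 2 W) (hcard : Nat.card ↥W = 2 ^ 11) : W = S.Vg ho := by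
  haveI : Fact (Nat.Prime 2) := ⟨Nat.prime_two⟩
  obtain ⟨hV, hVc⟩ := S.isElementary_Vo ho
  have hp : IsPGroup 2 ↥(W ⊔ S.Vg ho) :=
    IsPGroup.to_sup_of_normal_right' (IsPGroup.of_card hcard) (IsPGroup.of_card hVc) hW
  obtain ⟨T, hT⟩ := hp.exists_le_sylow
  obtain ⟨U, -, huni⟩ := S.existsUnique_elem T
  rw [huni W ⟨le_sup_left.trans hT, hel, hcard⟩, huni (S.Vg ho) ⟨le_sup_right.trans hT, hV, hVc⟩]

/-- **The centraliser of a short element normalises `Vo`.** -/
theorem centralizer_le (hs : IsSimpleGroup G) (hG : ¬ IsMulCommutative G)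
    (hO : (S.Oz ho).ncard = 1771) (D : SplitData G) (hDV : D.V = S.Vg ho) (hzs : IsConj z D.s)
    (hzt : ¬ IsConj z D.t) {t : G} (ht : t ∈ S.Vg ho) (ht1 : t ≠ 1) (htz : ¬ IsConj z t) :
    Subgroup.centralizer ({t} : Set G) ≤ Subgroup.normalizer (S.Vg ho : Set G) := by
  obtain ⟨c⟩ := S.exists_coord ho
  have hUp : S.UpSet c ⊆ S.Oz ho := by
    rcases S.ncard_Oz_cases ho hs hG c with ⟨h, -⟩ | h | ⟨-, -, h, -⟩
    · omega
    · omega
    · exact h
  rw [← hDV] at ht ⊢
  refine D.centralizer_le_normalizer_of hzs hzt (fun W hW hel hc => ?_)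
    (fun x hx hxz u hu hu1 huz g hgx hgu => ?_) ht ht1 htz
  · rw [hDV] at hW ⊢
    exact S.eq_Vg_of_le_normalizer ho hW hel hc
  rw [hDV] at hx hu ⊢
  obtain ⟨k, hk⟩ := isConj_iff.1 hxz
  obtain ⟨n, hn, hnx⟩ := S.weakly_closed ho (g := k) (hk ▸ hx)
  rw [hk] at hnx
  have hn' := inv_mem hn
  have hu' : n⁻¹ * u * n ∈ S.Vg ho := by simpa using (Subgroup.mem_normalizer_iff.1 hn' u).1 hu
  have hg' := S.pair_centralizer_le ho c hUp hu'
    (fun e => hu1 (by rw [show u = n * (n⁻¹ * u * n) * n⁻¹ by group, e, mul_one, mul_inv_cancel]))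
    (fun e => huz (e.trans (isConj_iff.2 ⟨n, by group⟩)))
    (g := n⁻¹ * g * n) (by
      calc n⁻¹ * g * n * z = n⁻¹ * (g * (n * z * n⁻¹)) * n := by group
        _ = n⁻¹ * (x * g) * n := by rw [hnx, hgx]
        _ = n⁻¹ * ((n * z * n⁻¹) * g) * n := by rw [hnx]
        _ = z * (n⁻¹ * g * n) := by group)
    (by
      calc n⁻¹ * g * n * (n⁻¹ * u * n) = n⁻¹ * (g * u) * n := by group
        _ = n⁻¹ * (u * g) * n := by rw [hgu]
        _ = n⁻¹ * u * n * (n⁻¹ * g * n) := by group)
  have h := mul_mem (mul_mem hn hg') hn'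
  rwa [show n * (n⁻¹ * g * n) * n⁻¹ = g by group] at h

end Cfsg.Agent.J4Type.Setting
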