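/-
Elements of M24 commuting with an element of order 3 of M22 and with its four group.

Main results (namespace `Cfsg.Agent.J4Type`):
* `card_fixed_three` : an element of order 3 of M22 fixes six points
* `fixed_mod_three` : a commuting involution fixes `2 mod 3` of them, if it fixes a point
* `four_regular` : the four group is regular on the four other fixed points
* `no_outer_four` : no element swapping the deleted points centralises both, if its order is a power of 2
-/
import Cfsg.Agent.Lib.GolayClasses.Three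
import Cfsg.Agent.Lib.SingleBlock.Common
import Cfsg.Agent.Lib.Golay.M23Aut
import Cfsg.Agent.Lib.OrderM22.M22Facts
import Cfsg.Agent.Lib.OrderM22.Local

set_option autoImplicit false
set_option linter.unusedSectionVars false
set_option linter.style.haveILetI false

open Cfsg

namespace Cfsg.Agent.J4Type

open Cfsg.Agent.OrderM22

/-- The fixed points. -/
def fixPts (g : Equiv.Perm GolayPt) : Finset GolayPt := Finset.univ.filter fun p => g p = p

theorem mem_fixPts {g : Equiv.Perm GolayPt} {p : GolayPt} : p ∈ fixPts g ↔ g p = p := by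
  simp [fixPts]

theorem fixPts_invariant {g h : Equiv.Perm GolayPt} (hc : Commute g h) (p : GolayPt) :
    g p ∈ fixPts h ↔ p ∈ fixPts h := by
  rw [mem_fixPts, mem_fixPts,
    show h (g p) = g (h p) from (Equiv.Perm.ext_iff.1 hc.eq p).symm]
  exact g.injective.eq_iff

theorem card_fixed_three {u : ↥Spor.M22} (hu : orderOf u = 3) :
    (fixPts (u : Equiv.Perm GolayPt)).card = 6 := by
  obtain ⟨huM, hua, -⟩ := SingleBlock.mem_m22 u
  obtain ⟨k, -, hk | hk⟩ :=
    GolayClasses.three_cases huM (by rw [Subgroup.orderOf_coe, hu])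
  · unfold fixPts
    rw [← hk, GolayClasses.card_fixed_conj, GolayClasses.fixed_repA]
  · exfalso
    refine GolayClasses.fixed_repB (k⁻¹ (none : GolayPt)) ?_
    have h : k (GolayClasses.repB (k⁻¹ (none : GolayPt))) = none := by
      have h' := Equiv.Perm.ext_iff.1 hk (none : GolayPt)
      rw [hua] at h'
      exact h'
    exact (Equiv.Perm.inv_eq_iff_eq.2 h.symm).symm

/-- A commuting involution fixing a point fixes `2 mod 3` of the fixed points. -/
theorem fixed_mod_three {u g : Equiv.Perm GolayPt} (hu : u ^ 3 = 1) (hg : g ∈ M24)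
    (hg2 : orderOf g = 2) (hc : Commute g u) {q : GolayPt} (hq : g q = q) :
    ((fixPts u).filter fun p => g p = p).card % 3 = 2 := by
  haveI : Fact (Nat.Prime 3) := ⟨by norm_num⟩
  obtain ⟨o, ho, -, hiff⟩ := SingleBlock.exists_octad_fixed hg hg2 hq
  have hoe : o = fixPts g := by ext p; rw [mem_fixPts, hiff]
  have h := Golay.card_mod_of_invariant hu (O := o) (fun p => by rw [hoe]; exact fixPts_invariant hc.symm p)
  rw [show o.card = 8 from ho.2] at h
  have e : ((fixPts u).filter fun p => g p = p) = o.filter fun p => u p = p := by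
    ext p
    simp only [Finset.mem_filter, mem_fixPts, hoe]
    exact and_comm
  rw [e, h]

/-- The four group of `u` has no fixed point among the four moved-point-free fixed points of `u`. -/
theorem four_free {u v : ↥Spor.M22} (hu : orderOf u = 3) (hv : v ∈ four u) (hv1 : v ≠ 1) {a : GolayPt}
    (ha : (u : Equiv.Perm GolayPt) a = a) (hane : a ≠ none) (hbne : a ≠ some 0) :
    (v : Equiv.Perm GolayPt) a ≠ a := by
  haveI : Fact (Nat.Prime 2) := ⟨Nat.prime_two⟩
  intro hva
  obtain ⟨hvM, hv0, hv0'⟩ := SingleBlock.mem_m22 v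
  obtain ⟨-, hu0, hu0'⟩ := SingleBlock.mem_m22 u
  have hv2 : orderOf (v : Equiv.Perm GolayPt) = 2 := by
    rw [Subgroup.orderOf_coe]; exact orderOf_of_mem_four hv hv1
  have hc : Commute (v : Equiv.Perm GolayPt) (u : Equiv.Perm GolayPt) :=
    (show Commute v u from hv.2).map Spor.M22.subtype
  have hu3 : (u : Equiv.Perm GolayPt) ^ 3 = 1 := by
    rw [← SubmonoidClass.coe_pow, ← hu, pow_orderOf_eq_one]; rfl
  have h3 := fixed_mod_three hu3 hvM hv2 hc hv0
  have h2 := Golay.card_mod_of_invariant (p := 2) (σ := (v : Equiv.Perm GolayPt))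
    (O := fixPts (u : Equiv.Perm GolayPt)) (by rw [← hv2, pow_orderOf_eq_one])
    (fixPts_invariant hc)
  rw [card_fixed_three hu] at h2
  have hle : ((fixPts (u : Equiv.Perm GolayPt)).filter fun p => (v : Equiv.Perm GolayPt) p = p).card ≤
      6 := (Finset.card_filter_le _ _).trans (card_fixed_three hu).le
  have hsub : ({none, some 0, a} : Finset GolayPt) ⊆
      (fixPts (u : Equiv.Perm GolayPt)).filter fun p => (v : Equiv.Perm GolayPt) p = p := by
    intro p hp
    simp only [Finset.mem_insert, Finset.mem_singleton] at hp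
    rw [Finset.mem_filter, mem_fixPts]
    rcases hp with rfl | rfl | rfl
    exacts [⟨hu0, hv0⟩, ⟨hu0', hv0'⟩, ⟨ha, hva⟩]
  have hthree := Finset.card_le_card hsub
  rw [Finset.card_insert_of_notMem (by simp [hane.symm]),
    Finset.card_insert_of_notMem (by simp [hbne.symm]), Finset.card_singleton] at hthree
  omega

/-- The four group is regular on the four other fixed points. -/
theorem four_regular {u : ↥Spor.M22} (hu : orderOf u = 3) {a b : GolayPt}
    (ha : (u : Equiv.Perm GolayPt) a = a) (hane : a ≠ none) (hane' : a ≠ some 0)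
    (hb : (u : Equiv.Perm GolayPt) b = b) (hbne : b ≠ none) (hbne' : b ≠ some 0) :
    ∃ v ∈ four u, (v : Equiv.Perm GolayPt) a = b := by
  classical
  haveI := simple_m22
  have h := hyp_m22
  obtain ⟨h4, hmul, -, -⟩ := h.four_spec hu
  set F : Finset GolayPt := ((fixPts (u : Equiv.Perm GolayPt)).erase none).erase (some 0) with hF
  have hmemF : ∀ p, p ∈ F ↔ (u : Equiv.Perm GolayPt) p = p ∧ p ≠ none ∧ p ≠ some 0 := fun p => by
    simp only [hF, Finset.mem_erase, mem_fixPts]
    tauto
  have hFcard : F.card = 4 := by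
    obtain ⟨-, hu0, hu0'⟩ := SingleBlock.mem_m22 u
    rw [hF, Finset.card_erase_of_mem (Finset.mem_erase.2 ⟨by simp, mem_fixPts.2 hu0'⟩),
      Finset.card_erase_of_mem (mem_fixPts.2 hu0), card_fixed_three hu]
  have hmaps : ∀ v ∈ four u, (v : Equiv.Perm GolayPt) a ∈ F := by
    intro v hv
    obtain ⟨-, hv0, hv0'⟩ := SingleBlock.mem_m22 v
    have hc : Commute (v : Equiv.Perm GolayPt) (u : Equiv.Perm GolayPt) :=
      (show Commute v u from hv.2).map Spor.M22.subtype
    refine (hmemF _).2 ⟨mem_fixPts.1 ((fixPts_invariant hc a).2 (mem_fixPts.2 ha)),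
      fun e => hane ((v : Equiv.Perm GolayPt).injective (e.trans hv0.symm)),
      fun e => hane' ((v : Equiv.Perm GolayPt).injective (e.trans hv0'.symm))⟩
  have hinj : Set.InjOn (fun v : ↥Spor.M22 => (v : Equiv.Perm GolayPt) a) (four u) := by
    intro v hv w hw e
    by_contra hne
    refine four_free hu (hmul v hv w hw) (fun e1 => hne ?_) ha hane hane' ?_
    · rw [← mul_one v, ← hw.1, ← mul_assoc, e1, one_mul]
    · show (v : Equiv.Perm GolayPt) ((w : Equiv.Perm GolayPt) a) = a
      rw [show (w : Equiv.Perm GolayPt) a = (v : Equiv.Perm GolayPt) a from e.symm]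
      exact Equiv.Perm.ext_iff.1 (congrArg Subtype.val hv.1) a
  have himg : (fun v : ↥Spor.M22 => (v : Equiv.Perm GolayPt) a) '' four u = ↑F := by
    refine Set.eq_of_subset_of_ncard_le ?_ ?_
    · rintro _ ⟨v, hv, rfl⟩
      exact hmaps v hv
    · rw [Set.ncard_coe_finset, hFcard, hinj.ncard_image, h4]
  have hbF : b ∈ (F : Set GolayPt) := (hmemF b).2 ⟨hb, hbne, hbne'⟩
  rw [← himg] at hbF
  exact hbF

/-- No 2-element of M24 swapping the deleted points centralises `u` and its four group. -/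
theorem no_outer_four {u : ↥Spor.M22} (hu : orderOf u = 3) {π : Equiv.Perm GolayPt} (hπ : π ∈ M24)
    (hab : π none = some 0) (hba : π (some 0) = none) {n : ℕ} (hn : π ^ 2 ^ n = 1)
    (hπu : Commute π (u : Equiv.Perm GolayPt))
    (hπV : ∀ v ∈ four u, Commute π (v : Equiv.Perm GolayPt)) : False := by
  classical
  haveI : Fact (Nat.Prime 2) := ⟨Nat.prime_two⟩
  haveI := simple_m22
  have h := hyp_m22
  obtain ⟨-, hu0, hu0'⟩ := SingleBlock.mem_m22 u
  have hu3 : (u : Equiv.Perm GolayPt) ^ 3 = 1 := by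
    rw [← SubmonoidClass.coe_pow, ← hu, pow_orderOf_eq_one]; rfl
  have h6 := card_fixed_three hu
  obtain ⟨a, haU, hane, hane'⟩ : ∃ a, (u : Equiv.Perm GolayPt) a = a ∧ a ≠ none ∧ a ≠ some 0 := by
    obtain ⟨a, ha, hne⟩ := Finset.exists_mem_notMem_of_card_lt_card
      (show ({none, some 0} : Finset GolayPt).card < (fixPts (u : Equiv.Perm GolayPt)).card by
        rw [h6]; exact lt_of_le_of_lt Finset.card_le_two (by norm_num))
    simp only [Finset.mem_insert, Finset.mem_singleton, not_or] at hne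
    exact ⟨a, mem_fixPts.1 ha, hne⟩
  have hπF : (u : Equiv.Perm GolayPt) (π a) = π a ∧ π a ≠ none ∧ π a ≠ some 0 :=
    ⟨mem_fixPts.1 ((fixPts_invariant hπu a).2 (mem_fixPts.2 haU)),
      fun e => hane' (π.injective (e.trans hba.symm)),
      fun e => hane (π.injective (e.trans hab.symm))⟩
  obtain ⟨v₀, hv₀, hv₀a⟩ := four_regular hu haU hane hane' hπF.1 hπF.2.1 hπF.2.2
  obtain ⟨hv₀M, hv₀0, hv₀0'⟩ := SingleBlock.mem_m22 v₀
  set g := (v₀ : Equiv.Perm GolayPt) * π with hg
  have hgM : g ∈ M24 := mul_mem hv₀M hπ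
  have hgu : Commute g (u : Equiv.Perm GolayPt) :=
    ((show Commute v₀ u from hv₀.2).map Spor.M22.subtype).mul_left hπu
  have hga : g a = a := by
    show (v₀ : Equiv.Perm GolayPt) (π a) = a
    rw [← hv₀a]
    exact Equiv.Perm.ext_iff.1 (congrArg Subtype.val hv₀.1) a
  have hg0 : g none = some 0 := by
    show (v₀ : Equiv.Perm GolayPt) (π none) = some 0
    rw [hab, hv₀0']
  have hg0' : g (some 0) = none := by
    show (v₀ : Equiv.Perm GolayPt) (π (some 0)) = none
    rw [hba, hv₀0]
  -- `g` fixes the four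
  have hgfix : ∀ p, (u : Equiv.Perm GolayPt) p = p → p ≠ none → p ≠ some 0 → g p = p := by
    intro p hp hp1 hp2
    obtain ⟨w, hw, rfl⟩ := four_regular hu haU hane hane' hp hp1 hp2
    have hc : Commute g (w : Equiv.Perm GolayPt) :=
      ((h.commute_four hu hv₀ hw).map Spor.M22.subtype).mul_left (hπV w hw)
    show g ((w : Equiv.Perm GolayPt) a) = (w : Equiv.Perm GolayPt) a
    rw [show g ((w : Equiv.Perm GolayPt) a) = (w : Equiv.Perm GolayPt) (g a) from
      Equiv.Perm.ext_iff.1 hc.eq a, hga]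
  obtain ⟨m, hm, hgpow⟩ : ∃ m, 1 ≤ m ∧ g ^ 2 ^ m = 1 := by
    refine ⟨n + 1, by omega, ?_⟩
    have e1 : (v₀ : Equiv.Perm GolayPt) ^ 2 ^ (n + 1) = 1 := by
      rw [pow_succ' 2 n, pow_mul, sq, ← Subgroup.coe_mul, hv₀.1, Subgroup.coe_one, one_pow]
    have e2 : π ^ 2 ^ (n + 1) = 1 := by rw [pow_succ 2 n, pow_mul, hn, one_pow]
    rw [hg, (hπV v₀ hv₀).symm.mul_pow, e1, e2, one_mul]
  -- its square is trivial
  have hsq : g * g = 1 := by
    by_contra hne
    obtain ⟨j, hj1, hjne, hjeq⟩ : ∃ j, 1 ≤ j ∧ g ^ 2 ^ j ≠ 1 ∧ g ^ 2 ^ (j + 1) = 1 := by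
      have key : ∀ d, g ^ 2 ^ (1 + d) = 1 → ∃ j, 1 ≤ j ∧ g ^ 2 ^ j ≠ 1 ∧ g ^ 2 ^ (j + 1) = 1 := by
        intro d
        induction d with
        | zero => intro h1; rw [add_zero, pow_one, sq] at h1; exact absurd h1 hne
        | succ d ih =>
          intro h1
          by_cases h2 : g ^ 2 ^ (1 + d) = 1
          · exact ih h2
          · exact ⟨1 + d, by omega, h2, h1⟩
      exact key (m - 1) (by rw [show 1 + (m - 1) = m by omega]; exact hgpow)
    set k := g ^ 2 ^ j with hk
    have hk2 : orderOf k = 2 := orderOf_eq_prime (by rw [hk, ← pow_mul, ← pow_succ]; exact hjeq) hjne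
    obtain ⟨j', rfl⟩ : ∃ j', j = j' + 1 := ⟨j - 1, by omega⟩
    have hkall : ∀ p, (u : Equiv.Perm GolayPt) p = p → k p = p := by
      intro p hp
      have h2p : (g * g) p = p := by
        show g (g p) = p
        by_cases hp1 : p = none
        · subst hp1; rw [hg0, hg0']
        by_cases hp2 : p = some 0
        · subst hp2; rw [hg0', hg0]
        rw [hgfix p hp hp1 hp2, hgfix p hp hp1 hp2]
      rw [hk, pow_succ' 2 j', pow_mul, sq]
      exact Equiv.Perm.pow_apply_eq_self_of_apply_eq_self h2p _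
    have h3 := fixed_mod_three hu3 (pow_mem hgM _) hk2 (hgu.pow_left _) (hkall none hu0)
    rw [Finset.filter_true_of_mem fun p hp => hkall p (mem_fixPts.1 hp), h6] at h3
    omega
  have hg1 : g ≠ 1 := fun e => by rw [e] at hg0; simp at hg0
  have h3 := fixed_mod_three hu3 hgM (orderOf_eq_prime (by rw [sq]; exact hsq) hg1) hgu hga
  have hfour : ((fixPts (u : Equiv.Perm GolayPt)).filter fun p => g p = p) =
      ((fixPts (u : Equiv.Perm GolayPt)).erase none).erase (some 0) := by
    ext p
    simp only [Finset.mem_filter, Finset.mem_erase, mem_fixPts]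
    constructor
    · rintro ⟨hp, hgp⟩
      refine ⟨?_, ?_, hp⟩ <;> rintro rfl
      · rw [hg0'] at hgp; simp at hgp
      · rw [hg0] at hgp; simp at hgp
    · rintro ⟨hp2, hp1, hp⟩
      exact ⟨hp, hgfix p hp hp1 hp2⟩
  rw [hfour, Finset.card_erase_of_mem (Finset.mem_erase.2 ⟨by simp, mem_fixPts.2 hu0'⟩),
    Finset.card_erase_of_mem (mem_fixPts.2 hu0), h6] at h3
  omega

end Cfsg.Agent.J4Type
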