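/-
Facts on M22 and its automorphism group for the 3-local part of the Janko-four type.

Main results (namespace `Cfsg.Agent.J4Type`):
* `involution_square` : involutions of M22 are squares
* `inner` : the inner automorphisms; `eq_inner_of_index_two`, `inner_index`, `natCard_aut`
* `exists_inner_three` : automorphisms of order 3 are inner
* `card_aut_centralizer_three` : their centralisers have order 72
* `center_le_commutator` : in a Sylow 2-subgroup of such a centraliser central elements are commutators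
* `card_normalizer_nine`, `card_aut_normalizer_nine` : 72 and 144
-/
import Cfsg.Agent.Lib.J4Type.ThreePerm
import Cfsg.Agent.Lib.OrderM22.Four
import Cfsg.Prelude.Def_KGroupFacts

set_option autoImplicit false
set_option linter.unusedSectionVars false
set_option linter.style.haveILetI false

open Cfsg
open scoped commutatorElement

namespace Cfsg.Agent.J4Type

open Cfsg.Agent.OrderM22 Subgroup

/-- The inner automorphisms of M22. -/
noncomputable def inner : ↥Spor.M22 →* MulAut ↥Spor.M22 := MulAut.conj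

theorem inner_apply (k g : ↥Spor.M22) : inner k g = k * g * k⁻¹ := rfl

theorem center_m22 : Subgroup.center ↥Spor.M22 = ⊥ := by
  haveI := simple_m22
  refine ((inferInstance : (Subgroup.center ↥Spor.M22).Normal).eq_bot_or_eq_top).resolve_right fun h => ?_
  exact hyp_m22.not_comm ⟨⟨fun a b => Subgroup.mem_center_iff.1 (h ▸ Subgroup.mem_top b) a⟩⟩

theorem inner_injective : Function.Injective inner := by
  refine (injective_iff_map_eq_one inner).2 fun k hk => ?_
  have h : k ∈ Subgroup.center ↥Spor.M22 := Subgroup.mem_center_iff.2 fun g => by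
    have h1 : k * g * k⁻¹ = g := by rw [← inner_apply, hk]; rfl
    exact (mul_inv_eq_iff_eq_mul.1 h1).symm
  rwa [center_m22, Subgroup.mem_bot] at h

theorem inner_conj (α : MulAut ↥Spor.M22) (k : ↥Spor.M22) : α * inner k * α⁻¹ = inner (α k) := by
  refine MulEquiv.ext fun g => ?_
  show α (k * α⁻¹ g * k⁻¹) = α k * g * (α k)⁻¹
  rw [map_mul, map_mul, map_inv, MulAut.apply_inv_self]

theorem inner_index : inner.range.index = 2 := by
  rw [Subgroup.index_eq_card]
  exact Golay.natCard_out_M22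

instance inner_normal : inner.range.Normal :=
  ⟨by
    rintro _ ⟨k, rfl⟩ α
    exact ⟨α k, (inner_conj α k).symm⟩⟩

theorem natCard_inner : Nat.card inner.range = 443520 := by
  rw [← Nat.card_congr (MonoidHom.ofInjective inner_injective).toEquiv]
  exact hyp_m22.card

theorem natCard_aut : Nat.card (MulAut ↥Spor.M22) = 887040 := by
  rw [← inner.range.card_mul_index, natCard_inner, inner_index]

theorem eq_inner_of_index_two (M : Subgroup (MulAut ↥Spor.M22)) (hM : M.index = 2) :
    M = inner.range := by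
  haveI := simple_m22
  haveI : M.Normal := Subgroup.normal_of_index_eq_two hM
  set K := M.comap inner with hK
  have hd : K.index ∣ 2 := by
    rw [hK, Subgroup.index_comap, ← hM]
    exact Subgroup.relIndex_dvd_index_of_normal M _
  rcases (inferInstance : K.Normal).eq_bot_or_eq_top with h | h
  · rw [h, Subgroup.index_bot, hyp_m22.card] at hd
    norm_num at hd
  · have hle : inner.range ≤ M := by
      rintro _ ⟨k, rfl⟩
      exact show k ∈ K from h ▸ Subgroup.mem_top k
    refine (Subgroup.eq_of_le_of_card_ge hle ?_).symm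
    have h1 := M.card_mul_index
    have h2 := inner.range.card_mul_index
    rw [hM] at h1
    rw [inner_index] at h2
    omega

theorem exists_inner_three {a : MulAut ↥Spor.M22} (ha : orderOf a = 3) :
    ∃ u, orderOf u = 3 ∧ inner u = a := by
  have h : a ∈ inner.range := by
    rw [show a = (a ^ 2) ^ 2 by
      rw [← pow_mul, show 2 * 2 = 3 + 1 from rfl, pow_succ, ← ha, pow_orderOf_eq_one, one_mul]]
    exact Subgroup.sq_mem_of_index_two inner_index _
  obtain ⟨u, rfl⟩ := h
  exact ⟨u, by rw [← orderOf_injective inner inner_injective u, ha], rfl⟩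

/-- Involutions are squares. -/
theorem involution_square {t : ↥Spor.M22} (ht : orderOf t = 2) : ∃ k, k * k = t := by
  haveI := simple_m22
  haveI : Fact (Nat.Prime 2) := ⟨Nat.prime_two⟩
  have h := hyp_m22
  by_contra hcon
  push Not at hcon
  -- then there is no element of order four
  have hno : ∀ g : ↥Spor.M22, g ^ 4 = 1 → g * g = 1 := by
    intro g hg
    by_contra hne
    have h2 : orderOf (g * g) = 2 := orderOf_eq_prime (by rw [← sq, ← pow_mul]; exact hg) hne
    obtain ⟨c, hc⟩ := isConj_iff.1 (h.one_class h2 ht)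
    refine hcon (c * g * c⁻¹) ?_
    rw [← hc]
    group
  obtain ⟨Q, hQ⟩ := h.exists_core ht
  have hQ1 : ∀ q ∈ Q, q * q = 1 := by
    intro q hq
    obtain ⟨n, hn⟩ := hQ.isPGroup ⟨q, hq⟩
    have hn' : q ^ 2 ^ n = 1 := congrArg Subtype.val hn
    clear hn
    induction n generalizing q with
    | zero => rw [pow_zero, pow_one] at hn'; rw [hn', one_mul]
    | succ n ih =>
      have h1 := ih (q * q) (Q.mul_mem hq hq) (by rw [← sq, ← pow_mul, ← pow_succ']; exact hn')
      exact hno q (by rw [show 4 = 2 * 2 from rfl, pow_mul, sq q, sq]; exact h1)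
  haveI : Fact (Nat.Prime 3) := ⟨by norm_num⟩
  have h3 : 3 ∣ Nat.card (Subgroup.centralizer ({t} : Set ↥Spor.M22)) := by
    rw [h.card_centralizer_two ht]; norm_num
  obtain ⟨⟨x, hxC⟩, hx⟩ := exists_prime_orderOf_dvd_card' (G := Subgroup.centralizer ({t} : Set ↥Spor.M22)) 3 h3
  rw [Subgroup.orderOf_mk] at hx
  refine h.not_central hQ ht hx (Subgroup.mem_centralizer_singleton_iff.1 hxC) fun q hq v hv => ?_
  have hvQ : v ∈ Q := hQ.four_le h ht hx (Subgroup.mem_centralizer_singleton_iff.1 hxC) hv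
  have e : ∀ y ∈ Q, y⁻¹ = y := fun y hy => inv_eq_of_mul_eq_one_right (hQ1 y hy)
  show q * v = v * q
  rw [← e _ (Q.mul_mem hq hvQ), mul_inv_rev, e q hq, e v hvQ]

/-- The centraliser of an automorphism of order 3. -/
theorem card_aut_centralizer_three {a : MulAut ↥Spor.M22} (ha : orderOf a = 3) :
    Nat.card (Subgroup.centralizer ({a} : Set (MulAut ↥Spor.M22))) = 72 := by
  haveI := simple_m22
  obtain ⟨u, hu, rfl⟩ := exists_inner_three ha
  set C := Subgroup.centralizer ({inner u} : Set (MulAut ↥Spor.M22)) with hC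
  have hinter : C ⊓ inner.range = (Subgroup.centralizer ({u} : Set ↥Spor.M22)).map inner := by
    ext α
    constructor
    · rintro ⟨hα, k, rfl⟩
      refine ⟨k, Subgroup.mem_centralizer_singleton_iff.2 (inner_injective ?_), rfl⟩
      rw [map_mul, map_mul]
      exact Subgroup.mem_centralizer_singleton_iff.1 hα
    · rintro ⟨k, hk, rfl⟩
      refine ⟨Subgroup.mem_centralizer_singleton_iff.2 ?_, k, rfl⟩
      rw [← map_mul, ← map_mul, Subgroup.mem_centralizer_singleton_iff.1 hk]
  have h36 : Nat.card ↥(C ⊓ inner.range) = 36 := by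
    rw [hinter, ← Nat.card_congr (Subgroup.equivMapOfInjective _ inner inner_injective).toEquiv]
    exact hyp_m22.card_centralizer_three hu
  obtain ⟨β, hβ⟩ : ∃ β : MulAut ↥Spor.M22, β ∉ inner.range := by
    by_contra hall
    push Not at hall
    have h := inner_index
    rw [(Subgroup.eq_top_iff' _).2 hall, Subgroup.index_top] at h
    norm_num at h
  obtain ⟨c, hc⟩ := isConj_iff.1 (hyp_m22.one_class_three (u := β u) (v := u)
    (by rw [← hu]; exact MulEquiv.orderOf_eq β u) hu)
  have hγ : inner c * β ∈ C := by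
    refine Subgroup.mem_centralizer_singleton_iff.2 (mul_inv_eq_iff_eq_mul.1 ?_)
    rw [show inner c * β * inner u * (inner c * β)⁻¹ = inner c * (β * inner u * β⁻¹) * (inner c)⁻¹ by
      group, inner_conj, ← map_inv, ← map_mul, ← map_mul, hc]
  have hγ' : inner c * β ∉ inner.range := fun h => hβ ((Subgroup.mul_mem_cancel_left _ (show inner c ∈ inner.range from ⟨c, rfl⟩)).1 h)
  have hrel : inner.range.relIndex C = 2 := by
    have hd : inner.range.relIndex C ∣ 2 := inner_index ▸ Subgroup.relIndex_dvd_index_of_normal _ _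
    rcases (Nat.dvd_prime Nat.prime_two).1 hd with h | h
    · exact absurd (Subgroup.relIndex_eq_one.1 h hγ) hγ'
    · exact h
  rw [← (inner.range.subgroupOf C).card_mul_index]
  rw [show Nat.card (inner.range.subgroupOf C) = Nat.card ↥(C ⊓ inner.range) from
    (Nat.card_congr (Subgroup.subgroupOfEquivOfLe (show C ⊓ inner.range ≤ C from inf_le_left)).toEquiv).symm.trans
      (by rw [Subgroup.inf_subgroupOf_left]) |>.symm, h36]
  show 36 * inner.range.relIndex C = 72
  rw [hrel]

/-- An outer 2-element centralising `u` moves its four group. -/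
theorem outer_moves_four {u : ↥Spor.M22} (hu : orderOf u = 3) {β : MulAut ↥Spor.M22}
    (hβ : β ∉ inner.range) {n : ℕ} (hn : β ^ 2 ^ n = 1) (hβu : β u = u)
    (hβV : ∀ v ∈ four u, β v = v) : False := by
  obtain ⟨π, hπM, hπ, hπβ⟩ := Golay.exists_perm_of_mulAut_M22 β
  rcases hπ with ⟨h1, h2⟩ | ⟨h1, h2⟩
  · exact hβ ⟨⟨π, Golay.mem_M22_of_fix hπM h1 h2⟩, MulEquiv.ext fun g => Subtype.ext (hπβ g).symm⟩
  have hcomm : ∀ g : ↥Spor.M22, β g = g → Commute π (g : Equiv.Perm GolayPt) := fun g hg =>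
    mul_inv_eq_iff_eq_mul.1 (by rw [← hπβ g, hg])
  have hpow : ∀ (m : ℕ) (g : ↥Spor.M22),
      ((β ^ m) g : Equiv.Perm GolayPt) = π ^ m * g * (π ^ m)⁻¹ := by
    intro m
    induction m with
    | zero => intro g; simp
    | succ m ih =>
      intro g
      rw [pow_succ, MulAut.mul_apply, ih, hπβ, pow_succ]
      group
  have hfix : (π ^ 2 ^ (n + 1)) none = none ∧ (π ^ 2 ^ (n + 1)) (some 0) = some 0 := by
    rw [pow_succ' 2 n, pow_mul]
    refine ⟨Equiv.Perm.pow_apply_eq_self_of_apply_eq_self ?_ _,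
      Equiv.Perm.pow_apply_eq_self_of_apply_eq_self ?_ _⟩
    · rw [sq, Equiv.Perm.mul_apply, h1, h2]
    · rw [sq, Equiv.Perm.mul_apply, h2, h1]
  set k : ↥Spor.M22 := ⟨π ^ 2 ^ (n + 1), Golay.mem_M22_of_fix (pow_mem hπM _) hfix.1 hfix.2⟩ with hk
  have hk1 : k = 1 := by
    refine inner_injective ((?_ : inner k = 1).trans (map_one inner).symm)
    refine MulEquiv.ext fun g => Subtype.ext ?_
    show π ^ 2 ^ (n + 1) * (g : Equiv.Perm GolayPt) * (π ^ 2 ^ (n + 1))⁻¹ = g
    rw [← hpow, pow_succ 2 n, pow_mul, hn, one_pow]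
    rfl
  exact no_outer_four hu hπM h1 h2 (n := n + 1) (congrArg Subtype.val hk1)
    (hcomm u hβu) fun v hv => hcomm v (hβV v hv)

/-- A Sylow 2-subgroup of the centraliser of an automorphism of order 3 is not abelian. -/
theorem not_comm_two {a : MulAut ↥Spor.M22} (ha : orderOf a = 3) {S : Subgroup (MulAut ↥Spor.M22)}
    (hS : S ≤ Subgroup.centralizer ({a} : Set (MulAut ↥Spor.M22))) (h8 : Nat.card S = 8) :
    ∃ s ∈ S, ∃ t ∈ S, ¬ Commute s t := by
  by_contra hcon
  push Not at hcon
  haveI := simple_m22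
  haveI : Fact (Nat.Prime 2) := ⟨Nat.prime_two⟩
  obtain ⟨u, hu, rfl⟩ := exists_inner_three ha
  set C := Subgroup.centralizer ({inner u} : Set (MulAut ↥Spor.M22)) with hC
  set V := (hyp_m22.V hu).map inner with hV
  have hVC : V ≤ C := by
    rintro _ ⟨v, hv, rfl⟩
    refine Subgroup.mem_centralizer_singleton_iff.2 ?_
    rw [← map_mul, ← map_mul, (show Commute v u from hv.2).eq]
  have hV2 : IsPGroup 2 V := fun ⟨_, v, hv, rfl⟩ => ⟨1, Subtype.ext (by
    rw [pow_one, SubmonoidClass.coe_pow, ← map_pow, sq, hv.1, map_one]; rfl)⟩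
  have hVn : ∀ c ∈ C, ∀ x ∈ V, c * x * c⁻¹ ∈ V := by
    rintro c hc _ ⟨v, hv, rfl⟩
    have hcu : c u = u := inner_injective (by
      rw [← inner_conj, Subgroup.mem_centralizer_singleton_iff.1 hc, mul_inv_cancel_right])
    refine ⟨c v, ⟨by rw [← map_mul, hv.1, map_one], ?_⟩, (inner_conj c v).symm⟩
    have := (show Commute v u from hv.2).map c.toMonoidHom
    simpa [hcu] using this
  have h72 := card_aut_centralizer_three ha
  rw [← hC] at h72
  have hS2 : IsPGroup 2 S := IsPGroup.of_card (n := 3) (by rw [h8]; norm_num)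
  -- `S` is a Sylow subgroup of `C`, so it contains `V`
  have hVS : V ≤ S := by
    have hp : IsPGroup 2 ↥(S ⊔ V) := hS2.to_sup_of_normal_right' hV2 fun s hs =>
      Subgroup.mem_normalizer_iff.2 fun x => ⟨hVn s (hS hs) x, fun hx => by
        have := hVn s⁻¹ (C.inv_mem (hS hs)) _ hx
        simpa [mul_assoc] using this⟩
    obtain ⟨k, hk⟩ := IsPGroup.iff_card.1 hp
    have hd : 2 ^ k ∣ 72 := hk ▸ h72 ▸ Subgroup.card_dvd_of_le (sup_le hS hVC)
    have hk3 : k ≤ 3 := by
      by_contra hlt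
      have := (pow_dvd_pow 2 (show 4 ≤ k by omega)).trans hd
      norm_num at this
    have heq : S = S ⊔ V := Subgroup.eq_of_le_of_card_ge le_sup_left (by
      rw [h8, hk]
      exact le_trans (Nat.pow_le_pow_right (by norm_num) hk3) (by norm_num))
    exact heq ▸ le_sup_right
  -- and an outer element
  obtain ⟨β, hβS, hβ⟩ : ∃ β ∈ S, β ∉ inner.range := by
    by_contra hall
    push Not at hall
    have hle : S ≤ (Subgroup.centralizer ({u} : Set ↥Spor.M22)).map inner := by
      intro s hs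
      obtain ⟨k, rfl⟩ := hall s hs
      refine ⟨k, Subgroup.mem_centralizer_singleton_iff.2 (inner_injective ?_), rfl⟩
      rw [map_mul, map_mul]
      exact Subgroup.mem_centralizer_singleton_iff.1 (hS hs)
    have := Subgroup.card_dvd_of_le hle
    rw [h8, ← Nat.card_congr (Subgroup.equivMapOfInjective _ inner inner_injective).toEquiv,
      hyp_m22.card_centralizer_three hu] at this
    norm_num at this
  obtain ⟨n, hn⟩ := hS2 ⟨β, hβS⟩
  refine outer_moves_four hu hβ (n := n) (congrArg Subtype.val hn) ?_ fun v hv => inner_injective ?_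
  · exact inner_injective (by
      rw [← inner_conj, Subgroup.mem_centralizer_singleton_iff.1 (hS hβS), mul_inv_cancel_right])
  · rw [← inner_conj, (hcon β hβS (inner v) (hVS ⟨v, hv, rfl⟩)).eq, mul_inv_cancel_right]

/-- Central elements of such a Sylow 2-subgroup are commutators. -/
theorem center_le_commutator {a : MulAut ↥Spor.M22} (ha : orderOf a = 3)
    {S : Subgroup (MulAut ↥Spor.M22)} (hS : S ≤ Subgroup.centralizer ({a} : Set (MulAut ↥Spor.M22)))
    (h8 : Nat.card S = 8) {x : MulAut ↥Spor.M22} (hx : x ∈ S) (hc : ∀ t ∈ S, Commute x t) :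
    x ∈ ⁅S, S⁆ := by
  haveI : Fact (Nat.Prime 2) := ⟨Nat.prime_two⟩
  obtain ⟨s, hs, t, ht, hst⟩ := not_comm_two ha hS h8
  set Z := Subgroup.center ↥S with hZ
  have hncyc : ¬ IsCyclic (↥S ⧸ Z) := fun hcyc => hst (congrArg Subtype.val
    (commutative_of_cyclic_center_quotient (QuotientGroup.mk' Z)
      (le_of_eq (QuotientGroup.ker_mk' Z)) ⟨s, hs⟩ ⟨t, ht⟩))
  have hS2 : IsPGroup 2 S := IsPGroup.of_card (n := 3) (by rw [h8]; norm_num)
  haveI : Nontrivial S := ⟨⟨⟨s, hs⟩, 1, fun e => hst (by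
    rw [show s = 1 from congrArg Subtype.val e]; exact Commute.one_left t)⟩⟩
  have hZ2 : Nat.card Z = 2 := by
    have h1 : 1 < Nat.card Z := Finite.one_lt_card_iff_nontrivial.2 hS2.center_nontrivial
    have hd := Z.card_mul_index
    rw [h8] at hd
    by_contra hne
    have h8' : Nat.card Z ∣ 2 ^ 3 := ⟨Z.index, hd.symm⟩
    obtain ⟨k, hk, hkk⟩ := (Nat.dvd_prime_pow Nat.prime_two).1 h8'
    have hidx : Z.index = 2 ∨ Z.index = 1 := by
      interval_cases k <;> rw [hkk] at hd h1 hne <;> first | omega | (norm_num at hd h1 hne; omega) | (norm_num at hd h1 hne)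
    refine hncyc ?_
    rcases hidx with h | h
    · exact isCyclic_of_prime_card (p := 2) (by rw [← Subgroup.index_eq_card]; exact h)
    · haveI : Subsingleton (↥S ⧸ Z) := (Nat.card_eq_one_iff_unique.1
        (by rw [← Subgroup.index_eq_card]; exact h)).1
      exact isCyclic_of_subsingleton
  have h4 : Nat.card (↥S ⧸ Z) = 2 ^ 2 := by
    have hd := Z.card_mul_index
    rw [h8, hZ2] at hd
    rw [← Subgroup.index_eq_card]
    omega
  haveI := IsPGroup.isMulCommutative_of_card_eq_prime_sq h4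
  -- the commutator is the central involution
  have hcm : (⟨s, hs⟩ : S) * ⟨t, ht⟩ * (⟨s, hs⟩ : S)⁻¹ * (⟨t, ht⟩ : S)⁻¹ ∈ Z := by
    rw [← QuotientGroup.eq_one_iff, QuotientGroup.mk_mul, QuotientGroup.mk_mul, QuotientGroup.mk_mul,
      mul_comm' ((⟨s, hs⟩ : S) : ↥S ⧸ Z) ((⟨t, ht⟩ : S) : ↥S ⧸ Z), QuotientGroup.mk_inv,
      QuotientGroup.mk_inv]
    group
  by_cases hx1 : x = 1
  · rw [hx1]; exact one_mem _
  obtain ⟨y, -, hy⟩ := (Nat.card_eq_two_iff' (1 : Z)).1 hZ2
  have e1 := hy ⟨⟨x, hx⟩, Subgroup.mem_center_iff.2 fun q => Subtype.ext (hc q q.2).eq.symm⟩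
    fun e => hx1 (congrArg Subtype.val (congrArg Subtype.val e))
  have e2 := hy ⟨_, hcm⟩ fun e => hst (mul_inv_eq_iff_eq_mul.1
    (mul_inv_eq_one.1 (congrArg Subtype.val (congrArg Subtype.val e))))
  rw [show x = ⁅s, t⁆ by
    rw [commutatorElement_def]
    exact congrArg Subtype.val (congrArg Subtype.val (e1.trans e2.symm))]
  exact Subgroup.commutator_mem_commutator hs ht

section nine

theorem not_commute_four {u : ↥Spor.M22} {P : Subgroup ↥Spor.M22} (hP : Nat.card P = 9) (hu : u ∈ P)
    (huo : orderOf u = 3) {v : ↥Spor.M22} (hv : v ∈ four u) (hv1 : v ≠ 1)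
    (hvP : ∀ p ∈ P, v * p * v⁻¹ ∈ P) : False := by
  haveI := simple_m22
  obtain ⟨p, hp, hne⟩ := hyp_m22.not_centralize_nine (orderOf_of_mem_four hv hv1) hP
  haveI : Fact (Nat.Prime 3) := ⟨by norm_num⟩
  haveI := IsPGroup.isMulCommutative_of_card_eq_prime_sq
    (show Nat.card P = 3 ^ 2 by rw [hP]; norm_num)
  have hup : Commute p u := congrArg Subtype.val (mul_comm' (⟨p, hp⟩ : P) ⟨u, hu⟩)
  have hfour : p * v⁻¹ * p⁻¹ ∈ four u := by
    rw [inv_eq_of_mul_eq_one_right hv.1]
    exact ⟨by rw [show p * v * p⁻¹ * (p * v * p⁻¹) = p * (v * v) * p⁻¹ by group, hv.1]; group,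
      (hup.mul_left hv.2).mul_left hup.inv_left⟩
  have h1 := (hyp_m22.four_spec huo).2.1 v hv _ hfour
  have h2 : v * (p * v⁻¹ * p⁻¹) ∈ P := by
    rw [show v * (p * v⁻¹ * p⁻¹) = v * p * v⁻¹ * p⁻¹ by group]
    exact P.mul_mem (hvP p hp) (P.inv_mem hp)
  refine hne ?_
  have h3 : v * (p * v⁻¹ * p⁻¹) = 1 := by
    by_contra hne1
    have hd := Subgroup.orderOf_dvd_natCard P h2
    rw [hP, orderOf_of_mem_four h1 hne1] at hd
    norm_num at hd
  rw [show v * (p * v⁻¹ * p⁻¹) = v * p * v⁻¹ * p⁻¹ by group, mul_inv_eq_one,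
    mul_inv_eq_iff_eq_mul] at h3
  exact h3

theorem card_normalizer_nine {P : Subgroup ↥Spor.M22} (hP : Nat.card P = 9) :
    Nat.card (Subgroup.normalizer (P : Set ↥Spor.M22)) = 72 := by
  classical
  haveI := simple_m22
  haveI : Fact (Nat.Prime 3) := ⟨by norm_num⟩
  have h := hyp_m22
  have hP2 : Nat.card P = 3 ^ 2 := by rw [hP]; norm_num
  haveI hPc := IsPGroup.isMulCommutative_of_card_eq_prime_sq hP2
  have horder : ∀ p ∈ P, p ≠ 1 → orderOf p = 3 := by
    intro p hp hp1
    have hd : orderOf p ∣ 3 ^ 2 := hP2 ▸ Subgroup.orderOf_dvd_natCard P hp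
    obtain ⟨i, hi, he⟩ := (Nat.dvd_prime_pow (by norm_num)).1 hd
    interval_cases i
    · exact absurd (orderOf_eq_one_iff.1 (by simpa using he)) hp1
    · simpa using he
    · exact absurd (by simpa using he) (h.no_nine p)
  let PS : Sylow 3 ↥Spor.M22 := (IsPGroup.of_card hP2).toSylow (by
    have hi := P.card_mul_index
    rw [hP, h.card] at hi
    intro hd
    obtain ⟨m, hm⟩ := hd
    omega)
  obtain ⟨⟨x, hxP⟩, hx⟩ := exists_prime_orderOf_dvd_card' (G := P) 3 (by rw [hP]; norm_num)
  rw [Subgroup.orderOf_mk] at hx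
  set N := Subgroup.normalizer (P : Set ↥Spor.M22) with hN
  have hx1 : x ≠ 1 := fun e => by rw [e, orderOf_one] at hx; norm_num at hx
  let T := {y : ↥Spor.M22 // y ∈ P ∧ y ≠ 1}
  have hT : Nat.card T = 8 := by
    have h8 := Set.ncard_sdiff_singleton_of_mem (s := (P : Set ↥Spor.M22)) P.one_mem
    rw [show (P : Set ↥Spor.M22).ncard = Nat.card P from (Nat.card_coe_set_eq _).symm, hP,
      ← Nat.card_coe_set_eq] at h8
    exact h8
  have hn : ∀ y : T, ∃ n ∈ N, n * x * n⁻¹ = y.1 := by
    rintro ⟨y, hy, hy1⟩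
    obtain ⟨g, hg⟩ := isConj_iff.1 (h.one_class_three hx (horder y hy hy1))
    obtain ⟨n, hn, hn'⟩ := Sylow.conj_eq_normalizer_conj_of_mem PS x g⁻¹ hxP
      (by rw [inv_inv, hg]; exact hy) (_hP := hPc)
    rw [inv_inv, hg] at hn'
    exact ⟨n⁻¹, N.inv_mem hn, by rw [inv_inv]; exact hn'.symm⟩
  choose nn hnn hnx using hn
  -- the stabiliser is `P`
  have hstab : ∀ c ∈ N, Commute c x → c ∈ P := by
    intro c hcN hcx
    set C := Subgroup.centralizer ({x} : Set ↥Spor.M22) with hC
    have hPC : P ≤ C := fun p hp => Subgroup.mem_centralizer_singleton_iff.2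
      (congrArg Subtype.val (mul_comm' (⟨p, hp⟩ : P) ⟨x, hxP⟩))
    have hsurj : Function.Bijective (fun vp : h.V hx × P =>
        (⟨(vp.1 : ↥Spor.M22) * vp.2, C.mul_mem
          (Subgroup.mem_centralizer_singleton_iff.2 vp.1.2.2.eq) (hPC vp.2.2)⟩ : C)) := by
      rw [Nat.bijective_iff_injective_and_card, Nat.card_prod, h.card_V hx, hP,
        h.card_centralizer_three hx]
      refine ⟨?_, rfl⟩
      rintro ⟨v, p⟩ ⟨v', p'⟩ e
      have e' : (v : ↥Spor.M22) * p = v' * p' := congrArg Subtype.val e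
      have he : (v' : ↥Spor.M22)⁻¹ * v = p' * (p : ↥Spor.M22)⁻¹ := by
        rw [inv_mul_eq_iff_eq_mul, ← mul_assoc, ← e', mul_inv_cancel_right]
      have h1 : (v' : ↥Spor.M22)⁻¹ * v = 1 := by
        by_contra hne
        have hd := Subgroup.orderOf_dvd_natCard P (he ▸ P.mul_mem p'.2 (P.inv_mem p.2))
        rw [hP, orderOf_of_mem_four ((h.V hx).mul_mem ((h.V hx).inv_mem v'.2) v.2) hne] at hd
        norm_num at hd
      rw [inv_mul_eq_one] at h1
      have hv : v = v' := Subtype.ext h1.symm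
      subst hv
      exact Prod.ext rfl (Subtype.ext (mul_left_cancel e'))
    obtain ⟨⟨v, p⟩, hvp⟩ := hsurj.2 ⟨c, Subgroup.mem_centralizer_singleton_iff.2 hcx.eq⟩
    have hvp' : (v : ↥Spor.M22) * p = c := congrArg Subtype.val hvp
    have hv1 : (v : ↥Spor.M22) = 1 := by
      by_contra hne
      refine not_commute_four hP hxP hx v.2 hne fun q hq => ?_
      have hvN : (v : ↥Spor.M22) ∈ N := by
        rw [show (v : ↥Spor.M22) = c * (p : ↥Spor.M22)⁻¹ by rw [← hvp', mul_inv_cancel_right]]
        exact N.mul_mem hcN (N.inv_mem (Subgroup.le_normalizer p.2))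
      exact (Subgroup.mem_normalizer_iff.1 hvN q).1 hq
    rw [← hvp', hv1, one_mul]
    exact p.2
  have hbij : Function.Bijective (fun yp : T × P =>
      (⟨nn yp.1 * yp.2, N.mul_mem (hnn yp.1) (Subgroup.le_normalizer yp.2.2)⟩ : N)) := by
    constructor
    · rintro ⟨y, p⟩ ⟨y', p'⟩ e
      have e' : nn y * p = nn y' * p' := congrArg Subtype.val e
      have hconj : ∀ (y : T) (p : P), nn y * p * x * (nn y * (p : ↥Spor.M22))⁻¹ = y.1 := fun y p => by
        rw [show nn y * p * x * (nn y * (p : ↥Spor.M22))⁻¹ =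
            nn y * ((p : ↥Spor.M22) * x * (p : ↥Spor.M22)⁻¹) * (nn y)⁻¹ by group,
          show (p : ↥Spor.M22) * x = x * p from congrArg Subtype.val (mul_comm' p ⟨x, hxP⟩),
          mul_inv_cancel_right, hnx]
      have hy : y = y' := Subtype.ext (by rw [← hconj y p, e', hconj])
      subst hy
      exact Prod.ext rfl (Subtype.ext (mul_left_cancel e'))
    · rintro ⟨c, hc⟩
      let y : T := ⟨c * x * c⁻¹, (Subgroup.mem_normalizer_iff.1 hc x).1 hxP,
        fun e => hx1 (conj_eq_one_iff.1 e)⟩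
      have hm : (nn y)⁻¹ * c ∈ P := by
        refine hstab _ (N.mul_mem (N.inv_mem (hnn y)) hc) (mul_inv_eq_iff_eq_mul.1 ?_)
        calc (nn y)⁻¹ * c * x * ((nn y)⁻¹ * c)⁻¹ = (nn y)⁻¹ * (c * x * c⁻¹) * nn y := by group
          _ = x := by
            rw [show c * x * c⁻¹ = nn y * x * (nn y)⁻¹ from (hnx y).symm]
            group
      exact ⟨(y, ⟨_, hm⟩), Subtype.ext (mul_inv_cancel_left _ _)⟩
  rw [← Nat.card_eq_of_bijective _ hbij, Nat.card_prod, hT, hP]

theorem card_aut_normalizer_nine {P : Subgroup (MulAut ↥Spor.M22)} (hP : Nat.card P = 9) :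
    Nat.card (Subgroup.normalizer (P : Set (MulAut ↥Spor.M22))) = 144 := by
  haveI : Fact (Nat.Prime 3) := ⟨by norm_num⟩
  have hP2 : Nat.card P = 3 ^ 2 := by rw [hP]; norm_num
  have hle : P ≤ inner.range := by
    intro p hp
    have hd : orderOf p ∣ 3 ^ 2 := hP2 ▸ Subgroup.orderOf_dvd_natCard P hp
    have h9 : p ^ 9 = 1 := orderOf_dvd_iff_pow_eq_one.1 hd
    rw [show p = (p ^ 5) ^ 2 by
      rw [← pow_mul, show 5 * 2 = 9 + 1 from rfl, pow_succ, h9, one_mul]]
    exact Subgroup.sq_mem_of_index_two inner_index _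
  set P0 := P.comap inner with hP0
  have hmap : P0.map inner = P := Subgroup.map_comap_eq_self hle
  have hP0c : Nat.card P0 = 9 := by
    rw [Nat.card_congr (Subgroup.equivMapOfInjective _ inner inner_injective).toEquiv, hmap, hP]
  set N := Subgroup.normalizer (P : Set (MulAut ↥Spor.M22)) with hN
  have hinter : N ⊓ inner.range =
      (Subgroup.normalizer (P0 : Set ↥Spor.M22)).map inner := by
    ext α
    constructor
    · rintro ⟨hα, k, rfl⟩
      refine ⟨k, Subgroup.mem_normalizer_iff.2 fun q => ?_, rfl⟩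
      rw [hP0, Subgroup.mem_comap, Subgroup.mem_comap, map_mul, map_mul, map_inv]
      exact Subgroup.mem_normalizer_iff.1 hα _
    · rintro ⟨k, hk, rfl⟩
      refine ⟨Subgroup.mem_normalizer_iff.2 fun q => ?_, k, rfl⟩
      have aux : ∀ (j : ↥Spor.M22), j ∈ Subgroup.normalizer (P0 : Set ↥Spor.M22) → ∀ q ∈ P,
          inner j * q * (inner j)⁻¹ ∈ P := by
        intro j hj q hq
        obtain ⟨q0, rfl⟩ := hle hq
        have := (Subgroup.mem_normalizer_iff.1 hj q0).1 hq
        rw [hP0, Subgroup.mem_comap, map_mul, map_mul, map_inv] at this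
        exact this
      refine ⟨fun hq => aux k hk q hq, fun hq => ?_⟩
      have := aux k⁻¹ (inv_mem hk) _ hq
      simpa [mul_assoc] using this
  have h72 : Nat.card ↥(N ⊓ inner.range) = 72 := by
    rw [hinter, ← Nat.card_congr (Subgroup.equivMapOfInjective _ inner inner_injective).toEquiv]
    exact card_normalizer_nine hP0c
  obtain ⟨β, hβ⟩ : ∃ β : MulAut ↥Spor.M22, β ∉ inner.range := by
    by_contra hall
    push Not at hall
    have h := inner_index
    rw [(Subgroup.eq_top_iff' _).2 hall, Subgroup.index_top] at h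
    norm_num at h
  set P1 := P0.map β.toMonoidHom with hP1
  have hidx : ∀ (K : Subgroup ↥Spor.M22), Nat.card K = 9 → ¬ 3 ∣ K.index := by
    intro K hK hd
    have hi := K.card_mul_index
    rw [hK, hyp_m22.card] at hi
    obtain ⟨m, hm⟩ := hd
    omega
  have hP1c : Nat.card P1 = 9 := by
    rw [hP1, ← Nat.card_congr (Subgroup.equivMapOfInjective _ _ β.injective).toEquiv, hP0c]
  have hP02 : Nat.card P0 = 3 ^ 2 := by rw [hP0c]; norm_num
  have hP12 : Nat.card P1 = 3 ^ 2 := by rw [hP1c]; norm_num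
  obtain ⟨c, hc⟩ := MulAction.exists_smul_eq ↥Spor.M22
    ((IsPGroup.of_card hP12).toSylow (hidx P1 hP1c)) ((IsPGroup.of_card hP02).toSylow (hidx P0 hP0c))
  have hc' : P1.map (MulAut.conj c).toMonoidHom = P0 := congrArg Sylow.toSubgroup hc
  have hγ : inner c * β ∈ N := by
    rw [hN, Subgroup.mem_normalizer_iff_map_conj_eq]
    conv_rhs => rw [← hmap, ← hc', hP1, Subgroup.map_map, Subgroup.map_map]
    conv_lhs => rw [← hmap, Subgroup.map_map]
    congr 1
    refine MonoidHom.ext fun k => ?_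
    show inner c * β * inner k * (inner c * β)⁻¹ = inner (c * β k * c⁻¹)
    rw [map_mul, map_mul, map_inv, ← inner_conj]
    group
  have hγ' : inner c * β ∉ inner.range := fun h => hβ ((Subgroup.mul_mem_cancel_left _ (show inner c ∈ inner.range from ⟨c, rfl⟩)).1 h)
  have hrel : inner.range.relIndex N = 2 := by
    have hd : inner.range.relIndex N ∣ 2 := inner_index ▸ Subgroup.relIndex_dvd_index_of_normal _ _
    rcases (Nat.dvd_prime Nat.prime_two).1 hd with h | h
    · exact absurd (Subgroup.relIndex_eq_one.1 h hγ) hγ'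
    · exact h
  rw [← (inner.range.subgroupOf N).card_mul_index,
    show Nat.card (inner.range.subgroupOf N) = Nat.card ↥(N ⊓ inner.range) from
    (Nat.card_congr (Subgroup.subgroupOfEquivOfLe (show N ⊓ inner.range ≤ N from inf_le_left)).toEquiv).symm.trans
      (by rw [Subgroup.inf_subgroupOf_left]) |>.symm, h72]
  show 72 * inner.range.relIndex N = 144
  rw [hrel]

end nine

end Cfsg.Agent.J4Type
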