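import Cfsg.Agent.Lib.Golay.IndexSubgroups
import Cfsg.Agent.Lib.J4Type.ThreeFacts
import Cfsg.Agent.Lib.Golay.M22Aut

/-!
Groups of Janko-four type: the stabiliser of a duad in M24 is the automorphism group of M22 (helper26).

* `nonempty_duadStab` : `stabilizer M24 P ≃* MulAut M22` for a duad `P`.
-/

set_option autoImplicit false
set_option linter.unusedSectionVars false

open scoped Pointwise

namespace Cfsg.Agent.J4Type

open Cfsg Cfsg.Agent.Golay MulAction

/-- The deleted pair. -/
def basePair : Finset GolayPt := {none, some 0}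

theorem smul_basePair {π : Equiv.Perm GolayPt}
    (h : π • basePair = basePair) :
    (π none = none ∧ π (some 0) = some 0) ∨ (π none = some 0 ∧ π (some 0) = none) := by
  simp only [basePair, Finset.smul_finset_insert, Finset.smul_finset_singleton, Equiv.Perm.smul_def] at h
  have h1 : π none ∈ ({none, some 0} : Finset GolayPt) := h ▸ by simp
  have h2 : π (some 0) ∈ ({none, some 0} : Finset GolayPt) := h ▸ by simp
  simp only [Finset.mem_insert, Finset.mem_singleton] at h1 h2
  have hne : π none ≠ π (some 0) := fun e => absurd (π.injective e) (by simp)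
  rcases h1 with h1 | h1 <;> rcases h2 with h2 | h2
  · exact absurd (h1.trans h2.symm) hne
  · exact Or.inl ⟨h1, h2⟩
  · exact Or.inr ⟨h1, h2⟩
  · exact absurd (h1.trans h2.symm) hne

theorem conj_mem_m22 {π g : Equiv.Perm GolayPt} (hπ : π ∈ M24) (hP : π • basePair = basePair)
    (hg : g ∈ Spor.M22) : π * g * π⁻¹ ∈ Spor.M22 := by
  obtain ⟨ga, gb, gM⟩ := apply_M22 ⟨g, hg⟩
  rcases smul_basePair hP with ⟨h1, h2⟩ | ⟨h1, h2⟩
  · refine mem_M22_of_fix (mul_mem (mul_mem hπ gM) (inv_mem hπ)) ?_ ?_
    · rw [Equiv.Perm.mul_apply, Equiv.Perm.mul_apply,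
        show π⁻¹ none = none from Equiv.Perm.inv_eq_iff_eq.2 h1.symm, ga, h1]
    · rw [Equiv.Perm.mul_apply, Equiv.Perm.mul_apply,
        show π⁻¹ (some 0) = some 0 from Equiv.Perm.inv_eq_iff_eq.2 h2.symm, gb, h2]
  · refine mem_M22_of_fix (mul_mem (mul_mem hπ gM) (inv_mem hπ)) ?_ ?_
    · rw [Equiv.Perm.mul_apply, Equiv.Perm.mul_apply,
        show π⁻¹ none = some 0 from Equiv.Perm.inv_eq_iff_eq.2 h2.symm, gb, h2]
    · rw [Equiv.Perm.mul_apply, Equiv.Perm.mul_apply,
        show π⁻¹ (some 0) = none from Equiv.Perm.inv_eq_iff_eq.2 h1.symm, ga, h1]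

theorem nonempty_baseStab : Nonempty (↥(stabilizer ↥M24 basePair) ≃* MulAut ↥Spor.M22) := by
  have hc : ∀ σ : ↥(stabilizer ↥M24 basePair), ((σ : ↥M24) : Equiv.Perm GolayPt) • basePair = basePair :=
    fun σ => σ.2
  let act : ↥(stabilizer ↥M24 basePair) → ↥Spor.M22 → ↥Spor.M22 := fun σ g =>
    ⟨((σ : ↥M24) : Equiv.Perm GolayPt) * g * ((σ : ↥M24) : Equiv.Perm GolayPt)⁻¹,
      conj_mem_m22 (σ : ↥M24).2 (hc σ) g.2⟩
  let φ : ↥(stabilizer ↥M24 basePair) →* MulAut ↥Spor.M22 :=
    { toFun := fun σ =>
        { toFun := act σ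
          invFun := act σ⁻¹
          left_inv := fun g => Subtype.ext (by simp only [act, Subgroup.coe_inv]; group)
          right_inv := fun g => Subtype.ext (by simp only [act, Subgroup.coe_inv]; group)
          map_mul' := fun g h => Subtype.ext (by simp only [act, Subgroup.coe_mul]; group) }
      map_one' := MulEquiv.ext fun g => Subtype.ext (by simp [act])
      map_mul' := fun σ τ => MulEquiv.ext fun g => Subtype.ext (by
        simp only [act, MulAut.mul_apply, MulEquiv.coe_mk, Equiv.coe_fn_mk, Subgroup.coe_mul]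
        group) }
  have hsurj : Function.Surjective φ := by
    intro α
    obtain ⟨π, hπ, hab, hact⟩ := exists_perm_of_mulAut_M22 α
    have hs : π • basePair = basePair := by
      simp only [basePair, Finset.smul_finset_insert, Finset.smul_finset_singleton, Equiv.Perm.smul_def]
      rcases hab with ⟨h1, h2⟩ | ⟨h1, h2⟩
      · rw [show π none = none from h1, show π (some 0) = some 0 from h2]
      · rw [show π none = some 0 from h1, show π (some 0) = none from h2, Finset.pair_comm]
    refine ⟨⟨⟨π, hπ⟩, hs⟩, MulEquiv.ext fun g => Subtype.ext ?_⟩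
    rw [hact]
    rfl
  have hcard : Nat.card ↥(stabilizer ↥M24 basePair) = Nat.card (MulAut ↥Spor.M22) := by
    have h := Index.natCard_stabilizer_kset (W := basePair) (by decide)
    rw [show basePair.card = 2 by decide, show Nat.choose 24 2 = 276 by decide] at h
    rw [natCard_aut]
    generalize Nat.card ↥(stabilizer ↥M24 basePair) = n at h ⊢
    omega
  exact ⟨MulEquiv.ofBijective φ ((Nat.bijective_iff_surjective_and_card φ).2 ⟨hsurj, hcard⟩)⟩

/-- **The stabiliser of a duad.** -/
theorem nonempty_duadStab {P : Finset GolayPt} (hP : P.card = 2) :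
    Nonempty (↥(stabilizer ↥M24 P) ≃* MulAut ↥Spor.M22) := by
  obtain ⟨σ, rfl⟩ : ∃ σ : ↥M24, σ • basePair = P := by
    have h : P ∈ orbit M24 basePair := by
      rw [orbit_kset (show basePair.card ≤ 5 by decide)]
      show P.card = basePair.card
      rw [hP]
      decide
    exact h
  rw [stabilizer_smul_eq_stabilizer_map_conj]
  exact ⟨(Subgroup.equivMapOfInjective _ _ (MulAut.conj σ).injective).symm.trans
    nonempty_baseStab.some⟩

end Cfsg.Agent.J4Type
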