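import Cfsg.Agent.Lib.J4Type.VInvol
import Cfsg.Agent.Lib.J4Type.DuadStab
import Cfsg.Agent.Lib.OrderM22.M22Facts

/-!
Groups of Janko-four type: the two classes of involutions and the centraliser of the second one (helper26).

* `exists_conj_mem_normalizer` : every involution has a conjugate in `N(V)`, if each Sylow 2-subgroup has a
  unique elementary abelian subgroup of order `2048`;
* `isConj_or_isConj_mul` : involutions of `6.M22` other than the central one;
* `isConj_or` : every involution is conjugate to `z` or to `t`;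
* `SplitData.exists_centralizer` : the centraliser of `t` is `2^11 : Aut M22`.
-/

set_option autoImplicit false
set_option linter.unusedSectionVars false

open scoped Pointwise

namespace Cfsg.Agent.J4Type

open Cfsg MulAction

variable {G : Type*} [Group G] [Finite G]

theorem elem_map {V : Subgroup G} (h : Cfsg.IsElementaryAbelian 2 V) (g : G) :
    Cfsg.IsElementaryAbelian 2 (V.map (MulAut.conj g).toMonoidHom) := by
  refine ⟨⟨⟨?_⟩⟩, ?_⟩
  · rintro ⟨_, a, ha, rfl⟩ ⟨_, b, hb, rfl⟩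
    refine Subtype.ext ?_
    show (MulAut.conj g) a * (MulAut.conj g) b = (MulAut.conj g) b * (MulAut.conj g) a
    rw [← map_mul, ← map_mul,
      show a * b = b * a from congrArg Subtype.val (h.1.is_comm.comm ⟨a, ha⟩ ⟨b, hb⟩)]
  · rintro _ ⟨a, ha, rfl⟩
    rw [← map_pow, h.2 a ha, map_one]

/-- **Every involution has a conjugate in `N(V)`.** -/
theorem exists_conj_mem_normalizer {V : Subgroup G} (hV : Cfsg.IsElementaryAbelian 2 V)
    (hcard : Nat.card ↥V = 2 ^ 11)
    (huniq : ∀ T : Sylow 2 G, ∃! W : Subgroup G, W ≤ (T : Subgroup G) ∧ Cfsg.IsElementaryAbelian 2 W ∧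
      Nat.card ↥W = 2 ^ 11)
    {u : G} (hu : orderOf u = 2) : ∃ g : G, g * u * g⁻¹ ∈ Subgroup.normalizer (V : Set G) := by
  haveI : Fact (Nat.Prime 2) := ⟨Nat.prime_two⟩
  obtain ⟨T, hT⟩ := (IsPGroup.of_card (G := ↥(Subgroup.zpowers u)) (p := 2) (n := 1)
    (by rw [Nat.card_zpowers, hu, pow_one])).exists_le_sylow
  obtain ⟨S, hS⟩ := (IsPGroup.of_card (G := ↥V) hcard).exists_le_sylow
  obtain ⟨g, hg⟩ := MulAction.exists_smul_eq G S T
  obtain ⟨W, -, hWu⟩ := huniq T
  have hmapT : ∀ {X : Subgroup G} {c : G}, X ≤ (T : Subgroup G) → c ∈ (T : Subgroup G) →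
      X.map (MulAut.conj c).toMonoidHom ≤ (T : Subgroup G) := by
    rintro X c hX hc _ ⟨x, hx, rfl⟩
    exact mul_mem (mul_mem hc (hX hx)) (inv_mem hc)
  have hgV : V.map (MulAut.conj g).toMonoidHom ≤ (T : Subgroup G) := by
    rintro _ ⟨x, hx, rfl⟩
    rw [← hg]
    exact Subgroup.smul_mem_pointwise_smul x (MulAut.conj g) _ (hS hx)
  have hWV : V.map (MulAut.conj g).toMonoidHom = W := hWu _ ⟨hgV, elem_map hV g, by
    rw [← Nat.card_congr (Subgroup.equivMapOfInjective _ _ (MulAut.conj g).injective).toEquiv]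
    exact hcard⟩
  refine ⟨g⁻¹, ?_⟩
  rw [inv_inv, Subgroup.mem_normalizer_iff]
  have hu' : u ∈ (T : Subgroup G) := hT (Subgroup.mem_zpowers u)
  -- `u` normalises the conjugate of `V`
  have hfix : W.map (MulAut.conj u).toMonoidHom = W := by
    refine hWu _ ⟨hmapT (hWV ▸ hgV) hu', elem_map (hWV ▸ elem_map hV g) u, ?_⟩
    rw [← Nat.card_congr (Subgroup.equivMapOfInjective _ _ (MulAut.conj u).injective).toEquiv, ← hWV,
      ← Nat.card_congr (Subgroup.equivMapOfInjective _ _ (MulAut.conj g).injective).toEquiv, hcard]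
  intro x
  have key : ∀ y, y ∈ V ↔ g * y * g⁻¹ ∈ W := fun y => by
    rw [← hWV]
    exact (Subgroup.mem_map_iff_mem (f := (MulAut.conj g).toMonoidHom) (MulAut.conj g).injective).symm
  rw [key, key, show g * (g⁻¹ * u * g * x * (g⁻¹ * u * g)⁻¹) * g⁻¹ = u * (g * x * g⁻¹) * u⁻¹ by group]
  conv_rhs => rw [← hfix]
  exact (Subgroup.mem_map_iff_mem (f := (MulAut.conj u).toMonoidHom) (MulAut.conj u).injective).symm

/-- The involutions of a group `6.M22` other than the central one. -/
theorem isConj_or_isConj_mul {C : Type*} [Group C] [Finite C] (hcyc : IsCyclic ↥(Subgroup.center C))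
    (hq : Cfsg.Spor.IsoM22 (C ⧸ Subgroup.center C)) {ζ a b : C} (hζ : ζ ∈ Subgroup.center C)
    (hζ2 : orderOf ζ = 2) (ha : orderOf a = 2) (haz : a ≠ ζ) (hb : orderOf b = 2) (hbz : b ≠ ζ) :
    IsConj a b ∨ IsConj (a * ζ) b := by
  obtain ⟨f⟩ := hq
  haveI := hcyc
  haveI : Fact (Nat.Prime 2) := ⟨Nat.prime_two⟩
  classical
  haveI := Fintype.ofFinite ↥(Subgroup.center C)
  haveI := OrderM22.simple_m22
  -- the central involution is the only one
  have huni : ∀ y ∈ Subgroup.center C, orderOf y = 2 → y = ζ := by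
    intro y hy hy2
    have h2 := IsCyclic.card_pow_eq_one_le (α := ↥(Subgroup.center C)) (show 0 < 2 by norm_num)
    by_contra hne
    have h3 : ({1, ⟨ζ, hζ⟩, ⟨y, hy⟩} : Finset ↥(Subgroup.center C)).card = 3 := by
      rw [Finset.card_insert_of_notMem, Finset.card_pair]
      · intro e; exact hne (congrArg Subtype.val e).symm
      · simp only [Finset.mem_insert, Finset.mem_singleton, not_or]
        constructor
        · intro e
          have := congrArg Subtype.val e
          simp only [OneMemClass.coe_one] at this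
          rw [← this, orderOf_one] at hζ2
          norm_num at hζ2
        · intro e
          have := congrArg Subtype.val e
          simp only [OneMemClass.coe_one] at this
          rw [← this, orderOf_one] at hy2
          norm_num at hy2
    have hle : ({1, ⟨ζ, hζ⟩, ⟨y, hy⟩} : Finset ↥(Subgroup.center C)) ⊆
        Finset.univ.filter fun x => x ^ 2 = 1 := by
      intro x hx
      simp only [Finset.mem_insert, Finset.mem_singleton] at hx
      rw [Finset.mem_filter]
      refine ⟨Finset.mem_univ _, ?_⟩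
      rcases hx with rfl | rfl | rfl
      · simp
      · exact Subtype.ext (by rw [SubmonoidClass.coe_pow, ← hζ2]; exact pow_orderOf_eq_one ζ)
      · exact Subtype.ext (by rw [SubmonoidClass.coe_pow, ← hy2]; exact pow_orderOf_eq_one y)
    have := Finset.card_le_card hle
    omega
  have himg : ∀ x : C, orderOf x = 2 → x ≠ ζ → orderOf (f (QuotientGroup.mk x)) = 2 := by
    intro x hx hxz
    rw [f.orderOf_eq]
    refine orderOf_eq_prime ?_ ?_
    · rw [← QuotientGroup.mk_pow, ← hx, pow_orderOf_eq_one]; rfl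
    · rw [Ne, QuotientGroup.eq_one_iff]
      exact fun h => hxz (huni x h hx)
  obtain ⟨c, hc⟩ := isConj_iff.1 (OrderM22.hyp_m22.one_class (himg a ha haz) (himg b hb hbz))
  obtain ⟨d, hd⟩ := QuotientGroup.mk_surjective (f.symm c)
  have hmk : (QuotientGroup.mk (d * a * d⁻¹) : C ⧸ Subgroup.center C) = QuotientGroup.mk b := by
    apply f.injective
    rw [QuotientGroup.mk_mul, QuotientGroup.mk_mul, QuotientGroup.mk_inv, hd, map_mul, map_mul, map_inv,
      MulEquiv.apply_symm_apply, hc]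
  set a' := d * a * d⁻¹ with ha'
  have hm : a'⁻¹ * b ∈ Subgroup.center C := QuotientGroup.eq.1 hmk
  have haa : a' * a' = 1 := by
    have h1 : a * a = 1 := by
      have := pow_orderOf_eq_one a
      rwa [ha, pow_two] at this
    calc a' * a' = d * (a * a) * d⁻¹ := by rw [ha']; group
      _ = 1 := by rw [h1]; group
  have hbb : b * b = 1 := by
    have := pow_orderOf_eq_one b
    rwa [hb, pow_two] at this
  by_cases h1 : a'⁻¹ * b = 1
  · exact Or.inl (isConj_iff.2 ⟨d, inv_mul_eq_one.1 h1⟩)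
  · have hsq : (a'⁻¹ * b) * (a'⁻¹ * b) = 1 := by
      have hcm : a'⁻¹ * b * a' = a' * (a'⁻¹ * b) := (Subgroup.mem_center_iff.1 hm a').symm
      calc (a'⁻¹ * b) * (a'⁻¹ * b) = (a'⁻¹ * b * a') * (a' * a')⁻¹ * b := by group
        _ = b * b := by rw [hcm, haa]; group
        _ = 1 := hbb
    have e := huni _ hm (orderOf_eq_prime (by rw [pow_two]; exact hsq) h1)
    refine Or.inr (isConj_iff.2 ⟨d, ?_⟩)
    calc d * (a * ζ) * d⁻¹ = d * a * (ζ * d⁻¹) := by group
      _ = d * a * (d⁻¹ * ζ) := by rw [(Subgroup.mem_center_iff.1 hζ d⁻¹)]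
      _ = a' * (a'⁻¹ * b) := by rw [e, ha']; group
      _ = b := by group

variable (D : SplitData G)

/-- **Every involution is conjugate to `z` or to `t`.** -/
theorem isConj_or {z : G} {P : Subgroup G} (hz : orderOf z = 2) (hzs : IsConj z D.s)
    (hzt : ¬ IsConj z D.t)
    (huniq : ∀ T : Sylow 2 G, ∃! W : Subgroup G, W ≤ (T : Subgroup G) ∧ Cfsg.IsElementaryAbelian 2 W ∧
      Nat.card ↥W = 2 ^ 11)
    (hthree : ∀ x y : G, orderOf x = 3 → orderOf y = 3 → IsConj x y) (hP : Nat.card ↥P = 3)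
    (hPz : P ≤ Subgroup.centralizer ({z} : Set G))
    (hnorm : Subgroup.normalizer (P : Set G) ≤ Subgroup.centralizer ({z} : Set G))
    (hcyc : IsCyclic ↥(Subgroup.center
      ↥(Subgroup.centralizer ({z} : Set G) ⊓ Subgroup.centralizer (P : Set G))))
    (hq : Cfsg.Spor.IsoM22 (↥(Subgroup.centralizer ({z} : Set G) ⊓ Subgroup.centralizer (P : Set G)) ⧸
      Subgroup.center ↥(Subgroup.centralizer ({z} : Set G) ⊓ Subgroup.centralizer (P : Set G))))
    {u : G} (hu : orderOf u = 2) : IsConj z u ∨ IsConj D.t u := by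
  obtain ⟨M⟩ := exists_vModel D
  haveI : Fact (Nat.Prime 3) := ⟨by norm_num⟩
  haveI : Fact (Nat.Prime 2) := ⟨Nat.prime_two⟩
  obtain ⟨x, hx⟩ := exists_prime_orderOf_dvd_card' (G := ↥P) 3 (by rw [hP])
  have hxP : Subgroup.zpowers (x : G) = P :=
    Subgroup.eq_of_le_of_card_ge (Subgroup.zpowers_le.2 x.2)
      (by rw [Nat.card_zpowers, Subgroup.orderOf_coe, hx, hP])
  have hxo : orderOf (x : G) = 3 := by rw [Subgroup.orderOf_coe, hx]
  set C := Subgroup.centralizer ({z} : Set G) ⊓ Subgroup.centralizer (P : Set G) with hC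
  have hmemC : ∀ {y : G}, y * x = x * y → y ∈ C := by
    intro y hy
    have hcen : y ∈ Subgroup.centralizer (P : Set G) := by
      intro p hp
      obtain ⟨i, rfl⟩ := Subgroup.mem_zpowers_iff.1 (hxP.symm ▸ hp)
      exact ((Commute.zpow_right hy i).eq).symm
    refine ⟨hnorm ?_, hcen⟩
    exact Subgroup.centralizer_le_normalizer _ hcen
  have hzC : z ∈ C := by
    refine hmemC ?_
    exact (Subgroup.mem_centralizer_singleton_iff.1 (hPz x.2)).symm
  have hzc : (⟨z, hzC⟩ : ↥C) ∈ Subgroup.center ↥C := Subgroup.mem_center_iff.2 fun c =>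
    Subtype.ext (Subgroup.mem_centralizer_singleton_iff.1 c.2.1)
  -- a conjugation carrying an element of order three to the generator, with its centraliser into `C`
  have hmove : ∀ {w : G}, orderOf w = 3 → ∃ g : G, ∀ y, w * y = y * w → g * y * g⁻¹ ∈ C := by
    intro w hw
    obtain ⟨g, hg⟩ := isConj_iff.1 (hthree w (x : G) hw hxo)
    refine ⟨g, fun y hy => hmemC ?_⟩
    rw [← hg]
    calc g * y * g⁻¹ * (g * w * g⁻¹) = g * (y * w) * g⁻¹ := by group
      _ = g * w * g⁻¹ * (g * y * g⁻¹) := by rw [← hy]; group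
  have horder : ∀ (g y : G), orderOf (g * y * g⁻¹) = orderOf y := fun g y =>
    (MulAut.conj g).orderOf_eq y
  obtain ⟨w, t1, s1, s2, hw, hwt, hws1, hws2, ht1V, hs1V, hs2V, ⟨σ, hσ⟩, ⟨τ1, hτ1⟩, ⟨τ2, hτ2⟩, hne⟩ :=
    M.exists_three_local
  obtain ⟨g, hg⟩ := hmove hw
  set a := g * t1 * g⁻¹ with ha
  have hta : IsConj D.t a := isConj_iff.2 ⟨g * D.el σ, by rw [ha, ← hσ]; group⟩
  have hzs1 : ∀ {τ : ↥M24} {s' : G}, D.el τ * D.s * (D.el τ)⁻¹ = s' → IsConj z (g * s' * g⁻¹) :=
    fun {τ s'} h => hzs.trans (isConj_iff.2 ⟨g * D.el τ, by rw [← h]; group⟩)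
  obtain ⟨b, hbC, hzb, hbz⟩ : ∃ b ∈ C, IsConj z b ∧ b ≠ z := by
    by_cases h1 : g * s1 * g⁻¹ = z
    · refine ⟨_, hg s2 hws2, hzs1 hτ2, fun h2 => hne ?_⟩
      simpa using h1.trans h2.symm
    · exact ⟨_, hg s1 hws1, hzs1 hτ1, h1⟩
  have hao : orderOf a = 2 := by
    rw [ha, horder, ← hσ, horder]
    exact orderOf_eq_prime (D.elem.2 _ D.t_mem) D.t_ne_one
  have haz : a ≠ z := fun e => hzt (e ▸ hta).symm
  have hbo : orderOf b = 2 := by
    obtain ⟨c, rfl⟩ := isConj_iff.1 hzb
    rw [horder, hz]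
  -- the second class over `a` is that of `z`
  have key : ∀ {y : G} (hy : y ∈ C), orderOf y = 2 → y ≠ z → IsConj a y ∨ IsConj (a * z) y := by
    intro y hy hyo hyz
    rcases isConj_or_isConj_mul hcyc hq (ζ := (⟨z, hzC⟩ : ↥C)) (a := ⟨a, hg t1 hwt⟩) (b := ⟨y, hy⟩) hzc
        (by rw [← Subgroup.orderOf_coe]; exact hz) (by rw [← Subgroup.orderOf_coe]; exact hao)
        (fun e => haz (congrArg Subtype.val e)) (by rw [← Subgroup.orderOf_coe]; exact hyo)
        (fun e => hyz (congrArg Subtype.val e)) with h | h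
    · exact Or.inl (C.subtype.map_isConj h)
    · exact Or.inr (C.subtype.map_isConj h)
  have haz' : IsConj z (a * z) := by
    rcases key hbC hbo hbz with h | h
    · exact absurd ((hta.trans h).trans hzb.symm).symm hzt
    · exact hzb.trans h.symm
  obtain ⟨g1, hg1⟩ := exists_conj_mem_normalizer D.elem D.card huniq hu
  obtain ⟨w', hw', hwu⟩ := M.exists_three_comm hg1 (by
    rw [← pow_two, ← hu, ← horder g1 u, pow_orderOf_eq_one])
  obtain ⟨g2, hg2⟩ := hmove hw'
  set y := g2 * (g1 * u * g1⁻¹) * g2⁻¹ with hy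
  have huy : IsConj u y := isConj_iff.2 ⟨g2 * g1, by rw [hy]; group⟩
  by_cases hyz : y = z
  · exact Or.inl (hyz ▸ huy).symm
  rcases key (hg2 _ hwu) (by rw [horder, horder, hu]) hyz with h | h
  · exact Or.inr ((hta.trans h).trans huy.symm)
  · exact Or.inl ((haz'.trans h).trans huy.symm)

/-- **The centraliser of `t`.** -/
theorem SplitData.exists_centralizer
    (hC : Subgroup.centralizer ({D.t} : Set G) ≤ Subgroup.normalizer (D.V : Set G)) :
    ∃ K : Subgroup G, D.V ≤ Subgroup.centralizer ({D.t} : Set G) ∧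
      K ≤ Subgroup.centralizer ({D.t} : Set G) ∧ K ⊓ D.V = ⊥ ∧
      K ⊔ D.V = Subgroup.centralizer ({D.t} : Set G) ∧ Nonempty (↥K ≃* MulAut ↥Spor.M22) := by
  let f : ↥M24 →* G := MonoidHom.mk' D.el D.el_mul
  have hf : Function.Injective f := fun a b h =>
    D.e.symm.injective (Subtype.ext h)
  obtain ⟨P, hP, hstab⟩ := D.exists_baseDuad
  have hVC : D.V ≤ Subgroup.centralizer ({D.t} : Set G) := fun v hv =>
    Subgroup.mem_centralizer_singleton_iff.2 (D.comm hv D.t_mem)
  refine ⟨(D.stab D.t).map f, hVC, ?_, ?_, ?_,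
    ⟨(Subgroup.equivMapOfInjective _ f hf).symm.trans
      ((MulEquiv.subgroupCongr hstab).trans (nonempty_duadStab hP).some)⟩⟩
  · rintro _ ⟨σ, hσ, rfl⟩
    refine Subgroup.mem_centralizer_singleton_iff.2 ?_
    show D.el σ * D.t = D.t * D.el σ
    conv_rhs => rw [← D.mem_stab.1 hσ]
    group
  · rw [eq_bot_iff, ← D.inf]
    exact inf_le_inf_right _ (by rintro _ ⟨σ, -, rfl⟩; exact D.el_mem σ)
  · refine le_antisymm (sup_le ?_ hVC) fun n hn => ?_
    · rintro _ ⟨σ, hσ, rfl⟩
      refine Subgroup.mem_centralizer_singleton_iff.2 ?_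
      show D.el σ * D.t = D.t * D.el σ
      conv_rhs => rw [← D.mem_stab.1 hσ]
      group
    · obtain ⟨v, hv, k, rfl⟩ := D.exists_mul (hC hn)
      have hk : (k : G) ∈ Subgroup.centralizer ({D.t} : Set G) := by
        have := mul_mem (inv_mem (hVC hv)) hn
        rwa [inv_mul_cancel_left] at this
      refine mul_mem (Subgroup.mem_sup_right hv) (Subgroup.mem_sup_left ⟨D.e k, ?_, D.el_apply k⟩)
      show D.el (D.e k) * D.t * (D.el (D.e k))⁻¹ = D.t
      rw [D.el_apply, Subgroup.mem_centralizer_singleton_iff.1 hk, mul_inv_cancel_right]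

end Cfsg.Agent.J4Type
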