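import Cfsg.Agent.Lib.J4Type.OrbitT

/-!
The form on a secant and the stars over the points of the hyperoval (helper85).

* `Duad` : the data
* `cross`, `line` : the form on a secant
* `exists_shift` : every shift of the stars at three points
* `Star`, `exists_star`, `star_unique`, `star_conj`, `star_inj`, `exists_Y`
-/

set_option autoImplicit false
set_option maxHeartbeats 1000000
set_option linter.unusedSectionVars false
open scoped Pointwise
open Cfsg Subgroup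

namespace Cfsg.Agent.J4Type

open Cfsg.Agent.Golay

variable {G : Type*} [Group G] [Finite G] {z : G} {P : Subgroup G}

/-- The data for the labelling. -/
structure Duad (z : G) (P : Subgroup G) where
  S : Setting z P
  o : Finset GolayPt
  ho : HexOct o
  c : S.Coord o
  simple : IsSimpleGroup G
  nonab : ¬ IsMulCommutative G

namespace Duad

open Setting (inE)

/-- The indicator of two distinct nonzero scalars. -/
def eps (s t : K4) : ZMod 2 := if s ≠ 0 ∧ t ≠ 0 ∧ s ≠ t then 1 else 0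

/-- A functional on the scalars. -/
def linx (x : ZMod 2 × ZMod 2) (s : K4) : ZMod 2 := x.1 * s.a + x.2 * s.b

theorem hco_indep : ∀ i j k : Fin 6, i ≠ j → j ≠ k → i ≠ k → ∀ a b d : K4,
    (∀ l, a * Setting.hco i l + b * Setting.hco j l + d * Setting.hco k l = 0) → a = 0 ∧ b = 0 ∧ d = 0 := by
  decide +kernel

variable (D : Duad z P)

/-- The nontrivial elements of `Vo` not conjugate to `z`. -/
abbrev T : Set ↥(Cz z) := D.S.Tz D.ho

/-- The involution of a secant. -/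
abbrev sec (i j : Fin 6) : Equiv.Perm GolayPt := D.c.lab i j

theorem sec_mem {i j : Fin 6} (h : i ≠ j) : D.sec i j ∈ octadFix D.o := (D.c.lab_mem i j h).1

theorem sec_ne {i j : Fin 6} (h : i ≠ j) : D.sec i j ≠ 1 := (D.c.lab_mem i j h).2

theorem exists_pre {i j : Fin 6} (h : i ≠ j) (s t : K4) :
    ∃ u, D.S.mv (D.sec i j) u = s • D.c.h i + t • D.c.h j := by
  have h' : s • D.c.h i + t • D.c.h j ∈ LinearMap.range (D.S.mv (D.sec i j)) := by
    rw [D.c.lab_range i j h]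
    exact Submodule.add_mem_sup (Submodule.smul_mem _ _ (Submodule.mem_span_singleton_self _))
      (Submodule.smul_mem _ _ (Submodule.mem_span_singleton_self _))
  exact h'

theorem exists_pre_left {i j : Fin 6} (h : i ≠ j) (s : K4) :
    ∃ u, D.S.mv (D.sec i j) u = s • D.c.h i := by
  simpa using D.exists_pre h s 0

theorem beta_smul {s : K4} (hs : s ≠ 0) (v w : D.S.WS) : D.S.beta (s • v) (s • w) = D.S.beta v w := by
  rcases Setting.scalar_pow s hs with rfl | rfl | rfl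
  · rw [one_smul, one_smul]
  · rw [D.S.zeta_smul, D.S.zeta_smul, D.S.beta_omega]
  · rw [mul_smul, mul_smul, D.S.zeta_smul, D.S.zeta_smul, D.S.zeta_smul, D.S.zeta_smul, D.S.beta_omega,
      D.S.beta_omega]

theorem smul_cases (v : D.S.WS) (s : K4) :
    s • v = (if s.a = 1 then v else 0) + (if s.b = 1 then D.S.omega v else 0) := by
  rcases K4.cases' s with rfl | rfl | rfl | rfl
  · rw [zero_smul, if_neg (by decide), if_neg (by decide), add_zero]
  · rw [one_smul, if_pos (by decide), if_neg (by decide), add_zero]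
  · rw [D.S.zeta_smul, if_neg (by decide), if_pos (by decide), zero_add]
  · rw [add_smul, one_smul, D.S.zeta_smul, if_pos (by decide), if_pos (by decide), add_comm]

theorem beta_linx (w v : D.S.WS) (s : K4) :
    D.S.beta w (s • v) = linx (D.S.beta w v, D.S.beta w (D.S.omega v)) s := by
  rw [D.smul_cases, map_add]
  rcases LargeExtraspecial.OutForm.two_cases s.a with ha | ha <;>
    rcases LargeExtraspecial.OutForm.two_cases s.b with hb | hb <;> simp [linx, ha, hb]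

theorem cross01 {u : D.S.WS} {s : K4} (hu : D.S.mv (D.sec 0 1) u = s • D.c.h 0) (t : K4) :
    D.S.beta u (t • D.c.h 1) = 0 := by
  have h01 : (0 : Fin 6) ≠ 1 := by decide
  have hf := D.S.fix_M22 D.ho (D.sec_mem h01)
  by_cases hs : s = 0
  · obtain ⟨v, hv⟩ := D.exists_pre h01 0 t
    rw [zero_smul, zero_add] at hv
    rw [← hv, ← D.S.beta_mv hf.1 hf.2, hu, hs, zero_smul, map_zero, LinearMap.zero_apply]
  obtain ⟨u1, hu1⟩ := D.exists_pre_left h01 1
  -- independence of the preimage and scaling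
  have hwd : ∀ v v', D.S.mv (D.sec 0 1) v = D.S.mv (D.sec 0 1) v' → ∀ t : K4,
      D.S.beta v (t • D.c.h 1) = D.S.beta v' (t • D.c.h 1) := fun v v' e t => by
    obtain ⟨w, hw⟩ := D.exists_pre h01 0 t
    rw [zero_smul, zero_add] at hw
    rw [← hw, ← D.S.beta_mv hf.1 hf.2, e, D.S.beta_mv hf.1 hf.2]
  have hB : ∀ v (r : K4), r ≠ 0 → D.S.mv (D.sec 0 1) v = r • D.c.h 0 → ∀ t : K4,
      D.S.beta v (t • D.c.h 1) = D.S.beta u1 ((r⁻¹ * t) • D.c.h 1) := fun v r hr hv t => by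
    rw [hwd v (r • u1) (by rw [hv, map_smul, hu1, one_smul]) t]
    conv_lhs => rw [show t = r * (r⁻¹ * t) by rw [← mul_assoc, mul_inv_cancel₀ hr, one_mul], mul_smul]
    exact D.beta_smul hr _ _
  -- an element fixing the two points and moving the others
  obtain ⟨k, hi, hk, hmap, hlab⟩ := D.c.equiv (Equiv.swap 2 3 * Equiv.swap 3 4)
    (Equiv.Perm.mem_alternatingGroup.2 (by decide +kernel))
  obtain ⟨d0, hd0, e0⟩ := hmap 0
  obtain ⟨d1, hd1, e1⟩ := hmap 1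
  obtain ⟨d2, hd2, e2⟩ := hmap 2
  obtain ⟨d3, hd3, e3⟩ := hmap 3
  rw [show (Equiv.swap (2 : Fin 6) 3 * Equiv.swap 3 4 : Equiv.Perm (Fin 6)) (0 : Fin 6) = (0 : Fin 6) by decide +kernel] at e0
  rw [show (Equiv.swap (2 : Fin 6) 3 * Equiv.swap 3 4 : Equiv.Perm (Fin 6)) (1 : Fin 6) = (1 : Fin 6) by decide +kernel] at e1
  rw [show (Equiv.swap (2 : Fin 6) 3 * Equiv.swap 3 4 : Equiv.Perm (Fin 6)) (2 : Fin 6) = (3 : Fin 6) by decide +kernel] at e2
  rw [show (Equiv.swap (2 : Fin 6) 3 * Equiv.swap 3 4 : Equiv.Perm (Fin 6)) (3 : Fin 6) = (4 : Fin 6) by decide +kernel] at e3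
  have hlab01 := hlab 0 1 h01
  rw [show (Equiv.swap (2 : Fin 6) 3 * Equiv.swap 3 4 : Equiv.Perm (Fin 6)) (0 : Fin 6) = (0 : Fin 6) by decide +kernel,
    show (Equiv.swap (2 : Fin 6) 3 * Equiv.swap 3 4 : Equiv.Perm (Fin 6)) (1 : Fin 6) = (1 : Fin 6) by decide +kernel] at hlab01
  have h : d0 • D.c.h 0 + d1 • D.c.h 1 + d2 • D.c.h 3 = d3 • D.c.h 4 := by
    rw [← e3, D.c.h3, map_add, map_add, e0, e1, e2, D.c.h3]
  rw [D.c.h3, D.c.h4] at h
  have hh : D.S.cvec D.c ![d0 + d2, d1 + d2, d2] =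
      D.S.cvec D.c ![d3, d3 * K4.zeta, d3 * (K4.zeta + 1)] := by
    simp only [Setting.cvec, Matrix.cons_val_zero, Matrix.cons_val_one, Matrix.cons_val]
    simp only [smul_add, smul_smul] at h
    rw [← h]
    simp only [add_smul]
    abel
  have hx := D.S.cvec_injective D.c hh
  have key : ∀ d0 d1 d2 d3 : K4, d0 + d2 = d3 → d1 + d2 = d3 * K4.zeta → d2 = d3 * (K4.zeta + 1) →
      d1 = d0 * (K4.zeta + 1) := by decide +kernel
  have hd : d1 = d0 * (K4.zeta + 1) :=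
    key d0 d1 d2 d3 (congrFun hx 0) (congrFun hx 1) (congrFun hx 2)
  have hsm : ∀ a v, D.S.rho k (a • v) = a • D.S.rho k v := fun a v => map_smul (D.S.linK hi) a v
  have hinv : ∀ t : K4, D.S.beta u1 (((K4.zeta + 1) * t) • D.c.h 1) = D.S.beta u1 (t • D.c.h 1) := fun t => by
    have hv : D.S.mv (D.sec 0 1) (D.S.rho k u1) = d0 • D.c.h 0 := by
      rw [← e0, ← one_smul K4 (D.c.h 0), ← hu1,
        D.S.rho_mv D.ho k (stab0_le_stabO D.o hk) (D.sec_mem h01), hlab01]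
    rw [← D.S.beta_rho k u1 (t • D.c.h 1), hsm, e1, smul_smul, hB _ d0 hd0 hv, hd]
    rw [show d0⁻¹ * (t * (d0 * (K4.zeta + 1))) = (K4.zeta + 1) * t by
      rw [mul_comm t, ← mul_assoc, ← mul_assoc, inv_mul_cancel₀ hd0, one_mul]]
  have h1 : D.S.beta u1 ((1 : K4) • D.c.h 1) = 0 := by
    have e1' := hinv 1
    rw [mul_one, add_smul, map_add] at e1'
    have e2' := hinv (K4.zeta)
    rw [show (K4.zeta + 1) * K4.zeta = 1 by decide +kernel] at e2'
    rw [← e2'] at e1'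
    exact add_eq_left.1 e1'
  have hz : D.S.beta u1 (K4.zeta • D.c.h 1) = 0 := by
    have e2' := hinv (K4.zeta)
    rw [show (K4.zeta + 1) * K4.zeta = 1 by decide +kernel, h1] at e2'
    exact e2'.symm
  have hall : ∀ r : K4, D.S.beta u1 (r • D.c.h 1) = 0 := fun r => by
    rw [D.beta_linx, show D.S.beta u1 (D.c.h 1) = 0 by rw [← h1, one_smul],
      show D.S.beta u1 (D.S.omega (D.c.h 1)) = 0 by rw [← D.S.zeta_smul, hz]]
    simp [linx]
  rw [hB u s hs hu, hall]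

theorem cross {i j : Fin 6} (hij : i ≠ j) {u : D.S.WS} {s : K4}
    (hu : D.S.mv (D.sec i j) u = s • D.c.h i) (t : K4) : D.S.beta u (t • D.c.h j) = 0 := by
  obtain ⟨l, m, hl1, hl2, hm1, hm2, hlm⟩ := (by decide : ∀ i j : Fin 6,
    ∃ l m, i ≠ l ∧ j ≠ l ∧ i ≠ m ∧ j ≠ m ∧ l ≠ m) i j
  obtain ⟨π, hπ, p0, p1, -⟩ := exists_even_map i j l m hij hl1 hm1 hl2 hm2 hlm
  obtain ⟨k, hi, hk, hmap, hlab⟩ := D.c.equiv π⁻¹ (inv_mem hπ)
  obtain ⟨a, ha, hka⟩ := hmap i
  obtain ⟨b, hb, hkb⟩ := hmap j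
  have hl := hlab i j hij
  have q0 : π⁻¹ i = 0 := by rw [← p0]; simp
  have q1 : π⁻¹ j = 1 := by rw [← p1]; simp
  rw [q0] at hka; rw [q1] at hkb; rw [q0, q1] at hl
  have hsm : ∀ a v, D.S.rho k (a • v) = a • D.S.rho k v := fun a v => map_smul (D.S.linK hi) a v
  have hu' : D.S.mv (D.sec 0 1) (D.S.rho k u) = (s * a) • D.c.h 0 := by
    have h := D.S.rho_mv D.ho k (stab0_le_stabO D.o hk) (D.sec_mem hij) u
    rw [hu, hsm, hka, smul_smul, hl] at h
    exact h.symm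
  rw [← D.S.beta_rho k u (t • D.c.h j), hsm, hkb, smul_smul]
  exact D.cross01 hu' _

theorem beta_self_mv {a : Equiv.Perm GolayPt} (ha : a ∈ octadFix D.o) (u : D.S.WS) :
    D.S.beta u (D.S.mv a u) = 0 := by
  have h := D.S.qm_add D.ho ha u u
  rw [ZModModule.add_self, show D.S.qm D.ho a 0 = 0 by simp [Setting.qm], CharTwo.add_self_eq_zero,
    zero_add] at h
  exact h.symm

theorem line {i j : Fin 6} (hij : i ≠ j) {u : D.S.WS} {s : K4}
    (hu : D.S.mv (D.sec i j) u = s • D.c.h i) (t : K4) : D.S.beta u (t • D.c.h i) = eps s t := by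
  have hf := D.S.fix_M22 D.ho (D.sec_mem hij)
  have hsame : D.S.beta u (s • D.c.h i) = 0 := by rw [← hu]; exact D.beta_self_mv (D.sec_mem hij) u
  by_cases hs : s = 0
  · obtain ⟨v, hv⟩ := D.exists_pre_left hij t
    rw [← hv, ← D.S.beta_mv hf.1 hf.2, hu, hs, zero_smul, map_zero, LinearMap.zero_apply]
    simp [eps]
  by_cases ht : t = 0
  · rw [ht, zero_smul, map_zero]; simp [eps]
  by_cases hst : s = t
  · rw [← hst, hsame]; simp [eps]
  rw [show eps s t = 1 by simp [eps, hs, ht, hst]]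
  by_contra hne
  have h0 : D.S.beta u (t • D.c.h i) = 0 := (LargeExtraspecial.OutForm.two_cases _).resolve_right hne
  have hall : ∀ r : K4, D.S.beta u (r • D.c.h i) = 0 := fun r => by
    have key : ∀ s t r : K4, s ≠ 0 → t ≠ 0 → s ≠ t → r = 0 ∨ r = s ∨ r = t ∨ r = s + t := by decide +kernel
    rcases key s t r hs ht hst with rfl | rfl | rfl | rfl
    · rw [zero_smul, map_zero]
    · exact hsame
    · exact h0
    · rw [add_smul, map_add, hsame, h0, add_zero]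
  have hzero : D.S.mv (D.sec i j) u = 0 := by
    refine D.S.beta_nondeg _ fun v => ?_
    rw [D.S.beta_mv hf.1 hf.2]
    have hmem : D.S.mv (D.sec i j) v ∈ LinearMap.range (D.S.mv (D.sec i j)) := ⟨v, rfl⟩
    rw [D.c.lab_range i j hij] at hmem
    obtain ⟨p, hp, q, hq, hpq⟩ := Submodule.mem_sup.1 hmem
    obtain ⟨r, rfl⟩ := Submodule.mem_span_singleton.1 hp
    obtain ⟨r', rfl⟩ := Submodule.mem_span_singleton.1 hq
    rw [← hpq, map_add, hall, D.cross hij hu, add_zero]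
  rw [hu] at hzero
  exact smul_ne_zero hs (D.S.h_ne_zero D.c i) hzero

/-! ### The elements of `T` outside `E` -/

/-- Conjugation by an element of `E`. -/
abbrev cj (f : ↥(Ez z)) (x : ↥(Cz z)) : ↥(Cz z) := inE f * x * (inE f)⁻¹

theorem T_conj {x : ↥(Cz z)} (hx : x ∈ D.T) {n : ↥(Cz z)} (hn : D.S.κ n ∈ stabO D.o) :
    n * x * n⁻¹ ∈ D.T := by
  obtain ⟨y, hy, he⟩ := D.S.conj_mem_Tz D.ho ((D.S.mem_normalizer_iff_κ D.ho n).2 hn) hx
  rwa [show n * x * n⁻¹ = y from Subtype.ext he.symm]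

theorem T_cj {x : ↥(Cz z)} (hx : x ∈ D.T) (f : ↥(Ez z)) : cj f x ∈ D.T :=
  D.T_conj hx (by rw [D.S.κ_inE]; exact one_mem _)

theorem cj_eq {x : ↥(Cz z)} (hx : x ∈ D.S.Vo D.ho) (f : ↥(Ez z)) :
    ∃ d : ↥(Ez z), D.S.pr d = D.S.mv (D.S.κ x) (D.S.pr f) ∧ cj f x = x * inE d := by
  have ha := ((D.S.mem_Vo D.ho).1 hx).1.1
  let f' : ↥(Ez z) := ⟨(x : G)⁻¹ * f * x, by simpa using conj_mem_Ez (inv_mem x.2) f.2⟩
  refine ⟨f' * f⁻¹, ?_, Subtype.ext (by simp [f', mul_assoc])⟩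
  have hyi : x⁻¹ = x := inv_eq_of_mul_eq_one_right (D.S.Vo_sq D.ho hx)
  have e : D.S.pr f' = D.S.rho x (D.S.pr f) := by
    rw [D.S.rho_pr]
    congr 1
    refine Subtype.ext ?_
    show (x : G)⁻¹ * f * x = (x : G) * f * (x : G)⁻¹
    rw [show (x : G)⁻¹ = x from congrArg Subtype.val hyi]
  rw [D.S.pr_mul, D.S.pr_inv, e, ((D.S.mem_Vo D.ho).1 hx).1.2,
    D.S.mv_apply (D.S.fix_M22 D.ho ha).1 (D.S.fix_M22 D.ho ha).2]

theorem T_short {x : ↥(Cz z)} (hx : x ∈ D.T) (hk : D.S.κ x ≠ 1) :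
    x ∈ D.S.ShortSet D.ho \ D.S.Oz D.ho := by
  rw [T, D.S.Tz_eq D.ho D.simple D.nonab D.c] at hx
  exact hx.resolve_left fun h => hk (D.S.Uh_subset D.ho h).2.1

theorem Uh_T {x : ↥(Cz z)} (hx : x ∈ D.S.UhSet D.c) : x ∈ D.T := by
  rw [T, D.S.Tz_eq D.ho D.simple D.nonab D.c]
  exact Or.inl hx

theorem ncard_short_T : (D.S.ShortSet D.ho \ D.S.Oz D.ho).ncard = 240 := by
  obtain ⟨-, -, -, -, hd⟩ := D.S.ncard_Oz D.ho D.simple D.nonab D.c
  have h := Set.ncard_inter_add_ncard_sdiff_eq_ncard (D.S.ShortSet D.ho) (D.S.Oz D.ho) (Set.toFinite _)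
  rw [hd, D.S.ncard_Short D.ho] at h
  omega

/-- Over each element of the octad group one orbit of `E`, one element over each vector. -/
theorem fibres {a : Equiv.Perm GolayPt} (ha : a ∈ octadFix D.o) (ha1 : a ≠ 1) :
    ∃ r ∈ D.T, D.S.κ r = a ∧ (∀ x ∈ D.T, D.S.κ x = a → ∃ f, cj f r = x) ∧
      ∀ f, D.S.mv a (D.S.pr f) = 0 → cj f r = r := by
  classical
  let N := {b : ↥(octadFix D.o) // (b : Equiv.Perm GolayPt) ≠ 1}
  have hN : Nat.card N = 15 := by
    haveI := Fintype.ofFinite ↥(octadFix D.o)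
    rw [Nat.card_eq_fintype_card, Fintype.card_subtype,
      show (Finset.univ.filter fun c : ↥(octadFix D.o) => (c : Equiv.Perm GolayPt) ≠ 1) =
        Finset.univ.erase 1 by ext; simp, Finset.card_erase_of_mem (Finset.mem_univ _), Finset.card_univ,
      ← Nat.card_eq_fintype_card, natCard_octadFix D.ho.mem]
  obtain ⟨y, hy⟩ := Set.nonempty_of_ncard_ne_zero (show (D.S.ShortSet D.ho \ D.S.Oz D.ho).ncard ≠ 0 by
    rw [D.ncard_short_T]; norm_num)
  have hyT : y ∈ D.T := by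
    rw [T, D.S.Tz_eq D.ho D.simple D.nonab D.c]
    exact Or.inr hy
  have hone : ∀ b : N, ∃ x : ↥(Cz z), x ∈ D.T ∧ D.S.κ x = (b : ↥(octadFix D.o)) := fun b => by
    obtain ⟨g, hg, hgab⟩ := D.ho.exists_conj_octadFix ((D.S.mem_Vo D.ho).1 hy.1.1).1.1 hy.1.2.1 b.1.2 b.2
    obtain ⟨k, -, hkk⟩ := D.S.frattini' (m22_le_pairStab hg.1)
    exact ⟨k * y * k⁻¹, D.T_conj hyT (hkk ▸ stab0_le_stabO D.o hg),
      by rw [map_mul, map_mul, map_inv, hkk]; exact hgab⟩
  choose rep hrep hrepk using hone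
  let L : N → Type _ := fun b => ↥(LinearMap.range (D.S.mv ((b : ↥(octadFix D.o)) : Equiv.Perm GolayPt)))
  have hpre : ∀ (b : N) (l : L b), ∃ f : ↥(Ez z),
      D.S.mv ((b : ↥(octadFix D.o)) : Equiv.Perm GolayPt) (D.S.pr f) = l.1 := by
    rintro b ⟨l, u, hu⟩
    obtain ⟨f, rfl⟩ := D.S.pr_surjective u
    exact ⟨f, hu⟩
  choose pre hpre using hpre
  have hmemk : ∀ b f, D.S.κ (cj f (rep b)) = (b : ↥(octadFix D.o)) := fun b f => by
    simp [cj, D.S.κ_inE, hrepk]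
  let φ : (Σ b : N, L b) → ↥(D.S.ShortSet D.ho \ D.S.Oz D.ho) := fun p =>
    ⟨cj (pre p.1 p.2) (rep p.1), D.T_short (D.T_cj (hrep p.1) _) (by rw [hmemk]; exact p.1.2)⟩
  have hpr : ∀ b f, ∃ d : ↥(Ez z), cj f (rep b) = rep b * inE d ∧
      D.S.pr d = D.S.mv ((b : ↥(octadFix D.o)) : Equiv.Perm GolayPt) (D.S.pr f) := fun b f => by
    obtain ⟨d, hd, he⟩ := D.cj_eq (hrep b).1 f
    exact ⟨d, he, by rw [hd, hrepk]⟩
  have hinj : Function.Injective φ := by
    rintro ⟨b, l⟩ ⟨b', l'⟩ h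
    have h' : cj (pre b l) (rep b) = cj (pre b' l') (rep b') := congrArg Subtype.val h
    have hb : b = b' := by
      have h2 := congrArg D.S.κ h'
      rw [hmemk, hmemk] at h2
      exact Subtype.ext (Subtype.ext h2)
    subst hb
    obtain ⟨d, hd1, hd2⟩ := hpr b (pre b l)
    obtain ⟨d', hd1', hd2'⟩ := hpr b (pre b l')
    rw [hd1, hd1'] at h'
    have hdd : d = d' := Subtype.ext (congrArg Subtype.val (mul_left_cancel h') :)
    subst hdd
    rw [hpre] at hd2 hd2'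
    rw [show l = l' from Subtype.ext (hd2.symm.trans hd2')]
  haveI : Fintype N := Fintype.ofFinite N
  have hbij : Function.Bijective φ := by
    refine (Nat.bijective_iff_injective_and_card _).2 ⟨hinj, ?_⟩
    rw [Nat.card_coe_set_eq, D.ncard_short_T, Nat.card_sigma, Finset.sum_congr rfl fun b _ =>
      show Nat.card (L b) = 16 by
        show Nat.card ↥(LinearMap.range (D.S.mv ((b : ↥(octadFix D.o)) : Equiv.Perm GolayPt))) = 16
        rw [natCard_eq_four_pow, D.S.finrank_range_mv D.ho b.1.2 b.2]; norm_num,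
      Finset.sum_const, Finset.card_univ, ← Nat.card_eq_fintype_card, hN]
    rfl
  let b0 : N := ⟨⟨a, ha⟩, ha1⟩
  have hsur : ∀ x ∈ D.T, D.S.κ x = a → ∃ l, cj (pre b0 l) (rep b0) = x := by
    intro x hx hxk
    obtain ⟨⟨b, l⟩, hl⟩ := hbij.2 ⟨x, D.T_short hx (by rw [hxk]; exact ha1)⟩
    have hl' : cj (pre b l) (rep b) = x := congrArg Subtype.val hl
    have hb : b = b0 := Subtype.ext (Subtype.ext (by rw [← hmemk b (pre b l), hl', hxk]))
    subst hb
    exact ⟨l, hl'⟩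
  refine ⟨rep b0, hrep b0, hrepk b0, fun x hx hxk => ?_, fun f hf => ?_⟩
  · obtain ⟨l, hl⟩ := hsur x hx hxk
    exact ⟨_, hl⟩
  · obtain ⟨l, hl⟩ := hsur _ (D.T_cj (hrep b0) f) (hmemk b0 f)
    obtain ⟨l1, hl1⟩ := hsur _ (hrep b0) (hrepk b0)
    obtain ⟨d, hd1, hd2⟩ := hpr b0 f
    obtain ⟨d', hd1', hd2'⟩ := hpr b0 (pre b0 l)
    obtain ⟨e, he1, he2⟩ := hpr b0 (pre b0 l1)
    rw [hl, hd1] at hd1'
    have hdd : d = d' := Subtype.ext (congrArg Subtype.val (mul_left_cancel hd1') :)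
    have he0 : D.S.pr e = 0 := by
      rw [hl1, left_eq_mul] at he1
      exact (D.S.pr_eq_zero e).2 (Or.inl (congrArg Subtype.val he1 :))
    subst hdd
    rw [hpre] at hd2' he2
    rw [hd2] at hd2'
    replace hd2' : (0 : D.S.WS) = l.1 := hf.symm.trans hd2'
    rw [← hl, show l = l1 from Subtype.ext (hd2'.symm.trans (he0.symm.trans he2)), hl1]

theorem transE {x x' : ↥(Cz z)} (hx : x ∈ D.T) (hx' : x' ∈ D.T) (hk : D.S.κ x ≠ 1)
    (he : D.S.κ x' = D.S.κ x) : ∃ f, cj f x = x' := by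
  obtain ⟨r, hr, hrk, hall, -⟩ := D.fibres ((D.S.mem_Vo D.ho).1 hx.1).1.1 hk
  obtain ⟨f, hf⟩ := hall x hx rfl
  obtain ⟨g, hg⟩ := hall x' hx' he
  exact ⟨g * f⁻¹, by rw [← hg, ← hf]; exact Subtype.ext (by simp [cj, mul_assoc])⟩

theorem cj_kernel {x : ↥(Cz z)} (hx : x ∈ D.T) (hk : D.S.κ x ≠ 1) {f : ↥(Ez z)}
    (hf : D.S.mv (D.S.κ x) (D.S.pr f) = 0) : cj f x = x := by
  obtain ⟨r, hr, hrk, hall, hker⟩ := D.fibres ((D.S.mem_Vo D.ho).1 hx.1).1.1 hk
  obtain ⟨g, hg⟩ := hall x hx rfl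
  have h := hker (g⁻¹ * f * g) (by
    rw [D.S.pr_mul, D.S.pr_mul, D.S.pr_inv, map_add, map_add, hf, add_zero, ZModModule.add_self])
  rw [← hg]
  conv_rhs => rw [← h]
  exact Subtype.ext (by simp [cj, mul_assoc])

/-- Two members differing by `E` differ over the secant, and are equal if not there. -/
theorem T_mul {x : ↥(Cz z)} (hx : x ∈ D.T) (hk : D.S.κ x ≠ 1) {e : ↥(Ez z)} (he : x * inE e ∈ D.T) :
    D.S.pr e ∈ LinearMap.range (D.S.mv (D.S.κ x)) ∧ (D.S.pr e = 0 → x * inE e = x) := by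
  obtain ⟨f, hf⟩ := D.transE hx he hk (by rw [map_mul, D.S.κ_inE, mul_one])
  obtain ⟨d, hd, hd'⟩ := D.cj_eq hx.1 f
  have hde : d = e := Subtype.ext (congrArg Subtype.val (mul_left_cancel (hd'.symm.trans hf)) :)
  subst hde
  exact ⟨⟨_, hd.symm⟩, fun h0 => by rw [← hf]; exact D.cj_kernel hx hk (hd.symm.trans h0)⟩

/-! ### Lifts and stars -/

/-- The element of `E` of a bit. -/
noncomputable def zp (t : ZMod 2) : ↥(Ez z) := ⟨z, D.S.z_mem_E⟩ ^ t.val

theorem zp_zero : D.zp 0 = 1 := pow_zero _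

theorem zp_one : D.zp 1 = ⟨z, D.S.z_mem_E⟩ := pow_one _

theorem zp_add (s t : ZMod 2) : D.zp (s + t) = D.zp s * D.zp t := by
  rcases LargeExtraspecial.OutForm.two_cases s with rfl | rfl <;>
    rcases LargeExtraspecial.OutForm.two_cases t with rfl | rfl <;>
    simp [zp_zero, zp_one, CharTwo.add_self_eq_zero]
  exact Subtype.ext (by simpa using D.S.z_sq.symm)

theorem pr_zp (t : ZMod 2) : D.S.pr (D.zp t) = 0 := by
  rcases LargeExtraspecial.OutForm.two_cases t with rfl | rfl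
  · rw [zp_zero, D.S.pr_one]
  · rw [zp_one, (D.S.pr_eq_zero _).2 (Or.inr rfl)]

theorem zp_central (t : ZMod 2) (x : ↥(Cz z)) : x * inE (D.zp t) = inE (D.zp t) * x := by
  rcases LargeExtraspecial.OutForm.two_cases t with rfl | rfl
  · rw [zp_zero]; exact Subtype.ext (by simp)
  · rw [zp_one]; exact Subtype.ext (mem_Cz.1 x.2)

theorem cj_zp (t : ZMod 2) (f : ↥(Ez z)) : cj f (inE (D.zp t)) = inE (D.zp t) := by
  rw [cj, D.zp_central, mul_inv_cancel_right]

theorem cj_inE (e f : ↥(Ez z)) :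
    cj f (inE e) = inE e * inE (D.zp (D.S.beta (D.S.pr f) (D.S.pr e))) := by
  rcases LargeExtraspecial.OutForm.two_cases (D.S.beta (D.S.pr f) (D.S.pr e)) with h | h
  · rw [h, zp_zero]
    refine Subtype.ext ?_
    show (f : G) * e * (f : G)⁻¹ = e * (1 : G)
    rw [(D.S.beta_pr f e).1 h, mul_one, mul_inv_cancel_right]
  · rw [h, zp_one]
    exact Subtype.ext ((D.S.beta_pr_one f e).1 h)

theorem cj_mul (f : ↥(Ez z)) (x y : ↥(Cz z)) : cj f (x * y) = cj f x * cj f y := by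
  simp only [cj]; group

/-- The first lift at a point. -/
noncomputable def e1 (i : Fin 6) : ↥(Ez z) := (D.S.pr_surjective (D.c.h i)).choose

/-- The second lift at a point. -/
noncomputable def e2 (i : Fin 6) : ↥(Ez z) := (D.S.pr_surjective (D.S.omega (D.c.h i))).choose

theorem pr_e1 (i : Fin 6) : D.S.pr (D.e1 i) = D.c.h i := (D.S.pr_surjective (D.c.h i)).choose_spec

theorem pr_e2 (i : Fin 6) : D.S.pr (D.e2 i) = D.S.omega (D.c.h i) :=
  (D.S.pr_surjective (D.S.omega (D.c.h i))).choose_spec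

/-- The star of a point with a shift. -/
noncomputable def eu (i : Fin 6) (x : ZMod 2 × ZMod 2) (s : K4) : ↥(Ez z) :=
  D.e1 i ^ s.a.val * D.e2 i ^ s.b.val * D.zp (s.a * s.b + linx x s)

/-- The star as elements of `Cz`. -/
noncomputable abbrev u (i : Fin 6) (x : ZMod 2 × ZMod 2) (s : K4) : ↥(Cz z) := inE (D.eu i x s)

theorem pr_eu (i : Fin 6) (x : ZMod 2 × ZMod 2) (s : K4) : D.S.pr (D.eu i x s) = s • D.c.h i := by
  rw [eu, D.S.pr_mul, D.S.pr_mul, D.pr_zp, add_zero, D.smul_cases]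
  rcases LargeExtraspecial.OutForm.two_cases s.a with ha | ha <;>
    rcases LargeExtraspecial.OutForm.two_cases s.b with hb | hb <;>
    simp [ha, hb, D.S.pr_one, D.pr_e1, D.pr_e2, show (1 : ZMod 2).val = 1 from rfl]

theorem eu_shift (i : Fin 6) (x y : ZMod 2 × ZMod 2) (s : K4) :
    D.eu i (x + y) s = D.eu i x s * D.zp (linx y s) := by
  rw [eu, eu, mul_assoc _ (D.zp _) (D.zp _), ← D.zp_add]
  congr 2
  simp only [linx, Prod.fst_add, Prod.snd_add]
  ring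

theorem u_T (i : Fin 6) (x : ZMod 2 × ZMod 2) {s : K4} (hs : s ≠ 0) : D.u i x s ∈ D.T :=
  D.Uh_T ⟨_, rfl, i, s, hs, D.pr_eu i x s⟩

/-- A member with the star `x` at the point `i`. -/
def Star (y : ↥(Cz z)) (i : Fin 6) (x : ZMod 2 × ZMod 2) : Prop :=
  ∀ s : K4, s ≠ 0 → y * D.u i x s ∈ D.T

/-- The shift of the stars by conjugation. -/
noncomputable def lam (f : ↥(Ez z)) (i : Fin 6) : ZMod 2 × ZMod 2 :=
  (D.S.beta (D.S.pr f) (D.c.h i), D.S.beta (D.S.pr f) (D.S.omega (D.c.h i)))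

theorem cj_u (f : ↥(Ez z)) (i : Fin 6) (x : ZMod 2 × ZMod 2) (s : K4) :
    cj f (D.u i x s) = D.u i (x + D.lam f i) s := by
  rw [u, D.cj_inE, D.pr_eu, D.beta_linx]
  refine Subtype.ext ?_
  show _ = ((D.eu i (x + D.lam f i) s : ↥(Ez z)) : G)
  rw [D.eu_shift]
  rfl

theorem star_conj {y : ↥(Cz z)} {i : Fin 6} {x : ZMod 2 × ZMod 2} (h : D.Star y i x) (f : ↥(Ez z)) :
    D.Star (cj f y) i (x + D.lam f i) := fun s hs => by
  rw [← D.cj_u, ← cj_mul]
  exact D.T_cj (h s hs) f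

theorem sec_cases {i j : Fin 6} (hij : i ≠ j) {k : Fin 6} (hk : k = i ∨ k = j) :
    ∃ l, k ≠ l ∧ D.sec k l = D.sec i j := by
  rcases hk with rfl | rfl
  · exact ⟨j, hij, rfl⟩
  · exact ⟨i, Ne.symm hij, D.c.lab_comm _ _ (Ne.symm hij)⟩

theorem exists_star {y : ↥(Cz z)} (hy : y ∈ D.T) {i j : Fin 6} (hij : i ≠ j)
    (hk : D.S.κ y = D.sec i j) {k : Fin 6} (hki : k = i ∨ k = j) : ∃ x, D.Star y k x := by
  obtain ⟨l, hkl, hl⟩ := D.sec_cases hij hki
  rw [← hl] at hk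
  have hk1 : D.S.κ y ≠ 1 := by rw [hk]; exact D.sec_ne hkl
  have hone : ∀ s : K4, ∃ (f : ↥(Ez z)) (t : ZMod 2), D.S.mv (D.sec k l) (D.S.pr f) = s • D.c.h k ∧
      cj f y = y * inE (D.e1 k ^ s.a.val * D.e2 k ^ s.b.val * D.zp t) := fun s => by
    obtain ⟨w, hw⟩ := D.exists_pre_left hkl s
    obtain ⟨f, rfl⟩ := D.S.pr_surjective w
    obtain ⟨d, hd, he⟩ := D.cj_eq hy.1 f
    rw [hk, hw] at hd
    have hb := D.pr_eu k 0 s
    rw [eu, D.S.pr_mul, D.pr_zp, add_zero] at hb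
    rcases (D.S.pr_eq_iff d (D.e1 k ^ s.a.val * D.e2 k ^ s.b.val)).1 (hd.trans hb.symm) with h | h
    · exact ⟨f, 0, hw, by rw [he, zp_zero, mul_one]; exact congrArg _ (Subtype.ext h)⟩
    · exact ⟨f, 1, hw, by rw [he, zp_one]; exact congrArg _ (Subtype.ext h)⟩
  obtain ⟨f, t1, hf, hy1⟩ := hone 1
  obtain ⟨g, t2, hg, hy2⟩ := hone K4.zeta
  have h1a : (1 : K4).a = 1 ∧ (1 : K4).b = 0 ∧ K4.zeta.a = 0 ∧ K4.zeta.b = 1 ∧
      (K4.zeta + 1).a = 1 ∧ (K4.zeta + 1).b = 1 := by decide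
  obtain ⟨q1, q2, q3, q4, q5, q6⟩ := h1a
  rw [q1, q2] at hy1; rw [q3, q4] at hy2
  simp only [show (1 : ZMod 2).val = 1 from rfl, ZMod.val_zero, pow_one, pow_zero, mul_one, one_mul] at hy1 hy2
  -- the third member
  have h3 := D.T_cj (D.T_cj hy g) f
  rw [hy2, cj_mul, hy1, D.cj_inE, D.S.pr_mul, D.pr_zp, add_zero, D.pr_e2, ← D.S.zeta_smul,
    D.line hkl hf K4.zeta, show eps 1 K4.zeta = 1 by decide +kernel] at h3
  have h1m := D.T_cj hy f
  have h2m := D.T_cj hy g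
  rw [hy1] at h1m; rw [hy2] at h2m
  refine ⟨(t1, t2), fun s hs => ?_⟩
  rcases Setting.scalar_pow s hs with rfl | rfl | e
  · have : D.eu k (t1, t2) 1 = D.e1 k * D.zp t1 := by
      rw [eu, q1, q2]; simp [linx, show (1 : ZMod 2).val = 1 from rfl, q1, q2]
    rw [u, this]; exact h1m
  · have : D.eu k (t1, t2) K4.zeta = D.e2 k * D.zp t2 := by
      rw [eu, q3, q4]; simp [linx, show (1 : ZMod 2).val = 1 from rfl, q3, q4]
    rw [u, this]; exact h2m
  · rw [e, show K4.zeta * K4.zeta = K4.zeta + 1 by decide +kernel]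
    have : D.eu k (t1, t2) (K4.zeta + 1) = D.e1 k * D.e2 k * D.zp (1 + (t1 + t2)) := by
      rw [eu, q5, q6]; simp [linx, show (1 : ZMod 2).val = 1 from rfl, q5, q6]
    rw [u, this]
    convert h3 using 1
    rw [D.zp_add, D.zp_add]
    refine Subtype.ext ?_
    simp only [Subgroup.coe_mul]
    have c : ∀ (t : ZMod 2) (w : ↥(Ez z)), (w : G) * (D.zp t : ↥(Ez z)) = (D.zp t : ↥(Ez z)) * (w : G) :=
      fun t w => congrArg Subtype.val (D.zp_central t (inE w))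
    have c' : ∀ (t : ZMod 2) (w : ↥(Ez z)) (r : G),
        (w : G) * ((D.zp t : ↥(Ez z)) * r) = (D.zp t : ↥(Ez z)) * ((w : G) * r) := fun t w r => by
      rw [← mul_assoc, c, mul_assoc]
    simp only [mul_assoc]
    rw [← c' t1 (D.e2 k), c 1 (D.zp t2), c' 1 (D.zp t1)]

theorem star_unique {y : ↥(Cz z)} (hy : y ∈ D.T) (hk : D.S.κ y ≠ 1) {i : Fin 6} {x x' : ZMod 2 × ZMod 2}
    (h : D.Star y i x) (h' : D.Star y i x') : x = x' := by
  have key : ∀ s : K4, s ≠ 0 → linx (x' + x) s = 0 := fun s hs => by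
    rcases LargeExtraspecial.OutForm.two_cases (linx (x' + x) s) with e | e
    · exact e
    exfalso
    have hx' : x' = x + (x' + x) := by
      rw [add_comm x' x, ← add_assoc, ZModModule.add_self, zero_add]
    have h1 := h' s hs
    rw [hx', u, D.eu_shift, e] at h1
    have h2 : y * D.u i x s * inE (D.zp 1) ∈ D.T := by rw [mul_assoc]; exact h1
    have h3 := (D.T_mul (h s hs) (by rw [map_mul, D.S.κ_inE, mul_one]; exact hk) h2).2 (D.pr_zp 1)
    rw [mul_eq_left] at h3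
    rw [zp_one] at h3
    exact D.S.z_ne (congrArg Subtype.val h3 :)
  have k1 := key 1 (by decide)
  have k2 := key K4.zeta (by decide)
  simp only [linx, show (1 : K4).a = 1 from rfl, show (1 : K4).b = 0 from rfl,
    show K4.zeta.a = 0 from rfl, show K4.zeta.b = 1 from rfl, mul_one, mul_zero, add_zero, zero_add] at k1 k2
  have h0 : x' + x = 0 := Prod.ext k1 k2
  rw [← ZModModule.sub_eq_add, sub_eq_zero] at h0
  exact h0.symm

theorem mv_zero_of_lam {i j : Fin 6} (hij : i ≠ j) {f : ↥(Ez z)} (hi : D.lam f i = 0) (hj : D.lam f j = 0) :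
    D.S.mv (D.sec i j) (D.S.pr f) = 0 := by
  have hf := D.S.fix_M22 D.ho (D.sec_mem hij)
  refine D.S.beta_nondeg _ fun v => ?_
  rw [D.S.beta_mv hf.1 hf.2]
  have hmem : D.S.mv (D.sec i j) v ∈ LinearMap.range (D.S.mv (D.sec i j)) := ⟨v, rfl⟩
  rw [D.c.lab_range i j hij] at hmem
  obtain ⟨p, hp, q, hq, hpq⟩ := Submodule.mem_sup.1 hmem
  obtain ⟨r, rfl⟩ := Submodule.mem_span_singleton.1 hp
  obtain ⟨r', rfl⟩ := Submodule.mem_span_singleton.1 hq
  rw [← hpq, map_add, D.beta_linx, D.beta_linx]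
  show linx (D.lam f i) r + linx (D.lam f j) r' = 0
  rw [hi, hj]
  simp [linx]

/-- A member over a secant is determined by its two stars. -/
theorem star_inj {y y' : ↥(Cz z)} (hy : y ∈ D.T) (hy' : y' ∈ D.T) {i j : Fin 6} (hij : i ≠ j)
    (hk : D.S.κ y = D.sec i j) (hk' : D.S.κ y' = D.sec i j) {x x' : ZMod 2 × ZMod 2}
    (hi : D.Star y i x) (hj : D.Star y j x') (hi' : D.Star y' i x) (hj' : D.Star y' j x') : y = y' := by
  have hk1 : D.S.κ y ≠ 1 := by rw [hk]; exact D.sec_ne hij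
  obtain ⟨f, hf⟩ := D.transE hy hy' hk1 (hk'.trans hk.symm)
  have e1 := D.star_unique hy' (by rw [hk']; exact D.sec_ne hij) hi' (hf ▸ D.star_conj hi f)
  have e2 := D.star_unique hy' (by rw [hk']; exact D.sec_ne hij) hj' (hf ▸ D.star_conj hj f)
  rw [left_eq_add] at e1 e2
  rw [← hf, D.cj_kernel hy hk1 (by rw [hk]; exact D.mv_zero_of_lam hij e1 e2)]

/-- All shifts at three points. -/
theorem exists_shift {i j k : Fin 6} (hij : i ≠ j) (hjk : j ≠ k) (hik : i ≠ k)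
    (x y w : ZMod 2 × ZMod 2) : ∃ f, D.lam f i = x ∧ D.lam f j = y ∧ D.lam f k = w := by
  classical
  let bs : Fin 6 → D.S.WS := ![D.c.h i, D.S.omega (D.c.h i), D.c.h j, D.S.omega (D.c.h j),
    D.c.h k, D.S.omega (D.c.h k)]
  let φ : (Fin 6 → ZMod 2) →ₗ[ZMod 2] D.S.WS :=
    { toFun := fun w => ∑ l, w l • bs l
      map_add' := fun v w => by simp [add_smul, Finset.sum_add_distrib]
      map_smul' := fun t w => by simp [mul_smul, Finset.smul_sum] }
  have hsm : ∀ (t t' : ZMod 2) (v : D.S.WS),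
      t • v + t' • D.S.omega v = (⟨t, t'⟩ : K4) • v := fun t t' v => by
    rw [D.smul_cases]
    rcases LargeExtraspecial.OutForm.two_cases t with rfl | rfl <;>
      rcases LargeExtraspecial.OutForm.two_cases t' with rfl | rfl <;> simp
  have hker : LinearMap.ker φ = ⊥ := by
    rw [LinearMap.ker_eq_bot']
    intro v hv
    have hv' : (⟨v 0, v 1⟩ : K4) • D.c.h i + (⟨v 2, v 3⟩ : K4) • D.c.h j + (⟨v 4, v 5⟩ : K4) • D.c.h k = 0 := by
      rw [← hsm, ← hsm, ← hsm, ← hv]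
      show _ = ∑ l, v l • bs l
      rw [Fin.sum_univ_six]
      simp only [bs, Matrix.cons_val_zero, Matrix.cons_val_one, Matrix.cons_val]
      abel
    rw [D.S.cvec_hco D.c i, D.S.cvec_hco D.c j, D.S.cvec_hco D.c k, D.S.smul_cvec, D.S.smul_cvec,
      D.S.smul_cvec, D.S.cvec_add, D.S.cvec_add] at hv'
    have h0 : D.S.cvec D.c (0 : Fin 3 → K4) = 0 := by simp [Setting.cvec]
    rw [← h0] at hv'
    obtain ⟨p1, p2, p3⟩ := hco_indep i j k hij hjk hik _ _ _ (fun l => congrFun (D.S.cvec_injective D.c hv') l)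
    funext l
    fin_cases l
    exacts [congrArg K4.a p1, congrArg K4.b p1, congrArg K4.a p2, congrArg K4.b p2, congrArg K4.a p3,
      congrArg K4.b p3]
  obtain ⟨ψ, hψ⟩ := φ.exists_leftInverse_of_injective hker
  let tgt : Fin 6 → ZMod 2 := ![x.1, x.2, y.1, y.2, w.1, w.2]
  let g : D.S.WS →ₗ[ZMod 2] ZMod 2 :=
    (∑ l, tgt l • (LinearMap.proj l : (Fin 6 → ZMod 2) →ₗ[ZMod 2] ZMod 2)).comp ψ
  have hnd : D.S.beta.Nondegenerate := ⟨fun v h => D.S.beta_nondeg v h,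
    fun v h => D.S.beta_nondeg v fun w => (D.S.beta_comm v w).trans (h w)⟩
  obtain ⟨f, hf⟩ := D.S.pr_surjective ((D.S.beta.toDual hnd).symm g)
  have hval : ∀ l, D.S.beta (D.S.pr f) (bs l) = tgt l := fun l => by
    rw [hf, LinearMap.BilinForm.apply_toDual_symm_apply]
    have hl : φ (Pi.single l 1) = bs l := by
      show ∑ m, (Pi.single l 1 : Fin 6 → ZMod 2) m • bs m = bs l
      rw [Finset.sum_eq_single l (fun m _ hm => by simp [Pi.single_eq_of_ne hm]) (by simp),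
        Pi.single_eq_same, one_smul]
    have hψl : ψ (bs l) = Pi.single l 1 := by
      rw [← hl]; exact LinearMap.congr_fun hψ _
    show (∑ m, tgt m • (LinearMap.proj m : (Fin 6 → ZMod 2) →ₗ[ZMod 2] ZMod 2)) (ψ (bs l)) = tgt l
    rw [hψl, LinearMap.sum_apply, Finset.sum_eq_single l (fun m _ hm => by simp [Pi.single_eq_of_ne hm]) (by simp)]
    simp
  exact ⟨f, Prod.ext (hval 0) (hval 1), Prod.ext (hval 2) (hval 3), Prod.ext (hval 4) (hval 5)⟩

theorem exists_third {i j : Fin 6} : ∃ k, i ≠ k ∧ j ≠ k :=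
  (by decide : ∀ i j : Fin 6, ∃ k, i ≠ k ∧ j ≠ k) i j

/-- Every pair of stars occurs. -/
theorem exists_Y {i j : Fin 6} (hij : i ≠ j) (x x' : ZMod 2 × ZMod 2) :
    ∃ y ∈ D.T, D.S.κ y = D.sec i j ∧ D.Star y i x ∧ D.Star y j x' := by
  obtain ⟨r, hr, hrk, -, -⟩ := D.fibres (D.sec_mem hij) (D.sec_ne hij)
  obtain ⟨x0, h0⟩ := D.exists_star hr hij hrk (Or.inl rfl)
  obtain ⟨x1, h1⟩ := D.exists_star hr hij hrk (Or.inr rfl)
  obtain ⟨k, hik, hjk⟩ := exists_third (i := i) (j := j)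
  obtain ⟨f, hfi, hfj, -⟩ := D.exists_shift hij hjk hik (x0 + x) (x1 + x') 0
  refine ⟨cj f r, D.T_cj hr f, by simp [cj, D.S.κ_inE, hrk], ?_, ?_⟩
  · have := D.star_conj h0 f
    rwa [hfi, ← add_assoc, ZModModule.add_self, zero_add] at this
  · have := D.star_conj h1 f
    rwa [hfj, ← add_assoc, ZModModule.add_self, zero_add] at this

end Duad

end Cfsg.Agent.J4Type
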