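import Cfsg.Agent.Lib.J4Type.TModel

/-!
The labels of sets of points (helper19).

* `TModel.vset` : the sum of the labels over a set
* `vset_symmDiff`, `vset_eq_zero_iff`, `duad_inj`, `meet_iff`
* `exists_perm_of_duads` : a map of duads preserving the meeting of duads comes from a permutation
-/

set_option autoImplicit false
set_option linter.style.haveILetI false
open scoped Pointwise symmDiff

namespace Cfsg.Agent.J4Type.TModel

open Cfsg Cfsg.Agent.Golay

/-- The label of a point. -/
def et (p : GolayPt) : ℕ := etaAt (idx p)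

/-- The sum of the labels over a set. -/
def vset (s : Finset GolayPt) : ℕ := encAux eta (maskOf s)

theorem maskOf_symmDiff (s t : Finset GolayPt) : maskOf (s ∆ t) = maskOf s ^^^ maskOf t :=
  pts_injOn (maskOf_lt _) (Nat.xor_lt_two_pow (maskOf_lt _) (maskOf_lt _))
    (by rw [pts_maskOf, pts_xor, pts_maskOf, pts_maskOf])

theorem vset_symmDiff (s t : Finset GolayPt) : vset (s ∆ t) = vset s ^^^ vset t := by
  rw [vset, maskOf_symmDiff, encAux_xor]; rfl

theorem vset_empty : vset ∅ = 0 := by
  rw [vset, show maskOf (∅ : Finset GolayPt) = 0 from pts_injOn (maskOf_lt _) (by norm_num)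
    (by rw [pts_maskOf, pts_zero]), encAux_zero]

theorem vset_singleton (p : GolayPt) : vset {p} = et p := by
  have h : maskOf ({p} : Finset GolayPt) = 2 ^ idx p := by
    refine pts_injOn (maskOf_lt _) (Nat.pow_lt_pow_right (by norm_num) (idx_lt p)) ?_
    rw [pts_maskOf]
    ext q
    rw [mem_pts, Nat.testBit_two_pow, Finset.mem_singleton, decide_eq_true_iff]
    exact ⟨fun e => e ▸ rfl, fun e => idx_injective e.symm⟩
  have hb : ∀ i : Fin 24, encAux eta (2 ^ i.val) = etaAt i.val := by decide +kernel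
  rw [vset, h]
  exact hb ⟨idx p, idx_lt p⟩

theorem vset_pair {a b : GolayPt} (h : a ≠ b) : vset {a, b} = et a ^^^ et b := by
  rw [← vset_singleton, ← vset_singleton, ← vset_symmDiff]
  congr 1
  ext x
  simp only [Finset.mem_symmDiff, Finset.mem_insert, Finset.mem_singleton]
  constructor
  · rintro (rfl | rfl)
    · exact Or.inl ⟨rfl, h⟩
    · exact Or.inr ⟨rfl, Ne.symm h⟩
  · rintro (⟨h1, -⟩ | ⟨h1, -⟩)
    · exact Or.inl h1
    · exact Or.inr h1

theorem et_lt (p : GolayPt) : et p < 2048 := eta_lt ⟨idx p, idx_lt p⟩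

theorem vset_lt (s : Finset GolayPt) : vset s < 2048 := by
  have h : ∀ g ∈ eta, g < 2 ^ 11 := by decide +kernel
  exact encAux_lt eta 11 h _

theorem vset_duad {s : Finset GolayPt} (hs : s.card = 2) : tMask.testBit (vset s) = true := by
  obtain ⟨a, b, hab, rfl⟩ := Finset.card_eq_two.1 hs
  rw [vset_pair hab]
  exact duad_mem ⟨idx a, idx_lt a⟩ ⟨idx b, idx_lt b⟩ fun e => hab (idx_injective (congrArg Fin.val e))

theorem exists_duad_of_testBit {x : ℕ} (hx : tMask.testBit x = true) :
    ∃ s : Finset GolayPt, s.card = 2 ∧ vset s = x := by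
  obtain ⟨j, hj, i, hi, rfl⟩ : ∃ j < 24, ∃ i < j, etaAt i ^^^ etaAt j = x := by
    simpa [duadList, List.mem_flatMap, List.mem_map, List.mem_range] using mem_duadList_iff.2 hx
  have hne : pt i ≠ pt j := fun e => by
    have := congrArg idx e
    rw [idx_pt (by omega), idx_pt hj] at this
    omega
  refine ⟨{pt i, pt j}, Finset.card_pair hne, ?_⟩
  rw [vset_pair hne, et, et, idx_pt (by omega), idx_pt hj]

theorem card_symmDiff_add (s t : Finset GolayPt) :
    (s ∆ t).card + 2 * (s ∩ t).card = s.card + t.card := by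
  rw [symmDiff_def, Finset.sup_eq_union,
    Finset.card_union_of_disjoint (disjoint_sdiff_sdiff)]
  have h2 := Finset.card_inter_add_card_sdiff s t
  have h3 := Finset.card_inter_add_card_sdiff t s
  rw [Finset.inter_comm t] at h3
  omega

/-- An even set with vanishing sum is a word of the code. -/
theorem code_of_vset_eq_zero {s : Finset GolayPt} (he : Even s.card) (h : vset s = 0) :
    isCode (maskOf s) = true := by
  set m := maskOf s with hm
  set x := m % 4096
  have hx : x < 4096 := Nat.mod_lt _ (by norm_num)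
  set r := m ^^^ enc x with hr
  have hr24 : r < 2 ^ 24 := Nat.xor_lt_two_pow (maskOf_lt s) (enc_lt x)
  have hlow : r % 4096 = 0 := by
    rw [hr, show (4096 : ℕ) = 2 ^ 12 from rfl, Nat.xor_mod_two_pow, show (2 : ℕ) ^ 12 = 4096 from rfl, enc_mod hx]
    exact Nat.xor_self x
  have hrs : r = (r / 4096) <<< 12 := by
    rw [Nat.shiftLeft_eq]
    have := Nat.div_add_mod r 4096
    omega
  have hlin : encAux eta r = 0 := by
    have hk : ∀ gs : List ℕ, (∀ g ∈ gs, encAux eta g = 0) → ∀ y, encAux eta (encAux gs y) = 0 := by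
      intro gs
      induction gs with
      | nil => intro _ y; exact encAux_zero _
      | cons g gs ih =>
        intro hg y
        simp only [encAux, encAux_xor, ih fun a ha => hg a (List.mem_cons_of_mem _ ha)]
        split
        · simp [hg g List.mem_cons_self]
        · simp [encAux_zero]
    rw [hr, encAux_xor, show encAux eta m = 0 from h, enc,
      hk rows (fun g hg => beq_iff_eq.1 (List.all_eq_true.1 eta_ker g hg)) x]
    rfl
  have heven : popcount r % 2 = 0 := by
    have h1 : (pts r).card + 2 * (pts m ∩ pts (enc x)).card = (pts m).card + (pts (enc x)).card := by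
      rw [hr, pts_xor]
      exact card_symmDiff_add _ _
    have h4 := card_mem_weights (mem_supports_iff_exists.2 ⟨x, hx, rfl⟩)
    rw [hm, pts_maskOf, card_pts r] at h1
    obtain ⟨k, hk⟩ := he
    omega
  have hlt : r / 4096 < 4096 := by omega
  have hall := List.all_eq_true.1 eta_exact _ (List.mem_range.2 hlt)
  simp only [← hrs, hlin, Bool.or_eq_true, beq_iff_eq, bne_self_eq_false] at hall
  have h0 : r = 0 := by
    rcases hall with (h0 | h0) | h0
    · rw [hrs, h0]; rfl
    · exact absurd h0 (by decide)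
    · omega
  rw [isCode, beq_iff_eq]
  exact (Nat.xor_eq_zero_iff.1 h0).symm

/-- A short even set with vanishing sum is empty. -/
theorem eq_empty_of_vset {s : Finset GolayPt} (he : Even s.card) (h8 : s.card < 8) (h : vset s = 0) : s = ∅ := by
  have hc := mem_supports_iff.2 (code_of_vset_eq_zero he h)
  have := card_mem_weights hc
  exact Finset.card_eq_zero.1 (by omega)

theorem card_symmDiff_two {s t : Finset GolayPt} (hs : s.card = 2) (ht : t.card = 2) :
    (s ∆ t).card + 2 * (s ∩ t).card = 4 := by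
  rw [card_symmDiff_add, hs, ht]

theorem duad_inj {s t : Finset GolayPt} (hs : s.card = 2) (ht : t.card = 2) (h : vset s = vset t) : s = t := by
  have hc := card_symmDiff_two hs ht
  refine symmDiff_eq_bot.1 (eq_empty_of_vset (Nat.even_iff.2 (by omega)) (by omega) ?_)
  rw [vset_symmDiff, h, Nat.xor_self]

theorem meet_iff {s t : Finset GolayPt} (hs : s.card = 2) (ht : t.card = 2) :
    (s ∩ t).card = 1 ↔ tMask.testBit (vset s ^^^ vset t) = true := by
  have hc := card_symmDiff_two hs ht
  rw [← vset_symmDiff]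
  refine ⟨fun h => vset_duad (by omega), fun h => ?_⟩
  obtain ⟨u, hu, he⟩ := exists_duad_of_testBit h
  have h4 : (s ∆ t ∆ u).card + 2 * ((s ∆ t) ∩ u).card = (s ∆ t).card + 2 := by
    rw [card_symmDiff_add, hu]
  have hz := eq_empty_of_vset (s := s ∆ t ∆ u) (Nat.even_iff.2 (by omega)) (by omega)
    (by rw [vset_symmDiff, he, Nat.xor_self])
  have : s ∆ t = u := symmDiff_eq_bot.1 hz
  rw [this] at hc
  omega

/-- A map of the duads preserving meeting comes from a permutation. -/
theorem exists_perm_of_duads (d : Finset GolayPt → Finset GolayPt)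
    (h2 : ∀ s, s.card = 2 → (d s).card = 2) (hinj : ∀ s t, s.card = 2 → t.card = 2 → d s = d t → s = t)
    (hmeet : ∀ s t, s.card = 2 → t.card = 2 → (s ∩ t).card = 1 → (d s ∩ d t).card = 1) :
    ∃ τ : Equiv.Perm GolayPt, ∀ s, s.card = 2 → d s = τ • s := by
  classical
  let Q : {b : GolayPt // b ≠ none} → Finset GolayPt := fun b => d {none, b.1}
  have hne : ∀ b : {b : GolayPt // b ≠ none}, ({none, b.1} : Finset GolayPt).card = 2 :=
    fun b => Finset.card_pair (Ne.symm b.2)
  have hQ2 : ∀ b, (Q b).card = 2 := fun b => h2 _ (hne b)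
  have hQinj : ∀ b b', Q b = Q b' → b = b' := by
    intro b b' h
    have h1 := hinj _ _ (hne b) (hne b') h
    have hb : b.1 ∈ ({none, b'.1} : Finset GolayPt) := h1 ▸ by simp
    exact Subtype.ext (by simpa [b.2] using hb)
  have hQm : ∀ b b', b ≠ b' → (Q b ∩ Q b').card = 1 := fun b b' h => by
    refine hmeet _ _ (hne b) (hne b') (Finset.card_eq_one.2 ⟨none, ?_⟩)
    ext x
    simp only [Finset.mem_inter, Finset.mem_insert, Finset.mem_singleton]
    exact ⟨fun ⟨h1, h1'⟩ => h1.elim id fun e => h1'.resolve_right fun e' => h (Subtype.ext (e ▸ e')),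
      fun e => ⟨Or.inl e, Or.inl e⟩⟩
  obtain ⟨u, hu⟩ : ∃ u, ∀ b, u ∈ Q b := by
    let b1 : {b : GolayPt // b ≠ none} := ⟨some 0, by simp⟩
    let b2 : {b : GolayPt // b ≠ none} := ⟨some 1, by simp⟩
    have h12 : b1 ≠ b2 := by decide
    obtain ⟨u, hu⟩ := Finset.card_eq_one.1 (hQm b1 b2 h12)
    have hu1 : u ∈ Q b1 ∧ u ∈ Q b2 := Finset.mem_inter.1 (hu ▸ Finset.mem_singleton_self u)
    refine ⟨u, fun b3 => ?_⟩
    by_contra h3
    -- a member avoiding `u` is the third side of a triangle
    have third : ∀ b, u ∉ Q b → Q b ⊆ Q b1 ∪ Q b2 := by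
      intro b hb
      obtain ⟨y, hy⟩ := Finset.card_eq_one.1 (hQm b1 b fun h => hb (h ▸ hu1.1))
      obtain ⟨w, hw⟩ := Finset.card_eq_one.1 (hQm b2 b fun h => hb (h ▸ hu1.2))
      have hy' : y ∈ Q b1 ∧ y ∈ Q b := Finset.mem_inter.1 (hy ▸ Finset.mem_singleton_self y)
      have hw' : w ∈ Q b2 ∧ w ∈ Q b := Finset.mem_inter.1 (hw ▸ Finset.mem_singleton_self w)
      have hyw : y ≠ w := fun h => by
        have : y ∈ Q b1 ∩ Q b2 := Finset.mem_inter.2 ⟨hy'.1, h ▸ hw'.1⟩
        rw [hu, Finset.mem_singleton] at this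
        exact hb (this ▸ hy'.2)
      rw [(Finset.eq_of_subset_of_card_le (s := {y, w}) (t := Q b) (by simp [Finset.insert_subset_iff, hy'.2, hw'.2])
        (by rw [Finset.card_pair hyw, hQ2])).symm]
      simp [Finset.insert_subset_iff, hy'.1, hw'.1]
    have hall : ∀ b, Q b ⊆ Q b1 ∪ Q b2 := by
      intro b
      by_cases hb : u ∈ Q b
      · -- it meets the third side
        intro x hx
        by_cases hxu : x = u
        · exact hxu ▸ Finset.mem_union_left _ hu1.1
        · obtain ⟨w, hw⟩ := Finset.card_eq_one.1 (hQm b b3 fun h => h3 (h ▸ hb))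
          have hw' : w ∈ Q b ∧ w ∈ Q b3 := Finset.mem_inter.1 (hw ▸ Finset.mem_singleton_self w)
          have huw : u ≠ w := fun h => h3 (h ▸ hw'.2)
          have hQb : ({u, w} : Finset GolayPt) = Q b := Finset.eq_of_subset_of_card_le
            (by simp [Finset.insert_subset_iff, hb, hw'.1]) (by rw [Finset.card_pair huw, hQ2])
          rw [← hQb] at hx
          rcases Finset.mem_insert.1 hx with e | e
          · exact absurd e hxu
          · exact third b3 h3 (Finset.mem_singleton.1 e ▸ hw'.2)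
      · exact third b hb
    -- so at most six of them
    have hle : (Finset.univ.image Q).card ≤ ((Q b1 ∪ Q b2).powersetCard 2).card :=
      Finset.card_le_card fun s hs => by
        obtain ⟨b, -, rfl⟩ := Finset.mem_image.1 hs
        exact Finset.mem_powersetCard.2 ⟨hall b, hQ2 b⟩
    rw [Finset.card_image_of_injective _ (fun b b' => hQinj b b'), Finset.card_powersetCard] at hle
    have h4 : (Q b1 ∪ Q b2).card ≤ 4 := (Finset.card_union_le _ _).trans (by rw [hQ2, hQ2])
    have h23 : (Finset.univ : Finset {b : GolayPt // b ≠ none}).card = 23 := by decide +kernel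
    have := hle.trans (Nat.choose_le_choose 2 h4)
    rw [h23] at this
    exact absurd this (by decide)
  have hother : ∀ b, ∃ w, w ≠ u ∧ Q b = {u, w} := fun b => by
    obtain ⟨w, hw⟩ := Finset.card_eq_one.1
      (show ((Q b).erase u).card = 1 by rw [Finset.card_erase_of_mem (hu b), hQ2])
    have hw' := Finset.mem_erase.1 (hw ▸ Finset.mem_singleton_self w)
    exact ⟨w, hw'.1, by rw [← Finset.insert_erase (hu b), hw]⟩
  choose w hwu hwQ using hother
  have hwinj : ∀ b b', w b = w b' → b = b' := fun b b' h => hQinj _ _ (by rw [hwQ, hwQ, h])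
  let f : GolayPt → GolayPt := fun p => if h : p ≠ none then w ⟨p, h⟩ else u
  have hf : Function.Injective f := by
    intro p q hpq
    simp only [f] at hpq
    split at hpq <;> split at hpq
    · exact congrArg Subtype.val (hwinj _ _ hpq)
    · exact absurd hpq (hwu _)
    · exact absurd hpq.symm (hwu _)
    · simp_all
  let τ : Equiv.Perm GolayPt := Equiv.ofBijective f (Finite.injective_iff_bijective.1 hf)
  have hτn : τ none = u := by simp [τ, f]
  have hτ : ∀ b : {b : GolayPt // b ≠ none}, τ b.1 = w b := fun b => by simp [τ, f, b.2]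
  have hsmul : ∀ a b : GolayPt, τ • ({a, b} : Finset GolayPt) = {τ a, τ b} := fun a b => by
    rw [Finset.smul_finset_insert, Finset.smul_finset_singleton]; rfl
  refine ⟨τ, fun s hs => ?_⟩
  obtain ⟨a, b, hab, rfl⟩ := Finset.card_eq_two.1 hs
  rw [hsmul]
  by_cases ha : a = none
  · subst ha
    have h := hwQ ⟨b, Ne.symm hab⟩
    rw [hτn, hτ ⟨b, Ne.symm hab⟩]
    exact h
  by_cases hb : b = none
  · subst hb
    have h := hwQ ⟨a, hab⟩
    rw [hτn, hτ ⟨a, hab⟩, Finset.pair_comm (w _) u, Finset.pair_comm a none]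
    exact h
  -- a duad away from the extra point
  set pa : {b : GolayPt // b ≠ none} := ⟨a, ha⟩
  set pb : {b : GolayPt // b ≠ none} := ⟨b, hb⟩
  set D := d {a, b}
  have hD2 : D.card = 2 := h2 _ hs
  have hma : (D ∩ Q pa).card = 1 := by
    refine hmeet _ _ hs (hne pa) (Finset.card_eq_one.2 ⟨a, ?_⟩)
    ext x
    simp only [Finset.mem_inter, Finset.mem_insert, Finset.mem_singleton, pa]
    exact ⟨fun ⟨h1, h1'⟩ => h1'.elim (fun e => h1.elim id fun e' => absurd (e'.symm.trans e) hb) id,
      fun e => ⟨Or.inl e, Or.inr e⟩⟩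
  have hmb : (D ∩ Q pb).card = 1 := by
    refine hmeet _ _ hs (hne pb) (Finset.card_eq_one.2 ⟨b, ?_⟩)
    ext x
    simp only [Finset.mem_inter, Finset.mem_insert, Finset.mem_singleton, pb]
    exact ⟨fun ⟨h1, h1'⟩ => h1'.elim (fun e => h1.elim (fun e' => absurd (e'.symm.trans e) ha) id) id,
      fun e => ⟨Or.inr e, Or.inr e⟩⟩
  have huD : u ∉ D := by
    intro huD
    obtain ⟨y, hy⟩ := Finset.card_eq_one.1 (show (D.erase u).card = 1 by rw [Finset.card_erase_of_mem huD, hD2])
    have hy' := Finset.mem_erase.1 (hy ▸ Finset.mem_singleton_self y)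
    obtain ⟨q, hq⟩ := (Finite.injective_iff_bijective.1 hf).2 y
    have hqn : q ≠ none := fun e => hy'.1 (by rw [← hq, e]; simp [f])
    have hD : D = Q ⟨q, hqn⟩ := by
      rw [← Finset.insert_erase huD, hy, hwQ, show w ⟨q, hqn⟩ = y by rw [← hq]; simp [f, hqn]]
    have h1 := hinj _ _ hs (hne ⟨q, hqn⟩) hD
    have h5 : (none : GolayPt) ∈ ({a, b} : Finset GolayPt) := h1 ▸ by simp
    rcases Finset.mem_insert.1 h5 with e | e
    · exact ha e.symm
    · exact hb (Finset.mem_singleton.1 e).symm
  have hin : ∀ p, (D ∩ Q p).card = 1 → w p ∈ D := fun p hp => by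
    obtain ⟨y, hy⟩ := Finset.card_eq_one.1 hp
    have hy' := Finset.mem_inter.1 (hy ▸ Finset.mem_singleton_self y)
    rw [hwQ] at hy'
    rcases Finset.mem_insert.1 hy'.2 with e | e
    · exact absurd (e ▸ hy'.1) huD
    · exact Finset.mem_singleton.1 e ▸ hy'.1
  rw [hτ pa, hτ pb]
  refine (Finset.eq_of_subset_of_card_le (by simp [Finset.insert_subset_iff, hin pa hma, hin pb hmb]) ?_).symm
  rw [Finset.card_pair fun e => hab (congrArg Subtype.val (hwinj pa pb e)), hD2]

end Cfsg.Agent.J4Type.TModel
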