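import Cfsg.Agent.Lib.Golay.IndexSubgroups
import Cfsg.Agent.Lib.GolayModule.Submodules

/-!
Groups of Janko-four type: the duad labelling of the short orbit on an elementary subgroup of order 2048
with normaliser `V : K`, `K ≅ M24` (helper26).

* `SplitData` : `V`, a complement `K`, the isomorphism with M24 and two orbits of lengths 276 and 1771;
* `SplitData.eq_one_or` : these and `1` exhaust `V`;
* `SplitData.exists_duadMap` : an equivariant injective labelling of the short orbit by the duads;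
* `SplitData.triangle` : the labels of the sides of a triangle multiply to one.
-/

set_option autoImplicit false
set_option linter.unusedSectionVars false

open scoped Pointwise

namespace Cfsg.Agent.J4Type

open Cfsg Cfsg.Agent.Golay MulAction

/-- A split local subgroup `V : K` with `K ≅ M24` and orbits of lengths 276 and 1771 on `V`. -/
structure SplitData (G : Type*) [Group G] where
  V : Subgroup G
  K : Subgroup G
  e : ↥K ≃* ↥M24
  t : G
  s : G
  elem : Cfsg.IsElementaryAbelian 2 V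
  card : Nat.card ↥V = 2 ^ 11
  cent : Subgroup.centralizer (V : Set G) ≤ V
  K_le : K ≤ Subgroup.normalizer (V : Set G)
  inf : K ⊓ V = ⊥
  sup : K ⊔ V = Subgroup.normalizer (V : Set G)
  t_mem : t ∈ V
  s_mem : s ∈ V
  t_orbit : Set.ncard {v : G | ∃ n ∈ Subgroup.normalizer (V : Set G), n * t * n⁻¹ = v} = 276
  s_orbit : Set.ncard {v : G | ∃ n ∈ Subgroup.normalizer (V : Set G), n * s * n⁻¹ = v} = 1771
  not_conj : ∀ n ∈ Subgroup.normalizer (V : Set G), n * t * n⁻¹ ≠ s

variable {G : Type*} [Group G] [Finite G] (D : SplitData G)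

namespace SplitData

theorem sq_one {v : G} (hv : v ∈ D.V) : v * v = 1 := by rw [← pow_two]; exact D.elem.2 v hv

theorem comm {v w : G} (hv : v ∈ D.V) (hw : w ∈ D.V) : v * w = w * v := D.elem.1.is_comm.comm ⟨v, hv⟩ ⟨w, hw⟩ |>
  congrArg Subtype.val

theorem inv_eq {v : G} (hv : v ∈ D.V) : v⁻¹ = v := inv_eq_of_mul_eq_one_left (D.sq_one hv)

theorem conj_mem {n v : G} (hn : n ∈ Subgroup.normalizer (D.V : Set G)) (hv : v ∈ D.V) :
    n * v * n⁻¹ ∈ D.V := (Subgroup.mem_normalizer_iff.1 hn v).1 hv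

/-- An element of the normaliser is an element of `V` times one of `K`. -/
theorem exists_mul {n : G} (hn : n ∈ Subgroup.normalizer (D.V : Set G)) :
    ∃ v ∈ D.V, ∃ k : ↥D.K, n = v * k := by
  have h : n ∈ D.V ⊔ D.K := by rw [sup_comm, D.sup]; exact hn
  rw [← SetLike.mem_coe, Subgroup.coe_mul_of_right_le_normalizer_left D.V D.K D.K_le] at h
  obtain ⟨v, hv, k, hk, e⟩ := Set.mem_mul.1 h
  exact ⟨v, hv, ⟨k, hk⟩, e.symm⟩

/-- The element of `K` over a permutation in M24. -/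
noncomputable def el (σ : ↥M24) : G := (D.e.symm σ : ↥D.K)

theorem el_mul (σ τ : ↥M24) : D.el (σ * τ) = D.el σ * D.el τ := by simp [el]

theorem el_inv (σ : ↥M24) : D.el σ⁻¹ = (D.el σ)⁻¹ := by simp [el]

theorem el_mem (σ : ↥M24) : D.el σ ∈ D.K := (D.e.symm σ).2

theorem el_norm (σ : ↥M24) : D.el σ ∈ Subgroup.normalizer (D.V : Set G) := D.K_le (D.el_mem σ)

theorem conj_conj (σ τ : ↥M24) (v : G) :
    D.el σ * (D.el τ * v * (D.el τ)⁻¹) * (D.el σ)⁻¹ = D.el (σ * τ) * v * (D.el (σ * τ))⁻¹ := by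
  rw [D.el_mul]; group

/-- Orbits of the normaliser on `V` are orbits of `K`. -/
theorem orbit_eq {x : G} (hx : x ∈ D.V) :
    {v : G | ∃ n ∈ Subgroup.normalizer (D.V : Set G), n * x * n⁻¹ = v} =
      Set.range fun σ : ↥M24 => D.el σ * x * (D.el σ)⁻¹ := by
  ext v
  constructor
  · rintro ⟨n, hn, rfl⟩
    obtain ⟨u, hu, k, rfl⟩ := D.exists_mul hn
    refine ⟨D.e k, ?_⟩
    have hk : D.el (D.e k) = (k : G) := by simp [el]
    have hkx : (k : G) * x * (k : G)⁻¹ ∈ D.V := D.conj_mem (D.K_le k.2) hx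
    show D.el (D.e k) * x * (D.el (D.e k))⁻¹ = _
    rw [hk, show u * (k : G) * x * (u * (k : G))⁻¹ = u * ((k : G) * x * (k : G)⁻¹) * u⁻¹ by group,
      D.comm hu hkx, mul_inv_cancel_right]
  · rintro ⟨σ, rfl⟩
    exact ⟨_, D.el_norm σ, rfl⟩

theorem t_range : Set.ncard (Set.range fun σ : ↥M24 => D.el σ * D.t * (D.el σ)⁻¹) = 276 := by
  rw [← D.orbit_eq D.t_mem, D.t_orbit]

theorem s_range : Set.ncard (Set.range fun σ : ↥M24 => D.el σ * D.s * (D.el σ)⁻¹) = 1771 := by
  rw [← D.orbit_eq D.s_mem, D.s_orbit]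

theorem t_ne_one : D.t ≠ 1 := fun h => by
  have h' := D.t_range
  rw [h] at h'
  simp [Set.range_const] at h'

theorem s_ne_one : D.s ≠ 1 := fun h => by
  have h' := D.s_range
  rw [h] at h'
  simp [Set.range_const] at h'

theorem disjoint_orbits (σ τ : ↥M24) : D.el σ * D.t * (D.el σ)⁻¹ ≠ D.el τ * D.s * (D.el τ)⁻¹ := by
  intro h
  refine D.not_conj _ (D.el_norm (τ⁻¹ * σ)) ?_
  rw [← D.conj_conj, h, D.el_inv]
  group

/-- The two orbits and `1` exhaust `V`. -/
theorem eq_one_or {v : G} (hv : v ∈ D.V) :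
    v = 1 ∨ (∃ σ, D.el σ * D.t * (D.el σ)⁻¹ = v) ∨ ∃ σ, D.el σ * D.s * (D.el σ)⁻¹ = v := by
  set A := Set.range fun σ : ↥M24 => D.el σ * D.t * (D.el σ)⁻¹
  set B := Set.range fun σ : ↥M24 => D.el σ * D.s * (D.el σ)⁻¹
  have hdis : Disjoint A B := Set.disjoint_left.2 fun x ⟨σ, hσ⟩ ⟨τ, hτ⟩ =>
    D.disjoint_orbits σ τ (hσ.trans hτ.symm)
  have h1 : (1 : G) ∉ A ∪ B := by
    rintro (⟨σ, h⟩ | ⟨σ, h⟩)
    · exact D.t_ne_one (conj_eq_one_iff.1 h)
    · exact D.s_ne_one (conj_eq_one_iff.1 h)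
  have hsub : insert (1 : G) (A ∪ B) ⊆ (D.V : Set G) := by
    refine Set.insert_subset (one_mem _) (Set.union_subset ?_ ?_)
    · rintro _ ⟨σ, rfl⟩; exact D.conj_mem (D.el_norm σ) D.t_mem
    · rintro _ ⟨σ, rfl⟩; exact D.conj_mem (D.el_norm σ) D.s_mem
  have heq : insert (1 : G) (A ∪ B) = (D.V : Set G) := by
    refine Set.eq_of_subset_of_ncard_le hsub ?_ (Set.toFinite _)
    rw [Set.ncard_insert_of_notMem h1 (Set.toFinite _),
      Set.ncard_union_eq hdis (Set.toFinite _) (Set.toFinite _), D.t_range, D.s_range,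
      ← Nat.card_coe_set_eq]
    exact le_of_eq (D.card.trans (by norm_num))
  have hmem : v ∈ insert (1 : G) (A ∪ B) := heq ▸ hv
  rcases hmem with h | h | h
  · exact Or.inl h
  · exact Or.inr (Or.inl h)
  · exact Or.inr (Or.inr h)

/-- The centraliser in M24 of an element. -/
noncomputable def stab (v : G) : Subgroup ↥M24 where
  carrier := {σ | D.el σ * v * (D.el σ)⁻¹ = v}
  mul_mem' := fun {a b} ha hb => by
    show D.el (a * b) * v * (D.el (a * b))⁻¹ = v
    rw [← D.conj_conj, show D.el b * v * (D.el b)⁻¹ = v from hb]; exact ha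
  one_mem' := by simp [el]
  inv_mem' := fun {a} ha => by
    show D.el a⁻¹ * v * (D.el a⁻¹)⁻¹ = v
    conv_lhs => rw [← (show D.el a * v * (D.el a)⁻¹ = v from ha)]
    rw [D.conj_conj, inv_mul_cancel]
    simp [el]

theorem mem_stab {v : G} {σ : ↥M24} : σ ∈ D.stab v ↔ D.el σ * v * (D.el σ)⁻¹ = v := Iff.rfl

theorem conj_eq_iff {v : G} {σ τ : ↥M24} :
    D.el σ * v * (D.el σ)⁻¹ = D.el τ * v * (D.el τ)⁻¹ ↔ τ⁻¹ * σ ∈ D.stab v := by
  rw [mem_stab, ← D.conj_conj, D.el_inv]
  constructor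
  · intro h; rw [h]; group
  · intro h
    calc D.el σ * v * (D.el σ)⁻¹
        = D.el τ * ((D.el τ)⁻¹ * (D.el σ * v * (D.el σ)⁻¹) * ((D.el τ)⁻¹)⁻¹) * (D.el τ)⁻¹ := by group
      _ = _ := by rw [h]

theorem card_stab_mul (v : G) :
    Nat.card ↥(D.stab v) * Set.ncard (Set.range fun σ : ↥M24 => D.el σ * v * (D.el σ)⁻¹) = 244823040 := by
  have e : (↥M24 ⧸ D.stab v) ≃ ↥(Set.range fun σ : ↥M24 => D.el σ * v * (D.el σ)⁻¹) :=
    Equiv.ofBijective
      (fun q => Quotient.liftOn' q (fun σ => (⟨D.el σ * v * (D.el σ)⁻¹, σ, rfl⟩ :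
          ↥(Set.range fun σ : ↥M24 => D.el σ * v * (D.el σ)⁻¹)))
        fun σ τ h => Subtype.ext ((D.conj_eq_iff).2 (by
          have h' := QuotientGroup.leftRel_apply.1 h
          simpa using inv_mem h')))
      ⟨by
        rintro ⟨σ⟩ ⟨τ⟩ h
        refine Quotient.sound' (QuotientGroup.leftRel_apply.2 ?_)
        simpa using inv_mem (D.conj_eq_iff.1 (congrArg Subtype.val h)),
       by rintro ⟨_, σ, rfl⟩; exact ⟨Quotient.mk'' σ, rfl⟩⟩
  have h := Subgroup.card_eq_card_quotient_mul_card_subgroup (D.stab v)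
  rw [natCard_M24, Nat.card_congr e, Nat.card_coe_set_eq] at h
  rw [h, mul_comm]

theorem card_stab_t : Nat.card ↥(D.stab D.t) = 887040 := by
  have h := D.card_stab_mul D.t
  rw [D.t_range] at h
  omega

/-- A duad fixed exactly by the centraliser of `t`. -/
theorem exists_baseDuad : ∃ P : Finset GolayPt, P.card = 2 ∧ D.stab D.t = stabilizer ↥M24 P := by
  obtain ⟨P, hP, hinv⟩ := Index.exists_pair_of_card D.card_stab_t
  refine ⟨P, hP, Subgroup.eq_of_le_of_card_ge (Index.le_stabilizer_of_inv hinv) ?_⟩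
  have h := Index.natCard_stabilizer_kset (W := P) (by omega)
  rw [hP, show Nat.choose 24 2 = 276 by decide] at h
  rw [D.card_stab_t]
  omega

/-- **The labelling of the short orbit by duads.** -/
theorem exists_duadMap : ∃ d : Finset GolayPt → G,
    (∀ (σ : ↥M24) (W : Finset GolayPt), W.card = 2 → d (σ • W) = D.el σ * d W * (D.el σ)⁻¹) ∧
    (∀ W : Finset GolayPt, W.card = 2 → ∃ σ, D.el σ * D.t * (D.el σ)⁻¹ = d W) ∧
    (∀ σ, ∃ W : Finset GolayPt, W.card = 2 ∧ d W = D.el σ * D.t * (D.el σ)⁻¹) ∧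
    (∀ W W' : Finset GolayPt, W.card = 2 → W'.card = 2 → d W = d W' → W = W') := by
  classical
  obtain ⟨P, hP, hstab⟩ := D.exists_baseDuad
  have hex : ∀ W : Finset GolayPt, W.card = 2 → ∃ σ : ↥M24, σ • P = W := fun W hW => by
    have : W ∈ orbit M24 P := by
      rw [orbit_kset (by omega)]
      show W.card = P.card
      omega
    exact this
  have hwd : ∀ σ τ : ↥M24, σ • P = τ • P ↔ D.el σ * D.t * (D.el σ)⁻¹ = D.el τ * D.t * (D.el τ)⁻¹ := by
    intro σ τ
    rw [D.conj_eq_iff, hstab, mem_stabilizer_iff, mul_smul, inv_smul_eq_iff]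
  let d : Finset GolayPt → G := fun W =>
    if h : W.card = 2 then D.el (hex W h).choose * D.t * (D.el (hex W h).choose)⁻¹ else 1
  have hd : ∀ σ : ↥M24, d (σ • P) = D.el σ * D.t * (D.el σ)⁻¹ := fun σ => by
    have h : (σ • P).card = 2 := by rw [Finset.card_smul_finset, hP]
    simp only [d, dif_pos h]
    exact (hwd _ _).1 (hex _ h).choose_spec
  refine ⟨d, fun σ W hW => ?_, fun W hW => ?_, fun σ => ⟨σ • P, by rw [Finset.card_smul_finset, hP], hd σ⟩,
    fun W W' hW hW' h => ?_⟩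
  · obtain ⟨τ, rfl⟩ := hex W hW
    rw [smul_smul, hd, hd, D.conj_conj]
  · obtain ⟨τ, rfl⟩ := hex W hW
    exact ⟨τ, (hd τ).symm⟩
  · obtain ⟨τ, rfl⟩ := hex W hW
    obtain ⟨τ', rfl⟩ := hex W' hW'
    rw [hd, hd] at h
    exact (hwd _ _).2 h

/-- The labels of the sides of a triangle multiply to one. -/
theorem triangle {d : Finset GolayPt → G}
    (heq : ∀ (σ : ↥M24) (W : Finset GolayPt), W.card = 2 → d (σ • W) = D.el σ * d W * (D.el σ)⁻¹)
    (hd : ∀ W : Finset GolayPt, W.card = 2 → ∃ σ, D.el σ * D.t * (D.el σ)⁻¹ = d W)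
    (hall : ∀ σ, ∃ W : Finset GolayPt, W.card = 2 ∧ d W = D.el σ * D.t * (D.el σ)⁻¹)
    (hinj : ∀ W W' : Finset GolayPt, W.card = 2 → W'.card = 2 → d W = d W' → W = W')
    {a b c : GolayPt} (hab : a ≠ b) (hac : a ≠ c) (hbc : b ≠ c) :
    d {a, b} * d {a, c} = d {b, c} := by
  classical
  have hmemV : ∀ W : Finset GolayPt, W.card = 2 → d W ∈ D.V := fun W hW => by
    obtain ⟨σ, hσ⟩ := hd W hW
    exact hσ ▸ D.conj_mem (D.el_norm σ) D.t_mem
  have h2 : ({a, b} : Finset GolayPt).card = 2 ∧ ({a, c} : Finset GolayPt).card = 2 ∧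
      ({b, c} : Finset GolayPt).card = 2 :=
    ⟨Finset.card_pair hab, Finset.card_pair hac, Finset.card_pair hbc⟩
  set p := d {a, b} * d {a, c} with hp
  have hpV : p ∈ D.V := mul_mem (hmemV _ h2.1) (hmemV _ h2.2.1)
  have hp1 : p ≠ 1 := fun h => by
    have e : d {a, b} = d {a, c} := by
      rw [mul_eq_one_iff_eq_inv.1 h, D.inv_eq (hmemV _ h2.2.1)]
    have hb : b ∈ ({a, c} : Finset GolayPt) := hinj _ _ h2.1 h2.2.1 e ▸ by simp
    simp only [Finset.mem_insert, Finset.mem_singleton] at hb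
    rcases hb with hb | hb
    · exact hab hb.symm
    · exact hbc hb
  -- the setwise stabiliser of `{b, c}` fixing `a`
  have hfix : ∀ σ : ↥M24, (σ : Equiv.Perm GolayPt) a = a →
      ((σ : Equiv.Perm GolayPt) b = b ∧ (σ : Equiv.Perm GolayPt) c = c ∨
        (σ : Equiv.Perm GolayPt) b = c ∧ (σ : Equiv.Perm GolayPt) c = b) → σ ∈ D.stab p := by
    intro σ ha hbc'
    have hs : ∀ x y : GolayPt, σ • ({x, y} : Finset GolayPt) =
        {(σ : Equiv.Perm GolayPt) x, (σ : Equiv.Perm GolayPt) y} := fun x y => by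
      simp [Finset.smul_finset_insert, Subgroup.smul_def]
    show D.el σ * p * (D.el σ)⁻¹ = p
    rw [hp, show D.el σ * (d {a, b} * d {a, c}) * (D.el σ)⁻¹ =
      (D.el σ * d {a, b} * (D.el σ)⁻¹) * (D.el σ * d {a, c} * (D.el σ)⁻¹) by group,
      ← heq σ _ h2.1, ← heq σ _ h2.2.1, hs, hs, ha]
    rcases hbc' with ⟨e1, e2⟩ | ⟨e1, e2⟩
    · rw [e1, e2]
    · rw [e1, e2, D.comm (hmemV _ h2.2.1) (hmemV _ h2.1)]
  rcases D.eq_one_or hpV with h | ⟨σ, hσ⟩ | ⟨σ, hσ⟩
  · exact absurd h hp1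
  · obtain ⟨Q, hQ, hQd⟩ := hall σ
    rw [hσ] at hQd
    have hQfix : ∀ g : ↥M24, g ∈ D.stab p → g • Q = Q := fun g hg => by
      refine hinj _ _ (by rw [Finset.card_smul_finset, hQ]) hQ ?_
      rw [heq g Q hQ, hQd, (D.mem_stab).1 hg]
    have hin : ∀ u ∈ Q, u = a ∨ u = b ∨ u = c := by
      intro u hu
      by_contra hne
      push Not at hne
      obtain ⟨f, -, hf⟩ := Finset.exists_mem_notMem_of_card_lt_card
        (show (({a, b, c} : Finset GolayPt) ∪ Q).card < (Finset.univ : Finset GolayPt).card by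
          refine lt_of_le_of_lt (Finset.card_union_le _ _) ?_
          have := Finset.card_le_three (a := a) (b := b) (c := c)
          rw [hQ, Finset.card_univ, show Fintype.card GolayPt = 24 from rfl]
          omega)
      simp only [Finset.mem_union, Finset.mem_insert, Finset.mem_singleton, not_or] at hf
      obtain ⟨g, hg, g1, g2, g3, g4⟩ := exists_map_four (a := a) (b := b) (c := c) (d := u)
        (a' := a) (b' := b) (c' := c) (d' := f)
        (by simp [hab, hac, hbc, Ne.symm hne.1, Ne.symm hne.2.1, Ne.symm hne.2.2])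
        (by simp [hab, hac, hbc, Ne.symm hf.1.1, Ne.symm hf.1.2.1, Ne.symm hf.1.2.2])
      have h1 := hQfix ⟨g, hg⟩ (hfix ⟨g, hg⟩ g1 (Or.inl ⟨g2, g3⟩))
      have h2' : f ∈ Q := by
        rw [← h1, ← g4]
        exact Finset.smul_mem_smul_finset (s := Q) (a := (⟨g, hg⟩ : ↥M24)) hu
      exact hf.2 h2'
    have ha : a ∉ Q := by
      intro ha
      obtain ⟨g, hg, g1, g2, g3⟩ := exists_map_three hab hac hbc hac hab (Ne.symm hbc)
      have h1 := hQfix ⟨g, hg⟩ (hfix ⟨g, hg⟩ g1 (Or.inr ⟨g2, g3⟩))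
      obtain ⟨x, hxQ, hxa⟩ := Finset.exists_mem_ne (by rw [hQ]; norm_num) a
      have hgx : g x ∈ Q := by
        rw [← h1]
        exact Finset.smul_mem_smul_finset (s := Q) (a := (⟨g, hg⟩ : ↥M24)) hxQ
      have hb : b ∈ Q ∧ c ∈ Q := by
        rcases hin x hxQ with rfl | rfl | rfl
        · exact absurd rfl hxa
        · exact ⟨hxQ, g2 ▸ hgx⟩
        · exact ⟨g3 ▸ hgx, hxQ⟩
      have h3 : ({a, b, c} : Finset GolayPt) ⊆ Q := by
        simp [Finset.insert_subset_iff, ha, hb.1, hb.2]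
      have := Finset.card_le_card h3
      rw [hQ, show ({a, b, c} : Finset GolayPt).card = 3 by simp [hab, hac, hbc]] at this
      omega
    have hQeq : Q = {b, c} := by
      refine Finset.eq_of_subset_of_card_le (fun u hu => ?_) (by rw [hQ, h2.2.2])
      rcases hin u hu with rfl | rfl | rfl
      · exact absurd hu ha
      · simp
      · simp
    rw [← hQeq, hQd]
  · exfalso
    -- an element of order seven fixes the three points
    haveI : Fact (Nat.Prime 7) := ⟨by norm_num⟩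
    have h3 : ({a, b, c} : Finset GolayPt).card = 3 := by simp [hab, hac, hbc]
    have h7 : 7 ∣ Nat.card ↥(stabilizer ↥M24 ({a, b, c} : Finset GolayPt)) := by
      have h := Index.natCard_stabilizer_kset (W := ({a, b, c} : Finset GolayPt)) (by omega)
      rw [h3, show Nat.choose 24 3 = 2024 by decide] at h
      refine ⟨17280, ?_⟩
      omega
    obtain ⟨g, hg, ho⟩ := Index.exists_prime_elem h7
    have hpt : ∀ u ∈ ({a, b, c} : Finset GolayPt), (g : Equiv.Perm GolayPt) u = u := by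
      intro u hu
      by_contra hne
      have hinv : ∀ y, (g : Equiv.Perm GolayPt) y ∈ ({a, b, c} : Finset GolayPt) ↔
          y ∈ ({a, b, c} : Finset GolayPt) := fun y => by
        conv_lhs => rw [← (mem_stabilizer_iff.1 hg)]
        exact Finset.smul_mem_smul_finset_iff g
      have hm := card_mod_of_invariant (p := 7) (σ := (g : Equiv.Perm GolayPt))
        (O := ({a, b, c} : Finset GolayPt)) (by rw [← ho, pow_orderOf_eq_one]) hinv
      have hlt : (({a, b, c} : Finset GolayPt).filter fun y => (g : Equiv.Perm GolayPt) y = y).card < 3 := by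
        refine lt_of_lt_of_eq (Finset.card_lt_card ⟨Finset.filter_subset _ _, fun h => ?_⟩) h3
        exact hne (Finset.mem_filter.1 (h hu)).2
      rw [h3] at hm
      omega
    have hgp : g ∈ D.stab p :=
      hfix g (hpt a (by simp)) (Or.inl ⟨hpt b (by simp), hpt c (by simp)⟩)
    have hc : Nat.card ↥(D.stab p) * 1771 = 244823040 := by
      have h := D.card_stab_mul p
      rwa [show (Set.range fun τ : ↥M24 => D.el τ * p * (D.el τ)⁻¹) =
        Set.range fun τ : ↥M24 => D.el τ * D.s * (D.el τ)⁻¹ by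
          ext v
          constructor
          · rintro ⟨τ, rfl⟩; exact ⟨τ * σ, by simp only; rw [← D.conj_conj, hσ]⟩
          · rintro ⟨τ, rfl⟩
            refine ⟨τ * σ⁻¹, ?_⟩
            show D.el (τ * σ⁻¹) * p * (D.el (τ * σ⁻¹))⁻¹ = _
            rw [← hσ, D.conj_conj, inv_mul_cancel_right], D.s_range] at h
    have hdvd : orderOf g ∣ Nat.card ↥(D.stab p) := Subgroup.orderOf_dvd_natCard _ hgp
    rw [← Subgroup.orderOf_coe, ho] at hdvd
    omega

end SplitData

end Cfsg.Agent.J4Type
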