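import Cfsg.Agent.Lib.J4Type.Bound

/-!
The elementary abelian subgroup of order 2^11 attached to an octad through the two deleted points (helper19).

* `Setting.Vo o` : the elements over the octad group centralising the preimage of its fixed space
* `natCard_Vo`, `Vo_sq`, `Vo_comm`, `conj_mem_Vo`, `κ_of_norm`, `le_Vo`, `centralizer_Vo`
* `exists_sylow_le_Cz`, `sylow_elem`, `existsUnique_elem`, `exists_conj_eq_Vo`
-/

set_option autoImplicit false
set_option maxHeartbeats 400000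
set_option linter.style.haveILetI false
set_option linter.unusedSectionVars false
open scoped Pointwise
open Cfsg Subgroup

namespace Cfsg.Agent.J4Type.Setting

open Cfsg.Agent.Golay

variable {G : Type*} [Group G] [Finite G] {z : G} {P : Subgroup G} (S : Setting z P)
  {o : Finset GolayPt} (ho : HexOct o)

/-- Elements over the octad group acting as the involutions, centralising the preimage of the fixed space. -/
def Vo : Subgroup ↥(Cz z) :=
  let A : Subgroup ↥(Cz z) :=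
    { carrier := {h | S.κ h ∈ octadFix o ∧ S.rho h = S.invLift (S.κ h)}
      one_mem' := ⟨by rw [map_one]; exact one_mem _, by rw [map_one, map_one, S.invLift_one]⟩
      mul_mem' := fun {g h} hg hh => ⟨by rw [map_mul]; exact mul_mem hg.1 hh.1, by
        rw [map_mul, map_mul, S.invLift_fix_mul ho hg.1 hh.1, hg.2, hh.2]⟩
      inv_mem' := fun {g} hg => ⟨by rw [map_inv]; exact inv_mem hg.1, by
        rw [map_inv, map_inv, hg.2, inv_eq_of_mul_eq_one_right (mul_self_octadFix ho.mem hg.1)]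
        refine inv_eq_of_mul_eq_one_right (LinearEquiv.ext fun v => ?_)
        exact S.invLift_invLift (S.fix_M22 ho hg.1).1 (S.fix_M22 ho hg.1).2 v⟩ }
  A ⊓ Subgroup.centralizer ((fun e : ↥(Ez z) => inE e) '' {e | S.pr e ∈ S.Cfix o})

include S ho

theorem mem_Vo {h : ↥(Cz z)} : h ∈ S.Vo ho ↔ (S.κ h ∈ octadFix o ∧ S.rho h = S.invLift (S.κ h)) ∧
    ∀ e : ↥(Ez z), S.pr e ∈ S.Cfix o → inE e * h = h * inE e := by
  simp only [Vo, mem_inf, mem_centralizer_iff]
  exact and_congr Iff.rfl ⟨fun hh e he => hh _ ⟨e, he, rfl⟩, by rintro hh _ ⟨e, he, rfl⟩; exact hh e he⟩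

theorem inE_mem_Vo_iff (e : ↥(Ez z)) : inE e ∈ S.Vo ho ↔ S.pr e ∈ S.Cfix o := by
  rw [S.mem_Vo ho, show S.κ (inE e) = 1 from S.κ_E e.2, S.rho_of_mem (h := inE e) e.2, S.invLift_one]
  refine ⟨fun h => S.mem_Cfix_of_orth ho fun c hc => ?_, fun he => ⟨⟨one_mem _, rfl⟩, fun u hu => ?_⟩⟩
  · obtain ⟨u, rfl⟩ := S.pr_surjective c
    exact (S.beta_pr u e).2 (congrArg Subtype.val (h.2 u hc))
  · exact Subtype.ext ((S.beta_pr u e).1 (S.Cfix_isotropic ho hu he))

theorem z_mem_Vo : (⟨z, self_mem_Cz z⟩ : ↥(Cz z)) ∈ S.Vo ho :=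
  (S.inE_mem_Vo_iff ho ⟨z, S.z_mem_E⟩).2 (by rw [(S.pr_eq_zero ⟨z, S.z_mem_E⟩).2 (Or.inr rfl)]; exact zero_mem _)

theorem mem_E_of_mem_Vo {h : ↥(Cz z)} (hh : h ∈ S.Vo ho) (hκ : S.κ h = 1) : (h : G) ∈ Ez z := by
  rw [← S.rho_eq_one_iff, ((S.mem_Vo ho).1 hh).1.2, hκ, S.invLift_one]

theorem conj_mem_Vo {h x : ↥(Cz z)} (hh : S.κ h ∈ stabO o) (hx : x ∈ S.Vo ho) : h * x * h⁻¹ ∈ S.Vo ho := by
  obtain ⟨⟨hxA, hxr⟩, hxc⟩ := (S.mem_Vo ho).1 hx
  refine (S.mem_Vo ho).2 ⟨⟨?_, ?_⟩, fun e he => ?_⟩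
  · rw [map_mul, map_mul, map_inv]
    exact HexOct.conj_mem_fix (S.κ_stab ho hh) hxA
  · rw [map_mul, map_mul, map_mul, map_mul, map_inv, map_inv,
      S.invLift_conj h (S.fix_M22 ho hxA).1 (S.fix_M22 ho hxA).2, hxr]
  · let e' : ↥(Ez z) := ⟨(h : G)⁻¹ * e * h, by simpa using conj_mem_Ez (inv_mem h.2) e.2⟩
    have he' : S.pr e' ∈ S.Cfix o := by
      have h1 := S.rho_mem_Cfix ho (h := h⁻¹) (by rw [map_inv]; exact (stabO o).inv_mem hh) he
      rw [S.rho_pr] at h1
      convert h1 using 2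
      exact Subtype.ext (by simp [e'])
    have h2 := congrArg Subtype.val (hxc e' he')
    refine Subtype.ext ?_
    show (e : G) * ((h : G) * x * (h : G)⁻¹) = (h : G) * x * (h : G)⁻¹ * e
    calc (e : G) * ((h : G) * x * (h : G)⁻¹) = (h : G) * ((e' : G) * x) * (h : G)⁻¹ := by simp [e', mul_assoc]
      _ = (h : G) * ((x : G) * e') * (h : G)⁻¹ := by rw [show (e' : G) * x = x * e' from h2]
      _ = _ := by simp [e', mul_assoc]

/-- Elements of the stabiliser of the octad are those normalising. -/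
theorem κ_of_norm {h : ↥(Cz z)} (hh : ∀ x ∈ S.Vo ho, h * x * h⁻¹ ∈ S.Vo ho)
    (hsurj : ∀ a ∈ octadFix o, ∃ x ∈ S.Vo ho, S.κ x = a) : S.κ h ∈ stabO o := by
  obtain ⟨a, ha, ha1⟩ := S.exists_mem_fix_ne ho
  obtain ⟨x, hx, rfl⟩ := hsurj a ha
  have h1 := ((S.mem_Vo ho).1 (hh x hx)).1.1
  rw [map_mul, map_mul, map_inv] at h1
  refine ⟨S.κ_mem h, ?_⟩
  show S.κ h • o = o
  refine Finset.eq_of_subset_of_card_le ?_ (by rw [Finset.card_smul_finset])
  intro y hy
  obtain ⟨p, hp, rfl⟩ := Finset.mem_smul_finset.1 hy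
  have hne : S.κ h * S.κ x * (S.κ h)⁻¹ ≠ 1 := fun e => ha1 (conj_eq_one_iff.1 e)
  refine (ho.fix_octadFix h1 hne _).1 ?_
  show (S.κ h * S.κ x * (S.κ h)⁻¹) (S.κ h p) = S.κ h p
  simp [(mem_octadFix.1 ha).2 p hp]

theorem exists_mem_Vo {a : Equiv.Perm GolayPt} (ha : a ∈ octadFix o) : ∃ x ∈ S.Vo ho, S.κ x = a := by
  classical
  obtain ⟨h, -, hκ, -, hI⟩ := S.exists_invLift (S.fix_M22 ho ha).1 (S.fix_M22 ho ha).2
  have hsec := S.pr_surjective
  choose sec hsec using hsec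
  have hcase : ∀ e : ↥(Ez z), S.pr e ∈ S.Cfix o →
      (h : G) * e * (h : G)⁻¹ = e ∨ (h : G) * e * (h : G)⁻¹ = e * z := fun e he =>
    (S.rho_fix_iff h e).1 (by rw [← hI]; exact (S.mem_Cfix ho).1 he a ha)
  let val : ↥(Ez z) → ZMod 2 := fun e => if (h : G) * e * (h : G)⁻¹ = e then 0 else 1
  have hzc : ∀ e : ↥(Ez z), z * (e : G) = e * z := fun e => (S.data.z_central e e.2).symm
  have hval : ∀ e : ↥(Ez z), S.pr e ∈ S.Cfix o → (h : G) * e * (h : G)⁻¹ = e * z ^ (val e).val := by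
    intro e he
    simp only [val]
    split
    · simpa using ‹_›
    · rw [(hcase e he).resolve_left ‹_›]; simp [show (1 : ZMod 2).val = 1 from rfl]
  have hinj : ∀ s t : ZMod 2, z ^ s.val = z ^ t.val → s = t := by
    intro s t hst
    rcases LargeExtraspecial.OutForm.two_cases s with rfl | rfl <;>
      rcases LargeExtraspecial.OutForm.two_cases t with rfl | rfl <;>
      first
        | rfl
        | exact absurd (by simpa [show (1 : ZMod 2).val = 1 from rfl] using hst) S.z_ne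
        | exact absurd (by simpa [show (1 : ZMod 2).val = 1 from rfl] using hst.symm) S.z_ne
  have hhz : (h : G) * z * (h : G)⁻¹ = z := mul_inv_eq_iff_eq_mul.2 (mem_Cz.1 h.2)
  have hmul : ∀ e f : ↥(Ez z), S.pr e ∈ S.Cfix o → S.pr f ∈ S.Cfix o → val (e * f) = val e + val f := by
    intro e f he hf
    apply hinj
    apply mul_left_cancel (a := ((e * f : ↥(Ez z)) : G))
    rw [← hval _ (by rw [S.pr_mul]; exact add_mem he hf), Subgroup.coe_mul]
    calc (h : G) * ((e : G) * f) * (h : G)⁻¹ = ((h : G) * e * (h : G)⁻¹) * ((h : G) * f * (h : G)⁻¹) := by group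
      _ = (e : G) * (z ^ (val e).val * f) * z ^ (val f).val := by rw [hval e he, hval f hf]; group
      _ = (e : G) * f * (z ^ (val e).val * z ^ (val f).val) := by
          rw [((show Commute z (f : G) from hzc f).pow_left _).eq]; group
      _ = _ := by
          congr 1
          rcases LargeExtraspecial.OutForm.two_cases (val e) with e1 | e1 <;>
            rcases LargeExtraspecial.OutForm.two_cases (val f) with e2 | e2 <;> rw [e1, e2] <;>
            simp [show (1 : ZMod 2).val = 1 from rfl, S.z_sq, show (1 : ZMod 2) + 1 = 0 from rfl]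
  have hwd : ∀ e f : ↥(Ez z), S.pr e = S.pr f → val e = val f := by
    intro e f hef
    rcases (S.pr_eq_iff e f).1 hef with h1 | h1
    · rw [show e = f from Subtype.ext h1]
    · simp only [val]
      refine if_congr ?_ rfl rfl
      rw [h1, show (h : G) * ((f : G) * z) * (h : G)⁻¹ =
        ((h : G) * f * (h : G)⁻¹) * ((h : G) * z * (h : G)⁻¹) by group, hhz]
      exact mul_left_inj z
  clear_value val
  let M : Submodule (ZMod 2) S.WS :=
    { toAddSubmonoid := (S.Cfix o).toAddSubmonoid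
      smul_mem' := fun c x hx => by
        rcases LargeExtraspecial.OutForm.two_cases c with rfl | rfl
        · rw [zero_smul]; exact (S.Cfix o).zero_mem
        · rw [one_smul]; exact hx }
  let χ : ↥M →+ ZMod 2 := AddMonoidHom.mk' (fun c => val (sec (c : S.WS))) fun c d => by
    rw [← hmul _ _ (by rw [hsec]; exact c.2) (by rw [hsec]; exact d.2)]
    exact hwd _ _ (by rw [S.pr_mul, hsec, hsec, hsec]; rfl)
  obtain ⟨φ, hφ⟩ := LinearMap.exists_extend (χ.toZModLinearMap 2)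
  have hχ : ∀ (e : ↥(Ez z)) (he : S.pr e ∈ M), χ ⟨S.pr e, he⟩ = val e := fun e he => hwd _ _ (hsec _)
  clear_value χ
  have hbij : Function.Bijective (S.beta) := by
    have hinj : Function.Injective (S.beta) := (injective_iff_map_eq_zero _).2 fun u hu =>
      S.beta_nondeg u fun w => by rw [hu]; rfl
    exact ⟨hinj, (LinearMap.injective_iff_surjective_of_finrank_eq_finrank
      Subspace.dual_finrank_eq.symm).1 hinj⟩
  obtain ⟨w, rfl⟩ := hbij.2 φ
  obtain ⟨d, rfl⟩ := S.pr_surjective w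
  have hκd : S.κ (h * inE d) = a := by rw [map_mul, hκ, show S.κ (inE d) = 1 from S.κ_E d.2, mul_one]
  refine ⟨h * inE d, (S.mem_Vo ho).2 ⟨⟨hκd.symm ▸ ha, ?_⟩, fun e he => ?_⟩, hκd⟩
  · rw [hκd, map_mul, S.rho_of_mem (h := inE d) d.2, mul_one, hI]
  · have hv : S.beta (S.pr d) (S.pr e) = val e := by
      have h1 := LinearMap.congr_fun hφ (⟨S.pr e, he⟩ : ↥M)
      simp only [LinearMap.comp_apply, Submodule.subtype_apply, AddMonoidHom.coe_toZModLinearMap] at h1
      rw [hχ] at h1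
      exact h1
    refine Subtype.ext ?_
    show (e : G) * ((h : G) * d) = (h : G) * d * e
    have hd : (d : G) * e * (d : G)⁻¹ = e * z ^ (val e).val := by
      rcases LargeExtraspecial.OutForm.two_cases (val e) with e1 | e1 <;> rw [e1] <;> rw [e1] at hv
      · simpa using mul_inv_eq_iff_eq_mul.2 ((S.beta_pr d e).1 hv)
      · simpa [show (1 : ZMod 2).val = 1 from rfl] using (S.beta_pr_one d e).1 hv
    have hzz : z ^ (val e).val * z ^ (val e).val = 1 := by
      rw [← (Commute.refl z).mul_pow, S.z_sq, one_pow]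
    have hhzp : (h : G) * z ^ (val e).val * (h : G)⁻¹ = z ^ (val e).val := by rw [← conj_pow, hhz]
    symm
    calc (h : G) * d * e = (h : G) * ((d : G) * e * (d : G)⁻¹) * d := by group
      _ = ((h : G) * e * (h : G)⁻¹) * ((h : G) * z ^ (val e).val * (h : G)⁻¹) * h * d := by rw [hd]; group
      _ = (e : G) * (z ^ (val e).val * z ^ (val e).val) * h * d := by rw [hval e he, hhzp]; group
      _ = _ := by rw [hzz, mul_one, mul_assoc]

omit ho in
theorem natCard_pr_mem (U : Submodule K4 S.WS) :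
    Nat.card {e : ↥(Ez z) // S.pr e ∈ U} = 2 * Nat.card ↥U := by
  let H : Subgroup ↥(Ez z) :=
    { carrier := {e | S.pr e ∈ U}
      one_mem' := by show S.pr 1 ∈ U; rw [S.pr_one]; exact zero_mem _
      mul_mem' := fun {a b} ha hb => by show S.pr (a * b) ∈ U; rw [S.pr_mul]; exact add_mem ha hb
      inv_mem' := fun {a} ha => by show S.pr a⁻¹ ∈ U; rw [S.pr_inv]; exact ha }
  let f : ↥H →* Multiplicative ↥U :=
    { toFun := fun e => Multiplicative.ofAdd ⟨S.pr e, e.2⟩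
      map_one' := congrArg Multiplicative.ofAdd (Subtype.ext S.pr_one)
      map_mul' := fun a b => congrArg Multiplicative.ofAdd (Subtype.ext (S.pr_mul a b)) }
  have hs : Function.Surjective f := fun w => by
    obtain ⟨e, he⟩ := S.pr_surjective (Multiplicative.toAdd w : ↥U)
    exact ⟨⟨e, (he.symm ▸ (Multiplicative.toAdd w).2 : S.pr e ∈ U)⟩, Subtype.ext he⟩
  have hzH : (⟨z, S.z_mem_E⟩ : ↥(Ez z)) ∈ H := by
    show S.pr _ ∈ U
    rw [(S.pr_eq_zero ⟨z, S.z_mem_E⟩).2 (Or.inr rfl)]; exact zero_mem _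
  have hker : Nat.card f.ker = 2 := by
    rw [Nat.card_eq_two_iff]
    refine ⟨1, ⟨⟨⟨z, S.z_mem_E⟩, hzH⟩, ?_⟩, fun h => ?_, ?_⟩
    · exact congrArg Multiplicative.ofAdd (Subtype.ext ((S.pr_eq_zero _).2 (Or.inr rfl)))
    · exact S.z_ne (congrArg (fun k : f.ker => (((k : ↥H) : ↥(Ez z)) : G)) h).symm
    · refine Set.eq_univ_of_forall fun k => ?_
      rcases (S.pr_eq_zero _).1 (congrArg Subtype.val (k.2 : f k = 1)) with h | h
      · exact Or.inl (Subtype.ext (Subtype.ext (Subtype.ext h)))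
      · exact Or.inr (Subtype.ext (Subtype.ext (Subtype.ext h)))
  have h := f.ker.index_mul_card
  rw [Subgroup.index_ker, MonoidHom.range_eq_top.2 hs, Subgroup.card_top, hker,
    Nat.card_congr Multiplicative.toAdd] at h
  show Nat.card ↥H = _
  omega

theorem natCard_U : Nat.card {e : ↥(Ez z) // S.pr e ∈ S.Cfix o} = 128 := by
  rw [S.natCard_pr_mem, natCard_eq_four_pow, S.finrank_Cfix ho]
  norm_num

/-- The coset over an element of the octad group. -/
theorem natCard_coset {a : Equiv.Perm GolayPt} (ha : a ∈ octadFix o) :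
    Nat.card {x : ↥(Cz z) // x ∈ S.Vo ho ∧ S.κ x = a} = 128 := by
  obtain ⟨x0, hx0, hk0⟩ := S.exists_mem_Vo ho ha
  rw [← S.natCard_U ho]
  let φ : {e : ↥(Ez z) // S.pr e ∈ S.Cfix o} → {x : ↥(Cz z) // x ∈ S.Vo ho ∧ S.κ x = a} := fun e =>
    ⟨x0 * inE e.1, mul_mem hx0 ((S.inE_mem_Vo_iff ho _).2 e.2), by
      rw [map_mul, hk0, show S.κ (inE (e.1 : ↥(Ez z))) = 1 from S.κ_E e.1.2, mul_one]⟩
  refine (Nat.card_congr (Equiv.ofBijective φ ⟨?_, ?_⟩)).symm
  · intro e f h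
    have h0 : x0 * inE (e.1 : ↥(Ez z)) = x0 * inE f.1 := congrArg Subtype.val h
    have h1 := congrArg Subtype.val (mul_left_cancel h0)
    exact Subtype.ext (Subtype.ext h1)
  · rintro ⟨x, hx, hxk⟩
    have hu : x0⁻¹ * x ∈ S.Vo ho := mul_mem (inv_mem hx0) hx
    have hE := S.mem_E_of_mem_Vo ho hu (by rw [map_mul, map_inv, hk0, hxk, inv_mul_cancel])
    have he : S.pr ⟨_, hE⟩ ∈ S.Cfix o := (S.inE_mem_Vo_iff ho _).1 hu
    exact ⟨⟨⟨_, hE⟩, he⟩, Subtype.ext (Subtype.ext (show (x0 : G) * ((x0 : G)⁻¹ * x) = x from mul_inv_cancel_left _ _))⟩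

theorem natCard_Vo : Nat.card ↥(S.Vo ho) = 2 ^ 11 := by
  classical
  let f : ↥(S.Vo ho) →* ↥(octadFix o) :=
    (S.κ.comp (S.Vo ho).subtype).codRestrict _ fun x => ((S.mem_Vo ho).1 x.2).1.1
  have hs : Function.Surjective f := fun a => by
    obtain ⟨x, hx, hk⟩ := S.exists_mem_Vo ho a.2
    exact ⟨⟨x, hx⟩, Subtype.ext hk⟩
  have hker : Nat.card f.ker = 128 := by
    rw [← S.natCard_coset ho (one_mem _)]
    exact Nat.card_congr
      { toFun := fun x => ⟨((x : ↥(S.Vo ho)) : ↥(Cz z)), x.1.2, congrArg Subtype.val x.2⟩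
        invFun := fun x => ⟨⟨x.1, x.2.1⟩, Subtype.ext x.2.2⟩ }
  have h := f.ker.index_mul_card
  rw [Subgroup.index_ker, hker, MonoidHom.range_eq_top.2 hs, Subgroup.card_top, natCard_octadFix ho.mem] at h
  omega

theorem exists_fixed_coset {a : Equiv.Perm GolayPt} (ha : a ∈ octadFix o) :
    ∃ x ∈ S.Vo ho, S.κ x = a ∧ (x : G) * S.gen = S.gen * x := by
  classical
  haveI : Fact (Nat.Prime 3) := ⟨Nat.prime_three⟩
  let T := {x : ↥(Cz z) // x ∈ S.Vo ho ∧ S.κ x = a}
  let Pg := Subgroup.zpowers S.genH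
  have hst : S.κ S.genH ∈ stabO o := by rw [show S.κ S.genH = 1 from S.κ_gen]; exact one_mem _
  have hPk : ∀ p ∈ Pg, S.κ p = 1 := by
    intro p hp
    obtain ⟨n, rfl⟩ := mem_zpowers_iff.1 hp
    rw [map_zpow, show S.κ S.genH = 1 from S.κ_gen, one_zpow]
  let act : MulAction ↥Pg T :=
    { smul := fun p x => ⟨(p : ↥(Cz z)) * x * (p : ↥(Cz z))⁻¹,
        S.conj_mem_Vo ho (by rw [hPk _ p.2]; exact one_mem _) x.2.1,
        by rw [map_mul, map_mul, map_inv, hPk _ p.2, x.2.2]; simp⟩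
      one_smul := fun x => Subtype.ext (by
        show ((1 : ↥Pg) : ↥(Cz z)) * x.1 * ((1 : ↥Pg) : ↥(Cz z))⁻¹ = x.1
        simp)
      mul_smul := fun p q x => Subtype.ext (by
        show ((p * q : ↥Pg) : ↥(Cz z)) * x.1 * ((p * q : ↥Pg) : ↥(Cz z))⁻¹ =
          (p : ↥(Cz z)) * ((q : ↥(Cz z)) * x.1 * (q : ↥(Cz z))⁻¹) * (p : ↥(Cz z))⁻¹
        simp [mul_assoc]) }
  have hp : IsPGroup 3 ↥Pg := IsPGroup.of_card (n := 1) (by
    rw [Nat.card_zpowers, pow_one, ← Subgroup.orderOf_coe]; exact S.gen_ord)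
  obtain ⟨x, hx⟩ := hp.nonempty_fixed_point_of_prime_not_dvd_card T (by
    rw [show Nat.card T = 128 from S.natCard_coset ho ha]; norm_num)
  refine ⟨x.1, x.2.1, x.2.2, ?_⟩
  have h := congrArg (fun y : T => ((y : ↥(Cz z)) : G)) (hx ⟨S.genH, mem_zpowers _⟩)
  exact (mul_inv_eq_iff_eq_mul.1 (show S.gen * (x.1 : G) * S.gen⁻¹ = x.1 from h)).symm

theorem Vo_sq {x : ↥(Cz z)} (hx : x ∈ S.Vo ho) : x * x = 1 := by
  classical
  -- the preimage of the fixed space has exponent two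
  have hU : ∀ u ∈ S.Vo ho, S.κ u = 1 → u * u = 1 := by
    intro u hu hk
    have hE := S.mem_E_of_mem_Vo ho hu hk
    exact Subtype.ext ((S.qS_pr ⟨_, hE⟩).1 (S.qS_Cfix ho ((S.inE_mem_Vo_iff ho ⟨_, hE⟩).1 hu)))
  have hUc : ∀ u ∈ S.Vo ho, S.κ u = 1 → ∀ y ∈ S.Vo ho, u * y = y * u := by
    intro u hu hk y hy
    have hE := S.mem_E_of_mem_Vo ho hu hk
    exact ((S.mem_Vo ho).1 hy).2 ⟨_, hE⟩ ((S.inE_mem_Vo_iff ho ⟨_, hE⟩).1 hu)
  let zH : ↥(Cz z) := ⟨z, self_mem_Cz z⟩
  have hzc : ∀ y : ↥(Cz z), y * zH = zH * y := fun y => Subtype.ext (mem_Cz.1 y.2)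
  have hzz : zH * zH = 1 := Subtype.ext S.z_sq
  have hone : ∀ u ∈ S.Vo ho, S.κ u = 1 → (u : G) * S.gen = S.gen * u → u = 1 ∨ u = zH := by
    intro u hu hk hc
    rcases S.fix u (S.mem_E_of_mem_Vo ho hu hk) hc with h | h
    · exact Or.inl (Subtype.ext h)
    · exact Or.inr (Subtype.ext h)
  have hy := fun a : ↥(octadFix o) => S.exists_fixed_coset ho a.2
  choose y hyV hyk hyg using hy
  have huniq : ∀ (w : ↥(Cz z)) (a : ↥(octadFix o)), w ∈ S.Vo ho → S.κ w = a → (w : G) * S.gen = S.gen * w →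
      w = y a ∨ w = y a * zH := by
    intro w a hw hk hg
    have hc : Commute ((y a : G))⁻¹ S.gen := (show Commute (y a : G) S.gen from hyg a).inv_left
    rcases hone ((y a)⁻¹ * w) (mul_mem (inv_mem (hyV a)) hw)
      (by rw [map_mul, map_inv, hyk, hk, inv_mul_cancel]) (hc.mul_left hg).eq with h | h
    · exact Or.inl (inv_mul_eq_one.1 h).symm
    · exact Or.inr (inv_mul_eq_iff_eq_mul.1 h)
  have hsq : ∀ a : ↥(octadFix o), y a * y a = 1 ∨ y a * y a = zH := fun a =>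
    hone _ (mul_mem (hyV a) (hyV a)) (by rw [map_mul, hyk]; exact mul_self_octadFix ho.mem a.2)
      ((show Commute (y a : G) S.gen from hyg a).mul_left (hyg a)).eq
  have hsqz : ∀ w : ↥(Cz z), (w * zH) * (w * zH) = w * w := fun w => by
    rw [mul_assoc, ← mul_assoc zH, ← hzc, mul_assoc w zH, hzz, mul_one]
  have hconst : ∀ a b : ↥(octadFix o), a ≠ 1 → b ≠ 1 → y a * y a = y b * y b := by
    intro a b ha hb
    obtain ⟨g, hg, hgab⟩ := ho.exists_conj_octadFix a.2 (fun e => ha (Subtype.ext e)) b.2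
      (fun e => hb (Subtype.ext e))
    obtain ⟨k, hkn, hkk⟩ := S.frattini' (m22_le_pairStab hg.1)
    have hkg : Commute (k : G) S.gen := (S.inner k hkn).1 (by rw [hkk]; exact hg.1.1.2)
    have hw : k * y a * k⁻¹ ∈ S.Vo ho := S.conj_mem_Vo ho (by rw [hkk]; exact stab0_le_stabO o hg) (hyV a)
    have hwg : Commute ((k * y a * k⁻¹ : ↥(Cz z)) : G) S.gen :=
      (hkg.mul_left (hyg a)).mul_left hkg.inv_left
    have hwsq : (k * y a * k⁻¹) * (k * y a * k⁻¹) = y a * y a := by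
      rw [show k * y a * k⁻¹ * (k * y a * k⁻¹) = k * (y a * y a) * k⁻¹ by group]
      rcases hsq a with e | e <;> rw [e]
      · simp
      · rw [hzc, mul_inv_cancel_right]
    rcases huniq _ b hw (by rw [map_mul, map_mul, map_inv, hkk, hyk]; exact hgab) hwg.eq with e | e
    · rw [← hwsq, e]
    · rw [← hwsq, e, hsqz]
  have hall : ∀ a : ↥(octadFix o), a ≠ 1 → y a * y a = 1 := by
    intro a0 ha0
    refine (hsq a0).resolve_right fun hz0 => ?_
    have hz1 : ∀ a : ↥(octadFix o), a ≠ 1 → y a * y a = zH := fun a ha =>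
      (hconst a a0 ha ha0).trans hz0
    have hmul : ∀ a b : ↥(octadFix o), y a * y b = y (a * b) ∨ y a * y b = y (a * b) * zH := fun a b =>
      huniq _ _ (mul_mem (hyV a) (hyV b)) (by rw [map_mul, hyk, hyk]; rfl)
        ((show Commute (y a : G) S.gen from hyg a).mul_left (hyg b)).eq
    have hinv : ∀ a : ↥(octadFix o), a ≠ 1 → (y a)⁻¹ = y a * zH := fun a ha =>
      inv_eq_of_mul_eq_one_right (by rw [← mul_assoc, hz1 a ha, hzz])
    have hanti : ∀ a b : ↥(octadFix o), a ≠ 1 → b ≠ 1 → a ≠ b → y b * y a = y a * y b * zH := by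
      intro a b ha hb hab
      have hab1 : a * b ≠ 1 := fun e => hab (by
        rw [eq_inv_of_mul_eq_one_left e]
        exact Subtype.ext (inv_eq_of_mul_eq_one_right (mul_self_octadFix ho.mem b.2)))
      have h1 : y a * y b * (y a * y b) = zH := by
        rcases hmul a b with e | e <;> rw [e]
        · exact hz1 _ hab1
        · rw [hsqz, hz1 _ hab1]
      calc y b * y a = (y a)⁻¹ * (y a * y b * (y a * y b)) * (y b)⁻¹ := by group
        _ = y a * zH * zH * (y b * zH) := by rw [h1, hinv a ha, hinv b hb]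
        _ = _ := by rw [mul_assoc (y a), hzz, mul_one, mul_assoc]
    haveI := Fintype.ofFinite ↥(octadFix o)
    have hc16 : Fintype.card ↥(octadFix o) = 16 := by
      rw [← Nat.card_eq_fintype_card]; exact natCard_octadFix ho.mem
    obtain ⟨b0, -, hb0⟩ : ∃ b ∈ Finset.univ, b ∉ ({1, a0} : Finset ↥(octadFix o)) :=
      Finset.exists_mem_notMem_of_card_lt_card (lt_of_le_of_lt Finset.card_le_two (by rw [Finset.card_univ, hc16]; norm_num))
    simp only [Finset.mem_insert, Finset.mem_singleton, not_or] at hb0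
    obtain ⟨c0, -, hc0⟩ : ∃ c ∈ Finset.univ, c ∉ ({1, a0, b0, a0 * b0} : Finset ↥(octadFix o)) :=
      Finset.exists_mem_notMem_of_card_lt_card (lt_of_le_of_lt Finset.card_le_four (by rw [Finset.card_univ, hc16]; norm_num))
    simp only [Finset.mem_insert, Finset.mem_singleton, not_or] at hc0
    have hbb : b0 * b0 = 1 := Subtype.ext (mul_self_octadFix ho.mem b0.2)
    have hcomm : ∀ u v : ↥(octadFix o), u * v = v * u := fun u v => Subtype.ext (ho.comm_fix u.2 v.2)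
    have hbc1 : b0 * c0 ≠ 1 := fun e => hc0.2.2.1 (by
      rw [← mul_one b0, ← e, ← mul_assoc, hbb, one_mul])
    have habc : a0 ≠ b0 * c0 := fun e => hc0.2.2.2 (by
      rw [e, hcomm b0 c0, mul_assoc, hbb, mul_one])
    have h1 : (y b0 * y c0) * y a0 = y a0 * (y b0 * y c0) * zH := by
      have h2 := hanti a0 (b0 * c0) ha0 hbc1 habc
      rcases hmul b0 c0 with e | e <;> rw [e]
      · exact h2
      · rw [mul_assoc _ zH (y a0), ← hzc, ← mul_assoc, h2]
        simp only [mul_assoc]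
    have h2 : (y b0 * y c0) * y a0 = y a0 * (y b0 * y c0) := by
      rw [mul_assoc, hanti a0 c0 ha0 hc0.1 (fun e => hc0.2.1 e.symm), ← mul_assoc, ← mul_assoc,
        hanti a0 b0 ha0 hb0.1 (fun e => hb0.2 e.symm)]
      rw [mul_assoc _ zH (y c0), ← hzc, ← mul_assoc, mul_assoc _ zH zH, hzz, mul_one, mul_assoc]
    rw [h2] at h1
    exact S.z_ne (congrArg Subtype.val (mul_eq_left.1 h1.symm) :)
  set a : ↥(octadFix o) := ⟨S.κ x, ((S.mem_Vo ho).1 hx).1.1⟩
  by_cases ha : a = 1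
  · exact hU x hx (congrArg Subtype.val ha)
  · have hu : (y a)⁻¹ * x ∈ S.Vo ho := mul_mem (inv_mem (hyV a)) hx
    have huk : S.κ ((y a)⁻¹ * x) = 1 := by rw [map_mul, map_inv, hyk]; exact inv_mul_cancel _
    set u := (y a)⁻¹ * x
    have hx' : x = y a * u := (mul_inv_cancel_left _ _).symm
    rw [hx', mul_assoc, ← mul_assoc u, hUc u hu huk (y a) (hyV a), mul_assoc (y a) u, hU u hu huk,
      mul_one, hall a ha]

theorem Vo_comm {x y : ↥(Cz z)} (hx : x ∈ S.Vo ho) (hy : y ∈ S.Vo ho) : x * y = y * x := by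
  have h := S.Vo_sq ho (mul_mem hx hy)
  have h1 : y * x = y⁻¹ * x⁻¹ := by
    rw [inv_eq_of_mul_eq_one_right (S.Vo_sq ho hy), inv_eq_of_mul_eq_one_right (S.Vo_sq ho hx)]
  rw [h1, ← mul_inv_rev, inv_eq_of_mul_eq_one_right h]

/-- An elementary abelian subgroup of order at least 2^11 is `Vo`. -/
theorem le_Vo (V : Subgroup ↥(Cz z)) (hsq : ∀ x ∈ V, x * x = 1)
    (hc : ∀ x ∈ V, ∀ y ∈ V, x * y = y * x) (hzV : (⟨z, self_mem_Cz z⟩ : ↥(Cz z)) ∈ V)
    (hle : V.map S.κ ≤ stabO o) (hcard : 2 ^ 11 ≤ Nat.card ↥V) : V = S.Vo ho := by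
  obtain ⟨hB, hE, hV⟩ := S.elem_image_eq ho V hsq hc hzV hle hcard
  refine Subgroup.eq_of_le_of_card_ge (fun x hx => ?_) (by rw [hV, S.natCard_Vo ho])
  have hk : S.κ x ∈ octadFix o := hB ▸ ⟨x, hx, rfl⟩
  refine (S.mem_Vo ho).2 ⟨⟨hk, ?_⟩, fun e he => (hc _ ((hE e).2 he) x hx)⟩
  exact (S.invLift_eq (S.fix_M22 ho hk).1 (by rw [← map_mul, hsq x hx, map_one])).symm

/-- `Vo` is its own centraliser. -/
theorem centralizer_Vo {x : G} (hx : ∀ y ∈ S.Vo ho, (y : G) * x = x * y) :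
    ∃ h : x ∈ Cz z, (⟨x, h⟩ : ↥(Cz z)) ∈ S.Vo ho := by
  have hxz : x ∈ Cz z := mem_Cz.2 (hx _ (S.z_mem_Vo ho)).symm
  refine ⟨hxz, ?_⟩
  set h : ↥(Cz z) := ⟨x, hxz⟩
  have hc : ∀ y ∈ S.Vo ho, y * h = h * y := fun y hy => Subtype.ext (hx y hy)
  have hA : S.κ h ∈ octadFix o := by
    refine ho.centralizes_octadFix (pairStab_le_M24 (S.κ_mem h)) fun a ha => ?_
    obtain ⟨y, hy, rfl⟩ := S.exists_mem_Vo ho ha
    rw [← map_mul, ← map_mul, hc y hy]
  refine (S.mem_Vo ho).2 ⟨⟨hA, ?_⟩, fun e he => hc _ ((S.inE_mem_Vo_iff ho e).2 he)⟩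
  obtain ⟨h', -, hk', -, hI⟩ := S.exists_invLift (S.fix_M22 ho hA).1 (S.fix_M22 ho hA).2
  obtain ⟨n, hn⟩ := S.rho_of_κ_one (h := h'⁻¹ * h) (by rw [map_mul, map_inv, hk', inv_mul_cancel])
  obtain ⟨v, hv, hv0⟩ : ∃ v ∈ S.Cfix o, v ≠ 0 := Submodule.exists_mem_ne_zero_of_ne_bot fun e => by
    have := S.finrank_Cfix ho
    rw [e, finrank_bot] at this
    omega
  have hfix : S.rho h v = v := by
    obtain ⟨e, rfl⟩ := S.pr_surjective v
    rw [S.rho_fix_iff]
    exact Or.inl (mul_inv_eq_iff_eq_mul.2 (congrArg Subtype.val (hc _ ((S.inE_mem_Vo_iff ho e).2 hv))).symm)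
  have hfix' : S.rho h' v = v := hI ▸ (S.mem_Cfix ho).1 hv _ hA
  have h3 : (S.rho S.genH ^ n) v = v := by
    rw [← hn, map_mul, map_inv]
    apply (S.rho h').injective
    rw [hfix', ← LinearEquiv.mul_apply, mul_inv_cancel_left, hfix]
  have h4 : S.rho S.genH ^ n = 1 := by
    have hn3 := Nat.mod_add_div n 3
    rw [← hn3, pow_add, pow_mul, S.rho_gen_cube, one_pow, mul_one] at h3 ⊢
    have := Nat.mod_lt n (show 0 < 3 by norm_num)
    obtain e | e | e : n % 3 = 0 ∨ n % 3 = 1 ∨ n % 3 = 2 := by omega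
    · rw [e, pow_zero]
    · rw [e, pow_one] at h3
      exact absurd (S.omega_fix h3) hv0
    · rw [e, sq, LinearEquiv.mul_apply] at h3
      have h3' : S.omega (S.omega v) = v := h3
      rw [S.omega_sum] at h3'
      have h5 : S.omega v = 0 := add_eq_right.1 h3'
      have h6 := S.omega_sum v
      rw [h5, map_zero, zero_add] at h6
      exact absurd h6.symm hv0
  rw [hI, ← mul_one (S.rho h'), ← h4, ← hn, ← map_mul, mul_inv_cancel_left]

omit ho in
theorem exists_sylow_le_Cz : ∃ T : Sylow 2 G, (T : Subgroup G) ≤ Cz z := by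
  haveI : Fact (Nat.Prime 2) := ⟨Nat.prime_two⟩
  obtain ⟨T, hT⟩ := (LargeExtraspecial.isPGroup_of_extraspecial S.extra).exists_le_sylow
  refine ⟨T, fun x hx => mem_Cz.2 ?_⟩
  have hL2 : Subgroup.centralizer (Ez z : Set G) = LargeExtraspecial.zc (Ez z) := by
    ext y
    rw [LargeExtraspecial.mem_zc, mem_centralizer_iff]
    refine ⟨fun h => ⟨?_, h⟩, fun h => h.2⟩
    rcases S.data.cent y h with rfl | rfl
    · exact one_mem _
    · exact S.z_mem_E
  have hz : z ∈ LargeExtraspecial.zc (Ez z) :=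
    LargeExtraspecial.mem_zc.2 ⟨S.z_mem_E, fun q hq => S.data.z_central q hq⟩
  rw [← LargeExtraspecial.center_sylow_eq S.extra hL2 T.isPGroup' hT] at hz
  exact (LargeExtraspecial.mem_zc.1 hz).2 x hx

omit ho in
/-- The unique elementary abelian subgroup of order 2^11 of a Sylow subgroup of the centraliser. -/
theorem sylow_elem (T : Sylow 2 G) (hT : (T : Subgroup G) ≤ Cz z) :
    ∃ (o : Finset GolayPt) (ho : HexOct o), (S.Vo ho).map (Cz z).subtype ≤ (T : Subgroup G) ∧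
      ∀ V : Subgroup G, V ≤ (T : Subgroup G) → IsElementaryAbelian 2 V → Nat.card ↥V = 2 ^ 11 →
        V = (S.Vo ho).map (Cz z).subtype := by
  haveI : Fact (Nat.Prime 2) := ⟨Nat.prime_two⟩
  set T' := (T : Subgroup G).subgroupOf (Cz z)
  have hT' : IsPGroup 2 ↥T' := T.isPGroup'.of_equiv (Subgroup.subgroupOfEquivOfLe hT).symm
  obtain ⟨o, ho, hoT⟩ := HexOct.exists_le_stabO (hT'.map S.κ) (by
    rintro _ ⟨t, -, rfl⟩; exact S.κ_mem t)
  refine ⟨o, ho, ?_, fun V hVT hV hcard => ?_⟩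
  · -- maximality
    have hVp : IsPGroup 2 ↥(S.Vo ho) := IsPGroup.of_card (S.natCard_Vo ho)
    have hnorm : T' ≤ Subgroup.normalizer (S.Vo ho : Set ↥(Cz z)) := fun t ht =>
      Subgroup.mem_normalizer_fintype fun x hx => S.conj_mem_Vo ho (hoT ⟨t, ht, rfl⟩) hx
    have hsup : IsPGroup 2 ↥(((T' ⊔ S.Vo ho)).map (Cz z).subtype) :=
      (IsPGroup.to_sup_of_normal_right' hT' hVp hnorm).map _
    have hle : (T : Subgroup G) ≤ (T' ⊔ S.Vo ho).map (Cz z).subtype := fun t ht =>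
      ⟨⟨t, hT ht⟩, Subgroup.mem_sup_left (Subgroup.mem_subgroupOf.2 ht), rfl⟩
    rw [← T.is_maximal' hsup hle]
    exact Subgroup.map_mono le_sup_right
  · have hzc : ∀ t ∈ (T : Subgroup G), t * z = z * t := fun t ht => mem_Cz.1 (hT ht)
    have hzT : z ∈ (T : Subgroup G) := by
      have hzp : IsPGroup 2 ↥(Subgroup.zpowers z) := IsPGroup.of_card (n := 1) (by
        rw [Nat.card_zpowers, S.orderOf_z, pow_one])
      have hn : (T : Subgroup G) ≤ Subgroup.normalizer (Subgroup.zpowers z : Set G) := fun t ht =>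
        centralizer_le_normalizer _ (mem_centralizer_iff.2 fun y hy => by
          obtain ⟨n, rfl⟩ := mem_zpowers_iff.1 hy
          exact ((show Commute z t from (hzc t ht).symm).zpow_left n).eq)
      have h := T.is_maximal' (IsPGroup.to_sup_of_normal_right' T.isPGroup' hzp hn) le_sup_left
      rw [← h]
      exact Subgroup.mem_sup_right (mem_zpowers z)
    -- adjoin the central involution
    let W : Subgroup ↥(Cz z) := (V.subgroupOf (Cz z)) ⊔ Subgroup.zpowers ⟨z, self_mem_Cz z⟩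
    have hVc : ∀ a ∈ V, ∀ b ∈ V, a * b = b * a := fun a ha b hb =>
      congrArg Subtype.val (hV.1.is_comm.comm (⟨a, ha⟩ : ↥V) ⟨b, hb⟩)
    have hWc : ∀ x ∈ W, ∀ y ∈ W, x * y = y * x := by
      have h1 : W ≤ Subgroup.centralizer ((V.subgroupOf (Cz z) : Set ↥(Cz z)) ∪ {⟨z, self_mem_Cz z⟩}) := by
        refine sup_le (fun a ha => mem_centralizer_iff.2 ?_) (zpowers_le.2 (mem_centralizer_iff.2 ?_))
        · rintro b (hb | rfl)
          · exact Subtype.ext (hVc b hb a ha)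
          · exact Subtype.ext (mem_Cz.1 a.2).symm
        · rintro b -
          exact Subtype.ext (mem_Cz.1 b.2)
      intro x hx y hy
      have h2 : W ≤ Subgroup.centralizer ({x} : Set ↥(Cz z)) := by
        refine sup_le (fun a ha => mem_centralizer_singleton_iff.2 ?_) (zpowers_le.2 (mem_centralizer_singleton_iff.2 ?_))
        · exact (mem_centralizer_iff.1 (h1 hx) a (Or.inl ha))
        · exact (mem_centralizer_iff.1 (h1 hx) _ (Or.inr rfl))
      exact (mem_centralizer_singleton_iff.1 (h2 hy)).symm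
    have hWsq : ∀ x ∈ W, x * x = 1 := by
      let K : Subgroup ↥(Cz z) :=
        { carrier := {x | x ∈ W ∧ x * x = 1}
          one_mem' := ⟨one_mem _, one_mul _⟩
          mul_mem' := fun {a b} ha hb => ⟨mul_mem ha.1 hb.1, by
            rw [mul_assoc, ← mul_assoc b a b, ← hWc a ha.1 b hb.1, mul_assoc a b b, hb.2, mul_one, ha.2]⟩
          inv_mem' := fun {a} ha => ⟨inv_mem ha.1, by rw [← mul_inv_rev, ha.2, inv_one]⟩ }
      have hle : W ≤ K := sup_le
        (fun a ha => ⟨Subgroup.mem_sup_left ha, Subtype.ext (by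
          have := hV.2 (a : G) ha
          rwa [pow_two] at this)⟩)
        (zpowers_le.2 ⟨Subgroup.mem_sup_right (mem_zpowers _), Subtype.ext S.z_sq⟩)
      exact fun x hx => (hle hx).2
    have hWeq := S.le_Vo ho W hWsq hWc (Subgroup.mem_sup_right (mem_zpowers _)) (by
      refine le_trans (Subgroup.map_mono ?_) hoT
      exact sup_le (fun a ha => hVT ha) (zpowers_le.2 hzT))
      (by rw [← hcard, ← Nat.card_congr (Subgroup.subgroupOfEquivOfLe (hVT.trans hT)).toEquiv]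
          exact Subgroup.card_le_of_le le_sup_left)
    refine Subgroup.eq_of_le_of_card_ge (fun v hv => ⟨⟨v, hT (hVT hv)⟩, hWeq ▸ Subgroup.mem_sup_left hv, rfl⟩) ?_
    rw [hcard, ← S.natCard_Vo ho,
      ← Nat.card_congr (Subgroup.equivMapOfInjective _ _ (Subgroup.subtype_injective (Cz z))).toEquiv]

omit ho in
theorem isElementary_Vo {o : Finset GolayPt} (ho : HexOct o) :
    IsElementaryAbelian 2 ((S.Vo ho).map (Cz z).subtype) ∧
      Nat.card ↥((S.Vo ho).map (Cz z).subtype) = 2 ^ 11 := by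
  refine ⟨⟨⟨⟨?_⟩⟩, ?_⟩, ?_⟩
  · rintro ⟨_, a, ha, rfl⟩ ⟨_, b, hb, rfl⟩
    exact Subtype.ext (congrArg Subtype.val (S.Vo_comm ho ha hb) :)
  · rintro _ ⟨a, ha, rfl⟩
    rw [← map_pow, pow_two, S.Vo_sq ho ha, map_one]
  · rw [← Nat.card_congr (Subgroup.equivMapOfInjective _ _ (Subgroup.subtype_injective (Cz z))).toEquiv,
      S.natCard_Vo ho]

omit ho in
/-- **A Sylow 2-subgroup has exactly one elementary abelian subgroup of order 2^11.** -/
theorem existsUnique_elem (T : Sylow 2 G) :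
    ∃! V : Subgroup G, V ≤ (T : Subgroup G) ∧ IsElementaryAbelian 2 V ∧ Nat.card ↥V = 2 ^ 11 := by
  haveI : Fact (Nat.Prime 2) := ⟨Nat.prime_two⟩
  obtain ⟨T0, hT0⟩ := S.exists_sylow_le_Cz
  obtain ⟨o, ho, hle, huni⟩ := S.sylow_elem T0 hT0
  obtain ⟨g, rfl⟩ := MulAction.exists_smul_eq G T0 T
  obtain ⟨hel, hcard⟩ := S.isElementary_Vo ho
  set V0 := (S.Vo ho).map (Cz z).subtype
  refine ⟨V0.map (MulAut.conj g).toMonoidHom, ⟨?_, ⟨⟨⟨?_⟩⟩, ?_⟩, ?_⟩, ?_⟩
  · rw [Sylow.coe_subgroup_smul]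
    rintro _ ⟨v, hv, rfl⟩
    exact Subgroup.smul_mem_pointwise_smul v _ _ (hle hv)
  · rintro ⟨_, a, ha, rfl⟩ ⟨_, b, hb, rfl⟩
    refine Subtype.ext ?_
    show (MulAut.conj g) a * (MulAut.conj g) b = (MulAut.conj g) b * (MulAut.conj g) a
    rw [← map_mul, ← map_mul,
      show a * b = b * a from congrArg Subtype.val (hel.1.is_comm.comm ⟨a, ha⟩ ⟨b, hb⟩)]
  · rintro _ ⟨a, ha, rfl⟩
    rw [← map_pow, hel.2 a ha, map_one]
  · rw [← Nat.card_congr (Subgroup.equivMapOfInjective _ _ (MulAut.conj g).injective).toEquiv, hcard]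
  · rintro V ⟨hVT, hV, hVc⟩
    set V' := V.map (MulAut.conj g⁻¹).toMonoidHom
    have h1 : V' = V0 := by
      refine huni V' ?_ ?_ ?_
      · rintro _ ⟨v, hv, rfl⟩
        have h := hVT hv
        rw [Sylow.coe_subgroup_smul, Subgroup.mem_pointwise_smul_iff_inv_smul_mem] at h
        simpa using h
      · refine ⟨⟨⟨?_⟩⟩, ?_⟩
        · rintro ⟨_, a, ha, rfl⟩ ⟨_, b, hb, rfl⟩
          refine Subtype.ext ?_
          show (MulAut.conj g⁻¹) a * (MulAut.conj g⁻¹) b = (MulAut.conj g⁻¹) b * (MulAut.conj g⁻¹) a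
          rw [← map_mul, ← map_mul,
            show a * b = b * a from congrArg Subtype.val (hV.1.is_comm.comm ⟨a, ha⟩ ⟨b, hb⟩)]
        · rintro _ ⟨a, ha, rfl⟩
          rw [← map_pow, hV.2 a ha, map_one]
      · rw [← Nat.card_congr (Subgroup.equivMapOfInjective _ _ (MulAut.conj g⁻¹).injective).toEquiv, hVc]
    rw [← h1, Subgroup.map_map]
    ext x
    simp [Subgroup.mem_map, mul_assoc]

end Cfsg.Agent.J4Type.Setting
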