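import Cfsg.Agent.EqLemmas
import Cfsg.Agent.Lib.J4Type.ElevenArithData

/-!
The finite check excluding an abelian Sylow 11-subgroup in Janko-four type: checker and soundness (helper8).

* `ElevenArith.Nums` : the identities, congruences and bounds on the three signed degrees
* `scanPos`, `scanMix` : all degree triples with the required residues modulo 1331 passing the square test
  are among `sqPairs1`, `sqPairs2`
* `checkWit` : no values at the two involution classes are possible for such a triple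
-/

set_option autoImplicit false

namespace Cfsg.Agent.J4Type.ElevenArith

/-- The order. -/
def gN : Nat := 86775571046077562880
/-- The centraliser order of `t`. -/
def tN : Nat := 1816657920
/-- The centraliser order of `z`. -/
def zN : Nat := 21799895040

/-- The hypotheses of the finite check. -/
structure Nums (e a b re ra rb P Q R Z ZA ZB T TA TB : ℤ) : Prop where
  dvd_e : e.natAbs ∣ gN
  dvd_a : a.natAbs ∣ gN
  dvd_b : b.natAbs ∣ gN
  sum : e + a + b = 0
  norm : 5 * e ^ 2 + a ^ 2 + b ^ 2 + 1 ≤ (gN : ℤ)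
  sum_y : re + ra + rb = 0
  norm_y : 5 * re ^ 2 + ra ^ 2 + rb ^ 2 + 1 ≤ 2662
  mod_e : (1331 : ℤ) ∣ e - 242 - re
  mod_a : (1331 : ℤ) ∣ a + 121 - ra
  mod_b : (1331 : ℤ) ∣ b + 121 - rb
  sum_t : P + Q + R = 0
  moment_t : (Q * b - R * a) ^ 2 * (gN : ℤ) = 11 * (e * a * b) * (tN : ℤ) ^ 2
  norm_t : 5 * P ^ 2 + Q ^ 2 + R ^ 2 + 1 ≤ (tN : ℤ)
  central_t : e ∣ 47766599364 * P ∧ a ∣ 47766599364 * Q ∧ b ∣ 47766599364 * R
  sum_z : Z + ZA + ZB = 0
  moment_z : ZA * b = ZB * a
  norm_z : 5 * Z ^ 2 + ZA ^ 2 + ZB ^ 2 + 1 ≤ (zN : ℤ)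
  central_z : e ∣ 3980549947 * Z ∧ a ∣ 3980549947 * ZA ∧ b ∣ 3980549947 * ZB
  gram : (5 * Z * P + ZA * Q + ZB * R + 1) ^ 2 ≤
    ((zN : ℤ) - (5 * Z ^ 2 + ZA ^ 2 + ZB ^ 2 + 1)) * ((tN : ℤ) - (5 * P ^ 2 + Q ^ 2 + R ^ 2 + 1))
  mod_E : (128 : ℤ) ∣ e - Z ∧ (128 : ℤ) ∣ a - ZA ∧ (128 : ℤ) ∣ b - ZB
  mod_V : (2048 : ℤ) ∣ e + 1771 * Z + 276 * P ∧ (2048 : ℤ) ∣ a + 1771 * ZA + 276 * Q ∧
    (2048 : ℤ) ∣ b + 1771 * ZB + 276 * R
  sum_ys : T + TA + TB = 0
  norm_ys : 5 * T ^ 2 + TA ^ 2 + TB ^ 2 + 1 ≤ 22
  mod_ys : (11 : ℤ) ∣ TA - Q ∧ (11 : ℤ) ∣ TB - R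
  parity_ys : (2 : ℤ) ∣ TA - ra ∧ (2 : ℤ) ∣ TB - rb

theorem Nums.swap {e a b re ra rb P Q R Z ZA ZB T TA TB : ℤ}
    (h : Nums e a b re ra rb P Q R Z ZA ZB T TA TB) :
    Nums e b a re rb ra P R Q Z ZB ZA T TB TA where
  dvd_e := h.dvd_e
  dvd_a := h.dvd_b
  dvd_b := h.dvd_a
  sum := by linarith [h.sum]
  norm := by linarith [h.norm]
  sum_y := by linarith [h.sum_y]
  norm_y := by linarith [h.norm_y]
  mod_e := h.mod_e
  mod_a := h.mod_b
  mod_b := h.mod_a
  sum_t := by linarith [h.sum_t]
  moment_t := by linear_combination h.moment_t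
  norm_t := by linarith [h.norm_t]
  central_t := ⟨h.central_t.1, h.central_t.2.2, h.central_t.2.1⟩
  sum_z := by linarith [h.sum_z]
  moment_z := h.moment_z.symm
  norm_z := by linarith [h.norm_z]
  central_z := ⟨h.central_z.1, h.central_z.2.2, h.central_z.2.1⟩
  gram := by
    have := h.gram
    calc (5 * Z * P + ZB * R + ZA * Q + 1) ^ 2 = (5 * Z * P + ZA * Q + ZB * R + 1) ^ 2 := by ring
      _ ≤ _ := this
      _ = _ := by ring
  mod_E := ⟨h.mod_E.1, h.mod_E.2.2, h.mod_E.2.1⟩
  mod_V := ⟨h.mod_V.1, h.mod_V.2.2, h.mod_V.2.1⟩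
  sum_ys := by linarith [h.sum_ys]
  norm_ys := by linarith [h.norm_ys]
  mod_ys := ⟨h.mod_ys.2, h.mod_ys.1⟩
  parity_ys := ⟨h.parity_ys.2, h.parity_ys.1⟩

/-! ### Divisors -/

/-- The factorisation of the order. -/
def factors : List (Nat × Nat) :=
  [(2, 21), (3, 3), (5, 1), (7, 1), (11, 3), (23, 1), (29, 1), (31, 1), (37, 1), (43, 1)]

/-- The products of a list of prime powers. -/
def prodList : List (Nat × Nat) → Nat
  | [] => 1
  | (p, k) :: L => p ^ k * prodList L

/-- The divisors of such a product. -/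
def divList : List (Nat × Nat) → List Nat
  | [] => [1]
  | (p, k) :: L => (List.range (k + 1)).flatMap fun i => (divList L).map (p ^ i * ·)

theorem mem_divList : ∀ (L : List (Nat × Nat)), (∀ q ∈ L, Nat.Prime q.1) → ∀ d, d ∣ prodList L → d ∈ divList L
  | [], _, d, hd => by simp only [prodList, Nat.dvd_one] at hd; simp [divList, hd]
  | (p, k) :: L, hL, d, hd => by
    obtain ⟨d1, d2, h1, h2, rfl⟩ := (Nat.dvd_mul.1 hd)
    obtain ⟨i, hi, rfl⟩ := (Nat.dvd_prime_pow (hL (p, k) (List.mem_cons_self ..))).1 h1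
    simp only [divList, List.mem_flatMap, List.mem_range, List.mem_map]
    exact ⟨i, by omega, d2, mem_divList L (fun q hq => hL q (List.mem_cons_of_mem _ hq)) d2 h2, rfl⟩

theorem mem_factors {d : Nat} (h : d ∣ gN) : d ∈ divList factors := by
  refine mem_divList factors ?_ d ?_
  · intro q hq
    simp only [factors, List.mem_cons, List.not_mem_nil, or_false] at hq
    rcases hq with rfl | rfl | rfl | rfl | rfl | rfl | rfl | rfl | rfl | rfl <;> norm_num
  · have : prodList factors = gN := by norm_num [factors, prodList, gN]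
    rwa [this]

/-- Lookup in an association list. -/
def look (r : Nat) : List (Nat × List Nat) → Option (List Nat)
  | [] => none
  | (k, l) :: L => cond (Nat.beq k r) (some l) (look r L)

/-- Membership in a list of numbers. -/
def memN (x : Nat) : List Nat → Bool
  | [] => false
  | y :: l => cond (Nat.beq x y) true (memN x l)

theorem of_memN {x : Nat} : ∀ {l : List Nat}, memN x l = true → x ∈ l
  | [], h => by simp [memN] at h
  | y :: l, h => by
    simp only [memN] at h
    cases hb : Nat.beq x y with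
    | true => exact List.mem_cons.2 (Or.inl (Nat.eq_of_beq_eq_true hb))
    | false => rw [hb] at h; exact List.mem_cons_of_mem _ (of_memN h)

/-- A divisor is in its bucket. -/
def divOK (d : Nat) : Bool :=
  cond (Nat.testBit keyMask (d % 1331))
    (cond (Nat.blt (d * d) gN)
      (match look (d % 1331) bucketTab with
        | none => true
        | some l => memN d l) true) true

/-- Run a test on all products, without building the list. -/
def allProd : List (Nat × Nat) → Nat → Bool
  | [], c => divOK c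
  | (p, k) :: L, c => (List.range (k + 1)).all fun i => allProd L (c * p ^ i)

theorem allProd_spec : ∀ {L : List (Nat × Nat)} {c : Nat}, allProd L c = true →
    ∀ d ∈ divList L, divOK (c * d) = true
  | [], c, h, d, hd => by
    simp only [divList, List.mem_singleton] at hd
    subst hd
    rwa [mul_one]
  | (p, k) :: L, c, h, d, hd => by
    simp only [divList, List.mem_flatMap, List.mem_map] at hd
    obtain ⟨i, hi, d', hd', rfl⟩ := hd
    rw [← mul_assoc]
    exact allProd_spec (List.all_eq_true.1 h i hi) d' hd'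

/-- The keys are recorded in the mask. -/
def keysOK : Bool := bucketTab.all fun q => Nat.testBit keyMask q.1

theorem look_mem {r : Nat} {l : List Nat} : ∀ {L : List (Nat × List Nat)}, look r L = some l → (r, l) ∈ L
  | [], h => by simp [look] at h
  | (k, m) :: L, h => by
    simp only [look] at h
    cases hb : Nat.beq k r with
    | true =>
      rw [hb] at h
      simp only [cond_true, Option.some.injEq] at h
      exact List.mem_cons.2 (Or.inl (by rw [Nat.eq_of_beq_eq_true hb, h]))
    | false => rw [hb] at h; exact List.mem_cons_of_mem _ (look_mem h)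

theorem mem_bucket (hall : allProd factors 1 = true) (hkeys : keysOK = true) {d r : Nat} {l : List Nat}
    (hd : d ∣ gN) (hlt : d * d < gN) (hr : d % 1331 = r) (hl : look r bucketTab = some l) : d ∈ l := by
  have h := allProd_spec hall d (mem_factors hd)
  rw [one_mul] at h
  have hk := List.all_eq_true.1 hkeys _ (look_mem hl)
  unfold divOK at h
  rw [hr, hk, show Nat.blt (d * d) gN = true from Nat.ble_eq_true_of_le hlt, hl] at h
  exact of_memN h

/-! ### The scan -/

/-- Run a test on all pairs `(x, y)` with `x + y` dividing the order. -/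
def rowOK (f : Nat → Nat → Bool) (x : Nat) : List Nat → Bool
  | [] => true
  | y :: ys => cond (Nat.beq (gN % (x + y)) 0) (f x y && rowOK f x ys) (rowOK f x ys)

/-- The same for two lists. -/
def pairsOK (f : Nat → Nat → Bool) : List Nat → List Nat → Bool
  | [], _ => true
  | x :: xs, l => rowOK f x l && pairsOK f xs l

theorem rowOK_spec {f : Nat → Nat → Bool} {x : Nat} : ∀ {l : List Nat}, rowOK f x l = true →
    ∀ y ∈ l, x + y ∣ gN → f x y = true
  | [], _, y, hy, _ => absurd hy List.not_mem_nil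
  | z :: l, h, y, hy, hd => by
    simp only [rowOK] at h
    rcases List.mem_cons.1 hy with rfl | hy
    · rw [show Nat.beq (gN % (x + y)) 0 = true by rw [Nat.mod_eq_zero_of_dvd hd]; rfl] at h
      exact (Bool.and_eq_true _ _ ▸ h).1
    · cases hb : Nat.beq (gN % (x + z)) 0 with
      | true => rw [hb] at h; exact rowOK_spec (Bool.and_eq_true _ _ ▸ h).2 y hy hd
      | false => rw [hb] at h; exact rowOK_spec h y hy hd

theorem pairsOK_spec {f : Nat → Nat → Bool} : ∀ {l1 l2 : List Nat}, pairsOK f l1 l2 = true →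
    ∀ x ∈ l1, ∀ y ∈ l2, x + y ∣ gN → f x y = true
  | [], _, _, x, hx, _, _, _ => absurd hx List.not_mem_nil
  | z :: l1, l2, h, x, hx, y, hy, hd => by
    simp only [pairsOK, Bool.and_eq_true] at h
    rcases List.mem_cons.1 hx with rfl | hx
    · exact rowOK_spec h.1 y hy hd
    · exact pairsOK_spec h.2 x hx y hy hd

/-- `P / gN` can be a square. -/
def sqOK (P : Nat) : Bool :=
  cond (Nat.beq (P % gN) 0) (qrMasks.all fun pm => Nat.testBit pm.2 ((P / gN) % pm.1)) false

/-- The masks contain all squares. -/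
def masksOK : Bool :=
  qrMasks.all fun pm => cond (Nat.blt 0 pm.1) ((List.range pm.1).all fun r => Nat.testBit pm.2 (r * r % pm.1)) false

theorem sqOK_of (hm : masksOK = true) {P D : Nat} (h : P = D * D * gN) : sqOK P = true := by
  subst h
  unfold sqOK
  rw [show D * D * gN % gN = 0 from Nat.mul_mod_left _ _,
    Nat.mul_div_left (D * D) (by norm_num [gN] : 0 < gN)]
  refine List.all_eq_true.2 fun pm hpm => ?_
  have h := List.all_eq_true.1 hm pm hpm
  cases hp : Nat.blt 0 pm.1 with
  | false => rw [hp] at h; simp at h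
  | true =>
    rw [hp] at h
    have h' := List.all_eq_true.1 h (D % pm.1) (List.mem_range.2 (Nat.mod_lt _ (Nat.le_of_ble_eq_true hp)))
    rw [Nat.mul_mod]
    exact h'

/-- Membership in a list of pairs. -/
def memP (x y : Nat) : List (Nat × Nat) → Bool
  | [] => false
  | (u, v) :: l => cond (Nat.beq x u && Nat.beq y v) true (memP x y l)

theorem of_memP {x y : Nat} : ∀ {l : List (Nat × Nat)}, memP x y l = true → (x, y) ∈ l
  | [], h => by simp [memP] at h
  | (u, v) :: l, h => by
    simp only [memP] at h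
    cases hb : Nat.beq x u && Nat.beq y v with
    | true =>
      simp only [Bool.and_eq_true] at hb
      exact List.mem_cons.2 (Or.inl (by rw [Nat.eq_of_beq_eq_true hb.1, Nat.eq_of_beq_eq_true hb.2]))
    | false => rw [hb] at h; exact List.mem_cons_of_mem _ (of_memP h)

/-- Degrees `x + y, -x, -y`. -/
def hitPos (x y : Nat) : Bool :=
  cond (Nat.blt (5 * ((x + y) * (x + y)) + x * x + y * y) gN)
    (cond (sqOK (11 * ((x + y) * x * y) * (tN * tN))) (memP x y sqPairs1) true) true

/-- Degrees `-x, x + y, -y`. -/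
def hitMix (x y : Nat) : Bool :=
  cond (Nat.blt (5 * (x * x) + (x + y) * (x + y) + y * y) gN)
    (cond (sqOK (11 * ((x + y) * x * y) * (tN * tN))) (memP x y sqPairs2) true) true

/-- The window for the values at `y`. -/
def inWin (ra rb : Int) : Bool := decide (5 * ((ra + rb) * (ra + rb)) + ra * ra + rb * rb + 1 ≤ 2662)

/-- The bucket of an integer residue. -/
def bucketAt (r : Int) : Option (List Nat) := look (r % 1331).toNat bucketTab

/-- Pairs from two residues. -/
def resOK (f : Nat → Nat → Bool) (r s : Int) : Bool :=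
  match bucketAt r, bucketAt s with
  | some l1, some l2 => pairsOK f l1 l2
  | _, _ => false

/-- One row of the scan for a positive exceptional degree. -/
def scanPos (i : Nat) : Bool :=
  (List.range 77).all fun j => cond (decide (i ≤ j) && inWin ((i : Int) - 38) ((j : Int) - 38))
    (resOK hitPos (121 - ((i : Int) - 38)) (121 - ((j : Int) - 38))) true

/-- One row of the scan for a negative exceptional degree. -/
def scanMix (i : Nat) : Bool :=
  (List.range 77).all fun j => cond (inWin ((i : Int) - 38) ((j : Int) - 38))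
    (resOK hitMix (((i : Int) - 38) + ((j : Int) - 38) - 242) (121 - ((j : Int) - 38))) true

/-! ### The witnesses -/

/-- The residue in the symmetric range. -/
def centre (v : Int) : Int := (v + 665) % 1331 - 665

/-- Some values on the class of `y s` fit. -/
def ysOK (ra rb Q R : Int) : Bool :=
  (List.range 9).any fun i => (List.range 9).any fun j =>
    decide (5 * (((i : Int) - 4 + ((j : Int) - 4)) * ((i : Int) - 4 + ((j : Int) - 4))) +
        ((i : Int) - 4) * ((i : Int) - 4) + ((j : Int) - 4) * ((j : Int) - 4) + 1 ≤ 22) &&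
      decide (((i : Int) - 4 - Q) % 11 = 0) && decide (((j : Int) - 4 - R) % 11 = 0) &&
      decide (((i : Int) - 4 - ra) % 2 = 0) && decide (((j : Int) - 4 - rb) % 2 = 0)

/-- A possible pair of values at `t`. -/
def condT (w : Wit) (q : Int × Int) : Bool :=
  decide (5 * ((-q.1 - q.2) * (-q.1 - q.2)) + q.1 * q.1 + q.2 * q.2 + 1 ≤ (tN : Int)) &&
  decide (47766599364 * (-q.1 - q.2) % w.e = 0) && decide (47766599364 * q.1 % w.a = 0) &&
  decide (47766599364 * q.2 % w.b = 0) && ysOK (centre (w.a + 121)) (centre (w.b + 121)) q.1 q.2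

/-- A possible pair of values at `z`. -/
def condZ (w : Wit) (q : Int × Int) : Bool :=
  decide (5 * ((-q.1 - q.2) * (-q.1 - q.2)) + q.1 * q.1 + q.2 * q.2 + 1 ≤ (zN : Int)) &&
  decide (3980549947 * (-q.1 - q.2) % w.e = 0) && decide (3980549947 * q.1 % w.a = 0) &&
  decide (3980549947 * q.2 % w.b = 0) &&
  decide ((w.e - (-q.1 - q.2)) % 128 = 0) && decide ((w.a - q.1) % 128 = 0) && decide ((w.b - q.2) % 128 = 0)

/-- A possible pair of pairs. -/
def condTZ (w : Wit) (t q : Int × Int) : Bool :=
  decide ((w.e + 1771 * (-q.1 - q.2) + 276 * (-t.1 - t.2)) % 2048 = 0) &&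
  decide ((w.a + 1771 * q.1 + 276 * t.1) % 2048 = 0) && decide ((w.b + 1771 * q.2 + 276 * t.2) % 2048 = 0) &&
  decide ((5 * (-q.1 - q.2) * (-t.1 - t.2) + q.1 * t.1 + q.2 * t.2 + 1) *
      (5 * (-q.1 - q.2) * (-t.1 - t.2) + q.1 * t.1 + q.2 * t.2 + 1) ≤
    ((zN : Int) - (5 * ((-q.1 - q.2) * (-q.1 - q.2)) + q.1 * q.1 + q.2 * q.2 + 1)) *
      ((tN : Int) - (5 * ((-t.1 - t.2) * (-t.1 - t.2)) + t.1 * t.1 + t.2 * t.2 + 1)))

/-- The line through `(s, r)` with direction `(a1, b1)`. -/
def lineList (s r a1 b1 : Int) (m : Nat) : List (Int × Int) :=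
  (List.range (2 * m + 1)).map fun (k : Nat) => (s + ((k : Int) - m) * a1, r + ((k : Int) - m) * b1)

/-- The values at `t` left. -/
def listT (w : Wit) : List (Int × Int) :=
  (lineList w.ta w.tb w.a1 w.b1 w.kT ++ lineList (-w.ta) (-w.tb) w.a1 w.b1 w.kT).filter (condT w)

/-- The values at `z` left. -/
def listZ (w : Wit) : List (Int × Int) := (lineList 0 0 w.a1 w.b1 w.kZ).filter (condZ w)

/-- The witness is consistent and kills its triple. -/
def checkWit (w : Wit) : Bool :=
  decide (w.e + w.a + w.b = 0) && decide (w.a = w.g * w.a1) && decide (w.b = w.g * w.b1) &&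
  decide (w.g ≠ 0) && decide (w.u * w.a1 + w.v * w.b1 = 1) &&
  decide (w.D * w.D * (gN : Int) = 11 * (w.e * w.a * w.b) * ((tN : Int) * (tN : Int))) &&
  (decide (w.D % w.g ≠ 0) ||
    (decide (w.g * w.D1 = w.D) && decide (w.ta * w.b1 - w.tb * w.a1 = w.D1) &&
    (decide (42623 + w.ta.natAbs ≤ (w.kT + 1) * w.a1.natAbs) ||
      decide (42623 + w.tb.natAbs ≤ (w.kT + 1) * w.b1.natAbs)) &&
    (decide (147649 ≤ (w.kZ + 1) * w.a1.natAbs) || decide (147649 ≤ (w.kZ + 1) * w.b1.natAbs)) &&
    (listT w).all fun t => (listZ w).all fun q => !condTZ w t q))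

end Cfsg.Agent.J4Type.ElevenArith
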