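import Cfsg.Agent.EqLemmas
import Cfsg.Agent.Lib.J4Type.ElevenArithBase

/-! Kernel evaluation of the finite check, part Misc (helper8). -/

set_option autoImplicit false
set_option maxRecDepth 100000

namespace Cfsg.Agent.J4Type.ElevenArith

/-- The factors other than two. -/
def oddFactors : List (Nat × Nat) :=
  [(3, 3), (5, 1), (7, 1), (11, 3), (23, 1), (29, 1), (31, 1), (37, 1), (43, 1)]

theorem divList_a : (List.range' 0 6).all (fun i => allProd oddFactors (1 * 2 ^ i)) = true := by decide +kernel

theorem divList_b : (List.range' 6 6).all (fun i => allProd oddFactors (1 * 2 ^ i)) = true := by decide +kernel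

theorem divList_c : (List.range' 12 5).all (fun i => allProd oddFactors (1 * 2 ^ i)) = true := by decide +kernel

theorem divList_d : (List.range' 17 5).all (fun i => allProd oddFactors (1 * 2 ^ i)) = true := by decide +kernel

theorem divList_ok : allProd factors 1 = true := by
  refine List.all_eq_true.2 fun i hi => ?_
  have hi' := List.mem_range.1 hi
  by_cases h1 : i < 6
  · exact List.all_eq_true.1 divList_a i (List.mem_range'_1.2 ⟨by omega, by omega⟩)
  by_cases h2 : i < 12
  · exact List.all_eq_true.1 divList_b i (List.mem_range'_1.2 ⟨by omega, by omega⟩)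
  by_cases h3 : i < 17
  · exact List.all_eq_true.1 divList_c i (List.mem_range'_1.2 ⟨by omega, by omega⟩)
  · exact List.all_eq_true.1 divList_d i (List.mem_range'_1.2 ⟨by omega, by omega⟩)

theorem keys_ok : keysOK = true := by decide +kernel

theorem masks_ok : masksOK = true := by decide +kernel

end Cfsg.Agent.J4Type.ElevenArith
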