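import Cfsg.Agent.EqLemmas
import Cfsg.Agent.Lib.J4Type.ElevenArithBase

/-! Kernel evaluation of the finite check, part Pos (helper8). -/

set_option autoImplicit false
set_option maxRecDepth 100000

namespace Cfsg.Agent.J4Type.ElevenArith

theorem scanPos_a : (List.range' 0 38).all scanPos = true := by decide +kernel

theorem scanPos_b : (List.range' 38 1).all scanPos = true := by decide +kernel

theorem scanPos_c : (List.range' 39 38).all scanPos = true := by decide +kernel

end Cfsg.Agent.J4Type.ElevenArith
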