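import Cfsg.Agent.EqLemmas
import Cfsg.Agent.Lib.J4Type.ElevenArithBase

/-! Kernel evaluation of the finite check, part Wit (helper8). -/

set_option autoImplicit false
set_option maxRecDepth 100000

namespace Cfsg.Agent.J4Type.ElevenArith

theorem wit_ok0 : witTab0.all checkWit = true := by decide +kernel

theorem wit_ok1 : witTab1.all checkWit = true := by decide +kernel

theorem wit_ok2 : witTab2.all checkWit = true := by decide +kernel

theorem wit_ok3 : witTab3.all checkWit = true := by decide +kernel

theorem wit_ok4 : witTab4.all checkWit = true := by decide +kernel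

theorem wit_ok5 : witTab5.all checkWit = true := by decide +kernel

theorem wit_ok : witTab.all checkWit = true := by
  simp only [witTab, List.all_append, wit_ok0, wit_ok1, wit_ok2, wit_ok3, wit_ok4, wit_ok5, Bool.and_self]

theorem pos_covered : sqPairs1.all (fun p => witTab.any fun w =>
    decide (w.e = (p.1 : Int) + p.2) && decide (w.a = -(p.1 : Int)) && decide (w.b = -(p.2 : Int))) = true := by
  decide +kernel

theorem mix_covered : sqPairs2.all (fun p => witTab.any fun w =>
    decide (w.e = -(p.1 : Int)) && decide (w.a = (p.1 : Int) + p.2) && decide (w.b = -(p.2 : Int))) = true := by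
  decide +kernel

end Cfsg.Agent.J4Type.ElevenArith
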