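import Cfsg.Agent.EqLemmas
import Cfsg.Agent.Lib.ClassCount.Count

/-!
# Abelian Sylow 11-subgroup in a group of Janko-four type: interface (helper84)

`U = X × W` abelian of order `11³`, `X` of order 11; the configuration to be excluded.

* `ElevenCtx`     : what the character computation needs (supplier: helper8, `ElevenLocal.lean`)
* `ElevenDegrees` : what it gives (`ElevenChar.lean`); consumer: the finite check in `ElevenArith.lean`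
-/

set_option autoImplicit false

namespace Cfsg.Agent.J4Type

open Subgroup Cfsg

universe u

variable {G : Type u} [Group G]

/-- The local facts. -/
structure ElevenCtx (U X W : Subgroup G) (z t y s : G) : Prop where
  comm : ∀ a ∈ U, ∀ b ∈ U, a * b = b * a
  card_U : Nat.card ↥U = 1331
  card_X : Nat.card ↥X = 11
  card_W : Nat.card ↥W = 121
  X_le : X ≤ U
  W_le : W ≤ U
  inf_eq : X ⊓ W = ⊥
  card_N : Nat.card ↥(normalizer (U : Set G)) = 319440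
  X_inv : ∀ n ∈ normalizer (U : Set G), ∀ a ∈ X, n * a * n⁻¹ ∈ X
  W_inv : ∀ n ∈ normalizer (U : Set G), ∀ a ∈ W, n * a * n⁻¹ ∈ W
  ti : ∀ g : G, ∀ a ∈ U, a ≠ 1 → g * a * g⁻¹ ∈ U → g ∈ normalizer (U : Set G)
  cent_X : ∀ a ∈ X, a ≠ 1 → Nat.card ↥(centralizer ({a} : Set G)) = 31944
  cent_W : ∀ a ∈ W, a ≠ 1 → Nat.card ↥(centralizer ({a} : Set G)) = 2662
  cent_mixed : ∀ a ∈ U, a ∉ X → a ∉ W → Nat.card ↥(centralizer ({a} : Set G)) = 1331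
  y_mem : y ∈ W
  y_ne : y ≠ 1
  order_s : orderOf s = 2
  comm_ys : Commute y s
  cent_ys : Nat.card ↥(centralizer ({y * s} : Set G)) = 22
  conj_ys : ∀ k : ℕ, ¬ 11 ∣ k → IsConj (y * s) (y ^ k * s)
  order_z : orderOf z = 2
  order_t : orderOf t = 2
  conj_st : IsConj s t
  pairs_z : ∀ a ∈ U, a ∉ W → ClassCount.fibreCount z z a = 0
  pairs_tX : ∀ a ∈ X, a ≠ 1 → ClassCount.fibreCount t t a = 1452
  pairs_tU : ∀ a ∈ U, a ∉ X → a ∉ W → ClassCount.fibreCount t t a = 121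
  mod_two7 : ∀ χ : G → ℂ, IsCharacter G χ → ∃ k : ℤ, χ 1 - χ z = 128 * (k : ℂ)
  mod_two11 : ∀ χ : G → ℂ, IsCharacter G χ → ∃ k : ℤ, χ 1 + 1771 * χ z + 276 * χ t = 2048 * (k : ℂ)

/-- The numbers: signed degrees `e` (five times), `a`, `b`; `r*` values at `y`; `P, Q, R` at `t`; `Z, ZA, ZB`
at `z`; `T, TA, TB` at `y s`; `c, sa, sb` from the elements outside `X` and `W`. -/
structure ElevenDegrees (g Ct Cz : ℕ) (e a b re ra rb P Q R Z ZA ZB T TA TB c sa sb : ℤ) : Prop where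
  e_ne : e ≠ 0
  a_ne : a ≠ 0
  b_ne : b ≠ 0
  sum : e + a + b = 0
  dvd_e : e.natAbs ∣ g
  dvd_a : a.natAbs ∣ g
  dvd_b : b.natAbs ∣ g
  norm : 5 * e ^ 2 + a ^ 2 + b ^ 2 + 1 ≤ (g : ℤ)
  mod_e : (1331 : ℤ) ∣ e - 242 - re
  mod_a : (1331 : ℤ) ∣ a + 121 - ra
  mod_b : (1331 : ℤ) ∣ b + 121 - rb
  sum_y : re + ra + rb = 0
  norm_y : 5 * re ^ 2 + ra ^ 2 + rb ^ 2 + 1 ≤ 2662
  sum_t : P + Q + R = 0
  moment_t : (Q * b - R * a) ^ 2 * (g : ℤ) = 11 * (e * a * b) * (Ct : ℤ) ^ 2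
  norm_t : 5 * P ^ 2 + Q ^ 2 + R ^ 2 + 1 ≤ (Ct : ℤ)
  parity_t : 2 ∣ P - e ∧ 2 ∣ Q - a ∧ 2 ∣ R - b
  sum_z : Z + ZA + ZB = 0
  moment_z : Z * a = ZA * e ∧ Z * b = ZB * e
  norm_z : 5 * Z ^ 2 + ZA ^ 2 + ZB ^ 2 + 1 ≤ (Cz : ℤ)
  sum_ys : T + TA + TB = 0
  norm_ys : 5 * T ^ 2 + TA ^ 2 + TB ^ 2 + 1 ≤ 22
  mod_ys : (11 : ℤ) ∣ T - P ∧ (11 : ℤ) ∣ TA - Q ∧ (11 : ℤ) ∣ TB - R
  parity_ys : 2 ∣ T - re ∧ 2 ∣ TA - ra ∧ 2 ∣ TB - rb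
  omega_t : e ∣ ((g / Ct : ℕ) : ℤ) * P ∧ a ∣ ((g / Ct : ℕ) : ℤ) * Q ∧ b ∣ ((g / Ct : ℕ) : ℤ) * R
  omega_z : e ∣ ((g / Cz : ℕ) : ℤ) * Z ∧ a ∣ ((g / Cz : ℕ) : ℤ) * ZA ∧ b ∣ ((g / Cz : ℕ) : ℤ) * ZB
  gram : (5 * Z * P + ZA * Q + ZB * R + 1) ^ 2 ≤
    ((Cz : ℤ) - (5 * Z ^ 2 + ZA ^ 2 + ZB ^ 2 + 1)) * ((Ct : ℤ) - (5 * P ^ 2 + Q ^ 2 + R ^ 2 + 1))
  mod_128 : 128 ∣ e - Z ∧ 128 ∣ a - ZA ∧ 128 ∣ b - ZB
  mod_2048 : 2048 ∣ e + 1771 * Z + 276 * P ∧ 2048 ∣ a + 1771 * ZA + 276 * Q ∧ 2048 ∣ b + 1771 * ZB + 276 * R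
  sum_w : c + sa + sb = 2
  norm_w : 5 * c ^ 2 + 2 * c + sa ^ 2 + sb ^ 2 ≤ 265
  mod_w : (11 : ℤ) ∣ c + 240 - e ∧ (11 : ℤ) ∣ sa - a ∧ (11 : ℤ) ∣ sb - b

end Cfsg.Agent.J4Type
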