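import Cfsg.Agent.EqLemmas
import Cfsg.Agent.Lib.J4Type.ElevenArithMisc
import Cfsg.Agent.Lib.J4Type.ElevenArithWit
import Cfsg.Agent.Lib.J4Type.ElevenArithPos
import Cfsg.Agent.Lib.J4Type.ElevenArithMix
import Cfsg.Agent.Lib.J4Type.ElevenCtx

/-!
The finite check excluding an abelian Sylow 11-subgroup in Janko-four type (helper8).

* `ElevenArith.Nums.false` : the identities, congruences and bounds have no solution
-/

set_option autoImplicit false

namespace Cfsg.Agent.J4Type.ElevenArith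

theorem window {re ra rb : ℤ} (h : re + ra + rb = 0) (hn : 5 * re ^ 2 + ra ^ 2 + rb ^ 2 + 1 ≤ 2662) :
    (-38 ≤ ra ∧ ra ≤ 38) ∧ (-38 ≤ rb ∧ rb ≤ 38) ∧ inWin ra rb = true := by
  have hre : re = -(ra + rb) := by omega
  subst hre
  have h1 : 11 * (ra * ra) ≤ 2661 * 6 := by nlinarith [sq_nonneg (5 * ra + 6 * rb)]
  have h2 : 11 * (rb * rb) ≤ 2661 * 6 := by nlinarith [sq_nonneg (6 * ra + 5 * rb)]
  refine ⟨⟨by nlinarith, by nlinarith⟩, ⟨by nlinarith, by nlinarith⟩, ?_⟩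
  simp only [inWin, decide_eq_true_eq]
  linarith

theorem centre_eq {v r : ℤ} (h : (1331 : ℤ) ∣ v - r) (h1 : -38 ≤ r) (h2 : r ≤ 38) : centre v = r := by
  unfold centre
  omega

theorem exists_index {r : ℤ} (h1 : -38 ≤ r) (h2 : r ≤ 38) : ∃ i, i < 77 ∧ ((i : ℕ) : ℤ) - 38 = r :=
  ⟨(r + 38).toNat, by omega, by omega⟩

theorem scanPos_all {i : ℕ} (h : i < 77) : scanPos i = true := by
  by_cases h1 : i < 38
  · exact List.all_eq_true.1 scanPos_a i (List.mem_range'_1.2 ⟨by omega, by omega⟩)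
  by_cases h2 : i < 39
  · exact List.all_eq_true.1 scanPos_b i (List.mem_range'_1.2 ⟨by omega, by omega⟩)
  · exact List.all_eq_true.1 scanPos_c i (List.mem_range'_1.2 ⟨by omega, by omega⟩)

theorem scanMix_all {i : ℕ} (h : i < 77) : scanMix i = true := by
  by_cases h1 : i < 30
  · exact List.all_eq_true.1 scanMix_a i (List.mem_range'_1.2 ⟨by omega, by omega⟩)
  by_cases h2 : i < 38
  · exact List.all_eq_true.1 scanMix_b i (List.mem_range'_1.2 ⟨by omega, by omega⟩)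
  by_cases h3 : i < 39
  · exact List.all_eq_true.1 scanMix_c i (List.mem_range'_1.2 ⟨by omega, by omega⟩)
  · exact List.all_eq_true.1 scanMix_d i (List.mem_range'_1.2 ⟨by omega, by omega⟩)

theorem resOK_spec {f : ℕ → ℕ → Bool} {r s : ℤ} (h : resOK f r s = true) {x y : ℕ}
    (hx : x ∣ gN) (hxl : x * x < gN) (hxr : (1331 : ℤ) ∣ (x : ℤ) - r) (hy : y ∣ gN) (hyl : y * y < gN)
    (hyr : (1331 : ℤ) ∣ (y : ℤ) - s) (hsum : x + y ∣ gN) : f x y = true := by
  unfold resOK at h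
  rcases hb1 : bucketAt r with _ | l1 <;> rw [hb1] at h
  · simp at h
  rcases hb2 : bucketAt s with _ | l2 <;> rw [hb2] at h
  · simp at h
  exact pairsOK_spec h x (mem_bucket divList_ok keys_ok hx hxl (by omega) hb1) y
    (mem_bucket divList_ok keys_ok hy hyl (by omega) hb2) hsum

theorem natAbs_square {D : ℤ} {n : ℕ} (h : D ^ 2 * (gN : ℤ) = (n : ℤ)) : n = D.natAbs * D.natAbs * gN := by
  have : (n : ℤ) = ((D.natAbs * D.natAbs * gN : ℕ) : ℤ) := by
    push_cast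
    rw [← h, abs_mul_abs_self]
    ring
  exact_mod_cast this

theorem on_line {a1 b1 u v s r p q : ℤ} {m : ℕ} (huv : u * a1 + v * b1 = 1) (hrel : (p - s) * b1 = (q - r) * a1)
    (hb : (|p - s| < ((m : ℤ) + 1) * |a1|) ∨ (|q - r| < ((m : ℤ) + 1) * |b1|)) :
    (p, q) ∈ lineList s r a1 b1 m := by
  set k : ℤ := u * (p - s) + v * (q - r) with hk
  have hp : p - s = k * a1 := by rw [hk]; linear_combination (-(p - s)) * huv + v * hrel
  have hq : q - r = k * b1 := by rw [hk]; linear_combination (-(q - r)) * huv - u * hrel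
  have hkb : |k| < (m : ℤ) + 1 := by
    rcases hb with hb | hb
    · rw [hp, abs_mul] at hb
      exact lt_of_mul_lt_mul_right hb (abs_nonneg _)
    · rw [hq, abs_mul] at hb
      exact lt_of_mul_lt_mul_right hb (abs_nonneg _)
  obtain ⟨hk1, hk2⟩ := abs_lt.1 hkb
  simp only [lineList, List.mem_map, List.mem_range, Prod.mk.injEq]
  refine ⟨(k + m).toNat, by omega, ?_, ?_⟩
  · rw [Int.toNat_of_nonneg (by omega)]; linarith
  · rw [Int.toNat_of_nonneg (by omega)]; linarith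

theorem ysOK_of {ra rb Q R T TA TB : ℤ} (h : T + TA + TB = 0) (hn : 5 * T ^ 2 + TA ^ 2 + TB ^ 2 + 1 ≤ 22)
    (h1 : (11 : ℤ) ∣ TA - Q) (h2 : (11 : ℤ) ∣ TB - R) (h3 : (2 : ℤ) ∣ TA - ra) (h4 : (2 : ℤ) ∣ TB - rb) :
    ysOK ra rb Q R = true := by
  obtain rfl : T = -(TA + TB) := by omega
  have ha : -4 ≤ TA ∧ TA ≤ 4 := ⟨by nlinarith, by nlinarith⟩
  have hb : -4 ≤ TB ∧ TB ≤ 4 := ⟨by nlinarith, by nlinarith⟩
  simp only [ysOK, List.any_eq_true, List.mem_range, Bool.and_eq_true, decide_eq_true_eq]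
  refine ⟨(TA + 4).toNat, by omega, (TB + 4).toNat, by omega, ?_⟩
  rw [Int.toNat_of_nonneg (by omega), Int.toNat_of_nonneg (by omega)]
  simp only [add_sub_cancel_right]
  exact ⟨⟨⟨⟨by linarith, Int.emod_eq_zero_of_dvd h1⟩, Int.emod_eq_zero_of_dvd h2⟩,
    Int.emod_eq_zero_of_dvd h3⟩, Int.emod_eq_zero_of_dvd h4⟩

theorem Nums.kill {a b re ra rb P Q R Z ZA ZB T TA TB : ℤ} {e : ℤ}
    (h : Nums e a b re ra rb P Q R Z ZA ZB T TA TB) {w : Wit} (hw : w ∈ witTab) (he : w.e = e) (ha : w.a = a)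
    (hb : w.b = b) : False := by
  have hc := List.all_eq_true.1 wit_ok w hw
  subst he ha hb
  obtain ⟨⟨hra1, hra2⟩, ⟨hrb1, hrb2⟩, -⟩ := window h.sum_y h.norm_y
  simp only [checkWit, Bool.and_eq_true, Bool.or_eq_true, decide_eq_true_eq] at hc
  obtain ⟨⟨⟨⟨⟨⟨-, hga⟩, hgb⟩, hg⟩, huv⟩, hD⟩, hrest⟩ := hc
  have hD2 : (Q * w.b - R * w.a) ^ 2 = w.D ^ 2 := by
    have hgN : ((gN : ℕ) : ℤ) ≠ 0 := by norm_num [gN]
    refine mul_right_cancel₀ hgN ?_
    rw [h.moment_t]
    linear_combination -hD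
  have hD' : Q * w.b - R * w.a = w.g * (Q * w.b1 - R * w.a1) := by rw [hga, hgb]; ring
  rcases hrest with hrest | hrest
  · refine hrest (Int.emod_eq_zero_of_dvd ?_)
    rcases sq_eq_sq_iff_eq_or_eq_neg.1 hD2 with e | e
    · exact ⟨Q * w.b1 - R * w.a1, by rw [← e, hD']⟩
    · exact ⟨-(Q * w.b1 - R * w.a1), by rw [mul_neg, ← hD', e, neg_neg]⟩
  obtain ⟨⟨⟨⟨hD1, hpart⟩, hTb⟩, hZb⟩, hall⟩ := hrest
  have hQ : |Q| < 42623 := by
    have := h.norm_t
    simp only [tN, Nat.cast_ofNat] at this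
    refine abs_lt_of_sq_lt_sq ?_ (by norm_num)
    linarith [sq_nonneg P, sq_nonneg R]
  have hR : |R| < 42623 := by
    have := h.norm_t
    simp only [tN, Nat.cast_ofNat] at this
    refine abs_lt_of_sq_lt_sq ?_ (by norm_num)
    linarith [sq_nonneg P, sq_nonneg Q]
  have hZA : |ZA| < 147649 := by
    have := h.norm_z
    simp only [zN, Nat.cast_ofNat] at this
    refine abs_lt_of_sq_lt_sq ?_ (by norm_num)
    linarith [sq_nonneg Z, sq_nonneg ZB]
  have hZB : |ZB| < 147649 := by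
    have := h.norm_z
    simp only [zN, Nat.cast_ofNat] at this
    refine abs_lt_of_sq_lt_sq ?_ (by norm_num)
    linarith [sq_nonneg Z, sq_nonneg ZA]
  have hP : P = -Q - R := by linarith [h.sum_t]
  have hZ : Z = -ZA - ZB := by linarith [h.sum_z]
  have hline : ∀ s r : ℤ, s * w.b1 - r * w.a1 = Q * w.b1 - R * w.a1 → |s| = |w.ta| → |r| = |w.tb| →
      (Q, R) ∈ lineList s r w.a1 w.b1 w.kT := by
    intro s r hsr hs hr
    refine on_line huv (by linarith) ?_
    rcases hTb with hTb | hTb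
    · left
      have h1 := abs_sub Q s
      have h2 : (42623 : ℤ) + |w.ta| ≤ ((w.kT : ℤ) + 1) * |w.a1| := by
        rw [← Int.natCast_natAbs w.ta, ← Int.natCast_natAbs w.a1]
        exact_mod_cast hTb
      linarith
    · right
      have h1 := abs_sub R r
      have h2 : (42623 : ℤ) + |w.tb| ≤ ((w.kT : ℤ) + 1) * |w.b1| := by
        rw [← Int.natCast_natAbs w.tb, ← Int.natCast_natAbs w.b1]
        exact_mod_cast hTb
      linarith
  have hmem : (Q, R) ∈ listT w := by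
    refine List.mem_filter.2 ⟨?_, ?_⟩
    · rcases sq_eq_sq_iff_eq_or_eq_neg.1 hD2 with e | e
      · refine List.mem_append_left _ (hline _ _ ?_ rfl rfl)
        refine mul_left_cancel₀ hg ?_
        rw [hpart, hD1, ← hD', e]
      · refine List.mem_append_right _ (hline _ _ ?_ (abs_neg _) (abs_neg _))
        refine mul_left_cancel₀ hg ?_
        rw [show -w.ta * w.b1 - -w.tb * w.a1 = -(w.ta * w.b1 - w.tb * w.a1) from by ring, hpart, mul_neg, hD1,
          ← hD', e]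
    · simp only [condT, Bool.and_eq_true, decide_eq_true_eq]
      obtain ⟨c1, c2, c3⟩ := h.central_t
      refine ⟨⟨⟨⟨?_, ?_⟩, Int.emod_eq_zero_of_dvd c2⟩, Int.emod_eq_zero_of_dvd c3⟩, ?_⟩
      · rw [← hP]; linarith [h.norm_t]
      · rw [← hP]; exact Int.emod_eq_zero_of_dvd c1
      · rw [centre_eq h.mod_a hra1 hra2, centre_eq h.mod_b hrb1 hrb2]
        exact ysOK_of h.sum_ys h.norm_ys h.mod_ys.1 h.mod_ys.2 h.parity_ys.1 h.parity_ys.2
  have hmemZ : (ZA, ZB) ∈ listZ w := by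
    refine List.mem_filter.2 ⟨on_line huv ?_ ?_, ?_⟩
    · simp only [sub_zero]
      refine mul_left_cancel₀ hg ?_
      calc w.g * (ZA * w.b1) = ZA * (w.g * w.b1) := by ring
        _ = ZA * w.b := by rw [← hgb]
        _ = ZB * w.a := h.moment_z
        _ = _ := by rw [hga]; ring
    · simp only [sub_zero]
      rcases hZb with hZb | hZb
      · left
        have h2 : (147649 : ℤ) ≤ ((w.kZ : ℤ) + 1) * |w.a1| := by
          rw [← Int.natCast_natAbs w.a1]; exact_mod_cast hZb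
        linarith
      · right
        have h2 : (147649 : ℤ) ≤ ((w.kZ : ℤ) + 1) * |w.b1| := by
          rw [← Int.natCast_natAbs w.b1]; exact_mod_cast hZb
        linarith
    · simp only [condZ, Bool.and_eq_true, decide_eq_true_eq]
      obtain ⟨c1, c2, c3⟩ := h.central_z
      obtain ⟨d1, d2, d3⟩ := h.mod_E
      rw [← hZ]
      exact ⟨⟨⟨⟨⟨⟨by linarith [h.norm_z], Int.emod_eq_zero_of_dvd c1⟩, Int.emod_eq_zero_of_dvd c2⟩,
        Int.emod_eq_zero_of_dvd c3⟩, Int.emod_eq_zero_of_dvd d1⟩, Int.emod_eq_zero_of_dvd d2⟩,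
        Int.emod_eq_zero_of_dvd d3⟩
  have hno := List.all_eq_true.1 (List.all_eq_true.1 hall _ hmem) _ hmemZ
  obtain ⟨v1, v2, v3⟩ := h.mod_V
  refine absurd ?_ (Bool.not_eq_true _ ▸ (Bool.not_eq_true' _ ▸ hno) : ¬ condTZ w (Q, R) (ZA, ZB) = true)
  simp only [condTZ, Bool.and_eq_true, decide_eq_true_eq]
  rw [← hP, ← hZ]
  refine ⟨⟨⟨Int.emod_eq_zero_of_dvd v1, Int.emod_eq_zero_of_dvd v2⟩, Int.emod_eq_zero_of_dvd v3⟩, ?_⟩
  linarith [h.gram]

theorem mul_self_lt {x n : ℕ} {v : ℤ} (hx : v ^ 2 = (x : ℤ) ^ 2) (h : v ^ 2 < (n : ℤ)) : x * x < n := by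
  rw [hx] at h
  rw [← pow_two]
  exact_mod_cast h

theorem Nums.false_pos {e a b re ra rb P Q R Z ZA ZB T TA TB : ℤ}
    (h : Nums e a b re ra rb P Q R Z ZA ZB T TA TB) (ha : a < 0) (hb : b < 0) (hle : ra ≤ rb) : False := by
  obtain ⟨⟨hra1, hra2⟩, ⟨hrb1, hrb2⟩, hwin⟩ := window h.sum_y h.norm_y
  obtain ⟨i, hi, hri⟩ := exists_index hra1 hra2
  obtain ⟨j, hj, hrj⟩ := exists_index hrb1 hrb2
  obtain ⟨x, hx⟩ : ∃ x : ℕ, a = -(x : ℤ) := ⟨a.natAbs, by omega⟩
  obtain ⟨y, hy⟩ : ∃ y : ℕ, b = -(y : ℤ) := ⟨b.natAbs, by omega⟩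
  have he : e = ((x + y : ℕ) : ℤ) := by push_cast; linarith [h.sum]
  have hrow := List.all_eq_true.1 (scanPos_all hi) j (List.mem_range.2 hj)
  rw [show (decide (i ≤ j) && inWin ((i : Int) - 38) ((j : Int) - 38)) = true from by
    rw [hri, hrj, hwin]; simp; omega] at hrow
  have hn := h.norm
  have hx2 : x * x < gN := mul_self_lt (by rw [hx]; ring) (by nlinarith [sq_nonneg e, sq_nonneg b] : a ^ 2 < _)
  have hy2 : y * y < gN := mul_self_lt (by rw [hy]; ring) (by nlinarith [sq_nonneg e, sq_nonneg a] : b ^ 2 < _)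
  have hhit := resOK_spec hrow (x := x) (y := y) (by have := h.dvd_a; rwa [hx, Int.natAbs_neg, Int.natAbs_natCast] at this)
    hx2 (by rw [hri]; have := h.mod_a; omega)
    (by have := h.dvd_b; rwa [hy, Int.natAbs_neg, Int.natAbs_natCast] at this)
    hy2 (by rw [hrj]; have := h.mod_b; omega)
    (by have := h.dvd_e; rwa [he, Int.natAbs_natCast] at this)
  unfold hitPos at hhit
  have hiso : Nat.blt (5 * ((x + y) * (x + y)) + x * x + y * y) gN = true := by
    refine Nat.ble_eq_true_of_le (Nat.succ_le_of_lt ?_)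
    rw [hx, hy, he] at hn
    push_cast at hn
    zify
    linarith
  have hsq : sqOK (11 * ((x + y) * x * y) * (tN * tN)) = true := by
    refine sqOK_of masks_ok (natAbs_square (D := Q * b - R * a) ?_)
    rw [h.moment_t, he, hx, hy]
    push_cast
    ring
  rw [hiso, hsq] at hhit
  have hcov := List.all_eq_true.1 pos_covered _ (of_memP hhit)
  simp only [List.any_eq_true, Bool.and_eq_true, decide_eq_true_eq] at hcov
  obtain ⟨w, hw, ⟨h1, h2⟩, h3⟩ := hcov
  exact h.kill hw (by rw [h1, he]; push_cast; ring) (by rw [h2, hx]) (by rw [h3, hy])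

theorem Nums.false_mix {e a b re ra rb P Q R Z ZA ZB T TA TB : ℤ}
    (h : Nums e a b re ra rb P Q R Z ZA ZB T TA TB) (he0 : e < 0) (hb : b < 0) : False := by
  obtain ⟨⟨hra1, hra2⟩, ⟨hrb1, hrb2⟩, hwin⟩ := window h.sum_y h.norm_y
  obtain ⟨i, hi, hri⟩ := exists_index hra1 hra2
  obtain ⟨j, hj, hrj⟩ := exists_index hrb1 hrb2
  obtain ⟨x, hx⟩ : ∃ x : ℕ, e = -(x : ℤ) := ⟨e.natAbs, by omega⟩
  obtain ⟨y, hy⟩ : ∃ y : ℕ, b = -(y : ℤ) := ⟨b.natAbs, by omega⟩
  have ha : a = ((x + y : ℕ) : ℤ) := by push_cast; linarith [h.sum]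
  have hrow := List.all_eq_true.1 (scanMix_all hi) j (List.mem_range.2 hj)
  rw [show inWin ((i : Int) - 38) ((j : Int) - 38) = true from by rw [hri, hrj, hwin]] at hrow
  have hn := h.norm
  have hx2 : x * x < gN := mul_self_lt (by rw [hx]; ring) (by nlinarith [sq_nonneg a, sq_nonneg b] : e ^ 2 < _)
  have hy2 : y * y < gN := mul_self_lt (by rw [hy]; ring) (by nlinarith [sq_nonneg e, sq_nonneg a] : b ^ 2 < _)
  have hre : re = -(ra + rb) := by linarith [h.sum_y]
  have hhit := resOK_spec hrow (x := x) (y := y) (by have := h.dvd_e; rwa [hx, Int.natAbs_neg, Int.natAbs_natCast] at this)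
    hx2 (by rw [hri, hrj]; have := h.mod_e; omega)
    (by have := h.dvd_b; rwa [hy, Int.natAbs_neg, Int.natAbs_natCast] at this)
    hy2 (by rw [hrj]; have := h.mod_b; omega)
    (by have := h.dvd_a; rwa [ha, Int.natAbs_natCast] at this)
  unfold hitMix at hhit
  have hiso : Nat.blt (5 * (x * x) + (x + y) * (x + y) + y * y) gN = true := by
    refine Nat.ble_eq_true_of_le (Nat.succ_le_of_lt ?_)
    rw [hx, hy, ha] at hn
    push_cast at hn
    zify
    linarith
  have hsq : sqOK (11 * ((x + y) * x * y) * (tN * tN)) = true := by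
    refine sqOK_of masks_ok (natAbs_square (D := Q * b - R * a) ?_)
    rw [h.moment_t, ha, hx, hy]
    push_cast
    ring
  rw [hiso, hsq] at hhit
  have hcov := List.all_eq_true.1 mix_covered _ (of_memP hhit)
  simp only [List.any_eq_true, Bool.and_eq_true, decide_eq_true_eq] at hcov
  obtain ⟨w, hw, ⟨h1, h2⟩, h3⟩ := hcov
  exact h.kill hw (by rw [h1, hx]) (by rw [h2, ha]; push_cast; ring) (by rw [h3, hy])

/-- No such numbers. -/
theorem Nums.false {e a b re ra rb P Q R Z ZA ZB T TA TB : ℤ}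
    (h : Nums e a b re ra rb P Q R Z ZA ZB T TA TB) : False := by
  have hne : ∀ {v : ℤ}, v.natAbs ∣ gN → v ≠ 0 := fun hv e0 => by
    subst e0
    simp [gN] at hv
  have he := hne h.dvd_e
  have ha := hne h.dvd_a
  have hb := hne h.dvd_b
  have hpos : 0 < e * a * b := by
    have h1 : (0 : ℤ) ≤ (Q * b - R * a) ^ 2 * (gN : ℤ) := mul_nonneg (sq_nonneg _) (Int.natCast_nonneg _)
    rw [h.moment_t] at h1
    have h2 : (0 : ℤ) < (tN : ℤ) ^ 2 := by norm_num [tN]
    have h3 : 0 ≤ 11 * (e * a * b) := nonneg_of_mul_nonneg_left h1 h2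
    have h4 : e * a * b ≠ 0 := mul_ne_zero (mul_ne_zero he ha) hb
    omega
  rcases lt_or_gt_of_ne ha with ha' | ha' <;> rcases lt_or_gt_of_ne hb with hb' | hb'
  · rcases le_total ra rb with hle | hle
    · exact h.false_pos ha' hb' hle
    · exact h.swap.false_pos hb' ha' hle
  · exact h.swap.false_mix (by nlinarith [mul_neg_of_neg_of_pos ha' hb']) ha'
  · exact h.false_mix (by nlinarith [mul_neg_of_pos_of_neg ha' hb']) hb'
  · linarith [h.sum, (by nlinarith [mul_pos ha' hb'] : 0 < e)]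

/-- The degrees of `ElevenCtx` do not exist. -/
theorem degrees_false {e a b re ra rb P Q R Z ZA ZB T TA TB c sa sb : ℤ}
    (h : ElevenDegrees gN tN zN e a b re ra rb P Q R Z ZA ZB T TA TB c sa sb) : False := by
  have hkt : ((gN / tN : ℕ) : ℤ) = 47766599364 := by norm_num [gN, tN]
  have hkz : ((gN / zN : ℕ) : ℤ) = 3980549947 := by norm_num [gN, zN]
  have h1 := h.omega_t
  have h2 := h.omega_z
  rw [hkt] at h1
  rw [hkz] at h2
  refine Nums.false (e := e) (a := a) (b := b) (re := re) (ra := ra) (rb := rb) (P := P) (Q := Q) (R := R)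
    (Z := Z) (ZA := ZA) (ZB := ZB) (T := T) (TA := TA) (TB := TB)
    ⟨h.dvd_e, h.dvd_a, h.dvd_b, h.sum, h.norm, h.sum_y, h.norm_y, h.mod_e, h.mod_a, h.mod_b, h.sum_t, h.moment_t,
      h.norm_t, h1, h.sum_z, ?_, h.norm_z, h2, h.gram, h.mod_128, h.mod_2048, h.sum_ys, h.norm_ys,
      ⟨h.mod_ys.2.1, h.mod_ys.2.2⟩, ⟨h.parity_ys.2.1, h.parity_ys.2.2⟩⟩
  obtain ⟨ma, mb⟩ := h.moment_z
  refine mul_right_cancel₀ h.e_ne ?_
  linear_combination (-b) * ma + a * mb

end Cfsg.Agent.J4Type.ElevenArith
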