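import Cfsg.Agent.EqLemmas

/-!
# Elements of order 11 in a group of Janko-four type: the local facts common to both cases (helper8)

`ElevenBase U z t x y`: `U` is the Sylow 11-subgroup above `x` of order 11 centralised by `z`; `y` of order 11 in
`U` is centralised by `t`, an involution of the second class inverting `x`.
Supplier: `ElevenLocal.lean` (helper8); consumers: `ElevenAbelian.lean` (helper84) and the rows S5575, S5576.
-/

set_option autoImplicit false

namespace Cfsg.Agent.J4Type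

open Subgroup

universe u

variable {G : Type u} [Group G]

/-- The local facts, whether or not `U` is abelian. -/
structure ElevenBase (U : Subgroup G) (z t x y : G) : Prop where
  card_G : Nat.card G = 86775571046077562880
  order_z : orderOf z = 2
  order_t : orderOf t = 2
  classes : ∀ i : G, orderOf i = 2 → IsConj z i ∨ IsConj t i
  not_zt : ¬ IsConj z t
  card_Cz : Nat.card ↥(centralizer ({z} : Set G)) = 21799895040
  card_Ct : Nat.card ↥(centralizer ({t} : Set G)) = 1816657920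
  order_x : orderOf x = 11
  order_y : orderOf y = 11
  comm_xz : Commute x z
  comm_yt : Commute y t
  card_U : Nat.card ↥U = 1331
  x_mem : x ∈ U
  y_mem : y ∈ U
  x_comm : ∀ a ∈ U, Commute a x
  z_norm : z ∈ normalizer (U : Set G)
  t_norm : t ∈ normalizer (U : Set G)
  t_inv : t * x * t⁻¹ = x⁻¹
  U_norm : normalizer (zpowers x : Set G) ≤ normalizer (U : Set G)
  card_cent_x : Nat.card ↥(centralizer ({x} : Set G)) = 31944
  card_norm_x : Nat.card ↥(normalizer (zpowers x : Set G)) = 319440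
  conj_x : ∀ k : ℕ, ¬ 11 ∣ k → IsConj x (x ^ k)
  fix : ∀ g ∈ centralizer ({x} : Set G), g ∉ U → ∀ a ∈ U, g * a * g⁻¹ * a⁻¹ ∈ zpowers x → a ∈ zpowers x
  invol_x : ∀ i ∈ centralizer ({x} : Set G), orderOf i = 2 → ∃ a ∈ U, a * z * a⁻¹ = i
  trans : ∀ a ∈ U, a ∉ zpowers x → ∀ b ∈ U, b ∉ zpowers x →
    ∃ n ∈ normalizer (zpowers x : Set G), n * a * n⁻¹ * b⁻¹ ∈ zpowers x
  x_of_z : ∀ a i : G, orderOf a = 11 → IsConj z i → Commute a i → IsConj x a
  y_of_t : ∀ a i : G, orderOf a = 11 → IsConj t i → Commute a i → IsConj y a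
  not_xy : ¬ IsConj x y
  card_cent_yt : Nat.card ↥(centralizer ({y * t} : Set G)) = 22
  conj_y : ∀ k : ℕ, ¬ 11 ∣ k → ∃ g : G, Commute g t ∧ g * y * g⁻¹ = y ^ k
  cent_dvd : ∀ a : G, orderOf a = 11 → Nat.card ↥(centralizer ({a} : Set G)) ∣ 2 ^ 4 * 3 * 11 ^ 3
  three : ∀ a g : G, orderOf a = 11 → orderOf g = 3 → Commute a g → IsConj x a
  sub_two7 : ∃ B : Subgroup G, (∀ a ∈ B, ∀ b ∈ B, a * b = b * a) ∧ Nat.card ↥B = 128 ∧ z ∈ B ∧
    ∀ a ∈ B, a ≠ 1 → a ≠ z → IsConj a (a * z)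
  sub_two11 : ∃ V : Subgroup G, Nat.card ↥V = 2048 ∧ Nat.card {a : ↥V // IsConj z (a : G)} = 1771 ∧
    ∀ a ∈ V, a ≠ 1 → IsConj z a ∨ IsConj t a

end Cfsg.Agent.J4Type
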