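import Cfsg.Agent.EqLemmas
import Cfsg.Agent.Lib.J4Type.ElevenCtx
import Cfsg.Agent.Lib.ReeCover.Exceptional

/-!
# Abelian Sylow 11-subgroup in J4 type: the linear characters (helper84)

* `ElevenCtx.Mixed`, `ElevenCtx.TrivX`, `ElevenCtx.TrivW` : the three sorts of non-trivial linear characters
* `ElevenCtx.tsum` : the sum of a character over its conjugates under `N(U)`; its values
* `ElevenCtx.tw_fixed_mixed`, `card_fix_trivX` : stabilisers
* `ElevenCtx.exists_reps` : five representatives of the mixed characters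
-/

set_option autoImplicit false
set_option linter.unusedSectionVars false
set_option linter.style.haveILetI false

namespace Cfsg.Agent.J4Type

open Subgroup ReeCover
open scoped ComplexConjugate

universe u

variable {G : Type u} [Group G]

/-- Maps with bounded fibres and a full count: all fibres are full. -/
theorem card_fibres {α β : Type*} [Fintype α] [DecidableEq β] (φ : α → β) (S0 : Finset β)
    (hinto : ∀ a, φ a ∈ S0) {k : ℕ}
    (hle : ∀ a, (Finset.univ.filter fun a' => φ a' = φ a).card ≤ k) (hcard : k * S0.card = Fintype.card α) :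
    ∀ b ∈ S0, (Finset.univ.filter fun a => φ a = b).card = k := by
  classical
  have hle' : ∀ b ∈ S0, (Finset.univ.filter fun a => φ a = b).card ≤ k := by
    intro b _
    by_cases h : ∃ a, φ a = b
    · obtain ⟨a, rfl⟩ := h
      exact hle a
    · rw [Finset.filter_false_of_mem fun a _ e => h ⟨a, e⟩]
      simp
  have hsum : ∑ b ∈ S0, (Finset.univ.filter fun a => φ a = b).card = ∑ _b ∈ S0, k := by
    rw [← Finset.card_eq_sum_card_fiberwise (fun a _ => hinto a), Finset.card_univ, Finset.sum_const,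
      smul_eq_mul, ← hcard, mul_comm]
  exact (Finset.sum_eq_sum_iff_of_le hle').1 hsum

theorem exists_fibre {α β : Type*} [Fintype α] [DecidableEq β] (φ : α → β) (S0 : Finset β)
    (hinto : ∀ a, φ a ∈ S0) {k : ℕ} (hk : 0 < k)
    (hle : ∀ a, (Finset.univ.filter fun a' => φ a' = φ a).card ≤ k) (hcard : k * S0.card = Fintype.card α) :
    ∀ b ∈ S0, ∃ a, φ a = b := by
  intro b hb
  have h := card_fibres φ S0 hinto hle hcard b hb
  obtain ⟨a, ha⟩ := Finset.card_pos.1 (h ▸ hk : 0 < (Finset.univ.filter fun a => φ a = b).card)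
  exact ⟨a, (Finset.mem_filter.1 ha).2⟩

theorem sum_fibres {α β : Type*} [Fintype α] [DecidableEq β] (φ : α → β) (S0 : Finset β)
    (hinto : ∀ a, φ a ∈ S0) {k : ℕ}
    (hle : ∀ a, (Finset.univ.filter fun a' => φ a' = φ a).card ≤ k) (hcard : k * S0.card = Fintype.card α)
    {R : Type*} [CommSemiring R] (f : β → R) : ∑ a, f (φ a) = (k : R) * ∑ b ∈ S0, f b := by
  classical
  have heq := card_fibres φ S0 hinto hle hcard
  rw [← Finset.sum_fiberwise_of_maps_to (g := φ) (fun a _ => hinto a), Finset.mul_sum]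
  refine Finset.sum_congr rfl fun b hb => ?_
  rw [Finset.sum_congr rfl fun a ha => by rw [(Finset.mem_filter.1 ha).2], Finset.sum_const, heq b hb,
    nsmul_eq_mul]

namespace ElevenCtx

/-- Trivial on `X` only. -/
def TrivX {U : Subgroup G} (X : Subgroup G) (l : ↥U →* ℂˣ) : Prop :=
  l ≠ 1 ∧ ∀ a : U, (a : G) ∈ X → l a = 1

/-- Trivial on `W` only. -/
def TrivW {U : Subgroup G} (W : Subgroup G) (l : ↥U →* ℂˣ) : Prop :=
  l ≠ 1 ∧ ∀ a : U, (a : G) ∈ W → l a = 1

/-- Trivial on neither. -/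
def Mixed {U : Subgroup G} (X W : Subgroup G) (l : ↥U →* ℂˣ) : Prop :=
  (∃ a : U, (a : G) ∈ X ∧ l a ≠ 1) ∧ ∃ a : U, (a : G) ∈ W ∧ l a ≠ 1

/-- The sum over the conjugates. -/
noncomputable def tsum (U : Subgroup G) [Fintype ↥U] [Fintype ↥(normalizer (U : Set G))] (l : ↥U →* ℂˣ) :
    ↥U → ℂ := fun a => ∑ n : normalizer (U : Set G), lam U (tw n l) a

variable {U X W : Subgroup G} {z t y s : G} (C : ElevenCtx U X W z t y s) [Finite G] [Fintype ↥U]
include C

theorem inj_XW : Function.Injective fun p : X × W => (⟨p.1 * p.2, mul_mem (C.X_le p.1.2) (C.W_le p.2.2)⟩ : U) := by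
  rintro ⟨x, v⟩ ⟨x', v'⟩ e
  have e' : (x : G) * v = x' * v' := congrArg Subtype.val e
  have h : (x' : G)⁻¹ * x = v' * (v : G)⁻¹ := by
    rw [eq_mul_inv_iff_mul_eq, mul_assoc, e', inv_mul_cancel_left]
  have h1 : (x' : G)⁻¹ * x ∈ X ⊓ W := Subgroup.mem_inf.2 ⟨mul_mem (inv_mem x'.2) x.2, h ▸ mul_mem v'.2 (inv_mem v.2)⟩
  rw [C.inf_eq, mem_bot, inv_mul_eq_one] at h1
  rw [← h1] at e'
  exact Prod.ext (Subtype.ext h1.symm) (Subtype.ext (mul_left_cancel e'))

theorem exists_split (a : U) : ∃ x v : U, (x : G) ∈ X ∧ (v : G) ∈ W ∧ a = x * v := by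
  have hc : Nat.card (X × W) = Nat.card U := by rw [Nat.card_prod, C.card_X, C.card_W, C.card_U]
  obtain ⟨⟨x, v⟩, e⟩ := (C.inj_XW.bijective_of_nat_card_le hc.ge).2 a
  exact ⟨⟨x, C.X_le x.2⟩, ⟨v, C.W_le v.2⟩, x.2, v.2, Subtype.ext (congrArg Subtype.val e).symm⟩

theorem ext_dual {l l' : ↥U →* ℂˣ} (hX : ∀ a : U, (a : G) ∈ X → l a = l' a)
    (hW : ∀ a : U, (a : G) ∈ W → l a = l' a) : l = l' :=
  MonoidHom.ext fun a => by
    obtain ⟨x, v, hx, hv, rfl⟩ := C.exists_split a
    rw [map_mul, map_mul, hX x hx, hW v hv]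

theorem cases_dual (l : ↥U →* ℂˣ) : l = 1 ∨ TrivX X l ∨ TrivW W l ∨ Mixed X W l := by
  by_cases h1 : l = 1
  · exact Or.inl h1
  by_cases hX : ∀ a : U, (a : G) ∈ X → l a = 1
  · exact Or.inr (Or.inl ⟨h1, hX⟩)
  by_cases hW : ∀ a : U, (a : G) ∈ W → l a = 1
  · exact Or.inr (Or.inr (Or.inl ⟨h1, hW⟩))
  push Not at hX hW
  exact Or.inr (Or.inr (Or.inr ⟨hX, hW⟩))

theorem cent_le {a : G} (ha : a ∈ U) (ha1 : a ≠ 1) : centralizer ({a} : Set G) ≤ normalizer (U : Set G) :=
  fun g hg => C.ti g a ha ha1 (by rw [mem_centralizer_singleton_iff.1 hg, mul_inv_cancel_right]; exact ha)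

theorem le_cent {a : G} (ha : a ∈ U) : U ≤ centralizer ({a} : Set G) := fun g hg =>
  mem_centralizer_singleton_iff.2 (C.comm g hg a ha)

theorem cent_mixed_eq {a : G} (ha : a ∈ U) (hX : a ∉ X) (hW : a ∉ W) : centralizer ({a} : Set G) = U :=
  (Subgroup.eq_of_le_of_card_ge (C.le_cent ha) (by rw [C.cent_mixed a ha hX hW, C.card_U])).symm

theorem conjA_X (n : normalizer (U : Set G)) {a : U} (ha : (a : G) ∈ X) : ((conjA n a : U) : G) ∈ X := by
  have := C.X_inv _ (inv_mem n.2) a ha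
  simpa [conjA] using this

theorem conjA_W (n : normalizer (U : Set G)) {a : U} (ha : (a : G) ∈ W) : ((conjA n a : U) : G) ∈ W := by
  have := C.W_inv _ (inv_mem n.2) a ha
  simpa [conjA] using this

theorem conjA_eq_one (n : normalizer (U : Set G)) {a : U} (h : conjA n a = 1) : a = 1 := by
  have h' : (n : G)⁻¹ * a * n = 1 := congrArg Subtype.val h
  refine Subtype.ext ?_
  show (a : G) = 1
  calc (a : G) = n * ((n : G)⁻¹ * a * n) * (n : G)⁻¹ := by group
    _ = 1 := by rw [h']; group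

theorem tw_trivX (n : normalizer (U : Set G)) {l : ↥U →* ℂˣ} (h : TrivX X l) : TrivX X (tw n l) := by
  refine ⟨fun e => h.1 ?_, fun a ha => h.2 _ (C.conjA_X n ha)⟩
  rw [← tw_one l, ← inv_mul_cancel n, tw_mul, e, tw_trivial]

theorem tw_trivW (n : normalizer (U : Set G)) {l : ↥U →* ℂˣ} (h : TrivW W l) : TrivW W (tw n l) := by
  refine ⟨fun e => h.1 ?_, fun a ha => h.2 _ (C.conjA_W n ha)⟩
  rw [← tw_one l, ← inv_mul_cancel n, tw_mul, e, tw_trivial]

theorem tw_mixed (n : normalizer (U : Set G)) {l : ↥U →* ℂˣ} (h : Mixed X W l) : Mixed X W (tw n l) := by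
  obtain ⟨⟨a, ha, ha'⟩, b, hb, hb'⟩ := h
  have key : ∀ c : U, conjA n (conjA n⁻¹ c) = c := fun c => Subtype.ext (by simp [conjA, mul_assoc])
  refine ⟨⟨conjA n⁻¹ a, C.conjA_X _ ha, ?_⟩, ⟨conjA n⁻¹ b, C.conjA_W _ hb, ?_⟩⟩
  · show l (conjA n (conjA n⁻¹ a)) ≠ 1
    rwa [key]
  · show l (conjA n (conjA n⁻¹ b)) ≠ 1
    rwa [key]

/-- The conjugate equals only for elements of the centraliser. -/
theorem card_fibre (a : U) [Fintype ↥(normalizer (U : Set G))] [DecidableEq ↥U]
    (n : normalizer (U : Set G)) :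
    (Finset.univ.filter fun n' : normalizer (U : Set G) => conjA n' a = conjA n a).card ≤
      Nat.card ↥(centralizer ({(a : G)} : Set G)) := by
  classical
  letI := Fintype.ofFinite ↥(centralizer ({(a : G)} : Set G))
  rw [Nat.card_eq_fintype_card, ← Finset.card_univ]
  refine Finset.card_le_card_of_injOn (fun n' => if h : (n' : G) * (n : G)⁻¹ ∈ centralizer ({(a : G)} : Set G)
    then ⟨_, h⟩ else 1) (fun _ _ => Finset.mem_univ _) ?_
  have key : ∀ n' ∈ (Finset.univ.filter fun n' : normalizer (U : Set G) => conjA n' a = conjA n a),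
      (n' : G) * (n : G)⁻¹ ∈ centralizer ({(a : G)} : Set G) := by
    intro n' hn'
    have h' : (n' : G)⁻¹ * a * n' = (n : G)⁻¹ * a * n := congrArg Subtype.val (Finset.mem_filter.1 hn').2
    rw [mem_centralizer_singleton_iff]
    calc (n' : G) * (n : G)⁻¹ * a = n' * ((n : G)⁻¹ * a * n) * (n : G)⁻¹ := by group
      _ = n' * ((n' : G)⁻¹ * a * n') * (n : G)⁻¹ := by rw [h']
      _ = a * ((n' : G) * (n : G)⁻¹) := by group
  intro n1 h1 n2 h2 e
  simp only [dif_pos (key n1 (Finset.mem_coe.1 h1)), dif_pos (key n2 (Finset.mem_coe.1 h2))] at e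
  exact Subtype.ext (mul_right_cancel (congrArg Subtype.val e))

theorem card_normalizer_eq [Fintype ↥(normalizer (U : Set G))] :
    Fintype.card ↥(normalizer (U : Set G)) = 319440 := by rw [← Nat.card_eq_fintype_card, C.card_N]

section sets

variable [DecidablePred (· ∈ X)] [DecidablePred (· ∈ W)] [DecidableEq ↥U]

theorem card_Xs : (Finset.univ.filter fun a : U => (a : G) ∈ X ∧ a ≠ 1).card = 10 := by
  have h : (Finset.univ.filter fun a : U => (a : G) ∈ X ∧ a ≠ 1) =
      (Finset.univ.filter fun a : U => (a : G) ∈ X).erase 1 := by ext a; simp [and_comm]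
  rw [h, Finset.card_erase_of_mem (by simp [one_mem]), ← Fintype.card_subtype, ← Nat.card_eq_fintype_card,
    show {a : U // (a : G) ∈ X} = ↥(X.subgroupOf U) from rfl,
    Nat.card_congr (subgroupOfEquivOfLe C.X_le).toEquiv, C.card_X]

theorem card_Ws : (Finset.univ.filter fun a : U => (a : G) ∈ W ∧ a ≠ 1).card = 120 := by
  have h : (Finset.univ.filter fun a : U => (a : G) ∈ W ∧ a ≠ 1) =
      (Finset.univ.filter fun a : U => (a : G) ∈ W).erase 1 := by ext a; simp [and_comm]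
  rw [h, Finset.card_erase_of_mem (by simp [one_mem]), ← Fintype.card_subtype, ← Nat.card_eq_fintype_card,
    show {a : U // (a : G) ∈ W} = ↥(W.subgroupOf U) from rfl,
    Nat.card_congr (subgroupOfEquivOfLe C.W_le).toEquiv, C.card_W]

theorem sum_part {R : Type*} [AddCommMonoid R] (f : U → R) :
    ∑ a, f a = f 1 + (∑ a ∈ Finset.univ.filter (fun a : U => (a : G) ∈ X ∧ a ≠ 1), f a) +
      (∑ a ∈ Finset.univ.filter (fun a : U => (a : G) ∈ W ∧ a ≠ 1), f a) +
      ∑ a ∈ Finset.univ.filter (fun a : U => (a : G) ∉ X ∧ (a : G) ∉ W), f a := by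
  have hno : ∀ a : U, (a : G) ∈ X → (a : G) ∈ W → a = 1 := fun a h h' => Subtype.ext (by
    have : (a : G) ∈ X ⊓ W := ⟨h, h'⟩
    rwa [C.inf_eq, mem_bot] at this)
  have h0 : (Finset.univ.filter fun a : U => a = 1) = {1} := by ext a; simp
  rw [← Finset.sum_singleton f 1, ← h0]
  simp only [Finset.sum_filter, ← Finset.sum_add_distrib]
  refine Finset.sum_congr rfl fun a _ => ?_
  by_cases h1 : a = 1
  · subst h1; simp [one_mem]
  · by_cases hX : (a : G) ∈ X
    · have : (a : G) ∉ W := fun h => h1 (hno a hX h)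
      simp [h1, hX, this]
    · by_cases hW : (a : G) ∈ W <;> simp [h1, hX, hW]

theorem sum_Xs {l : ↥U →* ℂˣ} :
    ((∀ a : U, (a : G) ∈ X → l a = 1) →
      ∑ a ∈ Finset.univ.filter (fun a : U => (a : G) ∈ X ∧ a ≠ 1), lam U l a = 10) ∧
    ((∃ a : U, (a : G) ∈ X ∧ l a ≠ 1) →
      ∑ a ∈ Finset.univ.filter (fun a : U => (a : G) ∈ X ∧ a ≠ 1), lam U l a = -1) := by
  refine ⟨fun h => ?_, fun ⟨c, hc, hc'⟩ => ?_⟩
  · rw [Finset.sum_congr rfl fun a ha => show lam U l a = 1 by simp [lam, h a (Finset.mem_filter.1 ha).2.1],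
      Finset.sum_const, C.card_Xs]
    norm_num
  · have hS : ∑ a ∈ Finset.univ.filter (fun a : U => (a : G) ∈ X), lam U l a = 0 := by
      set v := ∑ a ∈ Finset.univ.filter (fun a : U => (a : G) ∈ X), lam U l a with hv
      have : lam U l c * v = v := by
        rw [hv, Finset.mul_sum]
        refine Finset.sum_nbij' (c * ·) (c⁻¹ * ·) ?_ ?_ (fun a _ => by simp) (fun a _ => by simp)
          fun a _ => by simp [lam, map_mul]
        · exact fun a ha => Finset.mem_filter.2 ⟨Finset.mem_univ _, mul_mem hc (Finset.mem_filter.1 ha).2⟩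
        · exact fun a ha => Finset.mem_filter.2
            ⟨Finset.mem_univ _, mul_mem (inv_mem hc) (Finset.mem_filter.1 ha).2⟩
      exact eq_zero_of_mul_eq_self_left (fun e => hc' (Units.ext e)) this
    rw [← Finset.add_sum_erase _ _ (show (1 : U) ∈ Finset.univ.filter (fun a : U => (a : G) ∈ X) by simp [one_mem]),
      lam_one_apply, show (Finset.univ.filter fun a : U => (a : G) ∈ X).erase 1 =
        Finset.univ.filter fun a : U => (a : G) ∈ X ∧ a ≠ 1 by ext a; simp [and_comm]] at hS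
    linear_combination hS

theorem sum_Ws {l : ↥U →* ℂˣ} :
    ((∀ a : U, (a : G) ∈ W → l a = 1) →
      ∑ a ∈ Finset.univ.filter (fun a : U => (a : G) ∈ W ∧ a ≠ 1), lam U l a = 120) ∧
    ((∃ a : U, (a : G) ∈ W ∧ l a ≠ 1) →
      ∑ a ∈ Finset.univ.filter (fun a : U => (a : G) ∈ W ∧ a ≠ 1), lam U l a = -1) := by
  refine ⟨fun h => ?_, fun ⟨c, hc, hc'⟩ => ?_⟩
  · rw [Finset.sum_congr rfl fun a ha => show lam U l a = 1 by simp [lam, h a (Finset.mem_filter.1 ha).2.1],
      Finset.sum_const, C.card_Ws]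
    norm_num
  · have hS : ∑ a ∈ Finset.univ.filter (fun a : U => (a : G) ∈ W), lam U l a = 0 := by
      set v := ∑ a ∈ Finset.univ.filter (fun a : U => (a : G) ∈ W), lam U l a with hv
      have : lam U l c * v = v := by
        rw [hv, Finset.mul_sum]
        refine Finset.sum_nbij' (c * ·) (c⁻¹ * ·) ?_ ?_ (fun a _ => by simp) (fun a _ => by simp)
          fun a _ => by simp [lam, map_mul]
        · exact fun a ha => Finset.mem_filter.2 ⟨Finset.mem_univ _, mul_mem hc (Finset.mem_filter.1 ha).2⟩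
        · exact fun a ha => Finset.mem_filter.2
            ⟨Finset.mem_univ _, mul_mem (inv_mem hc) (Finset.mem_filter.1 ha).2⟩
      exact eq_zero_of_mul_eq_self_left (fun e => hc' (Units.ext e)) this
    rw [← Finset.add_sum_erase _ _ (show (1 : U) ∈ Finset.univ.filter (fun a : U => (a : G) ∈ W) by simp [one_mem]),
      lam_one_apply, show (Finset.univ.filter fun a : U => (a : G) ∈ W).erase 1 =
        Finset.univ.filter fun a : U => (a : G) ∈ W ∧ a ≠ 1 by ext a; simp [and_comm]] at hS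
    linear_combination hS

variable [Fintype ↥(normalizer (U : Set G))]

theorem tsum_one (l : ↥U →* ℂˣ) : tsum U l 1 = 319440 := by
  simp only [tsum, lam_one_apply, Finset.sum_const, Finset.card_univ, C.card_normalizer_eq]
  norm_num

theorem tsum_X (l : ↥U →* ℂˣ) {a : U} (ha : (a : G) ∈ X) (ha1 : a ≠ 1) :
    tsum U l a = 31944 * ∑ b ∈ Finset.univ.filter (fun b : U => (b : G) ∈ X ∧ b ≠ 1), lam U l b := by
  refine sum_fibres (fun n => conjA n a) _ (fun n => Finset.mem_filter.2 ⟨Finset.mem_univ _,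
    C.conjA_X n ha, fun e => ha1 (C.conjA_eq_one n e)⟩) (k := 31944)
    (fun n => (C.card_fibre a n).trans_eq (C.cent_X a ha fun e => ha1 (Subtype.ext e)))
    (by rw [C.card_Xs, C.card_normalizer_eq]) (lam U l)

theorem tsum_W (l : ↥U →* ℂˣ) {a : U} (ha : (a : G) ∈ W) (ha1 : a ≠ 1) :
    tsum U l a = 2662 * ∑ b ∈ Finset.univ.filter (fun b : U => (b : G) ∈ W ∧ b ≠ 1), lam U l b := by
  refine sum_fibres (fun n => conjA n a) _ (fun n => Finset.mem_filter.2 ⟨Finset.mem_univ _,
    C.conjA_W n ha, fun e => ha1 (C.conjA_eq_one n e)⟩) (k := 2662)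
    (fun n => (C.card_fibre a n).trans_eq (C.cent_W a ha fun e => ha1 (Subtype.ext e)))
    (by rw [C.card_Ws, C.card_normalizer_eq]) (lam U l)

/-- A character trivial on `X`, at an element outside `X` and `W`. -/
theorem tsum_trivX_mixed {l : ↥U →* ℂˣ} (hl : TrivX X l) {a : U} (hX : (a : G) ∉ X) (hW : (a : G) ∉ W) :
    tsum U l a = -2662 := by
  obtain ⟨x, v, hx, hv, rfl⟩ := C.exists_split a
  have hv1 : v ≠ 1 := fun e => hX (by rw [e, mul_one]; exact hx)
  have e : tsum U l (x * v) = tsum U l v := Finset.sum_congr rfl fun n _ => by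
    show lam U (tw n l) (x * v) = lam U (tw n l) v
    simp only [lam, map_mul, (C.tw_trivX n hl).2 x hx, one_mul]
  rw [e, C.tsum_W l hv hv1]
  have hne : ∃ b : U, (b : G) ∈ W ∧ l b ≠ 1 := by
    by_contra hno
    push Not at hno
    exact hl.1 (C.ext_dual (fun b hb => by rw [hl.2 b hb]; rfl) (fun b hb => by rw [hno b hb]; rfl))
  rw [C.sum_Ws.2 hne]
  norm_num

theorem card_fix_eq (l m : ↥U →* ℂˣ) [DecidableEq (↥U →* ℂˣ)] :
    ((Finset.univ.filter fun n : normalizer (U : Set G) => tw n l = m).card : ℂ) =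
      (1331 : ℂ)⁻¹ * ∑ a : U, tsum U l a * conj (lam U m a) := by
  have h : ∑ n : normalizer (U : Set G), classInner (lam U (tw n l)) (lam U m) =
      (1331 : ℂ)⁻¹ * ∑ a : U, tsum U l a * conj (lam U m a) := by
    simp only [classInner, C.card_U, tsum, ← Finset.mul_sum, Finset.sum_mul]
    rw [Finset.sum_comm]
    norm_num
  rw [← h]
  simp only [classInner_lam, Finset.sum_boole]

/-- The stabiliser of a character trivial on `X` has order 2662. -/
theorem card_fix_trivX {l : ↥U →* ℂˣ} (hl : TrivX X l) [DecidableEq (↥U →* ℂˣ)] :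
    (Finset.univ.filter fun n : normalizer (U : Set G) => tw n l = l).card = 2662 := by
  have h := C.card_fix_eq l l
  have hW : ∃ b : U, (b : G) ∈ W ∧ l b ≠ 1 := by
    by_contra hno
    push Not at hno
    exact hl.1 (C.ext_dual (fun b hb => by rw [hl.2 b hb]; rfl) (fun b hb => by rw [hno b hb]; rfl))
  have hall : ∑ a : U, conj (lam U l a) = 0 := by
    obtain ⟨c, -, hc⟩ := hW
    have : lam U l c * ∑ a : U, lam U l a = ∑ a : U, lam U l a := by
      rw [Finset.mul_sum]
      exact Fintype.sum_bijective (c * ·) (Group.mulLeft_bijective c) _ _ fun a => by simp [lam, map_mul]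
    rw [← map_sum, eq_zero_of_mul_eq_self_left (fun e => hc (Units.ext e)) this, map_zero]
  have hX' : ∑ a ∈ Finset.univ.filter (fun a : U => (a : G) ∈ X ∧ a ≠ 1), conj (lam U l a) = 10 := by
    rw [← map_sum, C.sum_Xs.1 hl.2]; simp [map_ofNat]
  have hW' : ∑ a ∈ Finset.univ.filter (fun a : U => (a : G) ∈ W ∧ a ≠ 1), conj (lam U l a) = -1 := by
    rw [← map_sum, C.sum_Ws.2 hW]; simp
  rw [C.sum_part, hX', hW', lam_one_apply, map_one] at hall
  rw [C.sum_part,
    Finset.sum_congr rfl fun a ha => by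
      rw [C.tsum_X l (Finset.mem_filter.1 ha).2.1 (Finset.mem_filter.1 ha).2.2, C.sum_Xs.1 hl.2],
    ← Finset.mul_sum, hX',
    Finset.sum_congr (s₁ := Finset.univ.filter fun a : U => (a : G) ∈ W ∧ a ≠ 1) rfl fun a ha => by
      rw [C.tsum_W l (Finset.mem_filter.1 ha).2.1 (Finset.mem_filter.1 ha).2.2, C.sum_Ws.2 hW],
    ← Finset.mul_sum, hW',
    Finset.sum_congr (s₁ := Finset.univ.filter fun a : U => (a : G) ∉ X ∧ (a : G) ∉ W) rfl fun a ha => by
      rw [C.tsum_trivX_mixed hl (Finset.mem_filter.1 ha).2.1 (Finset.mem_filter.1 ha).2.2],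
    ← Finset.mul_sum, C.tsum_one, lam_one_apply, map_one] at h
  have h2 : ((Finset.univ.filter fun n : normalizer (U : Set G) => tw n l = l).card : ℂ) = ((2662 : ℕ) : ℂ) := by
    rw [h]; push_cast; linear_combination (-(2662 : ℂ) / 1331) * hall
  exact_mod_cast h2

/-- A mixed character is fixed only by `U`. -/
theorem tw_fixed_mixed {l : ↥U →* ℂˣ} (hl : Mixed X W l) (n : normalizer (U : Set G)) (h : tw n l = l) :
    (n : G) ∈ U := by
  haveI : Fact (Nat.Prime 11) := ⟨by norm_num⟩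
  obtain ⟨⟨b, hb, hb'⟩, c, hc, hc'⟩ := hl
  -- `n` centralises `X`
  have hfix : ∀ x : U, (x : G) ∈ X → conjA n x = x := by
    intro x hx
    have hinj : ∀ x : X, l ⟨x, C.X_le x.2⟩ = 1 → x = 1 := by
      let f : ↥X →* ℂˣ := l.comp (Subgroup.inclusion C.X_le)
      intro x hx
      haveI : IsSimpleGroup ↥X := isSimpleGroup_of_prime_card C.card_X
      rcases Subgroup.Normal.eq_bot_or_eq_top (H := f.ker) inferInstance with e | e
      · exact (mem_bot).1 (e ▸ (show x ∈ f.ker from hx))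
      · exact absurd (show f ⟨b, hb⟩ = 1 from (e ▸ mem_top (⟨b, hb⟩ : X) : (⟨b, hb⟩ : X) ∈ f.ker)) hb'
    have h1 : l ((conjA n x) * x⁻¹) = 1 := by
      rw [map_mul, map_inv, show l (conjA n x) = l x from DFunLike.congr_fun h x, mul_inv_cancel]
    have h2 := hinj ⟨((conjA n x * x⁻¹ : U) : G), mul_mem (C.conjA_X n hx) (inv_mem hx)⟩ h1
    exact mul_inv_eq_one.1 (Subtype.ext (congrArg Subtype.val h2 :))
  -- `n` fixes an element of `W`
  obtain ⟨v, hv, hv1, hvfix⟩ : ∃ v : U, (v : G) ∈ W ∧ v ≠ 1 ∧ conjA n v = v := by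
    by_contra hno
    push Not at hno
    let f : ↥W → ↥W := fun v => ⟨((conjA n ⟨v, C.W_le v.2⟩ * (⟨v, C.W_le v.2⟩ : U)⁻¹ : U) : G),
      mul_mem (C.conjA_W n (a := ⟨v, C.W_le v.2⟩) v.2) (inv_mem v.2)⟩
    have hinj : Function.Injective f := by
      intro v v' e
      by_contra hne
      set A : U := ⟨v, C.W_le v.2⟩
      set B : U := ⟨v', C.W_le v'.2⟩
      have hcU : ∀ p p' : U, p * p' = p' * p := fun p p' => Subtype.ext (C.comm _ p.2 _ p'.2)
      have e' : conjA n A * A⁻¹ = conjA n B * B⁻¹ := by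
        apply Subtype.ext; exact (congrArg Subtype.val e :)
      refine hno (A * B⁻¹) (mul_mem v.2 (inv_mem v'.2)) (fun e1 => hne (Subtype.ext (congrArg Subtype.val
        (mul_inv_eq_one.1 e1) :))) ?_
      rw [map_mul, map_inv, show conjA n A = conjA n B * B⁻¹ * A by rw [← e', inv_mul_cancel_right],
        hcU _ A, hcU (conjA n B) B⁻¹, mul_assoc A, mul_inv_cancel_right]
    obtain ⟨v, hv⟩ := Finite.surjective_of_injective hinj ⟨c, hc⟩
    refine hc' ?_
    have e : c = conjA n ⟨v, C.W_le v.2⟩ * (⟨v, C.W_le v.2⟩ : U)⁻¹ :=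
      Subtype.ext (congrArg Subtype.val hv).symm
    rw [e, map_mul, map_inv, show l (conjA n _) = l _ from DFunLike.congr_fun h _, mul_inv_cancel]
  obtain ⟨x, hx, hx1⟩ : ∃ x : U, (x : G) ∈ X ∧ x ≠ 1 := ⟨b, hb, fun e => hb' (by rw [e, map_one])⟩
  have hm : conjA n (x * v) = x * v := by rw [map_mul, hfix x hx, hvfix]
  have hX' : ((x * v : U) : G) ∉ X := fun e => hv1 (Subtype.ext (by
    have h2 : (v : G) ∈ X := by simpa using mul_mem (inv_mem hx) e
    have : (v : G) ∈ X ⊓ W := ⟨h2, hv⟩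
    rwa [C.inf_eq, mem_bot] at this))
  have hW' : ((x * v : U) : G) ∉ W := fun e => hx1 (Subtype.ext (by
    have h2 : (x : G) ∈ W := by simpa using mul_mem e (inv_mem hv)
    have : (x : G) ∈ X ⊓ W := ⟨hx, h2⟩
    rwa [C.inf_eq, mem_bot] at this))
  apply (C.cent_mixed_eq (x * v).2 hX' hW').le
  rw [mem_centralizer_singleton_iff]
  have h3 : (n : G)⁻¹ * ((x * v : U) : G) * n = ((x * v : U) : G) := congrArg Subtype.val hm
  conv_lhs => rw [← h3]
  group

theorem card_tw_fibre {l : ↥U →* ℂˣ} [DecidableEq (↥U →* ℂˣ)] (n : normalizer (U : Set G)) :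
    (Finset.univ.filter fun n' : normalizer (U : Set G) => tw n' l = tw n l).card =
      (Finset.univ.filter fun n' : normalizer (U : Set G) => tw n' l = l).card := by
  refine Finset.card_bij (fun n' _ => n⁻¹ * n') ?_ (fun _ _ _ _ e => mul_left_cancel e) ?_
  · intro n' hn'
    refine Finset.mem_filter.2 ⟨Finset.mem_univ _, ?_⟩
    rw [tw_mul, (Finset.mem_filter.1 hn').2, ← tw_mul, inv_mul_cancel, tw_one]
  · intro m hm
    refine ⟨n * m, Finset.mem_filter.2 ⟨Finset.mem_univ _, ?_⟩, by simp⟩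
    rw [tw_mul, (Finset.mem_filter.1 hm).2]

theorem card_fix_mixed {l : ↥U →* ℂˣ} (hl : Mixed X W l) [DecidableEq (↥U →* ℂˣ)] :
    (Finset.univ.filter fun n : normalizer (U : Set G) => tw n l = l).card = 1331 := by
  rw [show (1331 : ℕ) = (Finset.univ : Finset U).card by
    rw [Finset.card_univ, ← Nat.card_eq_fintype_card, C.card_U]]
  refine (Finset.card_bij (fun (a : U) _ => (⟨(a : G), le_normalizer a.2⟩ : normalizer (U : Set G)))
    (fun a _ => Finset.mem_filter.2 ⟨Finset.mem_univ _, ?_⟩)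
    (fun a _ b _ e => Subtype.ext (congrArg Subtype.val e :))
    fun n hn => ⟨⟨n, C.tw_fixed_mixed hl n (Finset.mem_filter.1 hn).2⟩, Finset.mem_univ _, rfl⟩).symm
  refine MonoidHom.ext fun b => congrArg l (Subtype.ext ?_)
  show (a : G)⁻¹ * b * a = b
  rw [mul_assoc, C.comm _ b.2 _ a.2, inv_mul_cancel_left]

end sets

section count

variable [Fintype (↥U →* ℂˣ)]

theorem card_res {V : Subgroup G} (hV : V ≤ U) (V' : Subgroup G) (hV' : V' ≤ U)
    (hsplit : ∀ a : U, ∃ x v : U, (x : G) ∈ V ∧ (v : G) ∈ V' ∧ a = x * v) (hinf : V ⊓ V' = ⊥)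
    [DecidablePred fun l : ↥U →* ℂˣ => ∀ a : U, (a : G) ∈ V' → l a = 1] :
    (Finset.univ.filter fun l : ↥U →* ℂˣ => ∀ a : U, (a : G) ∈ V' → l a = 1).card = Nat.card ↥V := by
  classical
  have huniq : ∀ (x x' v v' : U), (x : G) ∈ V → (x' : G) ∈ V → (v : G) ∈ V' → (v' : G) ∈ V' →
      x * v = x' * v' → x = x' := by
    intro x x' v v' hx hx' hv hv' e
    have e' : (x : G) * v = x' * v' := congrArg Subtype.val e
    have h : (x' : G)⁻¹ * x = v' * (v : G)⁻¹ := by
      rw [eq_mul_inv_iff_mul_eq, mul_assoc, e', inv_mul_cancel_left]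
    have h1 : (x' : G)⁻¹ * x ∈ V ⊓ V' := Subgroup.mem_inf.2 ⟨mul_mem (inv_mem hx') hx, h ▸ mul_mem hv' (inv_mem hv)⟩
    rw [hinf, mem_bot, inv_mul_eq_one] at h1
    exact Subtype.ext h1.symm
  choose p v hp hv hpv using hsplit
  let proj : ↥U →* ↥V :=
    { toFun := fun a => ⟨p a, hp a⟩
      map_one' := Subtype.ext (congrArg Subtype.val (huniq (p 1) 1 (v 1) 1 (hp 1) (one_mem V) (hv 1)
        (one_mem V') (by rw [← hpv, mul_one])) :)
      map_mul' := fun a b => Subtype.ext (congrArg Subtype.val (huniq (p (a * b)) (p a * p b) (v (a * b))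
        (v a * v b) (hp _) (mul_mem (hp a) (hp b)) (hv _) (mul_mem (hv a) (hv b)) (by
          rw [← hpv]
          nth_rewrite 1 [hpv a, hpv b]
          exact mul_mul_mul_comm' (fun c d => Subtype.ext (C.comm _ c.2 _ d.2)) _ _ _ _)) :) }
  letI := Fintype.ofFinite ↥V
  haveI : Finite (↥V →* ℂˣ) := Nat.finite_of_card_ne_zero (by
    rw [ReeCover.card_dual fun a ha b hb => C.comm a (hV ha) b (hV hb)]; exact Nat.card_pos.ne')
  letI := Fintype.ofFinite (↥V →* ℂˣ)
  rw [← ReeCover.card_dual (fun a ha b hb => C.comm a (hV ha) b (hV hb)), Nat.card_eq_fintype_card,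
    ← Finset.card_univ]
  refine Finset.card_bij (fun l _ => l.comp (Subgroup.inclusion hV)) (fun _ _ => Finset.mem_univ _) ?_ ?_
  · intro l hl l' hl' e
    refine MonoidHom.ext fun a => ?_
    rw [hpv a, map_mul, map_mul, (Finset.mem_filter.1 hl).2 _ (hv a), (Finset.mem_filter.1 hl').2 _ (hv a)]
    congr 1
    exact DFunLike.congr_fun e ⟨p a, hp a⟩
  · intro m _
    refine ⟨m.comp proj, Finset.mem_filter.2 ⟨Finset.mem_univ _, fun a ha => ?_⟩, ?_⟩
    · show m (proj a) = 1
      rw [show proj a = 1 from Subtype.ext (congrArg Subtype.val (huniq (p a) 1 (v a) a (hp a) (one_mem V)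
        (hv a) ha (by rw [← hpv, one_mul])) :), map_one]
    · refine MonoidHom.ext fun x => congrArg m (Subtype.ext ?_)
      exact (congrArg Subtype.val (huniq (p (Subgroup.inclusion hV x)) (Subgroup.inclusion hV x)
        (v (Subgroup.inclusion hV x)) 1 (hp _) x.2 (hv _) (one_mem V') (by rw [← hpv, mul_one])) :)
where
  mul_mul_mul_comm' {M : Type u} [Group M] (h : ∀ a b : M, a * b = b * a) (a b c d : M) :
      a * b * (c * d) = a * c * (b * d) := by
    rw [mul_assoc, ← mul_assoc b, h b c, mul_assoc c, ← mul_assoc]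

theorem card_trivX [DecidablePred fun l : ↥U →* ℂˣ => TrivX X l] :
    (Finset.univ.filter fun l : ↥U →* ℂˣ => TrivX X l).card = 120 := by
  classical
  have h := C.card_res C.W_le X C.X_le (fun a => by
    obtain ⟨x, v, hx, hv, rfl⟩ := C.exists_split a
    exact ⟨v, x, hv, hx, Subtype.ext (C.comm _ x.2 _ v.2)⟩) (by rw [inf_comm]; exact C.inf_eq)
  rw [C.card_W] at h
  rw [show (Finset.univ.filter fun l : ↥U →* ℂˣ => TrivX X l) =
    (Finset.univ.filter fun l : ↥U →* ℂˣ => ∀ a : U, (a : G) ∈ X → l a = 1).erase 1 by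
      ext l; simp [TrivX], Finset.card_erase_of_mem (by simp), h]

theorem card_trivW [DecidablePred fun l : ↥U →* ℂˣ => TrivW W l] :
    (Finset.univ.filter fun l : ↥U →* ℂˣ => TrivW W l).card = 10 := by
  classical
  have h := C.card_res C.X_le W C.W_le C.exists_split C.inf_eq
  rw [C.card_X] at h
  rw [show (Finset.univ.filter fun l : ↥U →* ℂˣ => TrivW W l) =
    (Finset.univ.filter fun l : ↥U →* ℂˣ => ∀ a : U, (a : G) ∈ W → l a = 1).erase 1 by
      ext l; simp [TrivW], Finset.card_erase_of_mem (by simp), h]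

variable [DecidableEq (↥U →* ℂˣ)] [DecidablePred fun l : ↥U →* ℂˣ => TrivX X l]
  [DecidablePred fun l : ↥U →* ℂˣ => TrivW W l] [DecidablePred fun l : ↥U →* ℂˣ => Mixed X W l]

theorem sum_dual_part {R : Type*} [AddCommMonoid R] (f : (↥U →* ℂˣ) → R) :
    ∑ l, f l = f 1 + (∑ l ∈ Finset.univ.filter (fun l : ↥U →* ℂˣ => TrivX X l), f l) +
      (∑ l ∈ Finset.univ.filter (fun l : ↥U →* ℂˣ => TrivW W l), f l) +
      ∑ l ∈ Finset.univ.filter (fun l : ↥U →* ℂˣ => Mixed X W l), f l := by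
  have h0 : (Finset.univ.filter fun l : ↥U →* ℂˣ => l = 1) = {1} := by ext a; simp
  rw [← Finset.sum_singleton f 1, ← h0]
  simp only [Finset.sum_filter, ← Finset.sum_add_distrib]
  refine Finset.sum_congr rfl fun l _ => ?_
  rcases C.cases_dual l with h | h | h | h
  · subst h; simp [TrivX, TrivW, Mixed]
  · have h2 : ¬ TrivW W l := fun h' => h.1 (C.ext_dual (fun a ha => by rw [h.2 a ha]; rfl)
      (fun a ha => by rw [h'.2 a ha]; rfl))
    have h3 : ¬ Mixed X W l := fun h' => by obtain ⟨⟨a, ha, ha'⟩, -⟩ := h'; exact ha' (h.2 a ha)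
    simp [h, h.1, h2, h3]
  · have h2 : ¬ TrivX X l := fun h' => h.1 (C.ext_dual (fun a ha => by rw [h'.2 a ha]; rfl)
      (fun a ha => by rw [h.2 a ha]; rfl))
    have h3 : ¬ Mixed X W l := fun h' => by obtain ⟨-, a, ha, ha'⟩ := h'; exact ha' (h.2 a ha)
    simp [h, h.1, h2, h3]
  · have h1 : l ≠ 1 := fun e => by obtain ⟨⟨a, -, ha'⟩, -⟩ := h; exact ha' (by rw [e]; rfl)
    have h2 : ¬ TrivX X l := fun h' => by obtain ⟨⟨a, ha, ha'⟩, -⟩ := h; exact ha' (h'.2 a ha)
    have h3 : ¬ TrivW W l := fun h' => by obtain ⟨-, a, ha, ha'⟩ := h; exact ha' (h'.2 a ha)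
    simp [h, h1, h2, h3]

theorem card_mixed : (Finset.univ.filter fun l : ↥U →* ℂˣ => Mixed X W l).card = 1200 := by
  have h := C.sum_dual_part (fun _ => (1 : ℕ))
  simp only [Finset.sum_const, smul_eq_mul, mul_one, Finset.card_univ, C.card_trivX, C.card_trivW] at h
  rw [← Nat.card_eq_fintype_card, ReeCover.card_dual C.comm, C.card_U] at h
  omega

variable [Fintype ↥(normalizer (U : Set G))]

/-- Five representatives. -/
theorem exists_reps : ∃ L : Fin 5 → (↥U →* ℂˣ), (∀ i, Mixed X W (L i)) ∧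
    (∀ i j (n : normalizer (U : Set G)), tw n (L i) = L j → i = j) ∧
    ∀ f : (↥U →* ℂˣ) → ℂ,
      ∑ i, ∑ n : normalizer (U : Set G), f (tw n (L i)) =
        1331 * ∑ l ∈ Finset.univ.filter (fun l : ↥U →* ℂˣ => Mixed X W l), f l := by
  classical
  let M := {l : ↥U →* ℂˣ // Mixed X W l}
  let r : Setoid M :=
    { r := fun l m => ∃ n : normalizer (U : Set G), tw n l.1 = m.1
      iseqv :=
        ⟨fun l => ⟨1, tw_one _⟩, fun {l m} ⟨n, h⟩ => ⟨n⁻¹, by rw [← h, ← tw_mul, inv_mul_cancel, tw_one]⟩,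
          fun {l m p} ⟨n, h⟩ ⟨n', h'⟩ => ⟨n' * n, by rw [tw_mul, h, h']⟩⟩ }
  let Q := Quotient r
  letI : Fintype Q := Fintype.ofFinite _
  let rep : Q → M := fun c => c.out
  have hdiff : ∀ (c c' : Q) (n : normalizer (U : Set G)), tw n (rep c).1 = (rep c').1 → c = c' := fun c c' n h =>
    Quotient.out_equiv_out.1 ⟨n, h⟩
  have hfib : ∀ p : Q × normalizer (U : Set G), (Finset.univ.filter fun p' : Q × normalizer (U : Set G) =>
      tw p'.2 (rep p'.1).1 = tw p.2 (rep p.1).1).card = 1331 := by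
    rintro ⟨c, n⟩
    rw [← C.card_fix_mixed (rep c).2, ← C.card_tw_fibre n]
    refine Finset.card_bij (fun p _ => p.2) ?_ ?_ ?_
    · intro p hp
      have h := (Finset.mem_filter.1 hp).2
      have hc : p.1 = c := hdiff p.1 c (n⁻¹ * p.2) (by rw [tw_mul, h, ← tw_mul, inv_mul_cancel, tw_one])
      exact Finset.mem_filter.2 ⟨Finset.mem_univ _, by rw [← hc] at h ⊢; exact h⟩
    · intro p hp p' hp' e
      have key : ∀ p ∈ (Finset.univ.filter fun p' : Q × normalizer (U : Set G) =>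
          tw p'.2 (rep p'.1).1 = tw n (rep c).1), p.1 = c := fun p hp =>
        hdiff p.1 c (n⁻¹ * p.2) (by rw [tw_mul, (Finset.mem_filter.1 hp).2, ← tw_mul, inv_mul_cancel, tw_one])
      exact Prod.ext ((key p hp).trans (key p' hp').symm) e
    · intro m hm
      exact ⟨(c, m), Finset.mem_filter.2 ⟨Finset.mem_univ _, (Finset.mem_filter.1 hm).2⟩, rfl⟩
  have hinto : ∀ p : Q × normalizer (U : Set G), tw p.2 (rep p.1).1 ∈
      Finset.univ.filter (fun l : ↥U →* ℂˣ => Mixed X W l) := fun p =>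
    Finset.mem_filter.2 ⟨Finset.mem_univ _, C.tw_mixed _ (rep p.1).2⟩
  have hcard : 1331 * (Finset.univ.filter fun l : ↥U →* ℂˣ => Mixed X W l).card =
      Fintype.card (Q × normalizer (U : Set G)) := by
    rw [← Finset.card_univ, Finset.card_eq_sum_card_fiberwise (fun p _ => hinto p),
      Finset.sum_congr rfl fun l hl => ?_, Finset.sum_const, smul_eq_mul, mul_comm]
    have hl' := (Finset.mem_filter.1 hl).2
    obtain ⟨n, hn⟩ : ∃ n : normalizer (U : Set G), tw n (rep ⟦⟨l, hl'⟩⟧).1 = l :=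
      Quotient.mk_out (⟨l, hl'⟩ : M)
    rw [← hfib (⟦⟨l, hl'⟩⟧, n), hn]
  have hQ : Fintype.card Q = 5 := by
    rw [Fintype.card_prod, C.card_normalizer_eq, C.card_mixed] at hcard
    omega
  let e : Fin 5 ≃ Q := (Fintype.equivFinOfCardEq hQ).symm
  refine ⟨fun i => (rep (e i)).1, fun i => (rep (e i)).2, fun i j n h => e.injective (hdiff _ _ n h),
    fun f => ?_⟩
  rw [Equiv.sum_comp e (fun c => ∑ n : normalizer (U : Set G), f (tw n (rep c).1)),
    ← Fintype.sum_prod_type (f := fun p : Q × normalizer (U : Set G) => f (tw p.2 (rep p.1).1))]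
  exact_mod_cast sum_fibres _ _ hinto (fun p => (hfib p).le) hcard f

/-- Transitivity on the characters trivial on `X`. -/
theorem trans_trivX {l l' : ↥U →* ℂˣ} (hl : TrivX X l) (hl' : TrivX X l') :
    ∃ n : normalizer (U : Set G), tw n l = l' := by
  classical
  exact exists_fibre (fun n => tw n l) _ (fun n => Finset.mem_filter.2 ⟨Finset.mem_univ _, C.tw_trivX n hl⟩)
    (k := 2662) (by norm_num) (fun n => (C.card_tw_fibre n).le.trans (C.card_fix_trivX hl).le)
    (by rw [C.card_trivX, C.card_normalizer_eq]) l' (Finset.mem_filter.2 ⟨Finset.mem_univ _, hl'⟩)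

/-- Transitivity on the characters trivial on `W`. -/
theorem trans_trivW {l l' : ↥U →* ℂˣ} (hl : TrivW W l) (hl' : TrivW W l') :
    ∃ n : normalizer (U : Set G), tw n l = l' := by
  classical
  obtain ⟨b, hb, hb'⟩ : ∃ b : U, (b : G) ∈ X ∧ l b ≠ 1 := by
    by_contra hno
    push Not at hno
    exact hl.1 (C.ext_dual (fun a ha => by rw [hno a ha]; rfl) (fun a ha => by rw [hl.2 a ha]; rfl))
  have hb1 : (b : G) ≠ 1 := fun e => hb' (by rw [show b = 1 from Subtype.ext e, map_one])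
  haveI : Fact (Nat.Prime 11) := ⟨by norm_num⟩
  haveI : IsSimpleGroup ↥X := isSimpleGroup_of_prime_card C.card_X
  have hinj : ∀ x : U, (x : G) ∈ X → l x = 1 → x = 1 := by
    let f : ↥X →* ℂˣ := l.comp (Subgroup.inclusion C.X_le)
    intro x hx hx1
    rcases Subgroup.Normal.eq_bot_or_eq_top (H := f.ker) inferInstance with e | e
    · have h1 : (⟨(x : G), hx⟩ : ↥X) ∈ f.ker := hx1
      rw [e, mem_bot] at h1
      exact Subtype.ext (show (x : G) = 1 from congrArg Subtype.val h1)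
    · have h1 : (⟨(b : G), hb⟩ : ↥X) ∈ f.ker := e ▸ mem_top _
      exact absurd h1 hb'
  refine exists_fibre (fun n => tw n l) _ (fun n => Finset.mem_filter.2 ⟨Finset.mem_univ _, C.tw_trivW n hl⟩)
    (k := 31944) (by norm_num) (fun n => ?_)
    (by rw [C.card_trivW, C.card_normalizer_eq]) l' (Finset.mem_filter.2 ⟨Finset.mem_univ _, hl'⟩)
  refine (Finset.card_le_card fun n' hn' => ?_).trans ((C.card_fibre b n).trans_eq (C.cent_X b hb hb1))
  refine Finset.mem_filter.2 ⟨Finset.mem_univ _, ?_⟩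
  have h := DFunLike.congr_fun (Finset.mem_filter.1 hn').2 b
  refine mul_inv_eq_one.1 (hinj _ (mul_mem (C.conjA_X n' hb) (inv_mem (C.conjA_X n hb))) ?_)
  rw [map_mul, map_inv, show l (conjA n' b) = l (conjA n b) from h, mul_inv_cancel]

end count

end ElevenCtx

end Cfsg.Agent.J4Type
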