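import Cfsg.Agent.EqLemmas
import Cfsg.Agent.Lib.AbelianSylow.Chars.Coeff
import Cfsg.Agent.Lib.AbelianSylow.Chars.Pairs
import Cfsg.Agent.Lib.Char.PRegular
import Cfsg.Agent.Lib.ReeCover.Exceptional

/-!
# Abelian Sylow 11-subgroup in J4 type: coefficient vectors and their values (helper84)

* `ev g v` : the value at `g` of the virtual character with coefficients `v`
* `norm_le` : orthogonal units and the column at `g`
* `involution_value`, `eleven_value` : rationality and congruences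
* `moment_eq` : the moment of a generalised character
* `dvd_of_flip`, `dvd_of_classes` : congruences from 2-subgroups
* `omega_dvd`, `two_dvd_unit`, `gram`, `valv_dot`
-/

set_option autoImplicit false
set_option linter.unusedSectionVars false
set_option linter.style.haveILetI false

namespace Cfsg.Agent.J4Type.ElevenTools

open Matrix Subgroup Cfsg.Agent.AbelianSylow.Chars
open scoped ComplexConjugate

universe u

variable {G : Type u} [Group G] [Fintype G]

/-- The sum over a cyclic subgroup. -/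
theorem sum_zpowers {M : Type*} [AddCommMonoid M] (g : G) [Fintype ↥(zpowers g)] (f : G → M) :
    ∑ y : zpowers g, f y = ∑ k ∈ Finset.range (orderOf g), f (g ^ k) := by
  rw [Finset.sum_range]
  exact (Fintype.sum_equiv (finEquivZPowers (isOfFinOrder_of_finite g)) _ _ fun k => rfl).symm

theorem sum_char_zpowers {χ : G → ℂ} (hχ : IsCharacter G χ) (g : G) :
    ∃ n : ℤ, ∑ k ∈ Finset.range (orderOf g), χ (g ^ k) = (orderOf g : ℂ) * n := by
  classical
  obtain ⟨n, hn⟩ := AbelianSylow.Chars.exists_sum_eq hχ (zpowers g)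
  rw [sum_zpowers, Nat.card_zpowers] at hn
  exact ⟨n, hn⟩

theorem involution_value {g : G} (hg : orderOf g = 2) (χ : IrrCharacter G) :
    ∃ z : ℤ, (χ : G → ℂ) g = z ∧ (2 : ℤ) ∣ z - degv G χ := by
  obtain ⟨n, hn⟩ := sum_char_zpowers (Char.IsIrrCharacter.isCharacter χ.2) g
  rw [hg, Finset.sum_range_succ, Finset.sum_range_one, pow_zero, pow_one, apply_one_degv] at hn
  refine ⟨2 * n - degv G χ, ?_, n - degv G χ, by ring⟩
  push_cast at hn ⊢
  linear_combination hn

theorem eleven_value {y s : G} (hy : orderOf y = 11) (hs : orderOf s = 2) (hc : Commute y s)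
    (hconj : ∀ k : ℕ, ¬ 11 ∣ k → IsConj (y * s) (y ^ k * s)) (χ : IrrCharacter G) :
    ∃ T : ℤ, (χ : G → ℂ) (y * s) = T ∧ (11 : ℤ) ∣ T - valv s χ := by
  have hcls := Char.IsIrrCharacter.isClassFunction χ.2
  have hchar := Char.IsIrrCharacter.isCharacter χ.2
  obtain ⟨z, hz, -⟩ := involution_value hs χ
  have hzv : valv s χ = z := by
    have h : ∃ n : ℤ, (χ : G → ℂ) s = n := ⟨z, hz⟩
    simp only [valv, dif_pos h]
    exact_mod_cast h.choose_spec.symm.trans hz
  have hord : orderOf (y * s) = 22 := by rw [hc.orderOf_mul_eq_mul_orderOf_of_coprime (by rw [hy, hs]; norm_num), hy, hs]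
  obtain ⟨N, hN⟩ := sum_char_zpowers hchar (y * s)
  obtain ⟨M, hM⟩ := sum_char_zpowers hchar ((y * s) ^ 2)
  rw [orderOf_pow' _ two_ne_zero, hord, show 22 / Nat.gcd 22 2 = 11 from rfl] at hM
  rw [hord] at hN
  have hy11 : y ^ 11 = 1 := by rw [← hy]; exact pow_orderOf_eq_one y
  have hs2 : s ^ 2 = 1 := by rw [← hs]; exact pow_orderOf_eq_one s
  have hodd : ∀ j < 11, j ≠ 5 → (χ : G → ℂ) ((y * s) ^ (2 * j + 1)) = (χ : G → ℂ) (y * s) := by
    intro j hj hj5
    rw [hc.mul_pow, show s ^ (2 * j + 1) = s by rw [pow_succ, pow_mul, hs2, one_pow, one_mul]]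
    exact ClassCount.class_apply hcls (hconj _ (by omega))
  have h11 : (χ : G → ℂ) ((y * s) ^ 11) = z := by
    rw [hc.mul_pow, hy11, one_mul, show (11 : ℕ) = 2 * 5 + 1 from rfl, pow_succ, pow_mul, hs2, one_pow,
      one_mul, hz]
  simp only [Finset.sum_range_succ, Finset.sum_range_zero, zero_add] at hN hM
  simp only [← pow_mul] at hM
  norm_num at hM hN
  have e1 := hodd 0 (by norm_num) (by norm_num)
  have e3 := hodd 1 (by norm_num) (by norm_num)
  have e5 := hodd 2 (by norm_num) (by norm_num)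
  have e7 := hodd 3 (by norm_num) (by norm_num)
  have e9 := hodd 4 (by norm_num) (by norm_num)
  have e13 := hodd 6 (by norm_num) (by norm_num)
  have e15 := hodd 7 (by norm_num) (by norm_num)
  have e17 := hodd 8 (by norm_num) (by norm_num)
  have e19 := hodd 9 (by norm_num) (by norm_num)
  have e21 := hodd 10 (by norm_num) (by norm_num)
  norm_num at e1 e3 e5 e7 e9 e13 e15 e17 e19 e21
  have key : ((10 : ℕ) : ℂ) * (χ : G → ℂ) (y * s) = ((22 * N - 11 * M - z : ℤ) : ℂ) := by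
    push_cast
    linear_combination hN - hM - h11 - e3 - e5 - e7 - e9 - e13 - e15 - e17 - e19 - e21
  obtain ⟨T, hT⟩ := Char.exists_int_of_isIntegral_mul (by norm_num) key (Char.IsCharacter.isIntegral hchar _)
  refine ⟨T, hT, ?_⟩
  rw [hT] at key
  have : 10 * T = 22 * N - 11 * M - z := by exact_mod_cast key
  rw [hzv]
  omega

theorem valv_eq {g : G} {χ : IrrCharacter G} {z : ℤ} (hz : (χ : G → ℂ) g = z) : valv g χ = z := by
  have h : ∃ n : ℤ, (χ : G → ℂ) g = n := ⟨z, hz⟩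
  simp only [valv, dif_pos h]
  exact_mod_cast h.choose_spec.symm.trans hz

/-- The values at `y s` and at `y` agree modulo two. -/
theorem two_isIntegral {y s : G} (hy : orderOf y = 11) (hs : orderOf s = 2) (hc : Commute y s)
    {χ : G → ℂ} (hχ : IsCharacter G χ) : IsIntegral ℤ ((χ y - χ (y * s)) / 2) := by
  obtain ⟨d, ρ, rfl⟩ := hχ
  obtain ⟨b, μ, hμ, hroot⟩ := Char.exists_eigenbasis ρ (y * s)
  rw [hc.orderOf_mul_eq_mul_orderOf_of_coprime (by rw [hy, hs]; norm_num), hy, hs] at hroot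
  have hy12 : y = (y * s) ^ 12 := by
    rw [hc.mul_pow, show (12 : ℕ) = orderOf y + 1 by rw [hy], pow_succ, pow_orderOf_eq_one, one_mul, hy,
      show (11 + 1 : ℕ) = orderOf s * 6 by rw [hs], pow_mul, pow_orderOf_eq_one, one_pow, mul_one]
  conv in ρ.character y => rw [hy12]
  rw [Char.character_pow ρ _ b μ hμ, Char.character_eq_sum_eigenvalues ρ _ b μ hμ, ← Finset.sum_sub_distrib,
    Finset.sum_div]
  refine IsIntegral.sum _ fun i _ => ?_
  have hint : IsIntegral ℤ (μ i) :=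
    IsIntegral.of_pow (by norm_num : 0 < 11 * 2) (by rw [hroot i]; exact isIntegral_one)
  have h1 : μ i ^ 11 * μ i ^ 11 = 1 := by rw [← pow_add, show 11 + 11 = 11 * 2 from rfl, hroot i]
  rcases mul_self_eq_one_iff.1 h1 with h | h
  · rw [show μ i ^ 12 = μ i by rw [pow_succ, h, one_mul]]; simp [isIntegral_zero]
  · rw [show μ i ^ 12 = -μ i by rw [pow_succ, h, neg_one_mul]]
    rw [show (-μ i - μ i) / 2 = -μ i by ring]
    exact hint.neg

/-- From an elementary abelian subgroup with `a` conjugate to `a z`. -/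
theorem dvd_of_flip {B : Subgroup G} {z : G} (hB : ∀ a ∈ B, ∀ b ∈ B, a * b = b * a) (hz : z ∈ B)
    (hz2 : orderOf z = 2) (hflip : ∀ a ∈ B, a ≠ 1 → a ≠ z → IsConj a (a * z)) {χ : G → ℂ}
    (hχ : IsCharacter G χ) : ∃ k : ℤ, χ 1 - χ z = (Nat.card ↥B : ℂ) * k := by
  classical
  letI := Fintype.ofFinite ↥B
  haveI : Finite (↥B →* ℂˣ) := Nat.finite_of_card_ne_zero (by
    rw [ReeCover.card_dual hB]; exact Nat.card_pos.ne')
  letI := Fintype.ofFinite (↥B →* ℂˣ)
  set z' : B := ⟨z, hz⟩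
  have hz1 : z ≠ 1 := fun e => by rw [e, orderOf_one] at hz2; omega
  have hzz : z * z = 1 := ClassCount.mul_self_eq_one_of_orderOf hz2
  obtain ⟨l, hl⟩ : ∃ l : ↥B →* ℂˣ, l z' ≠ 1 := by
    by_contra hno
    push Not at hno
    have h := ReeCover.sum_lam hB (a := z') fun e => hz1 (congrArg Subtype.val e)
    simp only [ReeCover.lam, hno, Units.val_one, Finset.sum_const, Finset.card_univ, nsmul_eq_mul, mul_one,
      Nat.cast_eq_zero, Fintype.card_ne_zero] at h
  have hlz : ReeCover.lam B l z' = -1 := by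
    have h : ReeCover.lam B l z' * ReeCover.lam B l z' = 1 := by
      rw [ReeCover.lam, ← Units.val_mul, ← map_mul, show z' * z' = 1 from Subtype.ext hzz, map_one,
        Units.val_one]
    rcases mul_self_eq_one_iff.1 h with h | h
    · exact absurd (Units.ext h) hl
    · exact h
  obtain ⟨k, hk⟩ := Char.IsGeneralizedCharacter.classInner_int
    (Char.IsGeneralizedCharacter.restrict (Char.isGeneralizedCharacter_of_isCharacter hχ) B)
    (Char.isGeneralizedCharacter_of_isCharacter (ReeCover.isCharacter_lam l⁻¹))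
  refine ⟨k, ?_⟩
  have hS : ∑ a : B, χ (a : G) * ReeCover.lam B l a = (Nat.card ↥B : ℂ) * k := by
    rw [← hk, classInner, ← mul_assoc, mul_inv_cancel₀ (Nat.cast_ne_zero.2 Nat.card_pos.ne'), one_mul]
    refine Finset.sum_congr rfl fun a _ => congrArg _ ?_
    rw [ReeCover.conj_lam]
    simp [ReeCover.lam]
  rw [← hS]
  have hre : ∑ a : B, χ (a : G) * ReeCover.lam B l a = ∑ a : B, χ ((a : G) * z) * (-ReeCover.lam B l a) :=
    (Fintype.sum_equiv (Equiv.mulRight z') _ _ fun a => by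
      rw [show ReeCover.lam B l (Equiv.mulRight z' a) = ReeCover.lam B l a * ReeCover.lam B l z' by
        simp [ReeCover.lam, map_mul], hlz, mul_neg_one]
      rfl).symm
  have h2 : ∑ a : B, (χ (a : G) - χ ((a : G) * z)) * ReeCover.lam B l a = 2 * (χ 1 - χ z) := by
    rw [Finset.sum_eq_add (1 : B) z' (fun e => hz1 (congrArg Subtype.val e).symm)
      (fun a _ ha => by
        rw [ClassCount.class_apply (Char.IsCharacter.isClassFunction hχ)
          (hflip a a.2 (fun e => ha.1 (Subtype.ext e)) fun e => ha.2 (Subtype.ext e)), sub_self, zero_mul])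
      (fun h => absurd (Finset.mem_univ _) h) (fun h => absurd (Finset.mem_univ _) h),
      ReeCover.lam_one_apply, hlz]
    simp only [OneMemClass.coe_one, z', hzz, one_mul]
    ring
  simp only [sub_mul, Finset.sum_sub_distrib] at h2
  simp only [mul_neg, Finset.sum_neg_distrib] at hre
  linear_combination (-(1 : ℂ) / 2) * h2 + (-1 / 2 : ℂ) * hre

/-- From a subgroup whose non-trivial elements are conjugate to `z` or `t`. -/
theorem dvd_of_classes {V : Subgroup G} {z t : G} {n1 n2 : ℕ} (hcard : Nat.card ↥V = 1 + n1 + n2)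
    (hz1 : z ≠ 1) (hn1 : Nat.card {a : ↥V // IsConj z (a : G)} = n1)
    (hall : ∀ a ∈ V, a ≠ 1 → IsConj z a ∨ IsConj t a) {χ : G → ℂ} (hχ : IsCharacter G χ) :
    ∃ k : ℤ, χ 1 + (n1 : ℂ) * χ z + (n2 : ℂ) * χ t = (Nat.card ↥V : ℂ) * k := by
  classical
  letI := Fintype.ofFinite ↥V
  obtain ⟨k, hk⟩ := AbelianSylow.Chars.exists_sum_eq hχ V
  refine ⟨k, ?_⟩
  rw [← hk]
  set S := Finset.univ.filter fun a : V => IsConj z (a : G) with hS
  have hS1 : S.card = n1 := by
    rw [← hn1, Nat.card_eq_fintype_card, Fintype.card_subtype]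
  have h1S : (1 : V) ∉ S := fun h => hz1 (isConj_one_left.1 (Finset.mem_filter.1 h).2)
  have hcls := Char.IsCharacter.isClassFunction hχ
  rw [← Finset.sum_filter_add_sum_filter_not Finset.univ (fun a : V => IsConj z (a : G)), ← hS,
    Finset.sum_congr rfl fun a ha => ClassCount.class_apply hcls (Finset.mem_filter.1 ha).2,
    Finset.sum_const, hS1,
    ← Finset.add_sum_erase _ _ (show (1 : V) ∈ Finset.univ.filter (fun a : V => ¬ IsConj z (a : G)) from
      Finset.mem_filter.2 ⟨Finset.mem_univ _, fun h => h1S (Finset.mem_filter.2 ⟨Finset.mem_univ _, h⟩)⟩),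
    Finset.sum_congr rfl fun (a : V) ha => ClassCount.class_apply hcls
      ((hall a a.2 fun e => (Finset.mem_erase.1 ha).1 (Subtype.ext e)).resolve_left
        (Finset.mem_filter.1 (Finset.mem_erase.1 ha).2).2),
    Finset.sum_const, Finset.card_erase_of_mem (Finset.mem_filter.2 ⟨Finset.mem_univ _, fun h =>
      h1S (Finset.mem_filter.2 ⟨Finset.mem_univ _, h⟩)⟩)]
  have hS2 : (Finset.univ.filter fun a : V => ¬ IsConj z (a : G)).card = 1 + n2 := by
    have := Finset.card_filter_add_card_filter_not (s := (Finset.univ : Finset V))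
      (fun a : V => IsConj z (a : G))
    rw [← hS, hS1, Finset.card_univ, ← Nat.card_eq_fintype_card, hcard] at this
    omega
  rw [hS2, Nat.add_sub_cancel_left, nsmul_eq_mul, nsmul_eq_mul, OneMemClass.coe_one]
  ring

variable [Fintype (IrrCharacter G)]

/-- The value at `g` of a vector of coefficients. -/
noncomputable def ev (g : G) (v : IrrCharacter G → ℤ) : ℂ := ∑ χ : IrrCharacter G, (v χ : ℂ) * (χ : G → ℂ) g

theorem ev_add (g : G) (v w : IrrCharacter G → ℤ) : ev g (v + w) = ev g v + ev g w := by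
  simp [ev, add_mul, Finset.sum_add_distrib]

theorem ev_cvec {f : G → ℂ} (hf : IsGeneralizedCharacter G f) (g : G) : ev g (cvec f) = f g := by
  conv_rhs => rw [cvec_expand hf]
  simp [ev]

theorem ev_one (v : IrrCharacter G → ℤ) : ev (1 : G) v = ((degv G ⬝ᵥ v : ℤ) : ℂ) := by
  simp [ev, dotProduct, apply_one_degv, mul_comm]

theorem ev_single [DecidableEq (IrrCharacter G)] (g : G) (x : IrrCharacter G) (σ : ℤ) :
    ev g (Pi.single x σ) = (σ : ℂ) * (x : G → ℂ) g := by
  rw [ev, Finset.sum_eq_single x (fun y _ hy => by simp [Pi.single_eq_of_ne hy])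
    (fun h => absurd (Finset.mem_univ _) h), Pi.single_eq_same]

theorem isGen_ev (v : IrrCharacter G → ℤ) : IsGeneralizedCharacter G (fun g => ev g v) := by
  rw [show (fun g : G => ev g v) = ∑ χ : IrrCharacter G, (v χ : ℂ) • (χ : G → ℂ) from
    funext fun g => by simp [ev]]
  exact Char.IsGeneralizedCharacter.sum _ fun χ _ => Char.IsGeneralizedCharacter.intCast_smul
    (Char.isGeneralizedCharacter_of_isCharacter (Char.IsIrrCharacter.isCharacter χ.2)) _

theorem cvec_ev (v : IrrCharacter G → ℤ) : cvec (fun g => ev g v) = v := by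
  classical
  funext χ
  have h := cvec_spec (isGen_ev v) χ
  rw [show (fun g : G => ev g v) = ∑ χ : IrrCharacter G, (v χ : ℂ) • (χ : G → ℂ) from
    funext fun g => by simp [ev], Char.classInner_sum_left,
    Finset.sum_eq_single χ (fun ψ _ hψ => by
      rw [Char.classInner_smul_left, Char.classInner_irr_of_ne ψ.2 χ.2 fun e => hψ (Subtype.ext e), mul_zero])
      (fun h => absurd (Finset.mem_univ _) h),
    Char.classInner_smul_left, Char.classInner_irr_self χ.2, mul_one] at h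
  rw [show (fun g : G => ev g v) = ∑ χ : IrrCharacter G, (v χ : ℂ) • (χ : G → ℂ) from
    funext fun g => by simp [ev]]
  exact_mod_cast h.symm

theorem ev_class (v : IrrCharacter G → ℤ) {g g' : G} (h : IsConj g g') : ev g' v = ev g v :=
  ClassCount.class_apply (Char.IsGeneralizedCharacter.isClassFunction (isGen_ev v)) h

theorem ev_int {g : G} (h : ∀ χ : IrrCharacter G, ∃ z : ℤ, (χ : G → ℂ) g = z) (v : IrrCharacter G → ℤ) :
    ev g v = ((valv g ⬝ᵥ v : ℤ) : ℂ) := by
  simp only [ev, dotProduct, Int.cast_sum, Int.cast_mul]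
  refine Finset.sum_congr rfl fun χ _ => ?_
  have e : (χ : G → ℂ) g = (valv g χ : ℂ) := by
    simp only [valv, dif_pos (h χ)]; exact (h χ).choose_spec
  rw [e, mul_comm]

theorem parity {g : G} (hg : orderOf g = 2) (v : IrrCharacter G → ℤ) :
    (2 : ℤ) ∣ valv g ⬝ᵥ v - degv G ⬝ᵥ v := by
  rw [← sub_dotProduct]
  refine Finset.dvd_sum fun χ _ => Dvd.dvd.mul_right ?_ _
  obtain ⟨z, hz, h2⟩ := involution_value hg χ
  have : valv g χ = z := by
    have h : ∃ n : ℤ, (χ : G → ℂ) g = n := ⟨z, hz⟩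
    simp only [valv, dif_pos h]
    exact_mod_cast h.choose_spec.symm.trans hz
  rw [Pi.sub_apply, this]
  exact h2

theorem eleven_dvd {y s : G} (hy : orderOf y = 11) (hs : orderOf s = 2) (hc : Commute y s)
    (hconj : ∀ k : ℕ, ¬ 11 ∣ k → IsConj (y * s) (y ^ k * s)) (v : IrrCharacter G → ℤ) :
    (11 : ℤ) ∣ valv (y * s) ⬝ᵥ v - valv s ⬝ᵥ v := by
  rw [← sub_dotProduct]
  refine Finset.dvd_sum fun χ _ => Dvd.dvd.mul_right ?_ _
  obtain ⟨z, hz, h2⟩ := eleven_value hy hs hc hconj χ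
  have : valv (y * s) χ = z := by
    have h : ∃ n : ℤ, (χ : G → ℂ) (y * s) = n := ⟨z, hz⟩
    simp only [valv, dif_pos h]
    exact_mod_cast h.choose_spec.symm.trans hz
  rw [Pi.sub_apply, this]
  exact h2

/-- Orthogonal units and the column at `g`. -/
theorem norm_le (g : G) {ι : Type*} [Fintype ι] [DecidableEq ι] (u : ι → IrrCharacter G → ℤ)
    (hu : ∀ i j, u i ⬝ᵥ u j = if i = j then 1 else 0) :
    ∑ i, Complex.normSq (ev g (u i)) ≤ (Nat.card ↥(centralizer ({g} : Set G)) : ℝ) := by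
  classical
  have h1 : ∀ i, u i ⬝ᵥ u i = 1 := fun i => by rw [hu, if_pos rfl]
  choose x σ hσ hx using fun i => Vec.unit_eq (h1 i)
  have hinj : Function.Injective x := by
    intro i j e
    by_contra hne
    have := hu i j
    rw [if_neg hne, hx i, hx j, e, single_dotProduct, Pi.single_eq_same] at this
    rcases hσ i with a | a <;> rcases hσ j with b | b <;> rw [a, b] at this <;> norm_num at this
  have hv : ∀ i, Complex.normSq (ev g (u i)) = Complex.normSq ((x i : G → ℂ) g) := by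
    intro i
    rw [hx i, ev_single, Complex.normSq_mul]
    rcases hσ i with a | a <;> rw [a] <;> simp
  rw [Finset.sum_congr rfl fun i _ => hv i, ← Finset.sum_image (f := fun χ : IrrCharacter G =>
    Complex.normSq ((χ : G → ℂ) g)) fun i _ j _ e => hinj e]
  have hcol := Char.column_orth g g
  rw [if_pos (IsConj.refl g)] at hcol
  simp only [Complex.mul_conj, ← Complex.ofReal_sum] at hcol
  rw [← show ∑ χ : IrrCharacter G, Complex.normSq ((χ : G → ℂ) g) =
    (Nat.card ↥(centralizer ({g} : Set G)) : ℝ) by exact_mod_cast hcol]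
  exact Finset.sum_le_sum_of_subset_of_nonneg (Finset.subset_univ _) fun χ _ _ => Complex.normSq_nonneg _

/-- The moment of a generalised character. -/
theorem moment_eq {t : G} (ht : orderOf t = 2) {f : G → ℂ} (hf : IsGeneralizedCharacter G f) :
    (mom t (cvec f) : ℂ) = (Nat.card ↥(centralizer ({t} : Set G)) : ℂ) ^ 2 / (Nat.card G : ℂ) *
      classInner f (pairCount t) := by
  rw [← AbelianSylow.Chars.moment t (cvec f) (cvec_spec hf), mom]
  push_cast
  refine Finset.sum_congr rfl fun χ _ => ?_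
  obtain ⟨z, hz, -⟩ := involution_value ht χ
  have h : ∃ n : ℤ, (χ : G → ℂ) t = n := ⟨z, hz⟩
  have e : (χ : G → ℂ) t = (valv t χ : ℂ) := by
    simp only [valv, dif_pos h]; exact h.choose_spec
  rw [e, apply_one_degv, pow_two]

theorem valv_dvd {g : G} {n : ℤ} (h : ∀ χ : IrrCharacter G, ∃ k : ℤ, (χ : G → ℂ) 1 - (χ : G → ℂ) g = n * (k : ℂ))
    (v : IrrCharacter G → ℤ) (hg : ∀ χ : IrrCharacter G, ∃ z : ℤ, (χ : G → ℂ) g = z) :
    n ∣ degv G ⬝ᵥ v - valv g ⬝ᵥ v := by
  rw [← sub_dotProduct]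
  refine Finset.dvd_sum fun χ _ => Dvd.dvd.mul_right ?_ _
  obtain ⟨z, hz⟩ := hg χ
  obtain ⟨k, hk⟩ := h χ
  rw [hz, apply_one_degv] at hk
  refine ⟨k, ?_⟩
  rw [Pi.sub_apply, valv_eq hz]
  exact_mod_cast hk

theorem valv_dvd_two {g g' : G} {n c c' : ℤ}
    (h : ∀ χ : IrrCharacter G, ∃ k : ℤ,
      (χ : G → ℂ) 1 + c * (χ : G → ℂ) g + c' * (χ : G → ℂ) g' = n * (k : ℂ))
    (hg : ∀ χ : IrrCharacter G, ∃ z : ℤ, (χ : G → ℂ) g = z)
    (hg' : ∀ χ : IrrCharacter G, ∃ z : ℤ, (χ : G → ℂ) g' = z) (v : IrrCharacter G → ℤ) :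
    n ∣ degv G ⬝ᵥ v + c * (valv g ⬝ᵥ v) + c' * (valv g' ⬝ᵥ v) := by
  rw [← smul_eq_mul, ← smul_eq_mul c', ← smul_dotProduct, ← smul_dotProduct, ← add_dotProduct, ← add_dotProduct]
  refine Finset.dvd_sum fun χ _ => Dvd.dvd.mul_right ?_ _
  obtain ⟨z, hz⟩ := hg χ
  obtain ⟨z', hz'⟩ := hg' χ
  obtain ⟨k, hk⟩ := h χ
  rw [hz, hz', apply_one_degv] at hk
  refine ⟨k, ?_⟩
  rw [Pi.add_apply, Pi.add_apply, Pi.smul_apply, Pi.smul_apply, valv_eq hz, valv_eq hz', smul_eq_mul,
    smul_eq_mul]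
  exact_mod_cast hk

/-- The central character at a unit. -/
theorem omega_dvd [DecidableEq (IrrCharacter G)] {g : G}
    (hg : ∀ χ : IrrCharacter G, ∃ z : ℤ, (χ : G → ℂ) g = z) {p : IrrCharacter G → ℤ} (hp : p ⬝ᵥ p = 1) :
    degv G ⬝ᵥ p ∣ ((Nat.card G / Nat.card ↥(centralizer ({g} : Set G)) : ℕ) : ℤ) * (valv g ⬝ᵥ p) := by
  obtain ⟨x, σ, -, rfl⟩ := Vec.unit_eq hp
  rw [dotProduct_single, dotProduct_single, ← mul_assoc]
  refine mul_dvd_mul_right ?_ σ
  obtain ⟨z, hz⟩ := hg x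
  have hK : Nat.card G / Nat.card ↥(centralizer ({g} : Set G)) = Nat.card {h : G // IsConj g h} := by
    rw [← ClassCount.card_class_mul_card_centralizer g, Nat.mul_div_cancel _ Nat.card_pos]
  have hd : ((x : G → ℂ) 1) ≠ 0 := Char.IsIrrCharacter.apply_one_ne_zero x.2
  have h1 := ClassCount.isIntegral_omega x.2 g
  have key : ((charDegree (x : G → ℂ) : ℕ) : ℂ) * ClassCount.omega (x : G → ℂ) g =
      (((Nat.card {h : G // IsConj g h} : ℕ) * z : ℤ) : ℂ) := by
    rw [← ClassCount.apply_one_eq_charDegree, ClassCount.omega, hz]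
    push_cast
    field_simp
  obtain ⟨j, hj⟩ := Char.exists_int_of_isIntegral_mul (ClassCount.charDegree_pos x).ne' key h1
  rw [hj] at key
  refine ⟨j, ?_⟩
  rw [hK, valv_eq hz]
  have key' : ((((Nat.card {h : G // IsConj g h} : ℕ) : ℤ) * z : ℤ) : ℂ) = ((degv G x * j : ℤ) : ℂ) := by
    rw [← key]; simp [degv]
  exact Int.cast_injective key'

/-- A unit: the values at `y s` and `y` modulo two. -/
theorem two_dvd_unit [DecidableEq (IrrCharacter G)] {y s : G} (hy : orderOf y = 11) (hs : orderOf s = 2)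
    (hc : Commute y s) {p : IrrCharacter G → ℤ} (hp : p ⬝ᵥ p = 1) {T r : ℤ}
    (hT : ev (y * s) p = T) (hr : ev y p = r) : (2 : ℤ) ∣ T - r := by
  obtain ⟨x, σ, hσ, rfl⟩ := Vec.unit_eq hp
  rw [ev_single] at hT hr
  have h := two_isIntegral hy hs hc (Char.IsIrrCharacter.isCharacter x.2)
  have hσi : IsIntegral ℤ (σ : ℂ) := isIntegral_algebraMap (R := ℤ) (A := ℂ) (x := σ)
  have key : ((2 : ℕ) : ℂ) * ((σ : ℂ) * (((x : G → ℂ) y - (x : G → ℂ) (y * s)) / 2)) = ((r - T : ℤ) : ℂ) := by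
    push_cast
    linear_combination hr - hT
  obtain ⟨j, hj⟩ := Char.exists_int_of_isIntegral_mul two_ne_zero key (hσi.mul h)
  rw [hj] at key
  have key' : 2 * j = r - T := by exact_mod_cast key
  exact ⟨-j, by linarith⟩

/-- Cauchy–Schwarz off a family of orthogonal units. -/
theorem gram {ι κ : Type*} [Fintype ι] [Fintype κ] [DecidableEq κ] (u : κ → ι → ℤ)
    (hu : ∀ i j, u i ⬝ᵥ u j = if i = j then 1 else 0) (p q : ι → ℤ) :
    (p ⬝ᵥ q - ∑ i, (p ⬝ᵥ u i) * (q ⬝ᵥ u i)) ^ 2 ≤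
      (p ⬝ᵥ p - ∑ i, (p ⬝ᵥ u i) ^ 2) * (q ⬝ᵥ q - ∑ i, (q ⬝ᵥ u i) ^ 2) := by
  have key : ∀ p q : ι → ℤ, (p - ∑ i, (p ⬝ᵥ u i) • u i) ⬝ᵥ (q - ∑ i, (q ⬝ᵥ u i) • u i) =
      p ⬝ᵥ q - ∑ i, (p ⬝ᵥ u i) * (q ⬝ᵥ u i) := by
    intro p q
    simp only [sub_dotProduct, dotProduct_sub, sum_dotProduct, dotProduct_sum, smul_dotProduct,
      dotProduct_smul, smul_eq_mul, hu, mul_ite, mul_one, mul_zero, Finset.sum_ite_eq', Finset.mem_univ,
      if_true, dotProduct_comm (u _) q]
    simp [mul_comm (q ⬝ᵥ u _)]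
  have h := Finset.sum_mul_sq_le_sq_mul_sq Finset.univ (p - ∑ i, (p ⬝ᵥ u i) • u i)
    (q - ∑ i, (q ⬝ᵥ u i) • u i)
  have e : ∀ v : ι → ℤ, ∑ x, v x ^ 2 = v ⬝ᵥ v := fun v => Finset.sum_congr rfl fun x _ => pow_two _
  rw [e, e, key, key] at h
  rw [← key p q]
  simp only [pow_two] at h ⊢
  exact h

/-- Columns with integral values. -/
theorem valv_dot {g h : G} (hg : ∀ χ : IrrCharacter G, ∃ z : ℤ, (χ : G → ℂ) g = z)
    (hh : ∀ χ : IrrCharacter G, ∃ z : ℤ, (χ : G → ℂ) h = z) [Decidable (IsConj g h)] :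
    valv g ⬝ᵥ valv h = if IsConj g h then (Nat.card ↥(centralizer ({g} : Set G)) : ℤ) else 0 := by
  have hcol := Char.column_orth g h
  have e : ((valv g ⬝ᵥ valv h : ℤ) : ℂ) = ∑ χ : IrrCharacter G, (χ : G → ℂ) g * conj ((χ : G → ℂ) h) := by
    simp only [dotProduct, Int.cast_sum, Int.cast_mul]
    refine Finset.sum_congr rfl fun χ _ => ?_
    obtain ⟨z, hz⟩ := hg χ
    obtain ⟨z', hz'⟩ := hh χ
    rw [valv_eq hz, valv_eq hz', hz, hz', map_intCast]
  rw [hcol] at e
  split_ifs at e ⊢ <;> exact_mod_cast e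

end Cfsg.Agent.J4Type.ElevenTools
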