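import Cfsg.Agent.EqLemmas
import Cfsg.Agent.Lib.J4Type.ElevenDual
import Cfsg.Agent.Lib.J4Type.ElevenTools

/-!
# Abelian Sylow 11-subgroup in J4 type: the five differences and the multiplicities (helper84)

* `ElevenCtx.Reps` : a character trivial on `X` and five mixed representatives
* `diffFun` : the induced differences; `Reps.F_inner`, `Reps.inner_pairs`, values
* `Reps.exists_dual_values` : the values at `1`, `y` and outside `X`, `W`
* `Reps.sum_theta`, `Reps.sum_theta_sq`
-/

set_option autoImplicit false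
set_option linter.unusedSectionVars false

namespace Cfsg.Agent.J4Type.ElevenCtx

open Matrix Subgroup ReeCover Cfsg.Agent.AbelianSylow.Chars ElevenTools
open scoped ComplexConjugate Classical

universe u

variable {G : Type u} [Group G] {U X W : Subgroup G} {z t y s : G}

/-- The induced difference of two linear characters. -/
noncomputable def diffFun [Fintype G] [Fintype ↥U] (l m : ↥U →* ℂˣ) : G → ℂ := indFun U (lam U l - lam U m)

/-- A character trivial on `X` and five mixed representatives. -/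
structure Reps [Fintype ↥U] [Fintype ↥(normalizer (U : Set G))] [Fintype (↥U →* ℂˣ)] (X W : Subgroup G) (mu : ↥U →* ℂˣ)
    (L : Fin 5 → (↥U →* ℂˣ)) : Prop where
  triv : TrivX X mu
  mixed : ∀ i, Mixed X W (L i)
  dis : ∀ i j (n : normalizer (U : Set G)), tw n (L i) = L j → i = j
  hsum : ∀ f : (↥U →* ℂˣ) → ℂ, ∑ i, ∑ n : normalizer (U : Set G), f (tw n (L i)) =
    1331 * ∑ l ∈ Finset.univ.filter (fun l : ↥U →* ℂˣ => Mixed X W l), f l

variable (C : ElevenCtx U X W z t y s) [Fintype G] [Fintype ↥U] [Fintype ↥(normalizer (U : Set G))]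
  [Fintype (↥U →* ℂˣ)]
include C

theorem tsum_tw (n : normalizer (U : Set G)) (l : ↥U →* ℂˣ) : tsum U (tw n l) = tsum U l :=
  funext fun a => Fintype.sum_equiv (Equiv.mulRight n) _ _ fun m =>
    congrArg (fun p => lam U p a) (tw_mul m n l).symm

theorem exists_Reps : ∃ mu L, Reps (U := U) X W mu L := by
  obtain ⟨L, hL, hdis, hsum⟩ := C.exists_reps
  have h : (Finset.univ.filter fun l : ↥U →* ℂˣ => TrivX X l).Nonempty := by
    rw [← Finset.card_pos, C.card_trivX]; norm_num
  obtain ⟨mu, hmu⟩ := h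
  exact ⟨mu, L, (Finset.mem_filter.1 hmu).2, hL, hdis, fun f => hsum f⟩

theorem orderOf_y : orderOf y = 11 := by
  have hy : orderOf y ∣ 1331 := by
    have h := orderOf_dvd_natCard (⟨y, C.W_le C.y_mem⟩ : U)
    rwa [C.card_U, Subgroup.orderOf_mk] at h
  have h2 : orderOf (y * s) ∣ 22 := by
    have hm : y * s ∈ centralizer ({y * s} : Set G) := mem_centralizer_singleton_iff.2 rfl
    have h := orderOf_dvd_natCard (⟨_, hm⟩ : centralizer ({y * s} : Set G))
    rwa [C.cent_ys, Subgroup.orderOf_mk] at h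
  rw [C.comm_ys.orderOf_mul_eq_mul_orderOf_of_coprime (by
    rw [C.order_s]; exact (Nat.Coprime.coprime_dvd_left hy (by norm_num))), C.order_s] at h2
  have h3 : orderOf y ∣ 11 := Nat.dvd_of_mul_dvd_mul_right (by norm_num) h2
  rcases (Nat.dvd_prime (by norm_num)).1 h3 with h | h
  · exact absurd (orderOf_eq_one_iff.1 h) C.y_ne
  · exact h

theorem off_U {g : G} (h : 2 ∣ orderOf g) (x : G) : x⁻¹ * g * x ∉ U := by
  intro hm
  have h2 := orderOf_dvd_natCard (⟨_, hm⟩ : U)
  rw [C.card_U, Subgroup.orderOf_mk] at h2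
  have e : orderOf (x⁻¹ * g * x) = orderOf g := by
    rw [← orderOf_injective (MulAut.conj x⁻¹).toMonoidHom (MulAut.conj x⁻¹).injective g]
    simp
  rw [e] at h2
  exact absurd (h.trans h2) (by norm_num)

theorem isGen_diffFun (l m : ↥U →* ℂˣ) : IsGeneralizedCharacter G (diffFun l m) :=
  Char.IsGeneralizedCharacter.indFun (Char.IsGeneralizedCharacter.sub
    (Char.isGeneralizedCharacter_of_isCharacter (isCharacter_lam l))
    (Char.isGeneralizedCharacter_of_isCharacter (isCharacter_lam m)))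

theorem diffFun_one (l m : ↥U →* ℂˣ) : diffFun l m 1 = 0 := by
  simp [diffFun, Char.indFun_one_apply, lam_one_apply]

theorem diffFun_off (l m : ↥U →* ℂˣ) {g : G} (h : 2 ∣ orderOf g) : diffFun l m g = 0 := by
  simp only [diffFun, indFun]
  rw [Finset.sum_eq_zero fun x _ => Char.extendByZero_not_mem U _ (C.off_U h x), mul_zero]

theorem diffFun_coe (l m : ↥U →* ℂˣ) (a : U) :
    diffFun l m (a : G) = (1331 : ℂ)⁻¹ * (tsum U l a - tsum U m a) := by
  by_cases ha : a = 1
  · subst ha; rw [OneMemClass.coe_one, C.diffFun_one, C.tsum_one, C.tsum_one, sub_self, mul_zero]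
  have hout : ∀ x : G, x ∉ normalizer (U : Set G) →
      extendByZero U (lam U l - lam U m) (x⁻¹ * (a : G) * x) = 0 := fun x hx =>
    Char.extendByZero_not_mem _ _ fun hm => hx (inv_mem_iff.1 (C.ti x⁻¹ a a.2
      (fun e => ha (Subtype.ext e)) (by rwa [inv_inv])))
  simp only [diffFun, indFun]
  rw [← Finset.sum_filter_of_ne (p := fun x => x ∈ normalizer (U : Set G))
    (fun x _ hx => by by_contra h; exact hx (hout x h)),
    Finset.sum_subtype (p := (· ∈ normalizer (U : Set G))) (F := ‹_›) _ (fun x => by simp)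
      (fun x => extendByZero U (lam U l - lam U m) (x⁻¹ * (a : G) * x)), C.card_U, Nat.cast_ofNat]
  simp only [tsum, ← Finset.sum_sub_distrib]
  congr 1
  refine Finset.sum_congr rfl fun n _ => ?_
  rw [Char.extendByZero_mem U _ (conj_mem n a.2)]
  rfl

theorem inner_lam_diffFun (p l m : ↥U →* ℂˣ) :
    classInner (lam U p) (fun a : U => diffFun l m (a : G)) = (1331 : ℂ)⁻¹ *
      (((Finset.univ.filter fun n : normalizer (U : Set G) => tw n l = p).card : ℂ) -
        (Finset.univ.filter fun n : normalizer (U : Set G) => tw n m = p).card) := by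
  have h : classInner (fun a : U => diffFun l m (a : G)) (lam U p) = (1331 : ℂ)⁻¹ *
      (((Finset.univ.filter fun n : normalizer (U : Set G) => tw n l = p).card : ℂ) -
        (Finset.univ.filter fun n : normalizer (U : Set G) => tw n m = p).card) := by
    rw [C.card_fix_eq, C.card_fix_eq]
    simp only [classInner, C.diffFun_coe, C.card_U, ← mul_sub, ← Finset.sum_sub_distrib, Finset.mul_sum]
    refine Finset.sum_congr rfl fun a _ => ?_
    push_cast
    ring
  rw [← Char.classInner_conj_symm, h, map_mul, map_inv₀, map_sub, map_natCast, map_natCast, map_ofNat]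

theorem mixed_not_trivX {l : ↥U →* ℂˣ} (h : Mixed X W l) : ¬ TrivX X l := fun h' => by
  obtain ⟨⟨a, ha, ha'⟩, -⟩ := h; exact ha' (h'.2 a ha)

theorem mixed_ne_one {l : ↥U →* ℂˣ} (h : Mixed X W l) : l ≠ 1 := fun e => by
  obtain ⟨⟨a, -, ha'⟩, -⟩ := h; exact ha' (by rw [e]; rfl)

theorem sum_lam_all {l : ↥U →* ℂˣ} (hl : l ≠ 1) : ∑ a : U, lam U l a = 0 := by
  obtain ⟨c, hc⟩ : ∃ c, l c ≠ 1 := by
    by_contra hno; push Not at hno; exact hl (MonoidHom.ext hno)
  have : lam U l c * ∑ a : U, lam U l a = ∑ a : U, lam U l a := by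
    rw [Finset.mul_sum]
    exact Fintype.sum_bijective (c * ·) (Group.mulLeft_bijective c) _ _ fun a => by simp [lam, map_mul]
  exact eq_zero_of_mul_eq_self_left (fun e => hc (Units.ext e)) this

theorem trivX_nontriv {l : ↥U →* ℂˣ} (hl : TrivX X l) : ∃ b : U, (b : G) ∈ W ∧ l b ≠ 1 := by
  by_contra hno
  push Not at hno
  exact hl.1 (C.ext_dual (fun b hb => by rw [hl.2 b hb]; rfl) (fun b hb => by rw [hno b hb]; rfl))

theorem fibre_conj_W (t' : G) {a : U} (ha : (a : G) ∈ W) (ha1 : a ≠ 1) :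
    ClassCount.fibreCount t' t' (a : G) = ClassCount.fibreCount t' t' y := by
  set Y0 : U := ⟨y, C.W_le C.y_mem⟩ with hY0
  have hY1 : Y0 ≠ 1 := fun e => C.y_ne (congrArg Subtype.val e)
  obtain ⟨n, hn⟩ := exists_fibre (fun n : normalizer (U : Set G) => conjA n Y0)
    (Finset.univ.filter fun b : U => (b : G) ∈ W ∧ b ≠ 1)
    (fun n => Finset.mem_filter.2 ⟨Finset.mem_univ _, C.conjA_W n C.y_mem, fun e => hY1 (C.conjA_eq_one n e)⟩)
    (k := 2662) (by norm_num)
    (fun n => (C.card_fibre Y0 n).trans_eq (C.cent_W y C.y_mem C.y_ne))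
    (by rw [C.card_Ws, C.card_normalizer_eq]) a (Finset.mem_filter.2 ⟨Finset.mem_univ _, ha, ha1⟩)
  rw [← hn, ← ClassCount.fibreCount_conj t' t' y (n : G)⁻¹, inv_inv]
  rfl

theorem exists_mixed_split {w : U} (hX : (w : G) ∉ X) (hW : (w : G) ∉ W) :
    ∃ x v : U, (x : G) ∈ X ∧ x ≠ 1 ∧ (v : G) ∈ W ∧ v ≠ 1 ∧ w = x * v := by
  obtain ⟨x, v, hx, hv, rfl⟩ := C.exists_split w
  exact ⟨x, v, hx, fun e => hW (by rw [e, one_mul]; exact hv), hv, fun e => hX (by rw [e, mul_one]; exact hx),
    rfl⟩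

theorem tsum_trivW_mixed {l : ↥U →* ℂˣ} (hl : TrivW W l) {w : U} (hX : (w : G) ∉ X) (hW : (w : G) ∉ W) :
    tsum U l w = -31944 := by
  obtain ⟨x, v, hx, hx1, hv, -, rfl⟩ := C.exists_mixed_split hX hW
  have e : tsum U l (x * v) = tsum U l x := Finset.sum_congr rfl fun n _ => by
    show lam U (tw n l) (x * v) = lam U (tw n l) x
    simp only [lam, map_mul, (C.tw_trivW n hl).2 v hv, mul_one]
  have hne : ∃ b : U, (b : G) ∈ X ∧ l b ≠ 1 := by
    by_contra hno
    push Not at hno
    exact hl.1 (C.ext_dual (fun b hb => by rw [hno b hb]; rfl) (fun b hb => by rw [hl.2 b hb]; rfl))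
  rw [e, C.tsum_X l hx hx1, C.sum_Xs.2 hne]
  norm_num

namespace Reps

variable {mu : ↥U →* ℂˣ} {L : Fin 5 → (↥U →* ℂˣ)}

theorem F_W (R : Reps X W mu L) (i : Fin 5) {a : U} (ha : (a : G) ∈ W) (ha1 : a ≠ 1) :
    diffFun (L i) mu (a : G) = 0 := by
  rw [C.diffFun_coe, C.tsum_W _ ha ha1, C.tsum_W _ ha ha1, C.sum_Ws.2 (R.mixed i).2,
    C.sum_Ws.2 (C.trivX_nontriv R.triv), sub_self, mul_zero]

theorem F_mixed (R : Reps X W mu L) (i : Fin 5) {w : U} (hX : (w : G) ∉ X) (hW : (w : G) ∉ W) :
    diffFun (L i) mu (w : G) = tsum U (L i) w / 1331 + 2 := by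
  rw [C.diffFun_coe, C.tsum_trivX_mixed R.triv hX hW]
  ring

theorem F_inner (R : Reps X W mu L) (i j : Fin 5) :
    classInner (diffFun (L i) mu) (diffFun (L j) mu) = ((if i = j then (3 : ℤ) else 2 : ℤ) : ℂ) := by
  conv_lhs => rw [diffFun, Char.frobenius_reciprocity U _ (Char.IsGeneralizedCharacter.isClassFunction
    (C.isGen_diffFun (L j) mu))]
  rw [Char.classInner_sub_left, C.inner_lam_diffFun, C.inner_lam_diffFun, C.card_fix_trivX R.triv]
  have h0 : ∀ k, (Finset.univ.filter fun n : normalizer (U : Set G) => tw n (L k) = mu).card = 0 :=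
    fun k => Finset.card_eq_zero.2 (Finset.filter_eq_empty_iff.2 fun n _ e =>
      C.mixed_not_trivX (C.tw_mixed n (R.mixed k)) (e ▸ R.triv))
  have h1 : ∀ k, (Finset.univ.filter fun n : normalizer (U : Set G) => tw n mu = L k).card = 0 :=
    fun k => Finset.card_eq_zero.2 (Finset.filter_eq_empty_iff.2 fun n _ e =>
      C.mixed_not_trivX (R.mixed k) (e ▸ C.tw_trivX n R.triv))
  rw [h0, h1]
  by_cases hij : i = j
  · subst hij; rw [if_pos rfl, C.card_fix_mixed (R.mixed i)]; norm_num
  · rw [if_neg hij, Finset.card_eq_zero.2 (Finset.filter_eq_empty_iff.2 fun n _ e =>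
      hij (R.dis j i n e).symm)]
    norm_num

theorem inner_one (R : Reps X W mu L) (i : Fin 5) : classInner (diffFun (L i) mu) (1 : G → ℂ) = 0 := by
  rw [diffFun, Char.frobenius_reciprocity U _ (fun _ _ => rfl), Char.classInner_sub_left]
  have e : (fun a : U => (1 : G → ℂ) (a : G)) = lam U 1 := funext fun a => by simp [lam]
  rw [e, classInner_lam, classInner_lam, if_neg (C.mixed_ne_one (R.mixed i)), if_neg R.triv.1, sub_self]

theorem inner_pairs (R : Reps X W mu L) (i : Fin 5) (t' : G) {cX cM : ℕ}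
    (hX : ∀ a ∈ X, a ≠ 1 → ClassCount.fibreCount t' t' a = cX)
    (hU : ∀ a ∈ U, a ∉ X → a ∉ W → ClassCount.fibreCount t' t' a = cM) :
    classInner (diffFun (L i) mu) (pairCount t') = (11 * ((cM : ℂ) - cX)) / 1331 := by
  rw [diffFun, Char.frobenius_reciprocity U _ (pairCount_isClassFunction t'), classInner, C.card_U]
  have hc : ∀ a : U, conj (pairCount t' (a : G)) = pairCount t' (a : G) := fun a => conj_pairCount t' _
  simp only [hc]
  have hall : ∑ a : U, (lam U (L i) - lam U mu) a = 0 := by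
    simp only [Pi.sub_apply, Finset.sum_sub_distrib, C.sum_lam_all (C.mixed_ne_one (R.mixed i)),
      C.sum_lam_all R.triv.1, sub_self]
  have sX : ∑ a ∈ Finset.univ.filter (fun a : U => (a : G) ∈ X ∧ a ≠ 1), (lam U (L i) - lam U mu) a = -11 := by
    simp only [Pi.sub_apply, Finset.sum_sub_distrib, C.sum_Xs.1 R.triv.2, C.sum_Xs.2 (R.mixed i).1]
    norm_num
  have sW : ∑ a ∈ Finset.univ.filter (fun a : U => (a : G) ∈ W ∧ a ≠ 1), (lam U (L i) - lam U mu) a = 0 := by
    simp only [Pi.sub_apply, Finset.sum_sub_distrib, C.sum_Ws.2 (C.trivX_nontriv R.triv),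
      C.sum_Ws.2 (R.mixed i).2, sub_self]
  rw [C.sum_part, sX, sW, Pi.sub_apply, lam_one_apply, lam_one_apply] at hall
  rw [C.sum_part, Pi.sub_apply, lam_one_apply, lam_one_apply, sub_self, zero_mul,
    Finset.sum_congr rfl fun a ha => by
      rw [show pairCount t' (a : G) = (cX : ℂ) by
        rw [pairCount, hX _ (Finset.mem_filter.1 ha).2.1 fun e => (Finset.mem_filter.1 ha).2.2 (Subtype.ext e)]],
    ← Finset.sum_mul, sX,
    Finset.sum_congr (s₁ := Finset.univ.filter fun a : U => (a : G) ∈ W ∧ a ≠ 1) rfl fun a ha => by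
      rw [show pairCount t' (a : G) = pairCount t' y by
        rw [pairCount, pairCount, C.fibre_conj_W t' (Finset.mem_filter.1 ha).2.1 (Finset.mem_filter.1 ha).2.2]],
    ← Finset.sum_mul, sW,
    Finset.sum_congr (s₁ := Finset.univ.filter fun a : U => (a : G) ∉ X ∧ (a : G) ∉ W) rfl fun a ha => by
      rw [show pairCount t' (a : G) = (cM : ℂ) by
        rw [pairCount, hU _ a.2 (Finset.mem_filter.1 ha).2.1 (Finset.mem_filter.1 ha).2.2]],
    ← Finset.sum_mul]
  push_cast
  linear_combination ((cM : ℂ) / 1331) * hall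

/-- The sum over the mixed characters at an element. -/
theorem sum_mixed (R : Reps X W mu L) (a : U) :
    ∑ l ∈ Finset.univ.filter (fun l : ↥U →* ℂˣ => Mixed X W l), lam U l a = ∑ i, tsum U (L i) a / 1331 := by
  have h := R.hsum fun l => lam U l a
  rw [← Finset.sum_div]
  have e : ∑ i, tsum U (L i) a = ∑ i, ∑ n : normalizer (U : Set G), lam U (tw n (L i)) a := rfl
  rw [e, h]
  ring

theorem sums_at (R : Reps X W mu L) :
    (∀ v : U, (v : G) ∈ W → v ≠ 1 →
      ∑ l ∈ Finset.univ.filter (fun l : ↥U →* ℂˣ => TrivX X l), lam U l v = -1 ∧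
      ∑ l ∈ Finset.univ.filter (fun l : ↥U →* ℂˣ => TrivW W l), lam U l v = 10) ∧
    (∀ w : U, (w : G) ∉ X → (w : G) ∉ W →
      ∑ l ∈ Finset.univ.filter (fun l : ↥U →* ℂˣ => TrivX X l), lam U l w = -1 ∧
      ∑ l ∈ Finset.univ.filter (fun l : ↥U →* ℂˣ => TrivW W l), lam U l w = -1) := by
  have hWv : ∀ v : U, (v : G) ∈ W →
      ∑ l ∈ Finset.univ.filter (fun l : ↥U →* ℂˣ => TrivW W l), lam U l v = 10 := by
    intro v hv
    rw [Finset.sum_congr rfl fun l hl => show lam U l v = 1 by
      simp [lam, (Finset.mem_filter.1 hl).2.2 v hv], Finset.sum_const, C.card_trivW]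
    norm_num
  have hXv : ∀ v : U, (v : G) ∈ W → v ≠ 1 →
      ∑ l ∈ Finset.univ.filter (fun l : ↥U →* ℂˣ => TrivX X l), lam U l v = -1 := by
    intro v hv hv1
    have h := C.sum_dual_part (fun l => lam U l v)
    rw [sum_lam C.comm hv1, hWv v hv, Reps.sum_mixed C R,
      Finset.sum_congr (s₁ := (Finset.univ : Finset (Fin 5))) rfl fun i _ => by
        rw [C.tsum_W _ hv hv1, C.sum_Ws.2 (R.mixed i).2], show lam U 1 v = 1 by simp [lam]] at h
    simp only [Finset.sum_const, Finset.card_univ, Fintype.card_fin] at h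
    linear_combination -h
  have hXx : ∀ x : U, (x : G) ∈ X →
      ∑ l ∈ Finset.univ.filter (fun l : ↥U →* ℂˣ => TrivX X l), lam U l x = 120 := by
    intro x hx
    rw [Finset.sum_congr rfl fun l hl => show lam U l x = 1 by
      simp [lam, (Finset.mem_filter.1 hl).2.2 x hx], Finset.sum_const, C.card_trivX]
    norm_num
  have hWx : ∀ x : U, (x : G) ∈ X → x ≠ 1 →
      ∑ l ∈ Finset.univ.filter (fun l : ↥U →* ℂˣ => TrivW W l), lam U l x = -1 := by
    intro x hx hx1
    have h := C.sum_dual_part (fun l => lam U l x)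
    rw [sum_lam C.comm hx1, hXx x hx, Reps.sum_mixed C R,
      Finset.sum_congr (s₁ := (Finset.univ : Finset (Fin 5))) rfl fun i _ => by
        rw [C.tsum_X _ hx hx1, C.sum_Xs.2 (R.mixed i).1], show lam U 1 x = 1 by simp [lam]] at h
    simp only [Finset.sum_const, Finset.card_univ, Fintype.card_fin] at h
    linear_combination -h
  refine ⟨fun v hv hv1 => ⟨hXv v hv hv1, hWv v hv⟩, fun w hX hW => ?_⟩
  obtain ⟨x, v, hx, hx1, hv, hv1, rfl⟩ := C.exists_mixed_split hX hW
  constructor
  · rw [← hXv v hv hv1]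
    exact Finset.sum_congr rfl fun l hl => by simp [lam, map_mul, (Finset.mem_filter.1 hl).2.2 x hx]
  · rw [← hWx x hx hx1]
    exact Finset.sum_congr rfl fun l hl => by simp [lam, map_mul, (Finset.mem_filter.1 hl).2.2 v hv]

theorem sum_theta (R : Reps X W mu L) {w : U} (hX : (w : G) ∉ X) (hW : (w : G) ∉ W) :
    ∑ i, tsum U (L i) w / 1331 = 1 := by
  have hw : w ≠ 1 := fun e => hX (by rw [e]; exact one_mem X)
  have h := C.sum_dual_part (fun l => lam U l w)
  obtain ⟨e1, e2⟩ := (Reps.sums_at C R).2 w hX hW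
  rw [sum_lam C.comm hw, e1, e2, Reps.sum_mixed C R, show lam U 1 w = 1 by simp [lam]] at h
  linear_combination -h

theorem sum_theta_sq (R : Reps X W mu L) {w : U} (hX : (w : G) ∉ X) (hW : (w : G) ∉ W) :
    ∑ i, (tsum U (L i) w / 1331) * conj (tsum U (L i) w / 1331) = 1065 := by
  have hdelta : ∀ p q : U, ∑ l : ↥U →* ℂˣ, lam U l p * conj (lam U l q) = if p = q then 1331 else 0 := by
    intro p q
    rw [Finset.sum_congr rfl fun l _ => show lam U l p * conj (lam U l q) = lam U l (p * q⁻¹) by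
      rw [conj_lam]; simp [lam, map_mul]]
    by_cases h : p = q
    · subst h
      rw [if_pos rfl, mul_inv_cancel]
      simp only [lam_one_apply, Finset.sum_const, Finset.card_univ, ← Nat.card_eq_fintype_card,
        card_dual C.comm, C.card_U]
      norm_num
    · rw [if_neg h, sum_lam C.comm fun e => h (mul_inv_eq_one.1 e)]
  have hfib : ∀ n : normalizer (U : Set G),
      (Finset.univ.filter fun n' : normalizer (U : Set G) => conjA n w = conjA n' w).card = 1331 := by
    intro n
    rw [show (Finset.univ.filter fun n' : normalizer (U : Set G) => conjA n w = conjA n' w) =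
      Finset.univ.filter fun n' : normalizer (U : Set G) => conjA n' w = conjA n w from
        Finset.filter_congr fun _ _ => eq_comm]
    refine le_antisymm ((C.card_fibre w n).trans_eq (C.cent_mixed w w.2 hX hW)) ?_
    rw [show (1331 : ℕ) = (Finset.univ : Finset U).card by
      rw [Finset.card_univ, ← Nat.card_eq_fintype_card, C.card_U]]
    refine Finset.card_le_card_of_injOn (fun a : U =>
      (⟨(a : G), le_normalizer a.2⟩ : normalizer (U : Set G)) * n) (fun a _ => ?_)
      fun a _ b _ e => Subtype.ext (congrArg Subtype.val (mul_right_cancel e) :)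
    refine Finset.mem_filter.2 ⟨Finset.mem_univ _, Subtype.ext ?_⟩
    show ((a : G) * n)⁻¹ * w * ((a : G) * n) = (n : G)⁻¹ * w * n
    calc ((a : G) * n)⁻¹ * w * ((a : G) * n) = (n : G)⁻¹ * ((a : G)⁻¹ * ((w : G) * a)) * n := by group
      _ = _ := by rw [C.comm _ w.2 _ a.2, inv_mul_cancel_left]
  have hall : ∑ l : ↥U →* ℂˣ, tsum U l w * conj (tsum U l w) = 319440 * 1331 * 1331 := by
    simp only [tsum, map_sum, Finset.sum_mul, Finset.mul_sum]
    rw [Finset.sum_comm]
    refine (Finset.sum_congr rfl fun n _ => (?_ : _ = ((1331 : ℂ) * 1331))).trans ?_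
    · rw [Finset.sum_comm,
        Finset.sum_congr rfl fun n' _ => show ∑ l : ↥U →* ℂˣ, lam U (tw n' l) w * conj (lam U (tw n l) w) = _
          from hdelta (conjA n' w) (conjA n w), ← Finset.sum_filter, Finset.sum_const]
      rw [show (Finset.univ.filter fun n' : normalizer (U : Set G) => conjA n' w = conjA n w).card = 1331 by
        rw [← hfib n]; exact congrArg Finset.card (Finset.filter_congr fun _ _ => eq_comm)]
      simp
    · rw [Finset.sum_const, Finset.card_univ, C.card_normalizer_eq]; norm_num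
  have hm := R.hsum fun l => tsum U l w * conj (tsum U l w)
  simp only [C.tsum_tw, Finset.sum_const, Finset.card_univ, C.card_normalizer_eq, nsmul_eq_mul] at hm
  rw [C.sum_dual_part, show tsum U 1 w = 319440 by
      simp only [tsum, tw_trivial, show lam U 1 w = 1 by simp [lam], Finset.sum_const, Finset.card_univ,
        C.card_normalizer_eq]; norm_num,
    Finset.sum_congr rfl fun l hl => by rw [C.tsum_trivX_mixed (Finset.mem_filter.1 hl).2 hX hW],
    Finset.sum_const, C.card_trivX,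
    Finset.sum_congr (s₁ := Finset.univ.filter fun l : ↥U →* ℂˣ => TrivW W l) rfl fun l hl => by
      rw [C.tsum_trivW_mixed (Finset.mem_filter.1 hl).2 hX hW],
    Finset.sum_const, C.card_trivW] at hall
  simp only [map_neg, map_ofNat, nsmul_eq_mul, ← Finset.mul_sum] at hall hm
  simp only [map_div₀, map_ofNat, div_mul_div_comm, ← Finset.sum_div]
  push_cast at hall hm
  linear_combination (1 / ((240 : ℂ) * 1331 * 1331)) * hall + (1 / ((319440 : ℂ) * 1331 * 1331)) * hm

/-- The values of a virtual character. -/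
theorem exists_dual_values [Fintype (IrrCharacter G)] (R : Reps X W mu L) (v : IrrCharacter G → ℤ) :
    ∃ m1 mX mW : ℤ,
      (degv G ⬝ᵥ v : ℤ) = m1 + 1320 * mX + 10 * mW + 240 * ∑ i, v ⬝ᵥ cvec (diffFun (L i) mu) ∧
      ev y v = ((m1 - 11 * mX + 10 * mW - 2 * ∑ i, v ⬝ᵥ cvec (diffFun (L i) mu) : ℤ) : ℂ) ∧
      ∀ w : U, (w : G) ∉ X → (w : G) ∉ W →
        ev (w : G) v = (m1 : ℂ) - mW + ∑ i, ((v ⬝ᵥ cvec (diffFun (L i) mu) : ℤ) : ℂ) * (tsum U (L i) w / 1331) := by
  let φ : U → ℂ := fun a => ev (a : G) v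
  have hφ : IsGeneralizedCharacter U φ := Char.IsGeneralizedCharacter.restrict (isGen_ev v) U
  choose m hm using fun l : ↥U →* ℂˣ =>
    Char.IsGeneralizedCharacter.classInner_int hφ (Char.isGeneralizedCharacter_of_isCharacter (isCharacter_lam l))
  have hinv : ∀ (n : normalizer (U : Set G)) l, m (tw n l) = m l := by
    intro n l
    have : (m (tw n l) : ℂ) = m l := by
      rw [← hm, ← hm, classInner, classInner]
      congr 1
      have hb : Function.Bijective (conjA (A := U) n) := Finite.injective_iff_bijective.1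
        ((injective_iff_map_eq_one _).2 fun a ha => C.conjA_eq_one n ha)
      refine Fintype.sum_bijective (conjA n) hb _ _ fun a => ?_
      rw [show φ a = φ (conjA n a) from ev_class v (isConj_iff.2 ⟨(n : G), by simp [conjA, mul_assoc]⟩)]
      rfl
    exact_mod_cast this
  have hk : ∀ i, m (L i) = m mu + v ⬝ᵥ cvec (diffFun (L i) mu) := by
    intro i
    have h := cvec_inner (isGen_ev v) (C.isGen_diffFun (L i) mu)
    rw [cvec_ev, diffFun, Char.frobenius_reciprocity' U _
      (Char.IsGeneralizedCharacter.isClassFunction (isGen_ev v)), Char.classInner_sub_right, hm, hm] at h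
    have h' : ((m (L i) - m mu : ℤ) : ℂ) = ((v ⬝ᵥ cvec (diffFun (L i) mu) : ℤ) : ℂ) := by
      push_cast; exact h.trans (by push_cast [diffFun]; rfl)
    have := Int.cast_injective h'
    omega
  obtain ⟨nu, hnu⟩ : (Finset.univ.filter fun l : ↥U →* ℂˣ => TrivW W l).Nonempty := by
    rw [← Finset.card_pos, C.card_trivW]; norm_num
  have hval : ∀ a : U, ev (a : G) v = (m 1 : ℂ) * 1 +
      (m mu : ℂ) * ∑ l ∈ Finset.univ.filter (fun l : ↥U →* ℂˣ => TrivX X l), lam U l a +
      (m nu : ℂ) * ∑ l ∈ Finset.univ.filter (fun l : ↥U →* ℂˣ => TrivW W l), lam U l a +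
      ∑ i, (m (L i) : ℂ) * (tsum U (L i) a / 1331) := by
    intro a
    rw [show ev (a : G) v = φ a from rfl, expand_abelian C.comm φ a, C.sum_dual_part, Finset.mul_sum,
      Finset.mul_sum]
    simp only [hm]
    have hX : ∀ l ∈ Finset.univ.filter (fun l : ↥U →* ℂˣ => TrivX X l), m l = m mu := fun l hl => by
      obtain ⟨n, rfl⟩ := C.trans_trivX R.triv (Finset.mem_filter.1 hl).2
      exact hinv n mu
    have hW : ∀ l ∈ Finset.univ.filter (fun l : ↥U →* ℂˣ => TrivW W l), m l = m nu := fun l hl => by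
      obtain ⟨n, rfl⟩ := C.trans_trivW (Finset.mem_filter.1 hnu).2 (Finset.mem_filter.1 hl).2
      exact hinv n nu
    have hM : ∑ i, (m (L i) : ℂ) * (tsum U (L i) a / 1331) =
        ∑ l ∈ Finset.univ.filter (fun l : ↥U →* ℂˣ => Mixed X W l), (m l : ℂ) * lam U l a := by
      have h := R.hsum fun l => (m l : ℂ) * lam U l a
      simp only [hinv, ← Finset.mul_sum] at h
      simp only [← mul_div_assoc, ← Finset.sum_div]
      rw [div_eq_iff (by norm_num : (1331 : ℂ) ≠ 0), mul_comm]
      exact h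
    rw [hM, show lam U 1 a = 1 by simp [lam], Finset.sum_congr rfl fun l hl => by rw [hX l hl],
      Finset.sum_congr (s₁ := Finset.univ.filter fun l : ↥U →* ℂˣ => TrivW W l) rfl fun l hl => by rw [hW l hl]]
  refine ⟨m 1, m mu, m nu, ?_, ?_, fun w hX hW => ?_⟩
  · have h := hval 1
    rw [OneMemClass.coe_one, ev_one] at h
    simp only [lam_one_apply, Finset.sum_const, C.card_trivX, C.card_trivW, C.tsum_one, hk] at h
    have h' : ((degv G ⬝ᵥ v : ℤ) : ℂ) =
        ((m 1 + 1320 * m mu + 10 * m nu + 240 * ∑ i, v ⬝ᵥ cvec (diffFun (L i) mu) : ℤ) : ℂ) := by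
      rw [h]; push_cast; simp only [Fin.sum_univ_five]; ring
    exact Int.cast_injective h'
  · have h := hval ⟨y, C.W_le C.y_mem⟩
    have hy1 : (⟨y, C.W_le C.y_mem⟩ : U) ≠ 1 := fun e => C.y_ne (congrArg Subtype.val e)
    obtain ⟨e1, e2⟩ := (Reps.sums_at C R).1 ⟨y, C.W_le C.y_mem⟩ C.y_mem hy1
    rw [e1, e2, Finset.sum_congr rfl fun i _ => by
      rw [C.tsum_W (L i) (a := ⟨y, C.W_le C.y_mem⟩) C.y_mem hy1, C.sum_Ws.2 (R.mixed i).2, hk]] at h
    rw [h]
    simp only [Fin.sum_univ_five]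
    push_cast
    ring
  · obtain ⟨e1, e2⟩ := (Reps.sums_at C R).2 w hX hW
    rw [hval w, e1, e2]
    simp only [hk, Int.cast_add, add_mul, Finset.sum_add_distrib, ← Finset.mul_sum, Reps.sum_theta C R hX hW]
    ring

end Reps

end Cfsg.Agent.J4Type.ElevenCtx
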