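import Cfsg.Agent.EqLemmas
import Cfsg.Agent.Lib.AbelianSylow.Chars.Vec

/-!
# Five vectors of norm three (helper84; for the exceptional characters of an abelian Sylow 11-subgroup)

* `ElevenVec.sunflower` : norm 3, products 2, degree 0 imply `v i = W + Y i` with orthogonal units `Y i`
-/

set_option autoImplicit false
set_option linter.unusedSectionVars false

namespace Cfsg.Agent.J4Type.ElevenVec

open Matrix Cfsg.Agent.AbelianSylow.Chars

variable {X : Type*} [Fintype X] [DecidableEq X] {deg : X → ℤ}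

theorem sunflower (hdeg : ∀ x, 0 < deg x) {n : ℕ} {v : Fin (n + 4) → X → ℤ}
    (hv : ∀ i j, v i ⬝ᵥ v j = if i = j then 3 else 2) (hd : ∀ i, deg ⬝ᵥ v i = 0) :
    ∃ (W : X → ℤ) (Y : Fin (n + 4) → X → ℤ) (D : ℤ), (∀ i, v i = W + Y i) ∧ W ⬝ᵥ W = 2 ∧
      (∀ i j, Y i ⬝ᵥ Y j = if i = j then 1 else 0) ∧ (∀ i, W ⬝ᵥ Y i = 0) ∧ (∀ i, deg ⬝ᵥ Y i = D) ∧
      deg ⬝ᵥ W = -D ∧ D ≠ 0 := by
  set d : Fin (n + 4) → X → ℤ := fun i => v i - v 0 with hdd
  have ddot : ∀ i j, d i ⬝ᵥ d j =
      (if i = j then 3 else 2) - (if i = 0 then 3 else 2) - (if 0 = j then 3 else 2) + 3 := fun i j => by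
    simp only [hdd, sub_dotProduct, dotProduct_sub, hv, if_true]
    ring
  have ddeg : ∀ i, deg ⬝ᵥ d i = 0 := fun i => by simp only [hdd, dotProduct_sub, hd]; norm_num
  have h10 : (1 : Fin (n + 4)) ≠ 0 := by simp [Fin.ext_iff, Fin.val_one]
  have h20 : (2 : Fin (n + 4)) ≠ 0 := by simp [Fin.ext_iff, Nat.mod_eq_of_lt (show 2 < n + 4 by omega)]
  have h21 : (1 : Fin (n + 4)) ≠ 2 := by
    simp [Fin.ext_iff, Fin.val_one, Nat.mod_eq_of_lt (show 2 < n + 4 by omega)]
  obtain ⟨y0, y1, y2, e1, e2, n0, n1, n2, o01, o02, o12⟩ := Vec.exists_three hdeg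
    (v := d 1) (v' := d 2) (by simp [ddot, h10, Ne.symm h10]) (by simp [ddot, h20, Ne.symm h20])
    (by simp [ddot, h10, Ne.symm h20, h21]) (ddeg 1) (ddeg 2)
  have hy1 : deg ⬝ᵥ y1 = deg ⬝ᵥ y0 := by
    have := ddeg 1; rw [e1, dotProduct_sub] at this; omega
  have hy2 : deg ⬝ᵥ y2 = deg ⬝ᵥ y0 := by
    have := ddeg 2; rw [e2, dotProduct_sub] at this; omega
  have hy0 := Vec.deg_ne hdeg n0
  set Y : Fin (n + 4) → X → ℤ := fun i => d i + y0 with hY
  have hd0 : ∀ i, i ≠ 0 → d i ⬝ᵥ y0 = -1 := by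
    intro i hi
    by_cases hi1 : i = 1
    · subst hi1; rw [e1, sub_dotProduct, n0, dotProduct_comm, o01]; rfl
    by_cases hi2 : i = 2
    · subst hi2; rw [e2, sub_dotProduct, n0, dotProduct_comm, o02]; rfl
    set α := d i ⬝ᵥ y0 with hα
    have a1 : d i ⬝ᵥ y1 = α + 1 := by
      have h := ddot i 1
      rw [if_neg hi1, if_neg hi, if_neg (Ne.symm h10), e1, dotProduct_sub] at h
      omega
    have a2 : d i ⬝ᵥ y2 = α + 1 := by
      have h := ddot i 2
      rw [if_neg hi2, if_neg hi, if_neg (Ne.symm h20), e2, dotProduct_sub] at h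
      omega
    set z := d i - α • y0 - (α + 1) • y1 - (α + 1) • y2 with hz
    have nz : z ⬝ᵥ z = 2 - α ^ 2 - 2 * (α + 1) ^ 2 := by
      simp only [hz, sub_dotProduct, dotProduct_sub, smul_dotProduct, dotProduct_smul, smul_eq_mul,
        dotProduct_comm y0 (d i), dotProduct_comm y1 (d i), dotProduct_comm y2 (d i), dotProduct_comm y1 y0,
        dotProduct_comm y2 y0, dotProduct_comm y2 y1, n0, n1, n2, o01, o02, o12, a1, a2, ← hα,
        ddot, if_neg hi, if_neg (Ne.symm hi), if_true]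
      ring
    have h0 := Vec.dot_self_nonneg z
    rw [nz] at h0
    have : -2 < α ∧ α < 1 := by constructor <;> nlinarith
    rcases (show α = -1 ∨ α = 0 by omega) with e | e
    · exact e
    · exfalso
      rw [e] at nz
      have hz0 := Vec.eq_zero (show z ⬝ᵥ z = 0 by rw [nz]; norm_num)
      have hdi : d i = y1 + y2 := by
        rw [hz, e, zero_smul, sub_zero, zero_add, one_smul, one_smul, sub_eq_zero, sub_eq_iff_eq_add] at hz0
        rw [hz0, add_comm]
      have := ddeg i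
      rw [hdi, dotProduct_add, hy1, hy2] at this
      omega
  have hY0 : ∀ i, i ≠ 0 → Y i ⬝ᵥ y0 = 0 := fun i hi => by
    simp only [hY, add_dotProduct, hd0 i hi, n0]; norm_num
  have hYz : Y 0 = y0 := by simp [hY, hdd]
  have nY : ∀ i j, Y i ⬝ᵥ Y j = if i = j then 1 else 0 := by
    intro i j
    by_cases hi : i = 0
    · subst hi
      by_cases hj : j = 0
      · subst hj; rw [hYz, n0, if_pos rfl]
      · rw [hYz, dotProduct_comm, hY0 j hj, if_neg (Ne.symm hj)]
    by_cases hj : j = 0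
    · subst hj; rw [hYz, hY0 i hi, if_neg hi]
    simp only [hY, add_dotProduct, dotProduct_add, dotProduct_comm y0 (d j), hd0 i hi, hd0 j hj, n0, ddot,
      if_neg hi, if_neg (Ne.symm hj)]
    split_ifs <;> norm_num
  set α := v 0 ⬝ᵥ y0 with hα
  have hva : ∀ i, i ≠ 0 → v 0 ⬝ᵥ Y i = α - 1 := fun i hi => by
    simp only [hY, hdd, dotProduct_add, dotProduct_sub, hv, if_neg (Ne.symm hi), if_true, ← hα]
    ring
  have hα1 : α = 1 := by
    set z := v 0 - α • y0 - (α - 1) • Y 1 - (α - 1) • Y 2 with hz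
    have nz : z ⬝ᵥ z = 3 - α ^ 2 - 2 * (α - 1) ^ 2 := by
      simp only [hz, sub_dotProduct, dotProduct_sub, smul_dotProduct, dotProduct_smul, smul_eq_mul,
        dotProduct_comm y0 (v 0), dotProduct_comm (Y _) (v 0), hva 1 h10, hva 2 h20, dotProduct_comm y0 (Y _),
        hY0 1 h10, hY0 2 h20, nY, n0, ← hα, hv, if_true, h21, Ne.symm h21, if_false]
      ring
    have h0 := Vec.dot_self_nonneg z
    rw [nz] at h0
    have : -1 < α ∧ α < 2 := by constructor <;> nlinarith
    rcases (show α = 0 ∨ α = 1 by omega) with e | e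
    · exfalso
      -- a third vector would make the norm too large
      have h30 : (3 : Fin (n + 4)) ≠ 0 := by simp [Fin.ext_iff, Nat.mod_eq_of_lt (show 3 < n + 4 by omega)]
      have h31 : (1 : Fin (n + 4)) ≠ 3 := by
        simp [Fin.ext_iff, Fin.val_one, Nat.mod_eq_of_lt (show 3 < n + 4 by omega)]
      have h32 : (2 : Fin (n + 4)) ≠ 3 := by
        simp [Fin.ext_iff, Nat.mod_eq_of_lt (show 2 < n + 4 by omega), Nat.mod_eq_of_lt (show 3 < n + 4 by omega)]
      set z' := v 0 + Y 1 + Y 2 + Y 3 with hz'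
      have nz' : z' ⬝ᵥ z' = 0 := by
        simp only [hz', add_dotProduct, dotProduct_add, dotProduct_comm (Y _) (v 0), hva 1 h10, hva 2 h20,
          hva 3 h30, nY, hv, if_true, h21, Ne.symm h21, h31, Ne.symm h31, h32, Ne.symm h32, if_false, e]
        norm_num
      have hz0 := Vec.eq_zero nz'
      have := hd 0
      have hdy : ∀ i, deg ⬝ᵥ Y i = deg ⬝ᵥ y0 := fun i => by simp [hY, dotProduct_add, ddeg]
      have h4 : deg ⬝ᵥ z' = 0 := by rw [hz0, dotProduct_zero]
      rw [hz', dotProduct_add, dotProduct_add, dotProduct_add, hdy, hdy, hdy, this] at h4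
      omega
    · exact e
  refine ⟨v 0 - y0, Y, deg ⬝ᵥ y0, fun i => ?_, ?_, nY, fun i => ?_, fun i => ?_, ?_, hy0⟩
  · simp only [hY, hdd]; abel
  · simp only [sub_dotProduct, dotProduct_sub, hv, if_true, dotProduct_comm y0 (v 0), ← hα, hα1, n0]; norm_num
  · by_cases hi : i = 0
    · subst hi; rw [hYz, sub_dotProduct, ← hα, hα1, n0]; norm_num
    · rw [sub_dotProduct, hva i hi, dotProduct_comm, hY0 i hi, hα1]; norm_num
  · simp only [hY, dotProduct_add, ddeg, zero_add]
  · rw [dotProduct_sub, hd 0, zero_sub]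

end Cfsg.Agent.J4Type.ElevenVec
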