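import Cfsg.Agent.EqLemmas
import Cfsg.Agent.Lib.J4Type.ElevenValues
import Cfsg.Agent.Lib.J4Type.ElevenVec

/-!
# Abelian Sylow 11-subgroup in J4 type: the degree conditions (helper84)

* `ElevenCtx.exists_degrees` : an `ElevenCtx` gives numbers with `ElevenDegrees`
-/

set_option autoImplicit false
set_option linter.unusedSectionVars false

namespace Cfsg.Agent.J4Type.ElevenCtx

open Matrix Subgroup ReeCover Cfsg.Agent.AbelianSylow.Chars ElevenTools
open scoped ComplexConjugate Classical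

universe u

variable {G : Type u} [Group G] {U X W : Subgroup G} {z t y s : G}

/-- Orthogonal units made of the principal one, five further ones and two more. -/
theorem units_orth {ι : Type*} [Fintype ι] [DecidableEq ι] {E A B : ι → ℤ} {Y : Fin 5 → ι → ℤ}
    (hE : E ⬝ᵥ E = 1) (hA : A ⬝ᵥ A = 1) (hB : B ⬝ᵥ B = 1) (hY : ∀ i j, Y i ⬝ᵥ Y j = if i = j then 1 else 0)
    (hEA : E ⬝ᵥ A = 0) (hEB : E ⬝ᵥ B = 0) (hEY : ∀ i, E ⬝ᵥ Y i = 0) (hAB : A ⬝ᵥ B = 0)
    (hAY : ∀ i, A ⬝ᵥ Y i = 0) (hBY : ∀ i, B ⬝ᵥ Y i = 0) (p q : Unit ⊕ (Fin 5 ⊕ Bool)) :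
    Sum.elim (fun _ => E) (Sum.elim Y fun b => bif b then A else B) p ⬝ᵥ
      Sum.elim (fun _ => E) (Sum.elim Y fun b => bif b then A else B) q = if p = q then 1 else 0 := by
  rcases p with _ | i | _ | _ <;> rcases q with _ | j | _ | _ <;>
    simp [hE, hA, hB, hY, hEA, hEB, hEY, hAB, hAY, hBY, dotProduct_comm A E, dotProduct_comm B E,
      dotProduct_comm B A, dotProduct_comm (Y _) E, dotProduct_comm (Y _) A, dotProduct_comm (Y _) B]

variable (C : ElevenCtx U X W z t y s) [Finite G]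
include C

theorem exists_degrees : ∃ e a b re ra rb P Q R Z ZA ZB T TA TB c sa sb : ℤ,
    ElevenDegrees (Nat.card G) (Nat.card ↥(centralizer ({t} : Set G)))
      (Nat.card ↥(centralizer ({z} : Set G))) e a b re ra rb P Q R Z ZA ZB T TA TB c sa sb := by
  letI := Fintype.ofFinite G
  letI := Fintype.ofFinite ↥U
  letI := Fintype.ofFinite ↥(normalizer (U : Set G))
  haveI : Finite (↥U →* ℂˣ) := Nat.finite_of_card_ne_zero (by
    rw [card_dual C.comm, C.card_U]; norm_num)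
  letI := Fintype.ofFinite (↥U →* ℂˣ)
  letI := Fintype.ofFinite (IrrCharacter G)
  obtain ⟨mu, L, hR⟩ := C.exists_Reps
  set v : Fin (1 + 4) → IrrCharacter G → ℤ := fun i => cvec (diffFun (L i) mu) with hv
  have hgen : ∀ i, IsGeneralizedCharacter G (diffFun (L i) mu) := fun i => C.isGen_diffFun _ _
  have hvv : ∀ i j, v i ⬝ᵥ v j = if i = j then 3 else 2 := fun i j => by
    have h := (cvec_inner (hgen i) (hgen j)).symm.trans (Reps.F_inner C hR i j)
    exact_mod_cast h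
  have hv1 : ∀ i, degv G ⬝ᵥ v i = 0 := fun i => cvec_deg (hgen i) (C.diffFun_one _ _)
  obtain ⟨W0, Y, D, hsplit, hW2, hY, hWY, hDY, hDW, hD⟩ := ElevenVec.sunflower (n := 1) degv_pos hvv hv1
  obtain ⟨A, B, rfl, hA, hB, hAB⟩ := Vec.split_two hW2
  have hY1 : ∀ i, Y i ⬝ᵥ Y i = 1 := fun i => by rw [hY, if_pos rfl]
  have hAY : ∀ i, A ⬝ᵥ Y i = 0 := fun i => (Vec.dot_pair hA hB hAB (hY1 i) (hWY i)).1
  have hBY : ∀ i, B ⬝ᵥ Y i = 0 := fun i => (Vec.dot_pair hA hB hAB (hY1 i) (hWY i)).2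
  -- the principal character
  let one : IrrCharacter G := ⟨1, Char.isIrrCharacter_one⟩
  set E : IrrCharacter G → ℤ := Pi.single one 1 with hE
  have hv0 : ∀ i, A one + B one + Y i one = 0 := fun i => by
    have h := cvec_spec (hgen i) one
    rw [show ((one : IrrCharacter G) : G → ℂ) = 1 from rfl, Reps.inner_one C hR i] at h
    have h' : v i one = 0 := by exact_mod_cast h.symm
    rw [hsplit i] at h'
    exact h'
  have hat : ∀ {p q : IrrCharacter G → ℤ}, p ⬝ᵥ p = 1 → p ⬝ᵥ q = 0 → p one ≠ 0 → q one = 0 := by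
    intro p q hp hpq hne
    obtain ⟨x, σ, hσ, rfl⟩ := Vec.unit_eq hp
    have hx : x = one := by
      by_contra hx; exact hne (Pi.single_eq_of_ne (Ne.symm hx) _)
    subst hx
    rw [single_dotProduct] at hpq
    exact (mul_eq_zero.1 hpq).resolve_left (by rcases hσ with rfl | rfl <;> norm_num)
  have hY0 : ∀ i, Y i one = 0 := by
    intro i
    by_contra hne
    obtain ⟨j, hj⟩ : ∃ j, j ≠ i := exists_ne i
    have h1 := hat (hY1 i) (by rw [hY, if_neg (Ne.symm hj)]) hne (q := Y j)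
    have := hv0 i
    have := hv0 j
    omega
  have hA0 : A one = 0 := by
    by_contra hne
    have h1 := hat hA hAB hne
    have := hv0 0
    have := hY0 0
    omega
  have hB0 : B one = 0 := by have := hv0 0; have := hY0 0; omega
  have horth := units_orth (E := E) (by rw [hE, single_dotProduct, Pi.single_eq_same, one_mul]) hA hB hY
    (by rw [hE, single_dotProduct, hA0, mul_zero]) (by rw [hE, single_dotProduct, hB0, mul_zero])
    (fun i => by rw [hE, single_dotProduct, hY0 i, mul_zero]) hAB hAY hBY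
  have hbound : ∀ g : G, 1 + ((∑ i, Complex.normSq (ev g (Y i))) +
      (Complex.normSq (ev g A) + Complex.normSq (ev g B))) ≤ (Nat.card ↥(centralizer ({g} : Set G)) : ℝ) := by
    intro g
    refine le_of_eq_of_le ?_ (norm_le g _ horth)
    rw [Fintype.sum_sum_type, Fintype.sum_sum_type, Fintype.sum_bool]
    simp [hE, ev_single, one]
  have hF : ∀ (g : G) i, ev g A + ev g B + ev g (Y i) = diffFun (L i) mu g := fun g i => by
    rw [← ev_add, ← ev_add, ← hsplit i]; exact ev_cvec (hgen i) g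
  have hint : ∀ {g : G}, (∀ χ : IrrCharacter G, ∃ k : ℤ, (χ : G → ℂ) g = k) → 2 ∣ orderOf g →
      ∀ i, valv g ⬝ᵥ Y i = -(valv g ⬝ᵥ A) - valv g ⬝ᵥ B := by
    intro g hg h2 i
    have h := hF g i
    rw [C.diffFun_off _ _ h2, ev_int hg, ev_int hg, ev_int hg] at h
    have h' : valv g ⬝ᵥ A + valv g ⬝ᵥ B + valv g ⬝ᵥ Y i = 0 := by exact_mod_cast h
    omega
  have hnorm : ∀ {g : G}, (∀ χ : IrrCharacter G, ∃ k : ℤ, (χ : G → ℂ) g = k) → 2 ∣ orderOf g →
      5 * (valv g ⬝ᵥ Y 0) ^ 2 + (valv g ⬝ᵥ A) ^ 2 + (valv g ⬝ᵥ B) ^ 2 + 1 ≤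
        (Nat.card ↥(centralizer ({g} : Set G)) : ℤ) := by
    intro g hg h2
    have h := hbound g
    simp only [ev_int hg, hint hg h2, Complex.normSq_intCast, Finset.sum_const, Finset.card_univ,
      Fintype.card_fin, nsmul_eq_mul] at h
    rw [hint hg h2]
    push_cast at h
    rify
    linarith
  -- the multiplicities
  have kY : ∀ j i, Y j ⬝ᵥ v i = if j = i then 1 else 0 := fun j i => by
    rw [hsplit i, dotProduct_add, dotProduct_add, dotProduct_comm (Y j) A, dotProduct_comm (Y j) B,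
      hAY, hBY, hY]; simp
  have kA : ∀ i, A ⬝ᵥ v i = 1 := fun i => by
    rw [hsplit i, dotProduct_add, dotProduct_add, hA, hAB, hAY]; norm_num
  have kB : ∀ i, B ⬝ᵥ v i = 1 := fun i => by
    rw [hsplit i, dotProduct_add, dotProduct_add, dotProduct_comm B A, hAB, hB, hBY]; norm_num
  obtain ⟨a1, aX, aW, hdA, hyA, hwA⟩ := Reps.exists_dual_values C hR A
  obtain ⟨b1, bX, bW, hdB, hyB, hwB⟩ := Reps.exists_dual_values C hR B
  obtain ⟨e1, eX, eW, hdE, hyE, hwE⟩ := Reps.exists_dual_values C hR (Y 0)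
  simp only [hv] at kY kA kB
  simp only [kA, kB, kY, Finset.sum_const, Finset.card_univ, Fintype.card_fin, Finset.sum_ite_eq,
    Finset.mem_univ, if_true, nsmul_eq_mul, Int.cast_ite, Int.cast_one, Int.cast_zero, ite_mul, one_mul,
    zero_mul, mul_one] at hdA hyA hwA hdB hyB hwB hdE hyE hwE
  norm_num at hdA hyA hdB hyB hdE hyE
  -- the degrees
  set a := degv G ⬝ᵥ A with ha
  set b := degv G ⬝ᵥ B with hb
  have hab : D + a + b = 0 := by rw [dotProduct_add] at hDW; omega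
  have hE0 : degv G ⬝ᵥ Y 0 = D := hDY 0
  have hdvd : ∀ {p : IrrCharacter G → ℤ}, p ⬝ᵥ p = 1 → (degv G ⬝ᵥ p).natAbs ∣ Nat.card G := by
    intro p hp
    obtain ⟨x, σ, hσ, rfl⟩ := Vec.unit_eq hp
    rw [dotProduct_single, Int.natAbs_mul]
    rcases hσ with rfl | rfl <;> simpa [degv] using ClassCount.degree_dvd_card x
  have hnorm1 : 5 * D ^ 2 + a ^ 2 + b ^ 2 + 1 ≤ (Nat.card G : ℤ) := by
    have h := hbound 1
    simp only [ev_one, hDY, Complex.normSq_intCast, Finset.sum_const, Finset.card_univ,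
      Fintype.card_fin, nsmul_eq_mul] at h
    rw [show centralizer ({(1 : G)} : Set G) = ⊤ from top_unique fun g _ =>
      mem_centralizer_singleton_iff.2 (by simp), Subgroup.card_top] at h
    push_cast at h
    rify
    linarith
  -- at `y`
  have hy1 : (⟨y, C.W_le C.y_mem⟩ : U) ≠ 1 := fun e => C.y_ne (congrArg Subtype.val e)
  set ra : ℤ := a1 - 11 * aX + 10 * aW - 10 with hra
  set rb : ℤ := b1 - 11 * bX + 10 * bW - 10 with hrb
  have hyY : ∀ i, ev y (Y i) = ((-ra - rb : ℤ) : ℂ) := fun i => by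
    have h := hF y i
    rw [show diffFun (L i) mu y = 0 from Reps.F_W C hR i (a := ⟨y, C.W_le C.y_mem⟩) C.y_mem hy1,
      hyA, hyB] at h
    push_cast
    rw [hra, hrb]
    push_cast at h ⊢
    linear_combination h
  have hre : e1 - 11 * eX + 10 * eW - 2 = -ra - rb := by
    have h := hyE.symm.trans (hyY 0)
    exact_mod_cast h
  have hnormy : 5 * (-ra - rb) ^ 2 + ra ^ 2 + rb ^ 2 + 1 ≤ 2662 := by
    have h := hbound y
    rw [C.cent_W y C.y_mem C.y_ne] at h
    simp only [hyY, Finset.sum_const, Finset.card_univ, Fintype.card_fin, nsmul_eq_mul] at h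
    rw [show ev y A = ((ra : ℤ) : ℂ) by rw [hyA, hra]; norm_num,
      show ev y B = ((rb : ℤ) : ℂ) by rw [hyB, hrb]; norm_num] at h
    simp only [Complex.normSq_intCast] at h
    push_cast at h
    rify
    linarith
  -- outside `X` and `W`
  obtain ⟨x0, hx0⟩ : ∃ x : ↥X, x ≠ 1 := by
    haveI : Nontrivial ↥X := Finite.one_lt_card_iff_nontrivial.1 (by rw [C.card_X]; norm_num)
    exact exists_ne 1
  set w : U := ⟨(x0 : G) * y, mul_mem (C.X_le x0.2) (C.W_le C.y_mem)⟩ with hw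
  have hwX : (w : G) ∉ X := fun h => C.y_ne (by
    have h2 : y ∈ X ⊓ W := ⟨by simpa [hw] using mul_mem (inv_mem x0.2) h, C.y_mem⟩
    rwa [C.inf_eq, mem_bot] at h2)
  have hwW : (w : G) ∉ W := fun h => hx0 (Subtype.ext (by
    have h2 : (x0 : G) ∈ X ⊓ W := ⟨x0.2, by simpa [hw] using mul_mem h (inv_mem C.y_mem)⟩
    rwa [C.inf_eq, mem_bot] at h2))
  set θ : Fin 5 → ℂ := fun i => tsum U (L i) w / 1331 with hθ
  have hθ1 : ∑ i, θ i = 1 := Reps.sum_theta C hR hwX hwW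
  have hθ2 : ∑ i, θ i * conj (θ i) = 1065 := Reps.sum_theta_sq C hR hwX hwW
  set sa : ℤ := a1 - aW + 1 with hsa
  set sb : ℤ := b1 - bW + 1 with hsb
  have hAw : ev (w : G) A = (sa : ℂ) := by
    rw [hwA w hwX hwW, hθ1, hsa]; push_cast; ring
  have hBw : ev (w : G) B = (sb : ℂ) := by
    rw [hwB w hwX hwW, hθ1, hsb]; push_cast; ring
  have hYw : ∀ i, ev (w : G) (Y i) = ((2 - sa - sb : ℤ) : ℂ) + θ i := fun i => by
    have h := hF (w : G) i
    rw [hAw, hBw, Reps.F_mixed C hR i hwX hwW] at h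
    push_cast
    simp only [hθ]
    linear_combination h
  have hc : e1 - eW = 2 - sa - sb := by
    have h := (hwE w hwX hwW).symm.trans (hYw 0)
    simp only [hθ, Int.cast_sub, Int.cast_ofNat] at h
    have h' : (((e1 - eW : ℤ)) : ℂ) = ((2 - sa - sb : ℤ) : ℂ) := by push_cast; linear_combination h
    exact Int.cast_injective h'
  have hnormw : 5 * (2 - sa - sb) ^ 2 + 2 * (2 - sa - sb) + sa ^ 2 + sb ^ 2 ≤ 265 := by
    have h := hbound (w : G)
    rw [C.cent_mixed _ w.2 hwX hwW, hAw, hBw, Complex.normSq_intCast, Complex.normSq_intCast] at h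
    simp only [hYw] at h
    set c : ℤ := 2 - sa - sb
    have e : ((∑ i, Complex.normSq ((c : ℂ) + θ i) : ℝ) : ℂ) =
        ((5 * (c : ℝ) ^ 2 + 2 * c + 1065 : ℝ) : ℂ) := by
      push_cast
      simp only [← Complex.mul_conj, map_add, map_intCast, add_mul, mul_add, Finset.sum_add_distrib,
        ← Finset.mul_sum, ← Finset.sum_mul, Finset.sum_const, Finset.card_univ, Fintype.card_fin, hθ2,
        ← map_sum, hθ1, map_one, nsmul_eq_mul]
      ring
    rw [Complex.ofReal_injective e] at h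
    push_cast at h
    rify
    linarith
  -- involutions
  have hit : ∀ {g : G}, orderOf g = 2 → ∀ χ : IrrCharacter G, ∃ k : ℤ, (χ : G → ℂ) g = k := fun hg χ => by
    obtain ⟨k, hk, -⟩ := involution_value hg χ; exact ⟨k, hk⟩
  have hmom : ∀ {g : G}, orderOf g = 2 → ∀ {cX cM : ℕ},
      (∀ a ∈ X, a ≠ 1 → ClassCount.fibreCount g g a = cX) →
      (∀ a ∈ U, a ∉ X → a ∉ W → ClassCount.fibreCount g g a = cM) →
      ((valv g ⬝ᵥ A : ℤ) : ℚ) ^ 2 / (a : ℚ) + ((valv g ⬝ᵥ B : ℤ) : ℚ) ^ 2 / (b : ℚ) +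
        ((valv g ⬝ᵥ Y 0 : ℤ) : ℚ) ^ 2 / (D : ℚ) =
      (Nat.card ↥(centralizer ({g} : Set G)) : ℚ) ^ 2 / (Nat.card G : ℚ) *
        (11 * ((cM : ℚ) - cX) / 1331) := by
    intro g hg cX cM hX hU
    have h := moment_eq hg (hgen 0)
    rw [Reps.inner_pairs C hR 0 g hX hU, show cvec (diffFun (L 0) mu) = A + B + Y 0 from hsplit 0,
      mom_add, mom_add, mom_unit g hA, mom_unit g hB, mom_unit g (hY1 0), hE0] at h
    apply (Rat.cast_injective (α := ℂ))
    push_cast at h ⊢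
    exact h
  have hD' : (D : ℚ) ≠ 0 := by exact_mod_cast hD
  have ha0 : a ≠ 0 := degv_ne hA
  have hb0 : b ≠ 0 := degv_ne hB
  have ha' : (a : ℚ) ≠ 0 := by exact_mod_cast ha0
  have hb' : (b : ℚ) ≠ 0 := by exact_mod_cast hb0
  have hG' : (Nat.card G : ℚ) ≠ 0 := Nat.cast_ne_zero.2 Nat.card_pos.ne'
  have h2t : 2 ∣ orderOf t := by rw [C.order_t]
  have h2z : 2 ∣ orderOf z := by rw [C.order_z]
  have hPt := hint (hit C.order_t) h2t 0
  have hPz := hint (hit C.order_z) h2z 0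
  have hDq : (D : ℚ) = -a - b := by exact_mod_cast (show D = -a - b by omega)
  have hmt : ((valv t ⬝ᵥ A) * b - (valv t ⬝ᵥ B) * a) ^ 2 * (Nat.card G : ℤ) =
      11 * (D * a * b) * (Nat.card ↥(centralizer ({t} : Set G)) : ℤ) ^ 2 := by
    have h := hmom C.order_t C.pairs_tX C.pairs_tU
    rw [hPt] at h
    push_cast at h
    field_simp at h
    qify
    rw [hDq] at h ⊢
    linear_combination (-1 / 1331 : ℚ) * h
  have hmz : (valv z ⬝ᵥ A) * b = (valv z ⬝ᵥ B) * a := by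
    have h := hmom C.order_z (cX := 0) (cM := 0)
      (fun x hx hx1 => C.pairs_z x (C.X_le hx) fun hW => hx1 (by
        have h2 : x ∈ X ⊓ W := ⟨hx, hW⟩
        rwa [C.inf_eq, mem_bot] at h2))
      (fun x hx _ hW => C.pairs_z x hx hW)
    rw [hPz] at h
    push_cast at h
    simp only [sub_self, mul_zero, zero_div] at h
    field_simp at h
    rw [hDq] at h
    have h2 : (((valv z ⬝ᵥ A) * b - (valv z ⬝ᵥ B) * a : ℤ) : ℚ) ^ 2 = 0 := by
      push_cast; linear_combination -h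
    have h3 : (valv z ⬝ᵥ A) * b - (valv z ⬝ᵥ B) * a = 0 := by
      exact_mod_cast (pow_eq_zero_iff two_ne_zero).1 h2
    omega
  -- at `y s`
  have hy11 := C.orderOf_y
  have hys : ∀ χ : IrrCharacter G, ∃ k : ℤ, (χ : G → ℂ) (y * s) = k := fun χ => by
    obtain ⟨k, hk, -⟩ := eleven_value hy11 C.order_s C.comm_ys C.conj_ys χ; exact ⟨k, hk⟩
  have h2ys : 2 ∣ orderOf (y * s) := by
    rw [C.comm_ys.orderOf_mul_eq_mul_orderOf_of_coprime (by rw [hy11, C.order_s]; norm_num), C.order_s]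
    exact dvd_mul_left 2 _
  have hst : valv s = valv t := funext fun χ => by
    have e : (χ : G → ℂ) t = (χ : G → ℂ) s :=
      ClassCount.class_apply (Char.IsIrrCharacter.isClassFunction χ.2) C.conj_st
    simp only [valv, e]
  have h11 : ∀ p : IrrCharacter G → ℤ, (11 : ℤ) ∣ valv (y * s) ⬝ᵥ p - valv t ⬝ᵥ p := fun p => by
    rw [← hst]; exact eleven_dvd hy11 C.order_s C.comm_ys C.conj_ys p
  have hPys := hint hys h2ys 0
  have hzt : ¬ IsConj z t := fun hzt => by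
    obtain ⟨x1, hx1⟩ : ∃ x : ↥X, x ≠ 1 := ⟨x0, hx0⟩
    have e : ClassCount.fibreCount z z (x1 : G) = ClassCount.fibreCount t t (x1 : G) :=
      Nat.card_congr (Equiv.subtypeEquivRight fun g =>
        and_congr ⟨fun h => hzt.symm.trans h, fun h => hzt.trans h⟩
          ⟨fun h => hzt.symm.trans h, fun h => hzt.trans h⟩)
    rw [C.pairs_tX _ x1.2 (fun e => hx1 (Subtype.ext e)), C.pairs_z _ (C.X_le x1.2) fun hW => hx1
      (Subtype.ext (by
        have h2 : (x1 : G) ∈ X ⊓ W := ⟨x1.2, hW⟩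
        rwa [C.inf_eq, mem_bot] at h2))] at e
    omega
  have hpar : ∀ {p : IrrCharacter G → ℤ}, p ⬝ᵥ p = 1 → ∀ {r : ℤ}, ev y p = r →
      (2 : ℤ) ∣ valv (y * s) ⬝ᵥ p - r := fun hp _ hr =>
    two_dvd_unit hy11 C.order_s C.comm_ys hp (ev_int hys _) hr
  have hone : ∀ {g : G}, (∀ χ : IrrCharacter G, ∃ k : ℤ, (χ : G → ℂ) g = k) → valv g ⬝ᵥ E = 1 := by
    intro g hg
    have h : valv g one = 1 := valv_eq (by simp [one])
    rw [hE, dotProduct_single, h, mul_one]
  have hgram : (5 * (valv z ⬝ᵥ Y 0) * (valv t ⬝ᵥ Y 0) + (valv z ⬝ᵥ A) * (valv t ⬝ᵥ A) +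
      (valv z ⬝ᵥ B) * (valv t ⬝ᵥ B) + 1) ^ 2 ≤
    ((Nat.card ↥(centralizer ({z} : Set G)) : ℤ) -
      (5 * (valv z ⬝ᵥ Y 0) ^ 2 + (valv z ⬝ᵥ A) ^ 2 + (valv z ⬝ᵥ B) ^ 2 + 1)) *
    ((Nat.card ↥(centralizer ({t} : Set G)) : ℤ) -
      (5 * (valv t ⬝ᵥ Y 0) ^ 2 + (valv t ⬝ᵥ A) ^ 2 + (valv t ⬝ᵥ B) ^ 2 + 1)) := by
    have h := ElevenTools.gram _ horth (valv z) (valv t)
    rw [valv_dot (hit C.order_z) (hit C.order_t), valv_dot (hit C.order_z) (hit C.order_z),
      valv_dot (hit C.order_t) (hit C.order_t), if_neg hzt, if_pos (IsConj.refl z), if_pos (IsConj.refl t)] at h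
    simp only [Fintype.sum_sum_type, Fintype.sum_bool, Fintype.sum_unique, Sum.elim_inl, Sum.elim_inr,
      cond_true, cond_false, hone (hit C.order_z), hone (hit C.order_t), hint (hit C.order_t) h2t,
      hint (hit C.order_z) h2z, Finset.sum_const, Finset.card_univ, Fintype.card_fin, Fintype.card_unit,
      nsmul_eq_mul] at h
    rw [hPz, hPt]
    push_cast at h
    linear_combination h
  have h128 : ∀ p : IrrCharacter G → ℤ, (128 : ℤ) ∣ degv G ⬝ᵥ p - valv z ⬝ᵥ p := fun p =>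
    valv_dvd (fun χ => by
      obtain ⟨k, hk⟩ := C.mod_two7 _ (Char.IsIrrCharacter.isCharacter χ.2)
      exact ⟨k, by rw [hk]; norm_num⟩) p (hit C.order_z)
  have h2048 : ∀ p : IrrCharacter G → ℤ,
      (2048 : ℤ) ∣ degv G ⬝ᵥ p + 1771 * (valv z ⬝ᵥ p) + 276 * (valv t ⬝ᵥ p) := fun p =>
    valv_dvd_two (fun χ => by
      obtain ⟨k, hk⟩ := C.mod_two11 _ (Char.IsIrrCharacter.isCharacter χ.2)
      refine ⟨k, ?_⟩
      push_cast
      exact hk) (hit C.order_z) (hit C.order_t) p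
  have hnys := hnorm hys h2ys
  rw [C.cent_ys] at hnys
  refine ⟨D, a, b, -ra - rb, ra, rb, valv t ⬝ᵥ Y 0, valv t ⬝ᵥ A, valv t ⬝ᵥ B, valv z ⬝ᵥ Y 0, valv z ⬝ᵥ A,
    valv z ⬝ᵥ B, valv (y * s) ⬝ᵥ Y 0, valv (y * s) ⬝ᵥ A, valv (y * s) ⬝ᵥ B, 2 - sa - sb, sa, sb,
    ?_⟩
  refine
    { e_ne := hD, a_ne := ha0, b_ne := hb0, sum := hab
      dvd_e := hE0 ▸ hdvd (hY1 0), dvd_a := hdvd hA, dvd_b := hdvd hB
      norm := hnorm1, mod_e := ?_, mod_a := ?_, mod_b := ?_
      sum_y := by ring, norm_y := hnormy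
      sum_t := by omega, moment_t := hmt, norm_t := hnorm (hit C.order_t) h2t
      parity_t := ⟨hE0 ▸ parity C.order_t _, parity C.order_t _, parity C.order_t _⟩
      sum_z := by omega, moment_z := ?_, norm_z := hnorm (hit C.order_z) h2z
      sum_ys := by omega, norm_ys := hnys, mod_ys := ⟨h11 _, h11 _, h11 _⟩
      parity_ys := ⟨hpar (hY1 0) (hyY 0), hpar hA (by rw [hyA, hra]; norm_num),
        hpar hB (by rw [hyB, hrb]; norm_num)⟩
      omega_t := ⟨hE0 ▸ omega_dvd (hit C.order_t) (hY1 0), omega_dvd (hit C.order_t) hA,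
        omega_dvd (hit C.order_t) hB⟩
      omega_z := ⟨hE0 ▸ omega_dvd (hit C.order_z) (hY1 0), omega_dvd (hit C.order_z) hA,
        omega_dvd (hit C.order_z) hB⟩
      gram := hgram
      mod_128 := ⟨hE0 ▸ h128 _, h128 _, h128 _⟩
      mod_2048 := ⟨hE0 ▸ h2048 _, h2048 _, h2048 _⟩
      sum_w := by ring, norm_w := hnormw, mod_w := ?_ }
  · rw [← hre, ← hE0, hdE]; omega
  · rw [hdA, hra]; omega
  · rw [hdB, hrb]; omega
  · rw [hPz, show D = -a - b by omega]
    exact ⟨by linear_combination hmz, by linear_combination -hmz⟩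
  · rw [← hc, ← hE0, hdE, hdA, hdB, hsa, hsb]; omega

end Cfsg.Agent.J4Type.ElevenCtx
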