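import Cfsg.Agent.EqLemmas
import Cfsg.Agent.Lib.J4Type.ElevenBase
import Cfsg.Agent.Lib.J4Type.ElevenChar
import Cfsg.Agent.Lib.J4Type.ElevenArith

/-!
# J4 type: the Sylow 11-subgroup is not abelian (helper84)

* `ElevenBase.not_comm` : the local facts exclude an abelian `U`
-/

set_option autoImplicit false
set_option linter.unusedSectionVars false
set_option linter.style.haveILetI false

namespace Cfsg.Agent.J4Type.ElevenAbelian

open Subgroup
open scoped Classical

universe u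

variable {G : Type u} [Group G]

/-- The elements of an abelian subgroup inverted by `g`. -/
def invSub (U : Subgroup G) (hU : ∀ a ∈ U, ∀ b ∈ U, a * b = b * a) (g : G) : Subgroup G where
  carrier := {a | a ∈ U ∧ g * a * g⁻¹ = a⁻¹}
  one_mem' := ⟨one_mem U, by simp⟩
  mul_mem' := fun {a b} ha hb => ⟨mul_mem ha.1 hb.1, by
    rw [show g * (a * b) * g⁻¹ = g * a * g⁻¹ * (g * b * g⁻¹) by group, ha.2, hb.2, ← mul_inv_rev,
      hU b hb.1 a ha.1]⟩
  inv_mem' := fun {a} ha => ⟨inv_mem ha.1, by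
    rw [show g * a⁻¹ * g⁻¹ = (g * a * g⁻¹)⁻¹ by group, ha.2]⟩

theorem mem_invSub {U : Subgroup G} {hU : ∀ a ∈ U, ∀ b ∈ U, a * b = b * a} {g a : G} :
    a ∈ invSub U hU g ↔ a ∈ U ∧ g * a * g⁻¹ = a⁻¹ := Iff.rfl

theorem pow_card_mem {U : Subgroup G} (hcard : Nat.card ↥U = 1331) {a : G} (ha : a ∈ U) : a ^ 1331 = 1 := by
  have h : (⟨a, ha⟩ : U) ^ 1331 = 1 := by rw [← hcard]; exact pow_card_eq_one'
  exact congrArg Subtype.val h

theorem eq_one_of_eq_inv {U : Subgroup G} (hcard : Nat.card ↥U = 1331) {a : G} (ha : a ∈ U) (h : a = a⁻¹) :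
    a = 1 := by
  have h2 : a ^ 2 = 1 := by rw [pow_two]; exact mul_eq_one_iff_eq_inv.2 h
  calc a = a ^ 1331 := by rw [show 1331 = 2 * 665 + 1 from rfl, pow_succ, pow_mul, h2, one_pow, one_mul]
    _ = 1 := pow_card_mem hcard ha

/-- Fixed times inverted. -/
theorem split_card {U K : Subgroup G} (hU : ∀ a ∈ U, ∀ b ∈ U, a * b = b * a) (hcard : Nat.card ↥U = 1331)
    {g : G} (hgg : g * g = 1) (hK : K ≤ U) (hgK : ∀ a ∈ K, g * a * g⁻¹ ∈ K) :
    Nat.card ↥(K ⊓ centralizer ({g} : Set G)) * Nat.card ↥(K ⊓ invSub U hU g) = Nat.card ↥K := by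
  rw [← Nat.card_prod]
  refine Nat.card_congr (Equiv.ofBijective (fun p => (⟨(p.1 : G) * p.2, mul_mem p.1.2.1 p.2.2.1⟩ : K)) ⟨?_, ?_⟩)
  · rintro ⟨⟨f, hf, hf'⟩, ⟨i, hi, hi'⟩⟩ ⟨⟨f', hf1, hf1'⟩, ⟨i', hi1, hi1'⟩⟩ e
    have e' : f * i = f' * i' := congrArg Subtype.val e
    have hc : f'⁻¹ * f = i' * i⁻¹ := by
      rw [eq_mul_inv_iff_mul_eq, mul_assoc, e', inv_mul_cancel_left]
    have h1 : f'⁻¹ * f ∈ centralizer ({g} : Set G) := mul_mem (inv_mem hf1') hf'
    have h2 : i' * i⁻¹ ∈ invSub U hU g := mul_mem hi1' (inv_mem hi')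
    have hfix : g * (f'⁻¹ * f) * g⁻¹ = f'⁻¹ * f := by
      rw [← mem_centralizer_singleton_iff.1 h1, mul_inv_cancel_right]
    have h3 := (mem_invSub.1 h2).2
    rw [← hc, hfix] at h3
    have h4 := eq_one_of_eq_inv hcard (hK (K.mul_mem (K.inv_mem hf1) hf)) h3
    have hf2 : f = f' := (inv_mul_eq_one.1 h4).symm
    subst hf2
    exact Prod.ext rfl (Subtype.ext (mul_left_cancel e'))
  · rintro ⟨a, ha⟩
    set b := a ^ 666 with hb
    have hbK : b ∈ K := pow_mem ha _
    have hab : b * b = a := by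
      rw [hb, ← pow_add, show 666 + 666 = 1331 + 1 from rfl, pow_succ, pow_card_mem hcard (hK ha), one_mul]
    have hgb := hgK b hbK
    have hc := hU b (hK hbK) (g * b * g⁻¹) (hK hgb)
    have hinv2 : g * (g * b * g⁻¹) * g⁻¹ = b := by
      rw [show g * (g * b * g⁻¹) * g⁻¹ = (g * g) * b * (g * g)⁻¹ by group, hgg, inv_one, mul_one, one_mul]
    have hf : g * (b * (g * b * g⁻¹)) * g⁻¹ = b * (g * b * g⁻¹) := by
      rw [show g * (b * (g * b * g⁻¹)) * g⁻¹ = g * b * g⁻¹ * (g * (g * b * g⁻¹) * g⁻¹) by group, hinv2, hc]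
    have hi : g * (b * (g * b * g⁻¹)⁻¹) * g⁻¹ = (b * (g * b * g⁻¹)⁻¹)⁻¹ := by
      rw [show g * (b * (g * b * g⁻¹)⁻¹) * g⁻¹ = g * b * g⁻¹ * (g * (g * b * g⁻¹) * g⁻¹)⁻¹ by group, hinv2,
        mul_inv_rev, inv_inv]
    refine ⟨(⟨b * (g * b * g⁻¹), mul_mem hbK hgb, mem_centralizer_singleton_iff.2 ?_⟩,
      ⟨b * (g * b * g⁻¹)⁻¹, K.mul_mem hbK (K.inv_mem hgb), hK (K.mul_mem hbK (K.inv_mem hgb)), hi⟩), Subtype.ext ?_⟩
    · calc b * (g * b * g⁻¹) * g = g * (b * (g * b * g⁻¹)) * g⁻¹ * g := by rw [hf]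
        _ = _ := by group
    · show b * (g * b * g⁻¹) * (b * (g * b * g⁻¹)⁻¹) = a
      rw [hc, show g * b * g⁻¹ * b * (b * (g * b * g⁻¹)⁻¹) = g * b * g⁻¹ * (b * b) * (g * b * g⁻¹)⁻¹ by group,
        hab, hU _ (hK hgb) a (hK ha), mul_inv_cancel_right]

/-- An orbit under conjugation. -/
theorem card_orbit [Finite G] (H : Subgroup G) (a : G) :
    Nat.card {b : G // ∃ h ∈ H, h * a * h⁻¹ = b} * Nat.card ↥(H ⊓ centralizer ({a} : Set G)) = Nat.card ↥H := by
  let f : ↥H → {b : G // ∃ h ∈ H, h * a * h⁻¹ = b} := fun h => ⟨(h : G) * a * (h : G)⁻¹, h, h.2, rfl⟩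
  letI := Fintype.ofFinite ↥H
  letI := Fintype.ofFinite {b : G // ∃ h ∈ H, h * a * h⁻¹ = b}
  rw [Nat.card_eq_fintype_card, Nat.card_eq_fintype_card (α := ↥H), ← Finset.card_univ (α := ↥H),
    Finset.card_eq_sum_card_fiberwise (f := f) (t := Finset.univ) fun _ _ => Finset.mem_univ _,
    Finset.sum_congr rfl fun b _ => ?_, Finset.sum_const, smul_eq_mul, Finset.card_univ]
  obtain ⟨b, h0, hh0, rfl⟩ := b
  rw [← Fintype.card_subtype, ← Nat.card_eq_fintype_card]
  symm
  refine Nat.card_congr (Equiv.ofBijective (fun c : ↥(H ⊓ centralizer ({a} : Set G)) =>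
    (⟨⟨h0 * c, mul_mem hh0 c.2.1⟩, Subtype.ext ?_⟩ : {h : H // f h = ⟨h0 * a * h0⁻¹, h0, hh0, rfl⟩})) ⟨?_, ?_⟩)
  · show h0 * (c : G) * a * (h0 * (c : G))⁻¹ = h0 * a * h0⁻¹
    rw [mul_assoc h0, mem_centralizer_singleton_iff.1 c.2.2]; group
  · intro c c' e
    exact Subtype.ext (mul_left_cancel (congrArg (fun p => ((p.1 : H) : G)) e))
  · rintro ⟨⟨h, hh⟩, e⟩
    have e' : h * a * h⁻¹ = h0 * a * h0⁻¹ := congrArg Subtype.val e
    refine ⟨⟨h0⁻¹ * h, H.mul_mem (H.inv_mem hh0) hh, mem_centralizer_singleton_iff.2 ?_⟩, ?_⟩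
    · calc h0⁻¹ * h * a = h0⁻¹ * (h * a * h⁻¹) * h := by group
        _ = h0⁻¹ * (h0 * a * h0⁻¹) * h := by rw [e']
        _ = a * (h0⁻¹ * h) := by group
    · exact Subtype.ext (Subtype.ext (mul_inv_cancel_left h0 h))

variable {U : Subgroup G} {z t x y : G} (B : ElevenBase U z t x y)
variable (hU : ∀ a ∈ U, ∀ b ∈ U, a * b = b * a)
include B hU

theorem finite' : Finite G := Nat.finite_of_card_ne_zero (by rw [B.card_G]; norm_num)

theorem X_le : zpowers x ≤ U := zpowers_le.2 B.x_mem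

theorem card_X : Nat.card ↥(zpowers x) = 11 := by rw [Nat.card_zpowers, B.order_x]

theorem X_gen {a : G} (ha : a ∈ zpowers x) (ha1 : a ≠ 1) : x ∈ zpowers a := by
  haveI : Fact (Nat.Prime 11) := ⟨by norm_num⟩
  have h := mem_zpowers_of_prime_card (card_X B hU) (g := (⟨a, ha⟩ : zpowers x))
    (g' := (⟨x, mem_zpowers x⟩ : zpowers x)) (fun e => ha1 (congrArg Subtype.val e))
  obtain ⟨k, hk⟩ := mem_zpowers_iff.1 h
  exact mem_zpowers_iff.2 ⟨k, by simpa using congrArg Subtype.val hk⟩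

theorem conj_inv_X {g : G} (hg : g * x * g⁻¹ = x⁻¹) {a : G} (ha : a ∈ zpowers x) : g * a * g⁻¹ = a⁻¹ := by
  obtain ⟨k, rfl⟩ := mem_zpowers_iff.1 ha
  rw [← conj_zpow, hg, inv_zpow]

theorem norm_of_inv {g : G} (hg : g * x * g⁻¹ = x⁻¹) : g ∈ normalizer (zpowers x : Set G) := by
  refine mem_set_normalizer_iff.2 fun a => ⟨fun ha => ?_, fun ha => ?_⟩
  · show g * a * g⁻¹ ∈ zpowers x
    rw [conj_inv_X B hU hg ha]; exact inv_mem ha
  · obtain ⟨k, hk⟩ := mem_zpowers_iff.1 ha
    show a ∈ zpowers x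
    refine mem_zpowers_iff.2 ⟨-k, ?_⟩
    have h2 := congrArg (fun b => g⁻¹ * b * g) hk
    have hx : g⁻¹ * x * g = x⁻¹ := by
      calc g⁻¹ * x * g = g⁻¹ * (g * x * g⁻¹)⁻¹ * g := by rw [hg, inv_inv]
        _ = x⁻¹ := by group
    rw [show g⁻¹ * x ^ k * g = (g⁻¹ * x * g) ^ k by simpa using (conj_zpow (a := g⁻¹) (b := x) (i := k)).symm, hx,
      inv_zpow, ← zpow_neg, show g⁻¹ * (g * a * g⁻¹) * g = a by group] at h2
    exact h2

/-- The complement of `zpowers x`. -/
theorem fixed_z {a : G} (ha : a ∈ U) (h : Commute a z) : a ∈ zpowers x := by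
  refine B.fix z (mem_centralizer_singleton_iff.2 B.comm_xz.eq.symm) (fun hz => ?_) a ha ?_
  · have h2 := pow_card_mem B.card_U hz
    have h3 := orderOf_dvd_of_pow_eq_one h2
    rw [B.order_z] at h3
    norm_num at h3
  · rw [← h.eq, mul_inv_cancel_right, mul_inv_cancel]; exact one_mem _

theorem card_W : Nat.card ↥(invSub U hU z) = 121 := by
  have hzU : ∀ a ∈ U, z * a * z⁻¹ ∈ U := fun a ha => (mem_set_normalizer_iff.1 B.z_norm a).1 ha
  have h := split_card hU B.card_U (ClassCount.mul_self_eq_one_of_orderOf B.order_z) le_rfl hzU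
  have hf : U ⊓ centralizer ({z} : Set G) = zpowers x := le_antisymm
    (fun a ha => fixed_z B hU ha.1 (mem_centralizer_singleton_iff.1 ha.2))
    (zpowers_le.2 ⟨B.x_mem, mem_centralizer_singleton_iff.2 B.comm_xz.eq⟩)
  rw [hf, card_X B hU, inf_eq_right.2 (fun a ha => ha.1), B.card_U] at h
  omega

theorem W_inf {a : G} (hX : a ∈ zpowers x) (hW : a ∈ invSub U hU z) : a = 1 := by
  refine eq_one_of_eq_inv B.card_U hW.1 ?_
  have h : Commute a z := by
    obtain ⟨k, rfl⟩ := mem_zpowers_iff.1 hX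
    exact B.comm_xz.zpow_left k
  have h2 := hW.2
  rwa [← h.eq, mul_inv_cancel_right] at h2

theorem exists_split {a : G} (ha : a ∈ U) : ∃ f w, f ∈ zpowers x ∧ w ∈ invSub U hU z ∧ a = f * w := by
  let φ : ↥(zpowers x) × ↥(invSub U hU z) → ↥U := fun p =>
    ⟨(p.1 : G) * p.2, mul_mem (X_le B hU p.1.2) p.2.2.1⟩
  have hinj : Function.Injective φ := by
    rintro ⟨f, w⟩ ⟨f', w'⟩ e
    have e' : (f : G) * w = f' * w' := congrArg Subtype.val e
    have hc : (f' : G)⁻¹ * f = w' * (w : G)⁻¹ := by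
      rw [eq_mul_inv_iff_mul_eq, mul_assoc, e', inv_mul_cancel_left]
    have h1 : (f' : G)⁻¹ * f = 1 := W_inf B hU (mul_mem (inv_mem f'.2) f.2) (hc ▸ mul_mem w'.2 (inv_mem w.2))
    have h2 : f = f' := Subtype.ext (inv_mul_eq_one.1 h1).symm
    subst h2
    exact Prod.ext rfl (Subtype.ext (mul_left_cancel e'))
  haveI := finite' B hU
  have hc : Nat.card (↥(zpowers x) × ↥(invSub U hU z)) = Nat.card ↥U := by
    rw [Nat.card_prod, card_X B hU, card_W B hU, B.card_U]
  obtain ⟨⟨f, w⟩, e⟩ := (hinj.bijective_of_nat_card_le hc.ge).2 ⟨a, ha⟩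
  exact ⟨f, w, f.2, w.2, (congrArg Subtype.val e).symm⟩

theorem split_uniq {f f' w w' : G} (hf : f ∈ zpowers x) (hf' : f' ∈ zpowers x) (hw : w ∈ invSub U hU z)
    (hw' : w' ∈ invSub U hU z) (e : f * w = f' * w') : f = f' ∧ w = w' := by
  have hc : f'⁻¹ * f = w' * w⁻¹ := by rw [eq_mul_inv_iff_mul_eq, mul_assoc, e, inv_mul_cancel_left]
  have h1 := W_inf B hU (mul_mem (inv_mem hf') hf) (hc ▸ mul_mem hw' (inv_mem hw))
  have h2 : f = f' := (inv_mul_eq_one.1 h1).symm
  subst h2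
  exact ⟨rfl, mul_left_cancel e⟩

theorem norm_X_W {n : G} (hn : n ∈ normalizer (zpowers x : Set G)) {a : G} (ha : a ∈ invSub U hU z) :
    n * a * n⁻¹ ∈ invSub U hU z := by
  have hnU := mem_set_normalizer_iff.1 (B.U_norm hn)
  refine ⟨(hnU a).1 ha.1, ?_⟩
  have hord : orderOf (n * z * n⁻¹) = 2 := by
    rw [show n * z * n⁻¹ = MulAut.conj n z from rfl, MulEquiv.orderOf_eq, B.order_z]
  have hcent : n * z * n⁻¹ ∈ centralizer ({x} : Set G) := by
    have h1 : n⁻¹ * x * n ∈ zpowers x :=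
      (mem_set_normalizer_iff''.1 hn x).1 (mem_zpowers x)
    obtain ⟨k, hk⟩ := mem_zpowers_iff.1 h1
    have hz : Commute z (n⁻¹ * x * n) := hk ▸ B.comm_xz.symm.zpow_right k
    refine mem_centralizer_singleton_iff.2 ?_
    calc n * z * n⁻¹ * x = n * (z * (n⁻¹ * x * n)) * n⁻¹ := by group
      _ = n * (n⁻¹ * x * n * z) * n⁻¹ := by rw [hz.eq]
      _ = x * (n * z * n⁻¹) := by group
  obtain ⟨u, hu, hu'⟩ := B.invol_x _ hcent hord
  have hna : n * a * n⁻¹ ∈ U := (hnU a).1 ha.1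
  have hzz : ∀ b ∈ U, z * b * z⁻¹ = n * z * n⁻¹ * b * (n * z * n⁻¹)⁻¹ := by
    intro b hb
    rw [← hu', show u * z * u⁻¹ * b * (u * z * u⁻¹)⁻¹ = u * (z * (u⁻¹ * b * u) * z⁻¹) * u⁻¹ by group,
      show u⁻¹ * b * u = b by rw [mul_assoc, hU b hb u hu, inv_mul_cancel_left],
      hU u hu _ ((mem_set_normalizer_iff.1 B.z_norm b).1 hb), mul_inv_cancel_right]
  rw [hzz _ hna, show n * z * n⁻¹ * (n * a * n⁻¹) * (n * z * n⁻¹)⁻¹ = n * (z * a * z⁻¹) * n⁻¹ by group, ha.2]
  group

theorem norm_X_X {n : G} (hn : n ∈ normalizer (zpowers x : Set G)) {a : G} (ha : a ∈ zpowers x) :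
    n * a * n⁻¹ ∈ zpowers x := (mem_set_normalizer_iff.1 hn a).1 ha

theorem t_norm_X : t ∈ normalizer (zpowers x : Set G) := norm_of_inv B hU B.t_inv

theorem fixed_of_inv {g : G} (hg : g * x * g⁻¹ = x⁻¹) {a : G} (ha : a ∈ U) (h : g * a * g⁻¹ = a) :
    a ∈ invSub U hU z := by
  obtain ⟨f, w, hf, hw, rfl⟩ := exists_split B hU ha
  have hgn := norm_of_inv B hU hg
  have e : g * f * g⁻¹ * (g * w * g⁻¹) = f * w := by rw [← h]; group
  have h2 := (split_uniq B hU (norm_X_X B hU hgn hf) hf (norm_X_W B hU hgn hw) hw e).1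
  rw [conj_inv_X B hU hg hf] at h2
  rw [eq_one_of_eq_inv B.card_U (X_le B hU hf) h2.symm, one_mul]
  exact hw

theorem y_W : y ∈ invSub U hU z :=
  fixed_of_inv B hU B.t_inv B.y_mem (by rw [← B.comm_yt.eq, mul_inv_cancel_right])

theorem y_ne : y ≠ 1 := fun e => by have := B.order_y; rw [e, orderOf_one] at this; omega

theorem W_trans {a : G} (ha : a ∈ invSub U hU z) (ha1 : a ≠ 1) :
    ∃ n ∈ normalizer (zpowers x : Set G), n * y * n⁻¹ = a := by
  have hy := y_W B hU
  obtain ⟨n, hn, h⟩ := B.trans y B.y_mem (fun e => y_ne B hU (W_inf B hU e hy)) a ha.1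
    (fun e => ha1 (W_inf B hU e ha))
  exact ⟨n, hn, mul_inv_eq_one.1 (W_inf B hU h (mul_mem (norm_X_W B hU hn hy) (inv_mem ha)))⟩

theorem W_conj {a : G} (ha : a ∈ invSub U hU z) (ha1 : a ≠ 1) : IsConj y a := by
  obtain ⟨n, -, h⟩ := W_trans B hU ha ha1
  exact isConj_iff.2 ⟨n, h⟩

theorem stab_mixed {a : G} (ha : a ∈ U) (hX : a ∉ zpowers x) (hW : a ∉ invSub U hU z) :
    normalizer (zpowers x : Set G) ⊓ centralizer ({a} : Set G) = U := by
  refine le_antisymm (fun g hg => ?_) fun g hg => ⟨?_, mem_centralizer_singleton_iff.2 (hU g hg a ha)⟩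
  · obtain ⟨f, w, hf, hw, rfl⟩ := exists_split B hU ha
    have e : g * f * g⁻¹ * (g * w * g⁻¹) = f * w := by
      rw [show g * f * g⁻¹ * (g * w * g⁻¹) = g * (f * w) * g⁻¹ by group,
        mem_centralizer_singleton_iff.1 hg.2, mul_inv_cancel_right]
    obtain ⟨e1, e2⟩ := split_uniq B hU (norm_X_X B hU hg.1 hf) hf (norm_X_W B hU hg.1 hw) hw e
    have hf1 : f ≠ 1 := fun h => hW (by rw [h, one_mul]; exact hw)
    have hgx : g ∈ centralizer ({x} : Set G) := by
      obtain ⟨k, hk⟩ := mem_zpowers_iff.1 (X_gen B hU hf hf1)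
      have h : g * x * g⁻¹ = x := by rw [← hk, ← conj_zpow, e1]
      exact mem_centralizer_singleton_iff.2 (mul_inv_eq_iff_eq_mul.1 h)
    by_contra hgU
    have := B.fix g hgx hgU w hw.1 (by rw [e2, mul_inv_cancel]; exact one_mem _)
    exact hX (mul_mem hf this)
  · refine mem_set_normalizer_iff.2 fun b => ?_
    show b ∈ zpowers x ↔ g * b * g⁻¹ ∈ zpowers x
    constructor
    · intro hb
      rw [hU g hg b (X_le B hU hb), mul_inv_cancel_right]; exact hb
    · intro hb
      have hbU : b ∈ U := by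
        have h3 := mul_mem (mul_mem (inv_mem hg) (X_le B hU hb)) hg
        rwa [show g⁻¹ * (g * b * g⁻¹) * g = b by group] at h3
      rwa [hU g hg b hbU, mul_inv_cancel_right] at hb

theorem burnside [Finite G] {a g : G} (ha : a ∈ U) (h : g * a * g⁻¹ ∈ U) :
    ∃ n ∈ normalizer (U : Set G), n * a * n⁻¹ = g * a * g⁻¹ := by
  haveI : Fact (Nat.Prime 11) := ⟨by norm_num⟩
  have hfac : (Nat.card G).factorization 11 = 3 := by
    rw [B.card_G, Nat.factorization_def _ (by norm_num),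
      show (86775571046077562880 : ℕ) = 11 ^ 3 * 65195770883604480 by norm_num,
      padicValNat.mul (by norm_num) (by norm_num), padicValNat.prime_pow,
      padicValNat.eq_zero_of_not_dvd (by norm_num)]
  let P : Sylow 11 G := Sylow.ofCard U (by rw [B.card_U, hfac]; norm_num)
  haveI : IsMulCommutative (P : Subgroup G) :=
    ⟨⟨fun a b => Subtype.ext (hU _ a.2 _ b.2)⟩⟩
  obtain ⟨n, hn, e⟩ := P.conj_eq_normalizer_conj_of_mem a g⁻¹ (show a ∈ U from ha)
    (show g⁻¹⁻¹ * a * g⁻¹ ∈ U by rwa [inv_inv])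
  exact ⟨n⁻¹, inv_mem hn, by rw [inv_inv] at e ⊢; exact e.symm⟩

theorem normalizer_eq : normalizer (U : Set G) = normalizer (zpowers x : Set G) := by
  haveI := finite' B hU
  refine le_antisymm ?_ B.U_norm
  set N := normalizer (U : Set G) with hN
  set H := normalizer (zpowers x : Set G) with hH
  have hCN : centralizer ({x} : Set G) ≤ N := fun g hg => B.U_norm <| by
    refine mem_set_normalizer_iff.2 fun b => ?_
    have hx : g * x * g⁻¹ = x := by rw [mem_centralizer_singleton_iff.1 hg, mul_inv_cancel_right]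
    constructor
    · rintro ⟨k, rfl⟩
      exact ⟨k, by simp only; rw [← conj_zpow, hx]⟩
    · rintro ⟨k, hk⟩
      refine ⟨k, ?_⟩
      simp only at hk ⊢
      rw [← hx, conj_zpow] at hk
      exact mul_left_cancel (mul_right_cancel hk)
  let T := {b : G // ∃ h ∈ N, h * x * h⁻¹ = b}
  have hT : Nat.card T * 31944 = Nat.card ↥N := by
    have h := card_orbit N x
    rwa [inf_eq_right.2 hCN, B.card_cent_x] at h
  let M := {b : G // (b ∈ U ∧ IsConj x b) ∧ b ∉ zpowers x}
  letI : MulAction ↥H M :=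
    { smul := fun h b => ⟨(h : G) * b.1 * (h : G)⁻¹,
        ⟨(mem_set_normalizer_iff.1 (B.U_norm h.2) _).1 b.2.1.1, b.2.1.2.trans (isConj_iff.2 ⟨h, rfl⟩)⟩,
        fun hm => b.2.2 ((mem_set_normalizer_iff.1 h.2 _).2 hm)⟩
      one_smul := fun b => Subtype.ext (show (1 : G) * b.1 * (1 : G)⁻¹ = b.1 by simp)
      mul_smul := fun g h b => Subtype.ext (show ((g : G) * h) * b.1 * ((g : G) * h)⁻¹ =
        (g : G) * ((h : G) * b.1 * (h : G)⁻¹) * (g : G)⁻¹ by group) }
  have hMW : ∀ b : M, b.1 ∉ invSub U hU z := fun b hW => by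
    by_cases h1 : b.1 = 1
    · exact b.2.2 (h1 ▸ one_mem _)
    · exact B.not_xy (b.2.1.2.trans (W_conj B hU hW h1).symm)
  have hstab : ∀ b : M, Nat.card (MulAction.stabilizer ↥H b) = 1331 := by
    intro b
    have e : MulAction.stabilizer ↥H b = (H ⊓ centralizer ({b.1} : Set G)).subgroupOf H := by
      ext h
      rw [MulAction.mem_stabilizer_iff, mem_subgroupOf, Subgroup.mem_inf, mem_centralizer_singleton_iff,
        Subtype.ext_iff]
      exact ⟨fun e => ⟨h.2, mul_inv_eq_iff_eq_mul.1 e⟩, fun e => mul_inv_eq_iff_eq_mul.2 e.2⟩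
    rw [e, Nat.card_congr (subgroupOfEquivOfLe inf_le_left).toEquiv, hH,
      stab_mixed B hU b.2.1.1 b.2.2 (hMW b), B.card_U]
  have hM240 : 240 ∣ Nat.card M := by
    letI := Fintype.ofFinite M
    letI := Fintype.ofFinite (Quotient (MulAction.orbitRel ↥H M))
    rw [Nat.card_congr (MulAction.selfEquivSigmaOrbits ↥H M), Nat.card_sigma]
    refine Finset.dvd_sum fun ω _ => ?_
    have h := Nat.card_congr (MulAction.orbitProdStabilizerEquivGroup ↥H ω.out)
    have hH' : Nat.card ↥H = 319440 := B.card_norm_x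
    rw [Nat.card_prod, hstab, hH'] at h
    exact ⟨1, by omega⟩
  have hTsplit : Nat.card T = 10 + Nat.card M := by
    let E : {b : G // b ∈ zpowers x ∧ b ≠ 1} ⊕ M → T := fun b => Sum.elim
      (fun b => (⟨b.1, by
        obtain ⟨k, hk⟩ := mem_powers_iff_mem_zpowers.2 b.2.1
        simp only at hk
        have hk11 : ¬ 11 ∣ k := fun ⟨j, hj⟩ => b.2.2 (by
          rw [← hk, hj, pow_mul, show x ^ 11 = 1 by rw [← B.order_x]; exact pow_orderOf_eq_one x, one_pow])
        obtain ⟨g, hg⟩ := isConj_iff.1 (B.conj_x k hk11)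
        rw [hk] at hg
        obtain ⟨n, hn, e⟩ := burnside B hU B.x_mem (g := g) (hg ▸ X_le B hU b.2.1)
        exact ⟨n, hn, e.trans hg⟩⟩ : T))
      (fun b => (⟨b.1, by
        obtain ⟨g, hg⟩ := isConj_iff.1 b.2.1.2
        obtain ⟨n, hn, e⟩ := burnside B hU B.x_mem (g := g) (hg ▸ b.2.1.1)
        exact ⟨n, hn, e.trans hg⟩⟩ : T)) b
    have hE : Function.Bijective E := by
      constructor
      · rintro (b | b) (b' | b') e
        · exact congrArg _ (Subtype.ext (congrArg Subtype.val e :))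
        · exact absurd ((congrArg Subtype.val e : b.1 = b'.1) ▸ b.2.1) b'.2.2
        · exact absurd ((congrArg Subtype.val e : b.1 = b'.1) ▸ b'.2.1) b.2.2
        · exact congrArg _ (Subtype.ext (congrArg Subtype.val e :))
      · rintro ⟨b, n, hn, hb⟩
        have hbU : b ∈ U := hb ▸ (mem_set_normalizer_iff.1 hn x).1 B.x_mem
        by_cases hX : b ∈ zpowers x
        · refine ⟨Sum.inl ⟨b, hX, fun e => ?_⟩, rfl⟩
          rw [e] at hb
          have hx1 : x = 1 := by
            calc x = n⁻¹ * (n * x * n⁻¹) * n := by group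
              _ = 1 := by rw [hb]; group
          have := B.order_x
          rw [hx1, orderOf_one] at this
          omega
        · exact ⟨Sum.inr ⟨b, ⟨hbU, isConj_iff.2 ⟨n, hb⟩⟩, hX⟩, rfl⟩
    rw [← Nat.card_congr (Equiv.ofBijective E hE), Nat.card_sum]
    congr 1
    have h : Nat.card {b : ↥(zpowers x) // b ≠ 1} = 10 := by
      letI := Fintype.ofFinite ↥(zpowers x)
      rw [Nat.card_eq_fintype_card, Fintype.card_subtype_compl, Fintype.card_subtype_eq,
        ← Nat.card_eq_fintype_card, card_X B hU]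
    rw [← h]
    exact Nat.card_congr
      ⟨fun b => ⟨⟨b.1, b.2.1⟩, fun e => b.2.2 (congrArg Subtype.val e)⟩,
        fun b => ⟨b.1.1, b.1.2, fun e => b.2 (Subtype.ext e)⟩, fun _ => rfl, fun _ => rfl⟩
  obtain ⟨j, hj⟩ := hM240
  have hidx : N.index % 11 = 1 := by
    haveI : Fact (Nat.Prime 11) := ⟨by norm_num⟩
    have hfac : Nat.card ↥U = 11 ^ 3 := by rw [B.card_U]; norm_num
    have hfac' : (Nat.card G).factorization 11 = 3 := by
      rw [B.card_G, Nat.factorization_def _ (by norm_num),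
        show (86775571046077562880 : ℕ) = 11 ^ 3 * 65195770883604480 by norm_num,
        padicValNat.mul (by norm_num) (by norm_num), padicValNat.prime_pow,
        padicValNat.eq_zero_of_not_dvd (by norm_num)]
    let P : Sylow 11 G := Sylow.ofCard U (by rw [hfac, hfac'])
    have h1 : Nat.card (Sylow 11 G) = N.index := P.card_eq_index_normalizer
    have h2 : Nat.card (Sylow 11 G) ≡ 1 [MOD 11] := card_sylow_modEq_one 11 G
    rw [h1] at h2
    exact h2
  have hcount := Subgroup.card_mul_index N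
  rw [← hT, hTsplit, hj, B.card_G] at hcount
  have hjle : j ≤ 5 := by
    have h1 : Nat.card M ≤ Nat.card ↥U := Nat.card_le_card_of_injective (fun b => ⟨b.1, b.2.1.1⟩)
      fun b b' e => Subtype.ext (congrArg (fun p : U => (p : G)) e)
    rw [B.card_U, hj] at h1
    omega
  have hj0 : j = 0 := by
    interval_cases j <;> omega
  have hM0 : ∀ b : M, False := fun b => by
    have : 0 < Nat.card M := by haveI : Nonempty M := ⟨b⟩; exact Nat.card_pos
    omega
  intro n hn
  have hmem : ∀ m ∈ N, m * x * m⁻¹ ∈ zpowers x := fun m hm => by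
    by_contra hm'
    exact hM0 ⟨m * x * m⁻¹, ⟨(mem_set_normalizer_iff.1 hm x).1 B.x_mem, isConj_iff.2 ⟨m, rfl⟩⟩, hm'⟩
  refine mem_set_normalizer_iff.2 fun b => ⟨fun hb => ?_, fun hb => ?_⟩
  · obtain ⟨k, rfl⟩ := mem_zpowers_iff.1 hb
    show n * x ^ k * n⁻¹ ∈ zpowers x
    rw [← conj_zpow]
    exact zpow_mem (hmem n hn) k
  · obtain ⟨k, hk⟩ := mem_zpowers_iff.1 hb
    have h := zpow_mem (hmem n⁻¹ (inv_mem hn)) k
    rw [conj_zpow, hk, inv_inv, show n⁻¹ * (n * b * n⁻¹) * n = b by group] at h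
    exact h

/-- The involutions inverting `x`. -/
noncomputable def invX [Fintype G] (x : G) : Finset G :=
  Finset.univ.filter fun g => orderOf g = 2 ∧ g * x * g⁻¹ = x⁻¹

theorem order_of_mem {a : G} (ha : a ∈ U) (ha1 : a ≠ 1) : orderOf a = 11 := by
  obtain ⟨f, w, hf, hw, rfl⟩ := exists_split B hU ha
  have hw11 : w ^ 11 = 1 := by
    by_cases h : w = 1
    · rw [h, one_pow]
    · obtain ⟨c, hc⟩ := isConj_iff.1 (W_conj B hU hw h)
      rw [← hc, conj_pow, show y ^ 11 = 1 by rw [← B.order_y]; exact pow_orderOf_eq_one y, mul_one, mul_inv_cancel]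
  have hf11 : f ^ 11 = 1 := by
    obtain ⟨k, rfl⟩ := mem_zpowers_iff.1 hf
    have hx11 : x ^ 11 = 1 := by rw [← B.order_x]; exact pow_orderOf_eq_one x
    rw [← zpow_natCast, ← zpow_mul, mul_comm, zpow_mul, zpow_natCast, hx11, one_zpow]
  haveI : Fact (Nat.Prime 11) := ⟨by norm_num⟩
  refine orderOf_eq_prime ?_ ha1
  rw [Commute.mul_pow (hU f (X_le B hU hf) w hw.1), hf11, hw11, one_mul]

theorem not_mem_U {g : G} (hg : orderOf g = 2) : g ∉ U := fun h => by
  have h3 := orderOf_dvd_of_pow_eq_one (pow_card_mem B.card_U h)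
  rw [hg] at h3
  norm_num at h3

theorem x_conj_mem {a : G} (ha : a ∈ U) (h : IsConj x a) : a ∈ zpowers x := by
  haveI := finite' B hU
  obtain ⟨g, hg⟩ := isConj_iff.1 h
  obtain ⟨n, hn, e⟩ := burnside B hU B.x_mem (g := g) (hg ▸ ha)
  rw [← hg, ← e]
  exact norm_X_X B hU (normalizer_eq B hU ▸ hn) (mem_zpowers x)

theorem y_conj_mem {a : G} (ha : a ∈ U) (h : IsConj y a) : a ∈ invSub U hU z := by
  haveI := finite' B hU
  obtain ⟨g, hg⟩ := isConj_iff.1 h
  obtain ⟨n, hn, e⟩ := burnside B hU B.y_mem (g := g) (hg ▸ ha)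
  rw [← hg, ← e]
  exact norm_X_W B hU (normalizer_eq B hU ▸ hn) (y_W B hU)

theorem U_le_cent {a : G} (ha : a ∈ U) : U ≤ centralizer ({a} : Set G) := fun g hg =>
  mem_centralizer_singleton_iff.2 (hU g hg a ha)

theorem cent_mixed {a : G} (ha : a ∈ U) (hX : a ∉ zpowers x) (hW : a ∉ invSub U hU z) :
    centralizer ({a} : Set G) = U := by
  haveI := finite' B hU
  have hord := order_of_mem B hU ha fun e => hX (e ▸ one_mem _)
  set c := Nat.card ↥(centralizer ({a} : Set G)) with hc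
  have hnd : ∀ p : ℕ, p.Prime → p = 2 ∨ p = 3 → ¬ p ∣ c := by
    intro p hp h23 hd
    haveI : Fact p.Prime := ⟨hp⟩
    obtain ⟨i, hi⟩ := exists_prime_orderOf_dvd_card' p hd
    have hcomm : Commute a (i : G) := (mem_centralizer_singleton_iff.1 i.2).symm
    rw [← Subgroup.orderOf_coe] at hi
    rcases h23 with rfl | rfl
    · rcases B.classes _ hi with h | h
      · exact hX (x_conj_mem B hU ha (B.x_of_z a _ hord h hcomm))
      · exact hW (y_conj_mem B hU ha (B.y_of_t a _ hord h hcomm))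
    · exact hX (x_conj_mem B hU ha (B.three a _ hord hi hcomm))
  have h2 := hnd 2 Nat.prime_two (Or.inl rfl)
  have h3 := hnd 3 Nat.prime_three (Or.inr rfl)
  have hcop : Nat.Coprime c (2 ^ 4 * 3) := Nat.Coprime.mul_right
    (Nat.Coprime.pow_right _ ((Nat.prime_two.coprime_iff_not_dvd.2 h2).symm))
    ((Nat.prime_three.coprime_iff_not_dvd.2 h3).symm)
  have hd : c ∣ 1331 := hcop.dvd_of_dvd_mul_left (by simpa using B.cent_dvd a hord)
  refine (Subgroup.eq_of_le_of_card_ge (U_le_cent B hU ha) ?_).symm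
  rw [B.card_U]
  exact Nat.le_of_dvd (by norm_num) hd

theorem cent_y_le : centralizer ({y} : Set G) ≤ normalizer (U : Set G) := by
  haveI := finite' B hU
  set C := centralizer ({y} : Set G) with hC
  have h3 : ¬ 3 ∣ Nat.card ↥C := by
    intro hd
    haveI : Fact (Nat.Prime 3) := ⟨Nat.prime_three⟩
    obtain ⟨i, hi⟩ := exists_prime_orderOf_dvd_card' 3 hd
    rw [← Subgroup.orderOf_coe] at hi
    exact B.not_xy (B.three y _ B.order_y hi (mem_centralizer_singleton_iff.1 i.2).symm)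
  have hd : Nat.card ↥C ∣ 2 ^ 4 * 11 ^ 3 := by
    refine (Nat.Coprime.dvd_of_dvd_mul_left ((Nat.prime_three.coprime_iff_not_dvd.2 h3).symm) ?_ :
      Nat.card ↥C ∣ 2 ^ 4 * 11 ^ 3)
    have h := B.cent_dvd y B.order_y
    rwa [show 3 * (2 ^ 4 * 11 ^ 3) = 2 ^ 4 * 3 * 11 ^ 3 by norm_num]
  haveI : Fact (Nat.Prime 11) := ⟨by norm_num⟩
  have hUC : U ≤ C := U_le_cent B hU B.y_mem
  set U' := U.subgroupOf C with hU'
  have hcard' : Nat.card ↥U' = 1331 := by
    rw [Nat.card_congr (subgroupOfEquivOfLe hUC).toEquiv, B.card_U]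
  have hidx : U'.index ∣ 16 := by
    have h := Subgroup.card_mul_index U'
    rw [hcard'] at h
    rw [← h] at hd
    exact (Nat.mul_dvd_mul_iff_left (by norm_num : 0 < 1331)).1 (by simpa using hd)
  have hfac : (Nat.card ↥C).factorization 11 = 3 := by
    have h := Subgroup.card_mul_index U'
    rw [hcard'] at h
    rw [← h, show (1331 : ℕ) = 11 ^ 3 by norm_num, Nat.factorization_def _ (by norm_num),
      padicValNat.mul (by norm_num) (fun e => by rw [e] at hidx; simp at hidx), padicValNat.prime_pow,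
      padicValNat.eq_zero_of_not_dvd fun h11 => absurd (h11.trans hidx) (by norm_num)]
  let P : Sylow 11 ↥C := Sylow.ofCard U' (by rw [hcard', hfac]; norm_num)
  have h1 : Nat.card (Sylow 11 ↥C) ∣ U'.index := P.card_dvd_index
  have h2 : Nat.card (Sylow 11 ↥C) ≡ 1 [MOD 11] := card_sylow_modEq_one 11 ↥C
  have h4 : Nat.card (Sylow 11 ↥C) = 1 := by
    have h5 := h1.trans hidx
    have h6 := Nat.le_of_dvd (by norm_num) h5
    unfold Nat.ModEq at h2
    interval_cases hn : Nat.card (Sylow 11 ↥C) <;> simp_all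
  haveI : Subsingleton (Sylow 11 ↥C) := (Nat.card_eq_one_iff_unique.1 h4).1
  have hnorm : U'.Normal := Sylow.normal_of_subsingleton P
  intro g hg
  refine mem_set_normalizer_iff.2 fun b => ⟨fun hb => ?_, fun hb => ?_⟩
  · have h := hnorm.conj_mem (⟨b, hUC hb⟩ : C) hb ⟨g, hg⟩
    exact h
  · have hbC : b ∈ C := by
      have h := mul_mem (mul_mem (inv_mem hg) (hUC hb)) hg
      rwa [show g⁻¹ * (g * b * g⁻¹) * g = b by group] at h
    have h := hnorm.conj_mem (⟨g * b * g⁻¹, hUC hb⟩ : C) hb ⟨g⁻¹, inv_mem hg⟩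
    simpa [hU', mem_subgroupOf, mul_assoc] using h

theorem card_cent_y : Nat.card ↥(centralizer ({y} : Set G)) = 2662 := by
  haveI := finite' B hU
  set H := normalizer (zpowers x : Set G) with hH
  have hle : centralizer ({y} : Set G) ≤ H := (cent_y_le B hU).trans (normalizer_eq B hU).le
  have h := card_orbit H y
  rw [inf_eq_right.2 hle, B.card_norm_x] at h
  have ho : Nat.card {b : G // ∃ n ∈ H, n * y * n⁻¹ = b} = 120 := by
    have e : Nat.card {b : ↥(invSub U hU z) // b ≠ 1} = 120 := by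
      letI := Fintype.ofFinite ↥(invSub U hU z)
      rw [Nat.card_eq_fintype_card, Fintype.card_subtype_compl, Fintype.card_subtype_eq,
        ← Nat.card_eq_fintype_card, card_W B hU]
    rw [← e]
    refine Nat.card_congr (Equiv.ofBijective (fun b => (⟨⟨b.1, by
      obtain ⟨n, hn, e⟩ := b.2; exact e ▸ norm_X_W B hU hn (y_W B hU)⟩, fun e1 => by
        obtain ⟨n, hn, e⟩ := b.2
        have e2 : b.1 = 1 := congrArg Subtype.val e1
        rw [e2] at e
        exact y_ne B hU (conj_eq_one_iff.1 e)⟩ : {b : ↥(invSub U hU z) // b ≠ 1})) ⟨?_, ?_⟩)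
    · intro a b e
      exact Subtype.ext (congrArg (fun p : {b : ↥(invSub U hU z) // b ≠ 1} => (p.1 : G)) e)
    · rintro ⟨⟨b, hb⟩, hb1⟩
      exact ⟨⟨b, W_trans B hU hb fun e => hb1 (Subtype.ext e)⟩, rfl⟩
  rw [ho] at h
  omega

theorem ti (g a : G) (ha : a ∈ U) (ha1 : a ≠ 1) (h : g * a * g⁻¹ ∈ U) : g ∈ normalizer (U : Set G) := by
  haveI := finite' B hU
  obtain ⟨n, hn, e⟩ := burnside B hU ha h
  have hc : n⁻¹ * g ∈ centralizer ({a} : Set G) := by
    refine mem_centralizer_singleton_iff.2 ?_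
    calc n⁻¹ * g * a = n⁻¹ * (g * a * g⁻¹) * g := by group
      _ = n⁻¹ * (n * a * n⁻¹) * g := by rw [e]
      _ = a * (n⁻¹ * g) := by group
  suffices hle : centralizer ({a} : Set G) ≤ normalizer (U : Set G) by
    have h2 := mul_mem hn (hle hc)
    rwa [mul_inv_cancel_left] at h2
  by_cases hX : a ∈ zpowers x
  · intro c hc'
    refine B.U_norm ?_
    obtain ⟨k, hk⟩ := mem_zpowers_iff.1 (X_gen B hU hX ha1)
    have hcx : c * x * c⁻¹ = x := by
      rw [← hk, ← conj_zpow, mem_centralizer_singleton_iff.1 hc', mul_inv_cancel_right]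
    refine mem_set_normalizer_iff.2 fun b => ⟨fun hb => ?_, fun hb => ?_⟩
    · obtain ⟨j, rfl⟩ := mem_zpowers_iff.1 hb
      show c * x ^ j * c⁻¹ ∈ zpowers x
      rw [← conj_zpow, hcx]; exact zpow_mem (mem_zpowers x) j
    · obtain ⟨j, hj⟩ := mem_zpowers_iff.1 hb
      refine mem_zpowers_iff.2 ⟨j, ?_⟩
      rw [← hcx, conj_zpow] at hj
      exact mul_left_cancel (mul_right_cancel hj)
  by_cases hW : a ∈ invSub U hU z
  · obtain ⟨m, hm, rfl⟩ := W_trans B hU hW ha1
    intro c hc'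
    have hcy : m⁻¹ * c * m ∈ centralizer ({y} : Set G) := by
      refine mem_centralizer_singleton_iff.2 ?_
      calc m⁻¹ * c * m * y = m⁻¹ * (c * (m * y * m⁻¹)) * m := by group
        _ = m⁻¹ * (m * y * m⁻¹ * c) * m := by rw [mem_centralizer_singleton_iff.1 hc']
        _ = y * (m⁻¹ * c * m) := by group
    have h2 := mul_mem (mul_mem (B.U_norm hm) (cent_y_le B hU hcy)) (inv_mem (B.U_norm hm))
    rwa [show m * (m⁻¹ * c * m) * m⁻¹ = c by group] at h2
  · rw [cent_mixed B hU ha hX hW]; exact le_normalizer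

theorem fix_t : U ⊓ centralizer ({t} : Set G) ≤ invSub U hU z ∧
    Nat.card ↥(U ⊓ centralizer ({t} : Set G)) = 11 := by
  haveI := finite' B hU
  refine ⟨fun a ha => fixed_of_inv B hU B.t_inv ha.1
    (by rw [← mem_centralizer_singleton_iff.1 ha.2, mul_inv_cancel_right]), ?_⟩
  have hle : U ⊓ centralizer ({t} : Set G) ≤ centralizer ({y * t} : Set G) := fun a ha =>
    mem_centralizer_singleton_iff.2 (by
      rw [← mul_assoc, hU a ha.1 y B.y_mem, mul_assoc, mem_centralizer_singleton_iff.1 ha.2, mul_assoc])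
  have h1 := Subgroup.card_dvd_of_le hle
  rw [B.card_cent_yt] at h1
  have h2 := Subgroup.card_dvd_of_le (inf_le_left : U ⊓ centralizer ({t} : Set G) ≤ U)
  rw [B.card_U] at h2
  have h3 : Nat.card ↥(U ⊓ centralizer ({t} : Set G)) ∣ 11 := by
    have := Nat.dvd_gcd h1 h2; simpa using this
  rcases (Nat.dvd_prime (by norm_num)).1 h3 with h | h
  · exfalso
    have hy : y ∈ U ⊓ centralizer ({t} : Set G) := ⟨B.y_mem, mem_centralizer_singleton_iff.2 B.comm_yt.eq⟩
    rw [Subgroup.card_eq_one] at h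
    rw [h, mem_bot] at hy
    exact y_ne B hU hy
  · exact h

section counting

variable [Fintype G]

theorem mem_invX {g : G} : g ∈ invX x ↔ orderOf g = 2 ∧ g * x * g⁻¹ = x⁻¹ := by simp [invX]

theorem conj_invX {g n : G} (hn : n ∈ normalizer (zpowers x : Set G)) (hg : g ∈ invX x) :
    n * g * n⁻¹ ∈ invX x := by
  obtain ⟨h2, hx⟩ := (mem_invX B hU).1 hg
  refine (mem_invX B hU).2 ⟨by rw [show n * g * n⁻¹ = MulAut.conj n g from rfl, MulEquiv.orderOf_eq, h2], ?_⟩
  have h1 : n⁻¹ * x * n ∈ zpowers x := (mem_set_normalizer_iff''.1 hn x).1 (mem_zpowers x)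
  rw [show n * g * n⁻¹ * x * (n * g * n⁻¹)⁻¹ = n * (g * (n⁻¹ * x * n) * g⁻¹) * n⁻¹ by group,
    conj_inv_X B hU hx h1]
  group

/-- Involutions inverting `x` and fixing `y` act on `U` as `t`. -/
theorem act_eq_t {g : G} (hg : g ∈ invX x) (hy : Commute g y) :
    ∃ u ∈ U, g = t * u ∧ ∀ a ∈ U, g * a * g⁻¹ = t * a * t⁻¹ := by
  obtain ⟨h2, hx⟩ := (mem_invX B hU).1 hg
  have htt := ClassCount.mul_self_eq_one_of_orderOf B.order_t
  have hxx : x ≠ x⁻¹ := fun e => by
    have := eq_one_of_eq_inv B.card_U B.x_mem e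
    have h := B.order_x; rw [this, orderOf_one] at h; omega
  let φ : Bool × ↥U → ↥(centralizer ({y} : Set G)) := fun p =>
    ⟨(if p.1 then t else 1) * p.2, mul_mem
      (by split_ifs <;> [exact mem_centralizer_singleton_iff.2 B.comm_yt.eq.symm; exact one_mem _])
      (U_le_cent B hU B.y_mem p.2.2)⟩
  have htU : t ∉ U := not_mem_U B hU B.order_t
  have hinj : Function.Injective φ := by
    rintro ⟨b, a⟩ ⟨b', a'⟩ e
    have e' : (if b then t else 1) * (a : G) = (if b' then t else 1) * (a' : G) := congrArg Subtype.val e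
    cases b <;> cases b' <;> simp only [Bool.false_eq_true, if_false, if_true, one_mul] at e'
    · rw [Subtype.ext e']
    · exact absurd (eq_mul_inv_of_mul_eq e'.symm ▸ mul_mem a.2 (inv_mem a'.2)) htU
    · exact absurd (eq_mul_inv_of_mul_eq e' ▸ mul_mem a'.2 (inv_mem a.2)) htU
    · rw [Subtype.ext (mul_left_cancel e')]
  have hc : Nat.card (Bool × ↥U) = Nat.card ↥(centralizer ({y} : Set G)) := by
    rw [Nat.card_prod, B.card_U, card_cent_y B hU, Nat.card_eq_fintype_card (α := Bool), Fintype.card_bool]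
  obtain ⟨⟨b, u⟩, e⟩ := (hinj.bijective_of_nat_card_le hc.ge).2 ⟨g, mem_centralizer_singleton_iff.2 hy.eq⟩
  have e' : (if b then t else 1) * (u : G) = g := congrArg Subtype.val e
  cases b
  · simp only [Bool.false_eq_true, if_false, one_mul] at e'
    exact absurd (e' ▸ u.2) (not_mem_U B hU h2)
  · simp only [if_true] at e'
    refine ⟨u, u.2, e'.symm, fun a ha => ?_⟩
    rw [← e', show t * (u : G) * a * (t * (u : G))⁻¹ = t * ((u : G) * a * (u : G)⁻¹) * t⁻¹ by group,
      hU u u.2 a ha, mul_inv_cancel_right]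

theorem card_fix_y : ((invX x).filter fun g => g * y * g⁻¹ = y).card = 121 := by
  have htt := ClassCount.mul_self_eq_one_of_orderOf B.order_t
  have htU : ∀ a ∈ U, t * a * t⁻¹ ∈ U := fun a ha => (mem_set_normalizer_iff.1 B.t_norm a).1 ha
  have hI : Nat.card ↥(invSub U hU t) = 121 := by
    have h := split_card hU B.card_U htt le_rfl htU
    rw [(fix_t B hU).2, inf_eq_right.2 (fun a ha => ha.1), B.card_U] at h
    omega
  rw [← hI, Nat.card_eq_fintype_card, ← Finset.card_univ]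
  symm
  refine Finset.card_bij (fun (a : ↥(invSub U hU t)) _ => t * (a : G)) ?_
    (fun a _ b _ e => Subtype.ext (mul_left_cancel e)) ?_
  · intro a _
    have hsq : t * (a : G) * (t * (a : G)) = 1 := by
      rw [show t * (a : G) * (t * (a : G)) = t * a * t⁻¹ * (t * t) * a by group, a.2.2, htt, mul_one,
        inv_mul_cancel]
    haveI : Fact (Nat.Prime 2) := ⟨Nat.prime_two⟩
    refine Finset.mem_filter.2 ⟨(mem_invX B hU).2 ⟨orderOf_eq_prime (by rw [pow_two, hsq]) fun e => ?_, ?_⟩, ?_⟩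
    · exact not_mem_U B hU B.order_t (eq_inv_of_mul_eq_one_left e ▸ inv_mem a.2.1)
    · rw [show t * (a : G) * x * (t * (a : G))⁻¹ = t * ((a : G) * x * (a : G)⁻¹) * t⁻¹ by group,
        hU _ a.2.1 _ B.x_mem, mul_inv_cancel_right, B.t_inv]
    · rw [show t * (a : G) * y * (t * (a : G))⁻¹ = t * ((a : G) * y * (a : G)⁻¹) * t⁻¹ by group,
        hU _ a.2.1 _ B.y_mem, mul_inv_cancel_right, ← B.comm_yt.eq, mul_inv_cancel_right]
  · intro g hg
    obtain ⟨hg1, hgy⟩ := Finset.mem_filter.1 hg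
    obtain ⟨u, hu, rfl, -⟩ := act_eq_t B hU hg1 (mul_inv_eq_iff_eq_mul.1 hgy)
    refine ⟨⟨u, hu, ?_⟩, Finset.mem_univ _, rfl⟩
    have hsq := ClassCount.mul_self_eq_one_of_orderOf ((mem_invX B hU).1 hg1).1
    have h3 : t * u * t⁻¹ * u = 1 := by
      rw [show t * u * t⁻¹ * u = t * u * (t * u) * (u⁻¹ * (t * t)⁻¹ * u) by group, hsq, htt]
      group
    exact eq_inv_of_mul_eq_one_left h3

theorem exists_fix {g : G} (hg : g ∈ invX x) :
    ∃ w ∈ invSub U hU z, w ≠ 1 ∧ g * w * g⁻¹ = w := by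
  obtain ⟨h2, hx⟩ := (mem_invX B hU).1 hg
  by_contra hno
  push Not at hno
  have hgg := ClassCount.mul_self_eq_one_of_orderOf h2
  have hgn := norm_of_inv B hU hx
  have hW : invSub U hU z ≤ U := fun a ha => ha.1
  have h := split_card hU B.card_U hgg hW fun a ha => norm_X_W B hU hgn ha
  have h1 : invSub U hU z ⊓ centralizer ({g} : Set G) = ⊥ := (Subgroup.eq_bot_iff_forall _).2 fun a ha => by
    by_contra ha1
    exact hno a ha.1 ha1 (by rw [← mem_centralizer_singleton_iff.1 ha.2, mul_inv_cancel_right])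
  rw [h1, Subgroup.card_bot, one_mul, card_W B hU] at h
  have hall : invSub U hU z ≤ invSub U hU g := by
    have he : invSub U hU z ⊓ invSub U hU g = invSub U hU z :=
      Subgroup.eq_of_le_of_card_ge inf_le_left (by rw [h, card_W B hU])
    exact fun a ha => (he.ge ha).2
  -- `g z` fixes `y`, so acts as `t`, which would fix `W`
  have hgz : ∀ a ∈ invSub U hU z, g * z * a * (g * z)⁻¹ = a := fun a ha => by
    rw [show g * z * a * (g * z)⁻¹ = g * (z * a * z⁻¹) * g⁻¹ by group, ha.2,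
      show g * a⁻¹ * g⁻¹ = (g * a * g⁻¹)⁻¹ by group, (hall ha).2, inv_inv]
  have hinv : g * z * x * (g * z)⁻¹ = x⁻¹ := by
    rw [show g * z * x * (g * z)⁻¹ = g * (z * x * z⁻¹) * g⁻¹ by group, ← B.comm_xz.eq, mul_inv_cancel_right, hx]
  have hy := y_W B hU
  have hne1 : g * z ≠ 1 := fun e => by
    rw [e, one_mul, inv_one, mul_one] at hinv
    have := eq_one_of_eq_inv B.card_U B.x_mem hinv
    have h := B.order_x; rw [this, orderOf_one] at h; omega
  have hcy : g * z ∈ centralizer ({y} : Set G) :=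
    mem_centralizer_singleton_iff.2 (mul_inv_eq_iff_eq_mul.1 (hgz y hy))
  have htfix : ∀ a ∈ invSub U hU z, t * a * t⁻¹ = a := by
    intro a ha
    -- `g z` lies in the coset `t U`
    have htt := ClassCount.mul_self_eq_one_of_orderOf B.order_t
    by_cases hmem : t * (g * z) ∈ U
    · have e : g * z = t * (t * (g * z)) := by rw [← mul_assoc, htt, one_mul]
      have h3 := hgz a ha
      rw [e, show t * (t * (g * z)) * a * (t * (t * (g * z)))⁻¹ =
        t * (t * (g * z) * a * (t * (g * z))⁻¹) * t⁻¹ by group, hU _ hmem a ha.1, mul_inv_cancel_right] at h3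
      exact h3
    · exfalso
      set C := centralizer ({y} : Set G)
      have hUC : U ≤ C := U_le_cent B hU B.y_mem
      have hidx : (U.subgroupOf C).index = 2 := by
        have h := Subgroup.card_mul_index (U.subgroupOf C)
        rw [Nat.card_congr (subgroupOfEquivOfLe hUC).toEquiv, B.card_U, card_cent_y B hU] at h
        omega
      have htC : t ∈ C := mem_centralizer_singleton_iff.2 B.comm_yt.eq.symm
      have h3 := Subgroup.mul_mem_iff_of_index_two hidx (a := (⟨t, htC⟩ : C)) (b := ⟨g * z, hcy⟩)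
      simp only [mem_subgroupOf, Subgroup.coe_mul] at h3
      refine hmem (h3.2 ⟨fun h => absurd h (not_mem_U B hU B.order_t), fun h => ?_⟩)
      exfalso
      have h4 : g * z * x * (g * z)⁻¹ = x := by rw [hU _ h x B.x_mem, mul_inv_cancel_right]
      rw [hinv] at h4
      have := eq_one_of_eq_inv B.card_U B.x_mem h4.symm
      have h := B.order_x; rw [this, orderOf_one] at h; omega
  have hle : invSub U hU z ≤ U ⊓ centralizer ({t} : Set G) := fun a ha =>
    ⟨ha.1, mem_centralizer_singleton_iff.2 (mul_inv_eq_iff_eq_mul.1 (htfix a ha)).symm⟩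
  have h5 := Subgroup.card_dvd_of_le hle
  rw [card_W B hU, (fix_t B hU).2] at h5
  norm_num at h5

theorem invX_isConj {g : G} (hg : g ∈ invX x) : IsConj t g := by
  obtain ⟨w, hw, hw1, hgw⟩ := exists_fix B hU hg
  rcases B.classes g ((mem_invX B hU).1 hg).1 with h | h
  · have hxw := B.x_of_z w g (order_of_mem B hU hw.1 hw1) h (mul_inv_eq_iff_eq_mul.1 hgw).symm
    exact absurd (W_inf B hU (x_conj_mem B hU hw.1 hxw) hw) hw1
  · exact h

/-- The non-trivial elements of `W`. -/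
noncomputable def wset : Finset G := Finset.univ.filter fun a => a ∈ invSub U hU z ∧ a ≠ 1

theorem card_wset_filter (K : Subgroup G) (hK : K ≤ invSub U hU z) (P : G → Prop)
    (hP : ∀ a ∈ invSub U hU z, (P a ↔ a ∈ K)) :
    ((wset (z := z) hU).filter P).card + 1 = Nat.card ↥K := by
  have e : (wset (z := z) hU).filter P = (Finset.univ.filter fun a : G => a ∈ K).erase 1 := by
    ext a
    simp only [wset, Finset.mem_filter, Finset.mem_univ, true_and, Finset.mem_erase]
    exact ⟨fun h => ⟨h.1.2, (hP a h.1.1).1 h.2⟩, fun h => ⟨⟨hK h.2, h.1⟩, (hP a (hK h.2)).2 h.2⟩⟩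
  rw [e, Finset.card_erase_add_one (by simp [one_mem]), Nat.card_eq_fintype_card, Fintype.card_subtype]

theorem rows {g : G} (hg : g ∈ invX x) :
    ((wset (z := z) hU).filter fun w => g * w * g⁻¹ = w).card = 10 ∧
      ((wset (z := z) hU).filter fun w => g * w * g⁻¹ = w⁻¹).card = 10 := by
  obtain ⟨w, hw, hw1, hgw⟩ := exists_fix B hU hg
  obtain ⟨n, hn, hny⟩ := W_trans B hU hw hw1
  have hg' : n⁻¹ * g * n ∈ invX x := by
    have h := conj_invX B hU (inv_mem hn) hg
    rwa [inv_inv] at h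
  have hgy : Commute (n⁻¹ * g * n) y := by
    show n⁻¹ * g * n * y = y * (n⁻¹ * g * n)
    calc n⁻¹ * g * n * y = n⁻¹ * (g * (n * y * n⁻¹) * g⁻¹) * g * n := by group
      _ = n⁻¹ * (n * y * n⁻¹) * g * n := by rw [hny, hgw]
      _ = _ := by group
  obtain ⟨u, -, -, hact⟩ := act_eq_t B hU hg' hgy
  have htt := ClassCount.mul_self_eq_one_of_orderOf B.order_t
  have htW : ∀ a ∈ invSub U hU z, t * a * t⁻¹ ∈ invSub U hU z := fun a ha => norm_X_W B hU (t_norm_X B hU) ha
  have hfix : Nat.card ↥(invSub U hU z ⊓ centralizer ({t} : Set G)) = 11 := by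
    rw [show invSub U hU z ⊓ centralizer ({t} : Set G) = U ⊓ centralizer ({t} : Set G) from
      le_antisymm (fun a ha => ⟨ha.1.1, ha.2⟩) fun a ha => ⟨(fix_t B hU).1 ha, ha.2⟩, (fix_t B hU).2]
  have hinv : Nat.card ↥(invSub U hU z ⊓ invSub U hU t) = 11 := by
    have h := split_card hU B.card_U htt (fun a ha => ha.1 : invSub U hU z ≤ U) htW
    rw [hfix, card_W B hU] at h
    omega
  have himg : ∀ (P : G → G → Prop), (∀ a ∈ invSub U hU z, (P g (n * a * n⁻¹) ↔ P t a)) →
      ((wset (z := z) hU).filter fun w => P g w).card = ((wset (z := z) hU).filter fun w => P t w).card := by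
    intro P hP
    symm
    refine Finset.card_bij (fun a _ => n * a * n⁻¹) ?_ (fun a _ b _ e => mul_left_cancel (mul_right_cancel e)) ?_
    · intro a ha
      simp only [wset, Finset.mem_filter, Finset.mem_univ, true_and] at ha ⊢
      exact ⟨⟨norm_X_W B hU hn ha.1.1, fun e => ha.1.2 (conj_eq_one_iff.1 e)⟩, (hP a ha.1.1).2 ha.2⟩
    · intro b hb
      simp only [wset, Finset.mem_filter, Finset.mem_univ, true_and] at hb ⊢
      have hb' : n⁻¹ * b * n ∈ invSub U hU z := by
        have h := norm_X_W B hU (inv_mem hn) hb.1.1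
        rwa [inv_inv] at h
      refine ⟨n⁻¹ * b * n, ⟨⟨hb', fun e => hb.1.2 ?_⟩, (hP _ hb').1 ?_⟩, by group⟩
      · calc b = n * (n⁻¹ * b * n) * n⁻¹ := by group
          _ = 1 := by rw [e]; group
      · rw [show n * (n⁻¹ * b * n) * n⁻¹ = b by group]; exact hb.2
  constructor
  · have h := card_wset_filter B hU _ (inf_le_left : invSub U hU z ⊓ centralizer ({t} : Set G) ≤ _)
      (fun a => t * a * t⁻¹ = a) fun a ha => ⟨fun e => ⟨ha, mem_centralizer_singleton_iff.2
        (mul_inv_eq_iff_eq_mul.1 e).symm⟩, fun e => by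
        rw [← mem_centralizer_singleton_iff.1 e.2, mul_inv_cancel_right]⟩
    rw [hfix] at h
    rw [himg (fun g w => g * w * g⁻¹ = w) fun a ha => by
      rw [show g * (n * a * n⁻¹) * g⁻¹ = n * (n⁻¹ * g * n * a * (n⁻¹ * g * n)⁻¹) * n⁻¹ by group, hact a ha.1]
      exact ⟨fun e => mul_left_cancel (mul_right_cancel e), fun e => by rw [e]⟩]
    omega
  · have h := card_wset_filter B hU _ (inf_le_left : invSub U hU z ⊓ invSub U hU t ≤ _)
      (fun a => t * a * t⁻¹ = a⁻¹) fun a ha => ⟨fun e => ⟨ha, ha.1, e⟩, fun e => e.2.2⟩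
    rw [hinv] at h
    rw [himg (fun g w => g * w * g⁻¹ = w⁻¹) fun a ha => by
      rw [show g * (n * a * n⁻¹) * g⁻¹ = n * (n⁻¹ * g * n * a * (n⁻¹ * g * n)⁻¹) * n⁻¹ by group, hact a ha.1,
        show (n * a * n⁻¹)⁻¹ = n * a⁻¹ * n⁻¹ by group]
      exact ⟨fun e => mul_left_cancel (mul_right_cancel e), fun e => by rw [e]⟩]
    omega

/-- The columns are constant. -/
theorem columns (P : G → G → Prop)
    (hP : ∀ n g w : G, P (n * g * n⁻¹) (n * w * n⁻¹) ↔ P g w)
    (hrow : ∀ g ∈ invX x, ((wset (z := z) hU).filter fun w => P g w).card = 10) {w : G}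
    (hw : w ∈ wset (z := z) hU) : 120 * ((invX x).filter fun g => P g w).card = 10 * (invX x).card := by
  have hconst : ∀ v ∈ wset (z := z) hU,
      ((invX x).filter fun g => P g v).card = ((invX x).filter fun g => P g w).card := by
    intro v hv
    simp only [wset, Finset.mem_filter, Finset.mem_univ, true_and] at hv hw
    obtain ⟨n1, hn1, e1⟩ := W_trans B hU hw.1 hw.2
    obtain ⟨n2, hn2, e2⟩ := W_trans B hU hv.1 hv.2
    set m := n1 * n2⁻¹ with hm
    have hmN : m ∈ normalizer (zpowers x : Set G) := mul_mem hn1 (inv_mem hn2)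
    have hmv : m * v * m⁻¹ = w := by rw [← e1, ← e2, hm]; group
    refine Finset.card_bij (fun g _ => m * g * m⁻¹) ?_ (fun a _ b _ e => mul_left_cancel (mul_right_cancel e)) ?_
    · intro g hg
      obtain ⟨h1, h2⟩ := Finset.mem_filter.1 hg
      exact Finset.mem_filter.2 ⟨conj_invX B hU hmN h1, hmv ▸ (hP m g v).2 h2⟩
    · intro g hg
      obtain ⟨h1, h2⟩ := Finset.mem_filter.1 hg
      refine ⟨m⁻¹ * g * m, Finset.mem_filter.2 ⟨?_, (hP m _ v).1 ?_⟩, by group⟩
      · have h := conj_invX B hU (inv_mem hmN) h1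
        rwa [inv_inv] at h
      · rwa [show m * (m⁻¹ * g * m) * m⁻¹ = g by group, hmv]
  have hcard : (wset (z := z) hU).card = 120 := by
    have h := card_wset_filter B hU (invSub U hU z) le_rfl (fun _ => True) fun a ha => iff_of_true trivial ha
    rw [Finset.filter_true, card_W B hU] at h
    omega
  have h := Finset.sum_card_bipartiteAbove_eq_sum_card_bipartiteBelow (s := invX x) (t := wset (z := z) hU) P
  simp only [Finset.bipartiteAbove, Finset.bipartiteBelow] at h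
  rw [Finset.sum_congr rfl hrow, Finset.sum_congr rfl hconst, Finset.sum_const, Finset.sum_const,
    smul_eq_mul, smul_eq_mul, hcard] at h
  omega

theorem card_invX : (invX x).card = 1452 := by
  have hy : y ∈ wset (z := z) hU := by simp [wset, y_W B hU, y_ne B hU]
  have h := columns B hU (fun g w => g * w * g⁻¹ = w) (fun n g w => by
    rw [show n * g * n⁻¹ * (n * w * n⁻¹) * (n * g * n⁻¹)⁻¹ = n * (g * w * g⁻¹) * n⁻¹ by group]
    exact ⟨fun e => mul_left_cancel (mul_right_cancel e), fun e => by rw [e]⟩)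
    (fun g hg => (rows B hU hg).1) hy
  rw [card_fix_y B hU] at h
  omega

theorem card_inv_w {w : G} (hw : w ∈ invSub U hU z) (hw1 : w ≠ 1) :
    ((invX x).filter fun g => g * w * g⁻¹ = w⁻¹).card = 121 := by
  have h := columns B hU (fun g w => g * w * g⁻¹ = w⁻¹) (fun n g w => by
    rw [show n * g * n⁻¹ * (n * w * n⁻¹) * (n * g * n⁻¹)⁻¹ = n * (g * w * g⁻¹) * n⁻¹ by group,
      show (n * w * n⁻¹)⁻¹ = n * w⁻¹ * n⁻¹ by group]
    exact ⟨fun e => mul_left_cancel (mul_right_cancel e), fun e => by rw [e]⟩)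
    (fun g hg => (rows B hU hg).2) (w := w) (by simp [wset, hw, hw1])
  rw [card_invX B hU] at h
  omega

/-- Two conjugates of an involution with product in `U`. -/
theorem pair_inverts {t' : G} (ht' : orderOf t' = 2) {g a : G} (ha : a ∈ U) (hW : a ∉ invSub U hU z)
    (h1 : IsConj t' g) (h2 : IsConj t' (g⁻¹ * a)) :
    orderOf g = 2 ∧ g * x * g⁻¹ = x⁻¹ ∧ g * a * g⁻¹ = a⁻¹ := by
  have hord : ∀ b, IsConj t' b → orderOf b = 2 := fun b hb => by
    obtain ⟨c, rfl⟩ := isConj_iff.1 hb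
    rw [show c * t' * c⁻¹ = MulAut.conj c t' from rfl, MulEquiv.orderOf_eq, ht']
  have hg2 := hord g h1
  have hgg := ClassCount.mul_self_eq_one_of_orderOf hg2
  have hsq := ClassCount.mul_self_eq_one_of_orderOf (hord _ h2)
  rw [inv_eq_of_mul_eq_one_right hgg] at hsq
  have hga : g * a * g⁻¹ = a⁻¹ := by
    rw [inv_eq_of_mul_eq_one_right hgg]
    exact eq_inv_of_mul_eq_one_left (by rw [← hsq]; group)
  have ha1 : a ≠ 1 := fun e => hW (e ▸ one_mem _)
  have hgN : g ∈ normalizer (zpowers x : Set G) :=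
    normalizer_eq B hU ▸ ti B hU g a ha ha1 (hga ▸ inv_mem ha)
  obtain ⟨f, w, hf, hw, rfl⟩ := exists_split B hU ha
  have e : g * f * g⁻¹ * (g * w * g⁻¹) = f⁻¹ * w⁻¹ := by
    rw [show g * f * g⁻¹ * (g * w * g⁻¹) = g * (f * w) * g⁻¹ by group, hga, mul_inv_rev,
      hU _ (inv_mem hw.1) _ (inv_mem (X_le B hU hf))]
  obtain ⟨e1, -⟩ := split_uniq B hU (norm_X_X B hU hgN hf) (inv_mem hf) (norm_X_W B hU hgN hw) (inv_mem hw) e
  have hf1 : f ≠ 1 := fun h => hW (by rw [h, one_mul]; exact hw)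
  obtain ⟨k, hk⟩ := mem_zpowers_iff.1 (X_gen B hU hf hf1)
  exact ⟨hg2, by rw [← hk, ← conj_zpow, e1, inv_zpow], hga⟩

theorem pairs_t {a : G} (ha : a ∈ U) (hW : a ∉ invSub U hU z) :
    ClassCount.fibreCount t t a = ((invX x).filter fun g => g * a * g⁻¹ = a⁻¹).card := by
  rw [ClassCount.fibreCount, Nat.card_eq_fintype_card, Fintype.card_subtype]
  congr 1
  ext g
  simp only [Finset.mem_filter, Finset.mem_univ, true_and]
  constructor
  · intro h
    obtain ⟨h1, h2, h3⟩ := pair_inverts B hU B.order_t ha hW h.1 h.2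
    exact ⟨(mem_invX B hU).2 ⟨h1, h2⟩, h3⟩
  · rintro ⟨hg, hga⟩
    refine ⟨invX_isConj B hU hg, invX_isConj B hU ?_⟩
    obtain ⟨h1, h2⟩ := (mem_invX B hU).1 hg
    have hgg := ClassCount.mul_self_eq_one_of_orderOf h1
    have hgi : g⁻¹ = g := inv_eq_of_mul_eq_one_right hgg
    haveI : Fact (Nat.Prime 2) := ⟨Nat.prime_two⟩
    refine (mem_invX B hU).2 ⟨orderOf_eq_prime ?_ fun e => ?_, ?_⟩
    · rw [pow_two, hgi]
      rw [hgi] at hga
      calc g * a * (g * a) = g * a * g * a := by group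
        _ = 1 := by rw [hga, inv_mul_cancel]
    · exact not_mem_U B hU h1 (by rw [inv_mul_eq_one] at e; exact e ▸ ha)
    · rw [show g⁻¹ * a * x * (g⁻¹ * a)⁻¹ = g⁻¹ * (a * x * a⁻¹) * g by group, hU a ha x B.x_mem,
        mul_inv_cancel_right, hgi]
      calc g * x * g = g * x * g⁻¹ := by rw [hgi]
        _ = x⁻¹ := h2

end counting

/-- The configuration for the character part. -/
theorem ctx [Fintype G] : ElevenCtx U (zpowers x) (invSub U hU z) z t y t := by
  have hN := normalizer_eq B hU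
  refine
    { comm := hU, card_U := B.card_U, card_X := card_X B hU, card_W := card_W B hU
      X_le := X_le B hU, W_le := fun a ha => ha.1
      inf_eq := (Subgroup.eq_bot_iff_forall _).2 fun a ha => W_inf B hU ha.1 ha.2
      card_N := by rw [hN, B.card_norm_x]
      X_inv := fun n hn a ha => norm_X_X B hU (hN ▸ hn) ha
      W_inv := fun n hn a ha => norm_X_W B hU (hN ▸ hn) ha
      ti := ti B hU
      cent_X := ?_, cent_W := ?_
      cent_mixed := fun a ha hX hW => by rw [cent_mixed B hU ha hX hW, B.card_U]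
      y_mem := y_W B hU, y_ne := y_ne B hU, order_s := B.order_t, comm_ys := B.comm_yt
      cent_ys := B.card_cent_yt, conj_ys := ?_, order_z := B.order_z, order_t := B.order_t
      conj_st := IsConj.refl t, pairs_z := ?_, pairs_tX := ?_, pairs_tU := ?_
      mod_two7 := ?_, mod_two11 := ?_ }
  · intro a ha ha1
    have e : centralizer ({a} : Set G) = centralizer ({x} : Set G) := by
      obtain ⟨k, hk⟩ := mem_zpowers_iff.1 (X_gen B hU ha ha1)
      obtain ⟨j, hj⟩ := mem_zpowers_iff.1 ha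
      refine le_antisymm (fun g hg => ?_) fun g hg => ?_
      · rw [← hk]
        exact mem_centralizer_singleton_iff.2
          (Commute.zpow_right (show Commute g a from mem_centralizer_singleton_iff.1 hg) k).eq
      · rw [← hj]
        exact mem_centralizer_singleton_iff.2
          (Commute.zpow_right (show Commute g x from mem_centralizer_singleton_iff.1 hg) j).eq
    rw [e, B.card_cent_x]
  · intro a ha ha1
    obtain ⟨n, -, rfl⟩ := W_trans B hU ha ha1
    have h1 := ClassCount.card_class_mul_card_centralizer (n * y * n⁻¹)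
    have h2 := ClassCount.card_class_mul_card_centralizer y
    have e : Nat.card {g : G // IsConj (n * y * n⁻¹) g} = Nat.card {g : G // IsConj y g} :=
      Nat.card_congr (Equiv.subtypeEquivRight fun g =>
        ⟨fun h => (isConj_iff.2 ⟨n, rfl⟩ : IsConj y (n * y * n⁻¹)).trans h,
          fun h => (isConj_iff.2 ⟨n, rfl⟩ : IsConj y (n * y * n⁻¹)).symm.trans h⟩)
    rw [e, ← h2] at h1
    haveI : Nonempty {g : G // IsConj y g} := ⟨⟨y, IsConj.refl y⟩⟩
    rw [Nat.eq_of_mul_eq_mul_left Nat.card_pos h1, card_cent_y B hU]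
  · intro k hk
    obtain ⟨g, hgt, hgy⟩ := B.conj_y k hk
    refine isConj_iff.2 ⟨g, ?_⟩
    calc g * (y * t) * g⁻¹ = g * y * g⁻¹ * (g * t * g⁻¹) := by group
      _ = y ^ k * t := by rw [hgy, hgt.eq, mul_inv_cancel_right]
  · intro a ha hW
    haveI : IsEmpty {g : G // IsConj z g ∧ IsConj z (g⁻¹ * a)} := ⟨fun ⟨g, h1, h2⟩ => by
      obtain ⟨hg2, hgx, -⟩ := pair_inverts B hU B.order_z ha hW h1 h2
      exact B.not_zt (h1.trans (invX_isConj B hU ((mem_invX B hU).2 ⟨hg2, hgx⟩)).symm)⟩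
    exact Nat.card_of_isEmpty
  · intro a ha ha1
    rw [pairs_t B hU (X_le B hU ha) fun h => ha1 (W_inf B hU ha h), ← card_invX B hU]
    exact congrArg Finset.card (Finset.filter_true_of_mem fun g hg =>
      conj_inv_X B hU ((mem_invX B hU).1 hg).2 ha)
  · intro a ha hX hW
    rw [pairs_t B hU ha hW]
    obtain ⟨f, w, hf, hw, rfl⟩ := exists_split B hU ha
    have hw1 : w ≠ 1 := fun h => hX (by rw [h, mul_one]; exact hf)
    rw [← card_inv_w B hU hw hw1]
    refine congrArg Finset.card (Finset.filter_congr fun g hg => ?_)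
    have hgf := conj_inv_X B hU ((mem_invX B hU).1 hg).2 hf
    rw [show g * (f * w) * g⁻¹ = g * f * g⁻¹ * (g * w * g⁻¹) by group, hgf, mul_inv_rev,
      hU _ (inv_mem hw.1) _ (inv_mem (X_le B hU hf))]
    exact ⟨fun e => mul_left_cancel e, fun e => by rw [e]⟩
  · intro χ hχ
    obtain ⟨V, hV, hcard, hz, hflip⟩ := B.sub_two7
    obtain ⟨k, hk⟩ := ElevenTools.dvd_of_flip hV hz B.order_z hflip hχ
    exact ⟨k, by rw [hk, hcard]; norm_num⟩
  · intro χ hχ
    obtain ⟨V, hcard, hn1, hall⟩ := B.sub_two11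
    obtain ⟨k, hk⟩ := ElevenTools.dvd_of_classes (n1 := 1771) (n2 := 276) (t := t) (by rw [hcard])
      (fun e => by have := B.order_z; rw [e, orderOf_one] at this; omega) hn1 hall hχ
    refine ⟨k, ?_⟩
    rw [hcard] at hk
    push_cast at hk
    exact hk

end Cfsg.Agent.J4Type.ElevenAbelian

namespace Cfsg.Agent.J4Type.ElevenBase

universe u

variable {G : Type u} [Group G] {U : Subgroup G} {z t x y : G}

/-- The Sylow 11-subgroup is not abelian. -/
theorem not_comm (B : ElevenBase U z t x y) : ¬ ∀ a ∈ U, ∀ b ∈ U, a * b = b * a := by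
  intro hU
  haveI := ElevenAbelian.finite' B hU
  letI := Fintype.ofFinite G
  obtain ⟨e, a, b, re, ra, rb, P, Q, R, Z, ZA, ZB, T, TA, TB, c, sa, sb, h⟩ :=
    (ElevenAbelian.ctx B hU).exists_degrees
  rw [B.card_G, B.card_Ct, B.card_Cz] at h
  exact ElevenArith.degrees_false h

end Cfsg.Agent.J4Type.ElevenBase
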