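import Cfsg.Agent.Lib.J4Type.ElevenAbelian
import Cfsg.Agent.Lib.Mitchell.Free.GLThreeIso
import Cfsg.Agent.Lib.EssentialSmall.OrderFour

/-!
# J4 type: the Sylow 11-local from the local facts (helper26; content of S5575 and S5576)

* `ElevenBase.extraspecial`, `ElevenBase.exponent_eq`, `ElevenBase.card_normalizer` : the first conclusions
* `ElevenBase.two_classes` : two classes of elements of order 11
* `ElevenBase.exists_gl23` : `GL(2,3)` in the normaliser, given a quaternion group beside `z` (`ElevenBase.Quat`)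
-/

set_option autoImplicit false
set_option linter.unusedSectionVars false

namespace Cfsg.Agent.J4Type.ElevenEnd

open Subgroup

universe u

variable {G : Type u} [Group G] [Finite G] {U : Subgroup G} {z t x y : G}

/-- The further input: a subgroup of order 8 of `C(x) ∩ C(z)` with a non-trivial action of an element of order 3. -/
def Quat (z x : G) : Prop :=
  ∃ Q : Subgroup G, ∃ g : G, Q ≤ centralizer ({x} : Set G) ⊓ centralizer ({z} : Set G) ∧ Nat.card ↥Q = 8 ∧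
    g ∈ centralizer ({x} : Set G) ⊓ centralizer ({z} : Set G) ∧ orderOf g = 3 ∧
    g ∈ normalizer (Q : Set G) ∧ ∃ q ∈ Q, g * q ≠ q * g

/-! ### A group of order 8 with an automorphism of order 3 -/

/-- A subgroup of order 8 with a unique involution and an element of order 3 normalising it. -/
structure QData (Q : Subgroup G) (z w : G) : Prop where
  card : Nat.card ↥Q = 8
  z_mem : z ∈ Q
  zz : z * z = 1
  z_ne : z ≠ 1
  comm : ∀ q ∈ Q, q * z = z * q
  w3 : w * w * w = 1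
  wz : w * z = z * w
  norm : ∀ q ∈ Q, w * q * w⁻¹ ∈ Q
  fix : ∀ q ∈ Q, w * q = q * w → q = 1 ∨ q = z
  sq : ∀ q ∈ Q, q ≠ 1 → q ≠ z → q * q = z

variable {Q : Subgroup G} {w : G}

theorem QData.three (D : QData Q z w) (q : G) : w * (w * (w * q * w⁻¹) * w⁻¹) * w⁻¹ = q := by
  rw [show w * (w * (w * q * w⁻¹) * w⁻¹) * w⁻¹ = (w * w * w) * q * (w * w * w)⁻¹ by group, D.w3]; group

theorem QData.conj_ne (D : QData Q z w) {q : G} (h1 : q ≠ 1) (h2 : q ≠ z) :
    w * q * w⁻¹ ≠ 1 ∧ w * q * w⁻¹ ≠ z := by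
  refine ⟨fun e => h1 (conj_eq_one_iff.1 e), fun e => h2 ?_⟩
  calc q = w⁻¹ * (w * q * w⁻¹) * w := by group
    _ = w⁻¹ * z * w := by rw [e]
    _ = z := by rw [mul_assoc, ← D.wz, inv_mul_cancel_left]

theorem QData.moved (D : QData Q z w) {q : G} (hq : q ∈ Q) (h1 : q ≠ 1) (h2 : q ≠ z) :
    w * q * w⁻¹ ≠ q ∧ w * q * w⁻¹ ≠ z * q := by
  refine ⟨fun e => ?_, fun e => ?_⟩
  · rcases D.fix q hq (mul_inv_eq_iff_eq_mul.1 e) with h | h
    · exact h1 h
    · exact h2 h
  · have h3 := D.three q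
    have hc : w * z * w⁻¹ = z := by rw [D.wz, mul_inv_cancel_right]
    have hzq : ∀ b : G, z * (z * b) = b := fun b => by rw [← mul_assoc, D.zz, one_mul]
    rw [e, show w * (z * q) * w⁻¹ = w * z * w⁻¹ * (w * q * w⁻¹) by group, hc, e, hzq, e] at h3
    exact D.z_ne (mul_eq_right.1 h3)

theorem QData.mem_cases (D : QData Q z w) {i : G} (hi : i ∈ Q) (h1 : i ≠ 1) (h2 : i ≠ z) {q : G} (hq : q ∈ Q) :
    q = 1 ∨ q = z ∨ (q = i ∨ q = z * i) ∨ (q = w * i * w⁻¹ ∨ q = z * (w * i * w⁻¹)) ∨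
      (q = w * (w * i * w⁻¹) * w⁻¹ ∨ q = z * (w * (w * i * w⁻¹) * w⁻¹)) := by
  classical
  set j := w * i * w⁻¹ with hj
  set k := w * j * w⁻¹ with hk
  obtain ⟨j1, j2⟩ := D.conj_ne h1 h2
  obtain ⟨k1, k2⟩ := D.conj_ne j1 j2
  obtain ⟨a1, a2⟩ := D.moved hi h1 h2
  obtain ⟨b1, b2⟩ := D.moved (D.norm i hi) j1 j2
  obtain ⟨c1, c2⟩ := D.moved (D.norm _ (D.norm i hi)) k1 k2
  rw [D.three i] at c1 c2
  have hzi : ∀ {a b : G}, a ≠ z * b → z * a ≠ b := fun {a b} h e => h (by rw [← e, ← mul_assoc, D.zz, one_mul])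
  have hz : ∀ {a : G}, a ≠ z → z * a ≠ 1 := fun {a} h e => h (by
    rw [← inv_eq_of_mul_eq_one_right e, inv_eq_of_mul_eq_one_right D.zz])
  have hz' : ∀ {a : G}, a ≠ 1 → z * a ≠ z := fun {a} h e => h (mul_eq_left.1 e)
  have hzz' : ∀ {a : G}, z * a ≠ a := fun {a} e => D.z_ne (mul_eq_right.1 e)
  have hzl : ∀ {a b : G}, a ≠ b → z * a ≠ z * b := fun {a b} h e => h (mul_left_cancel e)
  set S : Finset G := {1, z, i, z * i, j, z * j, k, z * k}
  have hcard : S.card = 8 := by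
    simp only [S]
    rw [Finset.card_insert_of_notMem (by
        simp only [Finset.mem_insert, Finset.mem_singleton, not_or]
        exact ⟨D.z_ne.symm, h1.symm, (hz h2).symm, j1.symm, (hz j2).symm, k1.symm, (hz k2).symm⟩),
      Finset.card_insert_of_notMem (by
        simp only [Finset.mem_insert, Finset.mem_singleton, not_or]
        exact ⟨h2.symm, (hz' h1).symm, j2.symm, (hz' j1).symm, k2.symm, (hz' k1).symm⟩),
      Finset.card_insert_of_notMem (by
        simp only [Finset.mem_insert, Finset.mem_singleton, not_or]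
        exact ⟨hzz'.symm, a1.symm, (hzi a2).symm, c1, c2⟩),
      Finset.card_insert_of_notMem (by
        simp only [Finset.mem_insert, Finset.mem_singleton, not_or]
        exact ⟨Ne.symm a2, hzl (Ne.symm a1), hzi c2, hzl c1⟩),
      Finset.card_insert_of_notMem (by
        simp only [Finset.mem_insert, Finset.mem_singleton, not_or]
        exact ⟨hzz'.symm, b1.symm, (hzi b2).symm⟩),
      Finset.card_insert_of_notMem (by
        simp only [Finset.mem_insert, Finset.mem_singleton, not_or]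
        exact ⟨Ne.symm b2, hzl b1.symm⟩),
      Finset.card_insert_of_notMem (by
        simp only [Finset.mem_singleton]
        exact hzz'.symm),
      Finset.card_singleton]
  have hjm : j ∈ Q := D.norm i hi
  have hkm : k ∈ Q := D.norm j hjm
  have hsub : ∀ s ∈ S, s ∈ Q := by
    intro s hs
    simp only [S, Finset.mem_insert, Finset.mem_singleton] at hs
    rcases hs with rfl | rfl | rfl | rfl | rfl | rfl | rfl | rfl
    exacts [one_mem _, D.z_mem, hi, mul_mem D.z_mem hi, hjm, mul_mem D.z_mem hjm, hkm, mul_mem D.z_mem hkm]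
  let f : S → ↥Q := fun s => ⟨s.1, hsub s.1 s.2⟩
  have hf : Function.Bijective f := by
    refine Function.Injective.bijective_of_nat_card_le (fun a b e => Subtype.ext (congrArg Subtype.val e :)) ?_
    rw [D.card, Nat.card_eq_fintype_card, Fintype.card_coe, hcard]
  obtain ⟨s, hs⟩ := hf.2 ⟨q, hq⟩
  have hsq : (s : G) = q := congrArg Subtype.val hs
  have h := s.2
  rw [hsq] at h
  simp only [S, Finset.mem_insert, Finset.mem_singleton] at h
  tauto

theorem QData.rel_cases (D : QData Q z w) {i : G} (hi : i ∈ Q) (h1 : i ≠ 1) (h2 : i ≠ z) :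
    i * (w * i * w⁻¹) = w * (w * i * w⁻¹) * w⁻¹ ∨ i * (w * i * w⁻¹) = z * (w * (w * i * w⁻¹) * w⁻¹) := by
  obtain ⟨j1, j2⟩ := D.conj_ne h1 h2
  obtain ⟨a1, a2⟩ := D.moved hi h1 h2
  have hii := D.sq i hi h1 h2
  rcases D.mem_cases hi h1 h2 (mul_mem hi (D.norm i hi)) with h | h | (h | h) | (h | h) | h
  · refine absurd ?_ a2
    refine mul_left_cancel (a := i) ?_
    rw [h, ← mul_assoc, D.comm i hi, mul_assoc, hii, D.zz]
  · exact absurd (mul_left_cancel (a := i) (by rw [h, hii])) a1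
  · exact absurd (mul_eq_left.1 h) j1
  · exact absurd (mul_left_cancel (a := i) (by rw [h, D.comm i hi])) j2
  · exact absurd (mul_eq_right.1 h) h1
  · exact absurd (mul_right_cancel h) h2
  · exact h

theorem QData.inv (D : QData Q z w) : QData Q z w⁻¹ where
  card := D.card
  z_mem := D.z_mem
  zz := D.zz
  z_ne := D.z_ne
  comm := D.comm
  w3 := by rw [← mul_inv_rev, ← mul_inv_rev, ← mul_assoc, D.w3, inv_one]
  wz := (Commute.inv_left (show Commute w z from D.wz)).eq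
  norm := fun q hq => by
    have e : w⁻¹ * q * w⁻¹⁻¹ = w * (w * q * w⁻¹) * w⁻¹ := by
      conv_lhs => rw [← D.three q]
      group
    rw [e]
    exact D.norm _ (D.norm q hq)
  fix := fun q hq e => D.fix q hq (by
    have h : Commute w⁻¹⁻¹ q := (show Commute w⁻¹ q from e).inv_left
    rwa [inv_inv] at h)
  sq := D.sq

theorem QData.commutator (D : QData Q z w) {i : G} (hi : i ∈ Q) (h1 : i ≠ 1) (h2 : i ≠ z)
    (h : i * (w * i * w⁻¹) = w * (w * i * w⁻¹) * w⁻¹) :
    i * (w * i * w⁻¹) * i⁻¹ * (w * i * w⁻¹)⁻¹ = z := by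
  obtain ⟨j1, j2⟩ := D.conj_ne h1 h2
  obtain ⟨k1, k2⟩ := D.conj_ne j1 j2
  set j := w * i * w⁻¹
  have hjm : j ∈ Q := D.norm i hi
  have hk := D.sq (i * j) (mul_mem hi hjm) (h ▸ k1) (h ▸ k2)
  have hii := D.sq i hi h1 h2
  have hjj := D.sq j hjm j1 j2
  have hiv : i⁻¹ = z * i := inv_eq_of_mul_eq_one_right (by rw [← mul_assoc, D.comm i hi, mul_assoc, hii, D.zz])
  have hjv : j⁻¹ = z * j := inv_eq_of_mul_eq_one_right (by rw [← mul_assoc, D.comm j hjm, mul_assoc, hjj, D.zz])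
  calc i * j * i⁻¹ * j⁻¹ = i * j * (z * i) * (z * j) := by rw [hiv, hjv]
    _ = (i * j) * z * (i * z) * j := by
        rw [show i * j * (z * i) * (z * j) = (i * j) * z * (i * z) * j by group]
    _ = (i * j) * (z * z) * (i * j) := by rw [D.comm i hi]; group
    _ = z := by rw [D.zz, mul_one, hk]

omit [Finite G] in
theorem card_sup_le {A C : Subgroup G} (h : C ≤ normalizer (A : Set G)) [Finite ↥A] [Finite ↥C] :
    Nat.card ↥(A ⊔ C : Subgroup G) ≤ Nat.card ↥A * Nat.card ↥C := by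
  rw [← Nat.card_prod]
  refine Nat.card_le_card_of_surjective (fun p : ↥A × ↥C =>
    (⟨(p.1 : G) * p.2, mul_mem (Subgroup.mem_sup_left p.1.2) (Subgroup.mem_sup_right p.2.2)⟩ : ↥(A ⊔ C : Subgroup G))) ?_
  rintro ⟨a, ha⟩
  rw [← SetLike.mem_coe, Subgroup.coe_mul_of_right_le_normalizer_left A C h] at ha
  obtain ⟨b, hb, c, hc, rfl⟩ := Set.mem_mul.1 ha
  exact ⟨(⟨b, hb⟩, ⟨c, hc⟩), rfl⟩

variable (B : ElevenBase U z t x y)
include B

theorem zz : z * z = 1 := ClassCount.mul_self_eq_one_of_orderOf B.order_z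

theorem z_inv : z⁻¹ = z := inv_eq_of_mul_eq_one_right (zz B)

theorem card_X : Nat.card ↥(zpowers x) = 11 := by rw [Nat.card_zpowers, B.order_x]

theorem X_le : zpowers x ≤ U := zpowers_le.2 B.x_mem

theorem pow_U {a : G} (ha : a ∈ U) : a ^ 1331 = 1 := ElevenAbelian.pow_card_mem B.card_U ha

theorem eq_one_of_two {a : G} (ha : a ∈ U) (h : a * a = 1) : a = 1 :=
  ElevenAbelian.eq_one_of_eq_inv B.card_U ha (mul_eq_one_iff_eq_inv.1 h)

theorem center_U : (center ↥U).map U.subtype = zpowers x := by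
  haveI : Fact (Nat.Prime 11) := ⟨by norm_num⟩
  symm
  refine eq_of_le_of_card_ge (zpowers_le.2 ⟨⟨x, B.x_mem⟩, ?_, rfl⟩) ?_
  · exact Subgroup.mem_center_iff.2 fun a => Subtype.ext (B.x_comm a a.2).eq
  · rw [card_map_of_injective U.subtype_injective, card_X B]
    have hnc : ¬ ∀ a b : ↥U, a * b = b * a := fun h =>
      B.not_comm fun a ha b hb => congrArg Subtype.val (h ⟨a, ha⟩ ⟨b, hb⟩)
    have h11 : Nat.card ↥U = 11 ^ 3 := by rw [B.card_U]; norm_num
    obtain ⟨h1, h2⟩ := EssentialSmall.card_center_mul_le h11 hnc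
    obtain ⟨k, -, hk⟩ := (Nat.dvd_prime_pow (by norm_num : Nat.Prime 11)).1
      (h11 ▸ card_subgroup_dvd_card (center ↥U))
    rw [hk, h11, ← pow_add] at h2
    have := (Nat.pow_le_pow_iff_right (by norm_num)).1 h2
    rw [hk]
    calc 11 ^ k ≤ 11 ^ 1 := Nat.pow_le_pow_right (by norm_num) (by omega)
      _ = 11 := by norm_num

theorem mem_X_iff {a : G} : a ∈ zpowers x ↔ a ∈ U ∧ ∀ b ∈ U, b * a = a * b := by
  constructor
  · intro ha
    refine ⟨X_le B ha, fun b hb => ?_⟩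
    obtain ⟨k, rfl⟩ := mem_zpowers_iff.1 ha
    exact ((B.x_comm b hb).zpow_right k).eq
  · rintro ⟨ha, h⟩
    rw [← center_U B]
    exact ⟨⟨a, ha⟩, Subgroup.mem_center_iff.2 fun b => Subtype.ext (h b b.2), rfl⟩

theorem norm_X_conj {n a : G} (hn : n ∈ normalizer (U : Set G)) (ha : a ∈ zpowers x) :
    n * a * n⁻¹ ∈ zpowers x := by
  obtain ⟨ha1, ha2⟩ := (mem_X_iff B).1 ha
  refine (mem_X_iff B).2 ⟨(mem_set_normalizer_iff.1 hn a).1 ha1, fun b hb => ?_⟩
  have hb' : n⁻¹ * b * n ∈ U := (mem_set_normalizer_iff''.1 hn b).1 hb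
  calc b * (n * a * n⁻¹) = n * (n⁻¹ * b * n * a) * n⁻¹ := by group
    _ = n * (a * (n⁻¹ * b * n)) * n⁻¹ := by rw [ha2 _ hb']
    _ = _ := by group

theorem normalizer_eq : normalizer (U : Set G) = normalizer (zpowers x : Set G) :=
  le_antisymm (fun _ hn => Subgroup.mem_normalizer_fintype fun _ hq => norm_X_conj B hn hq) B.U_norm

theorem card_normalizer : Nat.card ↥(normalizer (U : Set G)) = 319440 := by
  rw [normalizer_eq B, B.card_norm_x]

theorem cent_x_le : centralizer ({x} : Set G) ≤ normalizer (U : Set G) := by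
  intro g hg
  refine B.U_norm (centralizer_le_normalizer _ (mem_centralizer_iff.2 fun c hc => ?_))
  obtain ⟨k, rfl⟩ := mem_zpowers_iff.1 hc
  exact ((show Commute g x from mem_centralizer_singleton_iff.1 hg).zpow_right k).eq.symm

theorem conj_U {n a : G} (hn : n ∈ normalizer (U : Set G)) (ha : a ∈ U) : n * a * n⁻¹ ∈ U :=
  (mem_set_normalizer_iff.1 hn a).1 ha

theorem comm_mem {a b : G} (ha : a ∈ U) (hb : b ∈ U) : a * b * a⁻¹ * b⁻¹ ∈ zpowers x := by
  haveI : Fact (Nat.Prime 11) := ⟨by norm_num⟩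
  have hquot : IsMulCommutative (↥U ⧸ center ↥U) := IsPGroup.isMulCommutative_of_card_eq_prime_sq (p := 11) (by
    have h := (center ↥U).index_mul_card
    have hc : Nat.card ↥(center ↥U) = 11 := by
      rw [← card_map_of_injective U.subtype_injective, center_U B, card_X B]
    rw [hc, B.card_U, Subgroup.index_eq_card] at h
    omega)
  have hle := Subgroup.Normal.quotient_commutative_iff_commutator_le.1 hquot
  rw [← center_U B]
  exact ⟨_, hle (Subgroup.commutator_mem_commutator (Subgroup.mem_top (⟨a, ha⟩ : ↥U)) (Subgroup.mem_top ⟨b, hb⟩)), rfl⟩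

/-- Elements of `U` congruent modulo the centre. -/
def Eqv (x a b : G) : Prop := a * b⁻¹ ∈ zpowers x

theorem eqv_swap {a b : G} (ha : a ∈ U) (hb : b ∈ U) : Eqv x (a * b) (b * a) := by
  show a * b * (b * a)⁻¹ ∈ zpowers x
  rw [show a * b * (b * a)⁻¹ = a * b * a⁻¹ * b⁻¹ by group]
  exact comm_mem B ha hb

theorem pow_mem_X {a : G} (ha : a ∈ U) : a ^ 11 ∈ zpowers x := by
  haveI : Fact (Nat.Prime 11) := ⟨by norm_num⟩
  have hc : Nat.card (↥U ⧸ center ↥U) = 121 := by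
    have h := (center ↥U).index_mul_card
    have hc : Nat.card ↥(center ↥U) = 11 := by
      rw [← card_map_of_injective U.subtype_injective, center_U B, card_X B]
    rw [hc, B.card_U, Subgroup.index_eq_card] at h
    omega
  set q : ↥U ⧸ center ↥U := QuotientGroup.mk ⟨a, ha⟩
  have hne : orderOf q ≠ 121 := fun e => by
    haveI : IsCyclic (↥U ⧸ center ↥U) := isCyclic_of_orderOf_eq_card q (e.trans hc.symm)
    exact B.not_comm fun a ha b hb => congrArg Subtype.val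
      (commutative_of_cyclic_center_quotient (QuotientGroup.mk' (center ↥U)) (by rw [QuotientGroup.ker_mk'])
        (⟨a, ha⟩ : ↥U) ⟨b, hb⟩)
  obtain ⟨k, hk, hkq⟩ := (Nat.dvd_prime_pow (by norm_num : Nat.Prime 11)).1
    (show orderOf q ∣ 11 ^ 2 by
      have h := orderOf_dvd_natCard q
      rw [hc] at h
      simpa using h)
  have h1 : orderOf q ∣ 11 := by
    rcases k with - | - | k
    · rw [hkq]; norm_num
    · rw [hkq, zero_add, pow_one]
    · exfalso
      obtain rfl : k = 0 := by omega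
      exact hne (hkq.trans (by norm_num))
  have h := orderOf_dvd_iff_pow_eq_one.1 h1
  rw [← QuotientGroup.mk_pow, QuotientGroup.eq_one_iff] at h
  rw [← center_U B]
  exact ⟨_, h, rfl⟩

theorem z_fix {a : G} (ha : a ∈ U) (h : Eqv x (z * a * z⁻¹) a) : a ∈ zpowers x := by
  refine B.fix z (mem_centralizer_singleton_iff.2 B.comm_xz.eq.symm) (fun hz => ?_) a ha h
  have h1 : z = 1 := eq_one_of_two B hz (zz B)
  have := B.order_z
  rw [h1, orderOf_one] at this
  omega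

/-- The involution inverts the quotient by the centre. -/
theorem z_inverts {a : G} (ha : a ∈ U) : z * a * z⁻¹ * a ∈ zpowers x := by
  have hb := conj_U B B.z_norm ha
  refine z_fix B (mul_mem hb ha) ?_
  have h := eqv_swap B ha hb
  show z * (z * a * z⁻¹ * a) * z⁻¹ * (z * a * z⁻¹ * a)⁻¹ ∈ zpowers x
  rw [show z * (z * a * z⁻¹ * a) * z⁻¹ = (z * z) * a * (z * z)⁻¹ * (z * a * z⁻¹) by group, zz B, one_mul, inv_one,
    mul_one]
  exact h

theorem exp_eleven {a : G} (ha : a ∈ U) : a ^ 11 = 1 := by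
  obtain ⟨c, hc⟩ : ∃ c, c = z * a * z⁻¹ * a := ⟨_, rfl⟩
  have hcX : c ∈ zpowers x := hc ▸ z_inverts B ha
  have hp := pow_mem_X B ha
  have hcomm : Commute (a ^ 11) z := by
    obtain ⟨k, hk⟩ := mem_zpowers_iff.1 hp
    exact hk ▸ B.comm_xz.zpow_left k
  have hca : Commute c a⁻¹ := Commute.inv_right (((mem_X_iff B).1 hcX).2 a ha).symm
  have hc11 : c ^ 11 = 1 := by
    obtain ⟨k, rfl⟩ := mem_zpowers_iff.1 hcX
    rw [← zpow_natCast, ← zpow_mul, mul_comm, zpow_mul, zpow_natCast, ← B.order_x, pow_orderOf_eq_one, one_zpow]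
  have h1 : (z * a * z⁻¹) ^ 11 = (a ^ 11)⁻¹ := by
    rw [show z * a * z⁻¹ = c * a⁻¹ by rw [hc]; group, hca.mul_pow, hc11, one_mul, inv_pow]
  rw [conj_pow, ← hcomm.eq, mul_inv_cancel_right] at h1
  exact eq_one_of_two B (pow_mem ha 11) (mul_eq_one_iff_eq_inv.2 h1)

theorem extraspecial : Cfsg.IsExtraspecial 11 ↥U := by
  haveI : Fact (Nat.Prime 11) := ⟨by norm_num⟩
  exact EssentialSmall.isExtraspecial_of_card_cube (by rw [B.card_U]; norm_num)
    (fun h => B.not_comm fun a ha b hb => congrArg Subtype.val (h ⟨a, ha⟩ ⟨b, hb⟩))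
    (fun a => Subtype.ext (exp_eleven B a.2))

theorem exponent_eq : Monoid.exponent ↥U = 11 := by
  haveI : Fact (Nat.Prime 11) := ⟨by norm_num⟩
  haveI : Nontrivial ↥U := Finite.one_lt_card_iff_nontrivial.1 (by rw [B.card_U]; norm_num)
  exact (Monoid.exponent_eq_prime_iff (by norm_num)).2 fun a ha =>
    orderOf_eq_prime (Subtype.ext (exp_eleven B a.2)) ha

/-- Sylow subgroup. -/
theorem exists_sylow : ∃ T : Sylow 11 G, (T : Subgroup G) = U := by
  haveI : Fact (Nat.Prime 11) := ⟨by norm_num⟩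
  have hfac : (Nat.card G).factorization 11 = 3 := by
    rw [B.card_G, Nat.factorization_def _ (by norm_num),
      show (86775571046077562880 : ℕ) = 11 ^ 3 * 65195770883604480 by norm_num,
      padicValNat.mul (by norm_num) (by norm_num), padicValNat.prime_pow,
      padicValNat.eq_zero_of_not_dvd (by norm_num)]
  exact ⟨Sylow.ofCard U (by rw [B.card_U, hfac]; norm_num), rfl⟩

/-! ### The classes -/

theorem conj_of_X {a : G} (ha : a ∈ zpowers x) (ha1 : a ≠ 1) : IsConj x a := by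
  obtain ⟨k, rfl⟩ := mem_zpowers_iff.1 ha
  obtain ⟨n, hn⟩ : ∃ n : ℕ, x ^ k = x ^ n := ⟨(k % (orderOf x : ℤ)).toNat, by
    rw [← zpow_natCast, Int.toNat_of_nonneg (Int.emod_nonneg _ (by simp [B.order_x])), zpow_mod_orderOf]⟩
  rw [hn] at ha1 ⊢
  exact B.conj_x n fun ⟨m, hm⟩ => ha1 (by rw [hm, pow_mul, ← B.order_x, pow_orderOf_eq_one, one_pow])

theorem y_not_X : y ∉ zpowers x := fun h => B.not_xy (conj_of_X B h fun e => by
  have := B.order_y; rw [e, orderOf_one] at this; omega)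

theorem coset_conj {a c : G} (ha : a ∈ U) (haX : a ∉ zpowers x) (hc : c ∈ zpowers x) : IsConj a (c * a) := by
  haveI : Fact (Nat.Prime 11) := ⟨by norm_num⟩
  obtain ⟨b, hb, hne⟩ : ∃ b ∈ U, b * a ≠ a * b := by
    by_contra h
    push Not at h
    exact haX ((mem_X_iff B).2 ⟨ha, h⟩)
  set d := b * a * b⁻¹ * a⁻¹
  have hd : d ∈ zpowers x := comm_mem B hb ha
  have hd1 : d ≠ 1 := fun e => hne (by rw [← mul_inv_eq_one, show b * a * (a * b)⁻¹ = d by simp only [d]; group, e])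
  obtain ⟨k, hk⟩ := mem_zpowers_iff.1 (show c ∈ zpowers d by
    have h := mem_zpowers_of_prime_card (card_X B) (g := (⟨d, hd⟩ : zpowers x)) (g' := (⟨c, hc⟩ : zpowers x))
      fun e => hd1 (congrArg Subtype.val e)
    obtain ⟨k, hk⟩ := mem_zpowers_iff.1 h
    exact mem_zpowers_iff.2 ⟨k, by simpa using congrArg Subtype.val hk⟩)
  refine isConj_iff.2 ⟨b ^ k, ?_⟩
  have hbd : Commute b d := ((mem_X_iff B).1 hd).2 b hb
  have hcomm : SemiconjBy a (d * b) b := by
    show a * (d * b) = b * a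
    have hda : Commute a d := ((mem_X_iff B).1 hd).2 a ha
    rw [← mul_assoc, hda.eq]
    simp only [d]; group
  have h2 := hcomm.zpow_right k
  rw [hbd.symm.mul_zpow, hk] at h2
  rw [← h2.eq, show a * (c * b ^ k) * (b ^ k)⁻¹ = a * c by group, ((mem_X_iff B).1 hc).2 a ha]

theorem conj_of_U {a : G} (ha : a ∈ U) (haX : a ∉ zpowers x) : IsConj y a := by
  obtain ⟨n, hn, h⟩ := B.trans y B.y_mem (y_not_X B) a ha haX
  have h1 : IsConj y (n * y * n⁻¹ * a⁻¹ * a) := isConj_iff.2 ⟨n, by group⟩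
  exact h1.trans (coset_conj B ha haX h).symm

theorem classes_eleven {w : G} (hw : orderOf w = 11) : IsConj w x ∨ IsConj w y := by
  haveI : Fact (Nat.Prime 11) := ⟨by norm_num⟩
  obtain ⟨T, hT⟩ := exists_sylow B
  obtain ⟨T', hT'⟩ := (IsPGroup.of_card (n := 1) (G := ↥(zpowers w))
    (by rw [Nat.card_zpowers, hw, pow_one])).exists_le_sylow
  obtain ⟨g, hg⟩ := MulAction.exists_smul_eq G T' T
  have hmem : g * w * g⁻¹ ∈ U := by
    rw [← hT, ← hg, Sylow.coe_subgroup_smul]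
    exact ⟨w, hT' (mem_zpowers w), rfl⟩
  have hwc : IsConj w (g * w * g⁻¹) := isConj_iff.2 ⟨g, rfl⟩
  by_cases hX : g * w * g⁻¹ ∈ zpowers x
  · refine Or.inl (hwc.trans (conj_of_X B hX fun e => ?_).symm)
    rw [conj_eq_one_iff] at e
    rw [e, orderOf_one] at hw
    omega
  · exact Or.inr (hwc.trans (conj_of_U B hmem hX).symm)

theorem two_classes : ∃ x y : G, orderOf x = 11 ∧ orderOf y = 11 ∧ ¬ IsConj x y ∧
    ∀ w : G, orderOf w = 11 → IsConj w x ∨ IsConj w y :=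
  ⟨x, y, B.order_x, B.order_y, B.not_xy, fun _ hw => classes_eleven B hw⟩

/-! ### Elements inverting the centre -/

theorem conj_comm_X {v : G} (hv : v * x * v⁻¹ = x⁻¹) {c : G} (hc : c ∈ zpowers x) : v * c * v⁻¹ = c⁻¹ := by
  obtain ⟨k, rfl⟩ := mem_zpowers_iff.1 hc
  rw [← conj_zpow, hv, inv_zpow]

theorem inv_norm {v : G} (hv : v * x * v⁻¹ = x⁻¹) : v ∈ normalizer (U : Set G) := by
  rw [normalizer_eq B]
  refine Subgroup.mem_normalizer_fintype fun c hc => ?_
  rw [SetLike.mem_coe, conj_comm_X B hv hc]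
  exact inv_mem hc

/-- If `v` acts on `a`, `b` by the same sign modulo the centre then it fixes their commutator. -/
theorem comm_congr {a a' b b' : G} (ha' : a' ∈ U) (hb' : b' ∈ U) (ha : Eqv x a a') (hb : Eqv x b b') :
    a * b * a⁻¹ * b⁻¹ = a' * b' * a'⁻¹ * b'⁻¹ := by
  obtain ⟨c, hc, rfl⟩ : ∃ c ∈ zpowers x, a = c * a' := ⟨_, ha, by group⟩
  obtain ⟨d, hd, rfl⟩ : ∃ d ∈ zpowers x, b = d * b' := ⟨_, hb, by group⟩
  have hca : ∀ e ∈ U, Commute e c := fun e he => ((mem_X_iff B).1 hc).2 e he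
  have hdb : ∀ e ∈ U, Commute e d := fun e he => ((mem_X_iff B).1 hd).2 e he
  calc c * a' * (d * b') * (c * a')⁻¹ * (d * b')⁻¹ = c * (a' * d) * b' * a'⁻¹ * c⁻¹ * b'⁻¹ * d⁻¹ := by group
    _ = c * d * (a' * b' * a'⁻¹) * (c⁻¹ * b'⁻¹) * d⁻¹ := by rw [(hdb a' ha').eq]; group
    _ = c * d * (a' * b' * a'⁻¹) * (b'⁻¹ * c⁻¹) * d⁻¹ := by rw [((hca _ (inv_mem hb')).inv_right).symm.eq]
    _ = (c * d) * (a' * b' * a'⁻¹ * b'⁻¹) * (d * c)⁻¹ := by group
    _ = (a' * b' * a'⁻¹ * b'⁻¹) * (c * d) * (d * c)⁻¹ := by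
        rw [show c * d * (a' * b' * a'⁻¹ * b'⁻¹) = a' * b' * a'⁻¹ * b'⁻¹ * (c * d) from
          (((mem_X_iff B).1 (mul_mem hc hd)).2 _ (X_le B (comm_mem B ha' hb'))).symm]
    _ = _ := by rw [(hca d (X_le B hd)).eq.symm]; group

theorem comm_inv_inv {a b : G} (ha : a ∈ U) (hb : b ∈ U) :
    a⁻¹ * b⁻¹ * a⁻¹⁻¹ * b⁻¹⁻¹ = a * b * a⁻¹ * b⁻¹ := by
  have hm : Commute (b * a) (a⁻¹ * b⁻¹ * a * b) := by
    have h := ((mem_X_iff B).1 (comm_mem B (inv_mem ha) (inv_mem hb))).2 _ (mul_mem hb ha)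
    rw [inv_inv, inv_inv] at h
    exact h
  rw [inv_inv, inv_inv, eq_comm]
  calc a * b * a⁻¹ * b⁻¹ = (b * a) * (a⁻¹ * b⁻¹ * a * b) * (b * a)⁻¹ := by group
    _ = _ := by rw [hm.eq, mul_inv_cancel_right]

/-- Such an element cannot have square `z`. -/
theorem sq_ne_z {v : G} (hv : v * x * v⁻¹ = x⁻¹) : v * v ≠ z := by
  intro hvz
  haveI : Fact (Nat.Prime 11) := ⟨by norm_num⟩
  have hvN := inv_norm B hv
  obtain ⟨a, ha, haX⟩ : ∃ a ∈ U, a ∉ zpowers x := ⟨y, B.y_mem, y_not_X B⟩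
  set b := v * a * v⁻¹
  have hb : b ∈ U := conj_U B hvN ha
  have hvb : v * b * v⁻¹ = z * a * z⁻¹ := by simp only [b]; rw [← hvz]; group
  have hza : Eqv x (z * a * z⁻¹) a⁻¹ := by show _ * _ ∈ _; rw [inv_inv]; exact z_inverts B ha
  -- `a` and its image commute
  have hab : a * b = b * a := by
    set c := a * b * a⁻¹ * b⁻¹ with hc
    have hcX : c ∈ zpowers x := comm_mem B ha hb
    have h1 : v * c * v⁻¹ = b * (v * b * v⁻¹) * b⁻¹ * (v * b * v⁻¹)⁻¹ := by simp only [hc, b]; group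
    rw [hvb, comm_congr B hb (inv_mem ha) (show Eqv x b b by show _ * _ ∈ _; rw [mul_inv_cancel]; exact one_mem _) hza,
      conj_comm_X B hv hcX] at h1
    have hm : Commute a (b * a⁻¹ * b⁻¹ * a) := by
      have h := ((mem_X_iff B).1 (comm_mem B hb (inv_mem ha))).2 a ha
      rw [inv_inv] at h
      exact h
    have h2 : b * a⁻¹ * b⁻¹ * a = c := by
      calc b * a⁻¹ * b⁻¹ * a = a * (b * a⁻¹ * b⁻¹ * a) * a⁻¹ := by rw [hm.eq, mul_inv_cancel_right]
        _ = c := by rw [hc]; group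
    rw [inv_inv] at h1
    rw [h2] at h1
    have h3 : c = 1 := eq_one_of_two B (X_le B hcX) (mul_eq_one_iff_eq_inv.2 h1.symm)
    rw [← mul_inv_eq_one, show a * b * (b * a)⁻¹ = c by rw [hc]; group, h3]
  -- so `b` is a power of `a` modulo the centre
  have hS : Nat.card ↥(U ⊓ centralizer ({a} : Set G)) ≤ 121 := by
    obtain ⟨i, hi, hic⟩ := (Nat.dvd_prime_pow (by norm_num : Nat.Prime 11)).1
      (show Nat.card ↥(U ⊓ centralizer ({a} : Set G)) ∣ 11 ^ 3 by
        rw [show (11 : ℕ) ^ 3 = Nat.card ↥U by rw [B.card_U]; norm_num]; exact card_dvd_of_le inf_le_left)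
    rcases Nat.lt_or_ge i 3 with h | h
    · rw [hic]; exact (Nat.pow_le_pow_right (by norm_num) (show i ≤ 2 by omega)).trans (by norm_num)
    · exfalso
      have heq := eq_of_le_of_card_ge (inf_le_left : U ⊓ centralizer ({a} : Set G) ≤ U)
        (by rw [hic, B.card_U]; exact le_trans (by norm_num) (Nat.pow_le_pow_right (by norm_num) h))
      refine haX ((mem_X_iff B).2 ⟨ha, fun e he => ?_⟩)
      rw [← heq] at he
      exact mem_centralizer_singleton_iff.1 (Subgroup.mem_inf.1 he).2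
  have hmemS : ∀ (c : ↥(zpowers x)) (n : Fin 11), (c : G) * a ^ (n : ℕ) ∈ U ⊓ centralizer ({a} : Set G) :=
    fun c n => ⟨mul_mem (X_le B c.2) (pow_mem ha _), mem_centralizer_singleton_iff.2
      ((show Commute a (c : G) from ((mem_X_iff B).1 c.2).2 a ha).symm.mul_left (Commute.pow_self a _)).eq⟩
  let φ : ↥(zpowers x) × Fin 11 → ↥(U ⊓ centralizer ({a} : Set G)) := fun p => ⟨_, hmemS p.1 p.2⟩
  have hφ : Function.Injective φ := by
    rintro ⟨c, m⟩ ⟨c', m'⟩ e
    have e' : (c : G) * a ^ (m : ℕ) = c' * a ^ (m' : ℕ) := congrArg Subtype.val e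
    have hpow : a ^ ((m : ℕ) : ℤ) * (a ^ ((m' : ℕ) : ℤ))⁻¹ ∈ zpowers x := by
      rw [zpow_natCast, zpow_natCast, show a ^ (m : ℕ) * (a ^ (m' : ℕ))⁻¹ = (c : G)⁻¹ * c' by
        rw [mul_inv_eq_iff_eq_mul, mul_assoc, ← e', inv_mul_cancel_left]]
      exact mul_mem (inv_mem c.2) c'.2
    rw [← zpow_sub] at hpow
    have hmm : m = m' := by
      by_contra hne
      apply haX
      have ho : orderOf a = 11 := orderOf_eq_prime (exp_eleven B ha) fun e => haX (e ▸ one_mem _)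
      have hcop : IsCoprime (((m : ℕ) : ℤ) - (m' : ℕ)) (11 : ℤ) := by
        refine ((Nat.prime_iff_prime_int.1 (by norm_num : Nat.Prime 11)).coprime_iff_not_dvd.2 fun hd => hne ?_).symm
        have := Int.eq_zero_of_abs_lt_dvd hd (abs_sub_lt_iff.2 ⟨by omega, by omega⟩)
        exact Fin.ext (by omega)
      obtain ⟨p, q, hpq⟩ := hcop
      have h := zpow_mem hpow p
      rw [← zpow_mul] at h
      have h11 : a ^ (q * 11) = 1 := by
        rw [mul_comm, zpow_mul, show (11 : ℤ) = ((11 : ℕ) : ℤ) by norm_num, zpow_natCast, exp_eleven B ha, one_zpow]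
      have : a = a ^ ((((m : ℕ) : ℤ) - (m' : ℕ)) * p) := by
        conv_lhs => rw [← zpow_one a, ← hpq, zpow_add, h11, mul_one, mul_comm]
      rw [this]; exact h
    subst hmm
    exact Prod.ext (Subtype.ext (mul_right_cancel e')) rfl
  obtain ⟨⟨c, m⟩, hcm⟩ := (hφ.bijective_of_nat_card_le (by
    rw [Nat.card_prod, card_X B, Nat.card_fin]; exact hS)).2
      ⟨b, hb, mem_centralizer_singleton_iff.2 hab.symm⟩
  have hbm : (c : G) * a ^ (m : ℕ) = b := congrArg Subtype.val hcm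
  -- then `-1` would be a square modulo 11
  have h1 : v * b * v⁻¹ = (c : G)⁻¹ * b ^ (m : ℕ) := by
    conv_lhs => rw [← hbm]
    rw [show v * ((c : G) * a ^ (m : ℕ)) * v⁻¹ = v * c * v⁻¹ * (v * a ^ (m : ℕ) * v⁻¹) by group, conj_comm_X B hv c.2,
      ← conj_pow]
  have hcb : Commute (c : G) (a ^ (m : ℕ)) := (((mem_X_iff B).1 c.2).2 _ (pow_mem ha _) : Commute (a ^ (m : ℕ)) (c : G)).symm
  rw [hvb, show b ^ (m : ℕ) = (c : G) ^ (m : ℕ) * a ^ ((m : ℕ) * (m : ℕ)) by
    rw [← hbm, hcb.mul_pow, ← pow_mul]] at h1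
  have hmem : a ^ ((m : ℕ) * (m : ℕ) + 1) ∈ zpowers x := by
    have hh : a ^ ((m : ℕ) * (m : ℕ) + 1) = ((c : G)⁻¹ * (c : G) ^ (m : ℕ))⁻¹ * (z * a * z⁻¹ * a) := by
      rw [h1, pow_succ]; group
    rw [hh]
    exact mul_mem (inv_mem (mul_mem (inv_mem c.2) (pow_mem c.2 _))) (z_inverts B ha)
  have hsq : ∀ i : Fin 11, ((i : ℕ) * i + 1) % 11 ≠ 0 := by decide
  apply haX
  set n := (m : ℕ) * (m : ℕ) + 1
  have hcop : Nat.Coprime n 11 :=
    ((by norm_num : Nat.Prime 11).coprime_iff_not_dvd.2 fun hd => hsq m (Nat.mod_eq_zero_of_dvd hd)).symm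
  obtain ⟨p, hp⟩ := Nat.exists_mul_mod_eq_one_of_coprime hcop (by norm_num)
  have hpe : a ^ (n * p) = a := by
    rw [← Nat.mod_add_div (n * p) 11, hp.2, pow_add, pow_mul, exp_eleven B ha, one_pow, mul_one, pow_one]
  rw [← hpe, pow_mul]
  exact pow_mem hmem p

/-! ### GL(2,3) -/

/-- The elements fixed by `u` modulo the centre. -/
theorem no_central_involution {v : G} (hv : v * x * v⁻¹ = x⁻¹) (hvv : v * v = 1) {i j : G}
    (hi : i ∈ centralizer ({x} : Set G)) (hj : j ∈ centralizer ({x} : Set G)) (hvi : v * i = i * v)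
    (hvj : v * j = j * v) (hij : i * j * i⁻¹ * j⁻¹ = z) : False := by
  haveI : Fact (Nat.Prime 11) := ⟨by norm_num⟩
  have hvN := inv_norm B hv
  have hx1 : x ≠ 1 := fun e => by have := B.order_x; rw [e, orderOf_one] at this; omega
  let F : Subgroup G :=
    { carrier := {a | a ∈ U ∧ Eqv x (v * a * v⁻¹) a}
      one_mem' := ⟨one_mem _, by simp [Eqv]⟩
      mul_mem' := by
        rintro a b ⟨ha, ha'⟩ ⟨hb, hb'⟩
        refine ⟨mul_mem ha hb, ?_⟩
        show v * (a * b) * v⁻¹ * (a * b)⁻¹ ∈ zpowers x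
        have hc := ((mem_X_iff B).1 hb').2 _ ha
        rw [show v * (a * b) * v⁻¹ * (a * b)⁻¹ = v * a * v⁻¹ * (v * b * v⁻¹ * b⁻¹) * a⁻¹ by group,
          show v * a * v⁻¹ * (v * b * v⁻¹ * b⁻¹) * a⁻¹ = v * a * v⁻¹ * a⁻¹ * (a * (v * b * v⁻¹ * b⁻¹)) * a⁻¹ by group,
          hc]
        exact mul_mem (mul_mem ha' (by simpa using mul_mem hb' (one_mem _))) (one_mem _) |> fun h => by
          simpa [mul_assoc] using h
      inv_mem' := by
        rintro a ⟨ha, ha'⟩
        refine ⟨inv_mem ha, ?_⟩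
        show v * a⁻¹ * v⁻¹ * a⁻¹⁻¹ ∈ zpowers x
        have hc := ((mem_X_iff B).1 ha').2 _ (inv_mem ha)
        rw [show v * a⁻¹ * v⁻¹ * a⁻¹⁻¹ = a⁻¹ * (v * a * v⁻¹ * a⁻¹)⁻¹ * a by group,
          show a⁻¹ * (v * a * v⁻¹ * a⁻¹)⁻¹ = (v * a * v⁻¹ * a⁻¹)⁻¹ * a⁻¹ from
            (Commute.inv_right (hc : Commute a⁻¹ _)).eq, mul_assoc, inv_mul_cancel, mul_one]
        exact inv_mem ha' }
  have hFU : F ≤ U := fun a ha => ha.1
  have hXF : zpowers x ≤ F := fun c hc => ⟨X_le B hc, by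
    show v * c * v⁻¹ * c⁻¹ ∈ zpowers x
    rw [conj_comm_X B hv hc]; exact mul_mem (inv_mem hc) (inv_mem hc)⟩
  have hcb : ∀ a ∈ U, ∀ b ∈ U, v * (a * b * a⁻¹ * b⁻¹) * v⁻¹ = a * b * a⁻¹ * b⁻¹ → a * b = b * a := by
    intro a ha b hb h
    rw [conj_comm_X B hv (comm_mem B ha hb)] at h
    have h1 := eq_one_of_two B (X_le B (comm_mem B ha hb)) (mul_eq_one_iff_eq_inv.2 h.symm)
    rwa [mul_inv_eq_one, mul_inv_eq_iff_eq_mul] at h1
  have hneU : F ≠ U := by
    intro e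
    refine B.not_comm fun a ha b hb => hcb a ha b hb ?_
    rw [show v * (a * b * a⁻¹ * b⁻¹) * v⁻¹ = v * a * v⁻¹ * (v * b * v⁻¹) * (v * a * v⁻¹)⁻¹ * (v * b * v⁻¹)⁻¹ by group]
    exact comm_congr B ha hb (e ▸ ha : a ∈ F).2 (e ▸ hb : b ∈ F).2
  have hneX : F ≠ zpowers x := by
    intro e
    have hinv : ∀ a ∈ U, Eqv x (v * a * v⁻¹) a⁻¹ := by
      intro a ha
      have hb := conj_U B hvN ha
      have hF : v * a * v⁻¹ * a ∈ F := by
        refine ⟨mul_mem hb ha, ?_⟩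
        show v * (v * a * v⁻¹ * a) * v⁻¹ * (v * a * v⁻¹ * a)⁻¹ ∈ zpowers x
        rw [show v * (v * a * v⁻¹ * a) * v⁻¹ = (v * v) * a * (v * v)⁻¹ * (v * a * v⁻¹) by group, hvv, one_mul,
          inv_one, mul_one]
        exact eqv_swap B ha hb
      show v * a * v⁻¹ * a⁻¹⁻¹ ∈ zpowers x
      rw [inv_inv]
      exact e ▸ hF
    refine B.not_comm fun a ha b hb => hcb a ha b hb ?_
    rw [show v * (a * b * a⁻¹ * b⁻¹) * v⁻¹ = v * a * v⁻¹ * (v * b * v⁻¹) * (v * a * v⁻¹)⁻¹ * (v * b * v⁻¹)⁻¹ by group,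
      comm_congr B (inv_mem ha) (inv_mem hb) (hinv a ha) (hinv b hb), comm_inv_inv B ha hb]
  obtain ⟨k, hk, hkc⟩ := (Nat.dvd_prime_pow (by norm_num : Nat.Prime 11)).1
    (show Nat.card ↥F ∣ 11 ^ 3 by
      rw [show (11 : ℕ) ^ 3 = Nat.card ↥U by rw [B.card_U]; norm_num]; exact card_dvd_of_le hFU)
  have hk2 : k = 2 := by
    have h1 : 2 ≤ k := by
      by_contra hlt
      refine hneX (eq_of_le_of_card_ge hXF ?_).symm
      rw [hkc, card_X B]
      exact (Nat.pow_le_pow_right (by norm_num) (show k ≤ 1 by omega)).trans (by norm_num)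
    have h2 : k ≤ 2 := by
      by_contra hlt
      refine hneU (eq_of_le_of_card_ge hFU ?_)
      rw [hkc, B.card_U]
      exact le_trans (by norm_num) (Nat.pow_le_pow_right (by norm_num) (show 3 ≤ k by omega))
    omega
  subst hk2
  obtain ⟨a, ha, haX⟩ : ∃ a ∈ F, a ∉ zpowers x := by
    by_contra h
    push Not at h
    exact hneX (le_antisymm h hXF)
  -- scalars on the quotient of `F`
  haveI := IsPGroup.isMulCommutative_of_card_eq_prime_sq (p := 11) hkc
  have hS : F = zpowers x ⊔ zpowers a := by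
    refine (eq_of_le_of_card_ge (sup_le hXF (zpowers_le.2 ha)) ?_).symm
    obtain ⟨i, -, hic⟩ := (Nat.dvd_prime_pow (by norm_num : Nat.Prime 11)).1
      (hkc ▸ card_dvd_of_le (sup_le hXF (zpowers_le.2 ha)))
    rw [hkc, hic]
    refine Nat.pow_le_pow_right (by norm_num) ?_
    by_contra hlt
    apply haX
    have heq : zpowers x = zpowers x ⊔ zpowers a := eq_of_le_of_card_ge le_sup_left (by
      rw [card_X B, hic]
      exact (Nat.pow_le_pow_right (by norm_num) (show i ≤ 1 by omega)).trans (by norm_num))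
    rw [heq]; exact Subgroup.mem_sup_right (mem_zpowers a)
  have hsplit : ∀ {b : G}, b ∈ zpowers x ⊔ zpowers a → ∃ c ∈ zpowers x, ∃ d ∈ zpowers a, c * d = b := by
    intro b hb
    rw [← SetLike.mem_coe, Subgroup.coe_mul_of_right_le_normalizer_left (zpowers x) (zpowers a)
      (zpowers_le.2 (Subgroup.mem_normalizer_fintype fun c hc => norm_X_conj B (le_normalizer ha.1) hc))] at hb
    exact Set.mem_mul.1 hb
  have hstep : ∀ g ∈ centralizer ({x} : Set G), v * g = g * v →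
      ∃ m : ℤ, Eqv x (g * a * g⁻¹) (a ^ m) := by
    intro g hg hvg
    have hgN := cent_x_le B hg
    have hgF : g * a * g⁻¹ ∈ F := by
      refine ⟨conj_U B hgN ha.1, ?_⟩
      show v * (g * a * g⁻¹) * v⁻¹ * (g * a * g⁻¹)⁻¹ ∈ zpowers x
      rw [show v * (g * a * g⁻¹) * v⁻¹ = v * g * a * (v * g)⁻¹ by group, hvg,
        show g * v * a * (g * v)⁻¹ * (g * a * g⁻¹)⁻¹ = g * (v * a * v⁻¹ * a⁻¹) * g⁻¹ by group]
      exact norm_X_conj B hgN ha.2
    rw [hS] at hgF
    obtain ⟨c, hc, d, hd, e⟩ := hsplit hgF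
    obtain ⟨m, rfl⟩ := mem_zpowers_iff.1 hd
    exact ⟨m, by show _ * _ ∈ _; rw [← e, mul_inv_cancel_right]; exact hc⟩
  obtain ⟨m, hm⟩ := hstep i hi hvi
  obtain ⟨n, hn⟩ := hstep j hj hvj
  have hmul : ∀ {g : G} {p : ℤ}, g ∈ centralizer ({x} : Set G) → Eqv x (g * a * g⁻¹) (a ^ p) → ∀ q : ℤ,
      ∀ {b : G}, Eqv x b (a ^ q) → Eqv x (g * b * g⁻¹) (a ^ (p * q)) := by
    intro g p hg hp q b hb
    have hc : Commute (g * a * g⁻¹ * (a ^ p)⁻¹) (a ^ p) :=
      (((mem_X_iff B).1 hp).2 _ (zpow_mem ha.1 p) : Commute (a ^ p) _).symm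
    show g * b * g⁻¹ * (a ^ (p * q))⁻¹ ∈ zpowers x
    have e : g * b * g⁻¹ = g * (b * (a ^ q)⁻¹) * g⁻¹ * ((g * a * g⁻¹ * (a ^ p)⁻¹) ^ q * a ^ (p * q)) := by
      rw [zpow_mul, ← hc.mul_zpow, inv_mul_cancel_right, conj_zpow]; group
    rw [e, ← mul_assoc, mul_inv_cancel_right]
    exact mul_mem (norm_X_conj B (cent_x_le B hg) hb) (zpow_mem hp q)
  have hij' : Eqv x (i * j * a * (i * j)⁻¹) (a ^ (m * n)) := by
    rw [show i * j * a * (i * j)⁻¹ = i * (j * a * j⁻¹) * i⁻¹ by group]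
    exact hmul hi hm n hn
  have hji' : Eqv x (j * i * a * (j * i)⁻¹) (a ^ (m * n)) := by
    rw [show j * i * a * (j * i)⁻¹ = j * (i * a * i⁻¹) * j⁻¹ by group, mul_comm m n]
    exact hmul hj hn m hm
  -- so the commutator fixes `a` modulo the centre
  refine haX (z_fix B ha.1 ?_)
  have hd : Eqv x (i * j * a * (i * j)⁻¹) (j * i * a * (j * i)⁻¹) := by
    show _ * _ ∈ _
    have := mul_mem hij' (inv_mem hji')
    rwa [show i * j * a * (i * j)⁻¹ * (a ^ (m * n))⁻¹ * (j * i * a * (j * i)⁻¹ * (a ^ (m * n))⁻¹)⁻¹ =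
      i * j * a * (i * j)⁻¹ * (j * i * a * (j * i)⁻¹)⁻¹ by group] at this
  have hjiN : (j * i) ∈ normalizer (U : Set G) := mul_mem (cent_x_le B hj) (cent_x_le B hi)
  have hz' : z = (i * j) * (j * i)⁻¹ := by rw [← hij]; group
  obtain ⟨a', ha'⟩ : ∃ a', a' = (j * i)⁻¹ * a * (j * i) := ⟨_, rfl⟩
  -- transport along `j i`
  have key : ∀ b ∈ F, Eqv x (i * j * b * (i * j)⁻¹) (j * i * b * (j * i)⁻¹) := by
    intro b hb
    rw [hS] at hb
    obtain ⟨c, hc, d, hd', rfl⟩ := hsplit hb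
    obtain ⟨q, rfl⟩ := mem_zpowers_iff.1 hd'
    have hcc : ∀ g ∈ centralizer ({x} : Set G), g * c * g⁻¹ = c := fun g hg => by
      obtain ⟨r, rfl⟩ := mem_zpowers_iff.1 hc
      rw [((show Commute g x from mem_centralizer_singleton_iff.1 hg).zpow_right r).eq, mul_inv_cancel_right]
    show _ * _ ∈ _
    rw [show i * j * (c * a ^ q) * (i * j)⁻¹ = i * j * c * (i * j)⁻¹ * (i * j * a ^ q * (i * j)⁻¹) by group,
      show j * i * (c * a ^ q) * (j * i)⁻¹ = j * i * c * (j * i)⁻¹ * (j * i * a ^ q * (j * i)⁻¹) by group,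
      hcc _ (mul_mem hi hj), hcc _ (mul_mem hj hi)]
    have h1 := hmul (mul_mem hi hj) hij' q (b := a ^ q) (by show _ * _ ∈ _; rw [mul_inv_cancel]; exact one_mem _)
    have h2 := hmul (mul_mem hj hi) hji' q (b := a ^ q) (by show _ * _ ∈ _; rw [mul_inv_cancel]; exact one_mem _)
    have h3 := mul_mem h1 (inv_mem h2)
    rw [show i * j * a ^ q * (i * j)⁻¹ * (a ^ (m * n * q))⁻¹ * (j * i * a ^ q * (j * i)⁻¹ * (a ^ (m * n * q))⁻¹)⁻¹ =
      i * j * a ^ q * (i * j)⁻¹ * (j * i * a ^ q * (j * i)⁻¹)⁻¹ by group] at h3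
    have h4 := norm_X_conj B (le_normalizer (X_le B hc)) h3
    rw [show c * (i * j * a ^ q * (i * j)⁻¹) * (c * (j * i * a ^ q * (j * i)⁻¹))⁻¹
        = c * ((i * j * a ^ q * (i * j)⁻¹) * (j * i * a ^ q * (j * i)⁻¹)⁻¹) * c⁻¹ by group]
    exact h4
  have hjiv : v * (j * i) = (j * i) * v := by rw [← mul_assoc, hvj, mul_assoc, hvi, ← mul_assoc]
  have ha'F : (j * i)⁻¹ * a * (j * i) ∈ F := by
    refine ⟨(mem_set_normalizer_iff''.1 hjiN a).1 ha.1, ?_⟩
    show v * ((j * i)⁻¹ * a * (j * i)) * v⁻¹ * ((j * i)⁻¹ * a * (j * i))⁻¹ ∈ zpowers x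
    have hc : Commute v (j * i) := hjiv
    rw [show v * ((j * i)⁻¹ * a * (j * i)) * v⁻¹ = (v * (j * i)⁻¹) * a * (v * (j * i)⁻¹)⁻¹ by group, hc.inv_right.eq,
      show (j * i)⁻¹ * v * a * ((j * i)⁻¹ * v)⁻¹ * ((j * i)⁻¹ * a * (j * i))⁻¹ =
        (j * i)⁻¹ * (v * a * v⁻¹ * a⁻¹) * (j * i)⁻¹⁻¹ by group]
    exact norm_X_conj B (inv_mem hjiN) ha.2
  have h := key _ ha'F
  rw [show j * i * ((j * i)⁻¹ * a * (j * i)) * (j * i)⁻¹ = a by group,
    show i * j * ((j * i)⁻¹ * a * (j * i)) * (i * j)⁻¹ = (i * j * (j * i)⁻¹) * a * (i * j * (j * i)⁻¹)⁻¹ by group,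
    ← hz'] at h
  exact h

/-- The elements of `C(x)` commuting with `z`. -/
theorem card_L_le : Nat.card ↥(centralizer ({x} : Set G) ⊓ centralizer ({z} : Set G)) ≤ 264 := by
  haveI : Fact (Nat.Prime 11) := ⟨by norm_num⟩
  set L := centralizer ({x} : Set G) ⊓ centralizer ({z} : Set G)
  have hd : Nat.card ↥L ∣ 264 * 121 := by
    rw [show 264 * 121 = 31944 from rfl, ← B.card_cent_x]
    exact card_dvd_of_le inf_le_left
  obtain ⟨P⟩ : Nonempty (Sylow 11 ↥L) := Sylow.nonempty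
  have hPle : (P : Subgroup ↥L).map L.subtype ≤ zpowers x := by
    rintro _ ⟨p, hp, rfl⟩
    have hpU : (p : G) ∈ U := by
      obtain ⟨T, hT⟩ := exists_sylow B
      have hn : (P : Subgroup ↥L).map L.subtype ≤ normalizer (U : Set G) :=
        (map_subtype_le _).trans (inf_le_left.trans (cent_x_le B))
      have hpg := IsPGroup.to_sup_of_normal_left' (hT ▸ T.isPGroup') (P.isPGroup'.map L.subtype) hn
      rw [← hT, ← T.is_maximal' hpg (hT ▸ le_sup_left)]
      exact Subgroup.mem_sup_right ⟨p, hp, rfl⟩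
    refine z_fix B hpU ?_
    show z * (p : G) * z⁻¹ * (p : G)⁻¹ ∈ zpowers x
    rw [← mem_centralizer_singleton_iff.1 p.2.2, mul_inv_cancel_right, mul_inv_cancel]
    exact one_mem _
  have hP : Nat.card ↥(P : Subgroup ↥L) ∣ 11 := by
    rw [← card_map_of_injective L.subtype_injective]
    exact (card_dvd_of_le hPle).trans (card_X B).dvd
  obtain ⟨m, hm⟩ : Nat.card ↥(P : Subgroup ↥L) ∣ Nat.card ↥L := card_subgroup_dvd_card _
  have hnd : ¬ 11 ∣ m := by
    intro h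
    refine P.not_dvd_index ?_
    have h1 := (P : Subgroup ↥L).card_mul_index
    rw [show (P : Subgroup ↥L).index = m from Nat.eq_of_mul_eq_mul_left Nat.card_pos (h1.trans hm)]
    exact h
  rcases (Nat.dvd_prime (by norm_num : Nat.Prime 11)).1 hP with h | h
  · rw [h, one_mul] at hm
    rw [hm] at hd ⊢
    have hcop : Nat.Coprime m 121 := by
      rw [show (121 : ℕ) = 11 ^ 2 from rfl]
      exact (((by norm_num : Nat.Prime 11).coprime_iff_not_dvd.2 hnd).symm).pow_right 2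
    exact Nat.le_of_dvd (by norm_num) (hcop.dvd_of_dvd_mul_right hd)
  · rw [h] at hm
    rw [hm] at hd ⊢
    have hcop : Nat.Coprime m 121 := by
      rw [show (121 : ℕ) = 11 ^ 2 from rfl]
      exact (((by norm_num : Nat.Prime 11).coprime_iff_not_dvd.2 hnd).symm).pow_right 2
    have h2 : m ∣ 264 := hcop.dvd_of_dvd_mul_right (Dvd.dvd.trans (Dvd.intro_left 11 rfl) hd)
    have h3 : m ∣ 24 := ((((by norm_num : Nat.Prime 11).coprime_iff_not_dvd.2 hnd).symm).dvd_of_dvd_mul_right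
      (show m ∣ 24 * 11 from h2))
    have := Nat.le_of_dvd (by norm_num) h3
    omega

theorem invol_L {i : G} (hi : i ∈ centralizer ({x} : Set G) ⊓ centralizer ({z} : Set G)) (hi2 : orderOf i = 2) :
    i = z := by
  obtain ⟨a, ha, rfl⟩ := B.invol_x i hi.1 hi2
  have hmem : a * z * a⁻¹ * z ∈ U := by
    rw [show a * z * a⁻¹ * z = a * (z * a⁻¹ * z⁻¹) * (z * z) by group, zz B, mul_one]
    exact mul_mem ha (conj_U B B.z_norm (inv_mem ha))
  have hc : Commute (a * z * a⁻¹) z := mem_centralizer_singleton_iff.1 hi.2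
  have hsq : (a * z * a⁻¹ * z) * (a * z * a⁻¹ * z) = 1 := by
    rw [← pow_two, hc.mul_pow, conj_pow, pow_two z, zz B]
    simp
  rw [eq_inv_of_mul_eq_one_left (eq_one_of_two B hmem hsq), z_inv B]

/-- An element of `C(z)` inverting `x` and normalising `L`. -/
theorem exists_h : ∃ h : G, h * x * h⁻¹ = x⁻¹ ∧ h * z = z * h := by
  have hti : orderOf (t * z * t⁻¹) = 2 := by
    rw [show t * z * t⁻¹ = MulAut.conj t z from rfl, MulEquiv.orderOf_eq, B.order_z]
  have htc : t * z * t⁻¹ ∈ centralizer ({x} : Set G) := by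
    refine mem_centralizer_singleton_iff.2 ?_
    have hxi : t * x⁻¹ * t⁻¹ = x := by rw [← conj_inv, B.t_inv, inv_inv]
    calc t * z * t⁻¹ * x = t * z * t⁻¹ * (t * x⁻¹ * t⁻¹) := by rw [hxi]
      _ = t * (z * x⁻¹) * t⁻¹ := by group
      _ = t * (x⁻¹ * z) * t⁻¹ := by rw [B.comm_xz.inv_left.eq]
      _ = (t * x⁻¹ * t⁻¹) * (t * z * t⁻¹) := by group
      _ = _ := by rw [hxi]
  obtain ⟨a, ha, hat⟩ := B.invol_x _ htc hti
  refine ⟨a⁻¹ * t, ?_, ?_⟩
  · rw [show a⁻¹ * t * x * (a⁻¹ * t)⁻¹ = a⁻¹ * (t * x * t⁻¹) * a by group, B.t_inv,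
      ((B.x_comm a⁻¹ (inv_mem ha)).inv_right).eq, inv_mul_cancel_right]
  · calc a⁻¹ * t * z = a⁻¹ * (t * z * t⁻¹) * t := by group
      _ = a⁻¹ * (a * z * a⁻¹) * t := by rw [hat]
      _ = _ := by group

theorem hinvQ {Q : Subgroup G} (hQL : Q ≤ centralizer ({x} : Set G) ⊓ centralizer ({z} : Set G)) :
    ∀ q ∈ Q, q * q = 1 → q = 1 ∨ q = z := fun q hq h => by
  haveI : Fact (Nat.Prime 2) := ⟨Nat.prime_two⟩
  by_cases h1 : q = 1
  · exact Or.inl h1
  · exact Or.inr (invol_L B (hQL hq) (orderOf_eq_prime ((pow_two q).trans h) h1))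

/-- The quaternion group. -/
theorem exists_qdata (hq : Quat z x) : ∃ (Q : Subgroup G) (w i : G),
    Q ≤ centralizer ({x} : Set G) ⊓ centralizer ({z} : Set G) ∧
    w ∈ centralizer ({x} : Set G) ⊓ centralizer ({z} : Set G) ∧ orderOf w = 3 ∧ QData Q z w ∧
    i ∈ Q ∧ i ≠ 1 ∧ i ≠ z ∧ i * (w * i * w⁻¹) = w * (w * i * w⁻¹) * w⁻¹ := by
  haveI : Fact (Nat.Prime 2) := ⟨Nat.prime_two⟩
  obtain ⟨Q, g, hQL, hQ8, hgL, hg3, hgQ, q0, hq0, hq0g⟩ := hq
  have hz1 : z ≠ 1 := fun e => by have := B.order_z; rw [e, orderOf_one] at this; omega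
  have hLz : ∀ {l : G}, l ∈ centralizer ({x} : Set G) ⊓ centralizer ({z} : Set G) → l * z = z * l :=
    fun hl => mem_centralizer_singleton_iff.1 hl.2
  have hg1 : g * g * g = 1 := by rw [← pow_three', ← hg3, pow_orderOf_eq_one]
  have hgQ' : ∀ q ∈ Q, g * q * g⁻¹ ∈ Q := fun q hq => (mem_set_normalizer_iff.1 hgQ q).1 hq
  have hg3Q : ∀ q : G, g * (g * (g * q * g⁻¹) * g⁻¹) * g⁻¹ = q := fun q => by
    rw [show g * (g * (g * q * g⁻¹) * g⁻¹) * g⁻¹ = (g * g * g) * q * (g * g * g)⁻¹ by group, hg1]; group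
  have hpow8 : ∀ q ∈ Q, q ^ 8 = 1 := fun q hq => by
    have h := pow_card_eq_one' (G := ↥Q) (x := ⟨q, hq⟩)
    rw [hQ8] at h
    exact congrArg Subtype.val h
  have hzQ : z ∈ Q := by
    obtain ⟨i, hi⟩ := exists_prime_orderOf_dvd_card' (G := ↥Q) 2 (by rw [hQ8]; norm_num)
    rw [← Subgroup.orderOf_coe] at hi
    exact invol_L B (hQL i.2) hi ▸ i.2
  have hfix : ∀ q ∈ Q, g * q = q * g → q = 1 ∨ q = z := by
    intro q hq hqg
    by_contra hne
    push Not at hne
    set S := Q ⊓ centralizer ({g} : Set G)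
    have hzS : z ∈ S := ⟨hzQ, mem_centralizer_singleton_iff.2 (hLz hgL).symm⟩
    have h3 : 3 ≤ Nat.card ↥S := by
      let f : Fin 3 → ↥S := ![1, ⟨z, hzS⟩, ⟨q, hq, mem_centralizer_singleton_iff.2 hqg.symm⟩]
      have hf : Function.Injective f := by
        intro a b e
        have e' : (f a : G) = f b := congrArg Subtype.val e
        fin_cases a <;> fin_cases b <;>
          first | rfl | exact absurd e' hz1.symm | exact absurd e' hz1 | exact absurd e'.symm hne.1 |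
            exact absurd e' hne.1 | exact absurd e'.symm hne.2 | exact absurd e' hne.2
      simpa using Nat.card_le_card_of_injective f hf
    obtain ⟨i, -, hic⟩ := (Nat.dvd_prime_pow Nat.prime_two).1
      (show Nat.card ↥S ∣ 2 ^ 3 by
        rw [show (2 : ℕ) ^ 3 = Nat.card ↥Q by rw [hQ8]; norm_num]; exact card_dvd_of_le inf_le_left)
    have hq0S : q0 ∉ S := fun h => hq0g (mem_centralizer_singleton_iff.1 h.2).symm
    have hidx : (S.subgroupOf Q).index = 2 := by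
      have h1 := (S.subgroupOf Q).card_mul_index
      rw [Nat.card_congr (subgroupOfEquivOfLe (inf_le_left : S ≤ Q)).toEquiv, hQ8, hic] at h1
      have hne1 : (S.subgroupOf Q).index ≠ 1 := fun h =>
        hq0S (Subgroup.subgroupOf_eq_top.1 (Subgroup.index_eq_one.1 h) hq0)
      have hd : 2 ^ i ∣ 8 := ⟨_, h1.symm⟩
      have hi2 : 2 ≤ i := by
        by_contra hlt
        have : 2 ^ i ≤ 2 ^ 1 := Nat.pow_le_pow_right (by norm_num) (by omega)
        omega
      have h4 : 2 ^ 2 ≤ 2 ^ i := Nat.pow_le_pow_right (by norm_num) hi2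
      have hle : (S.subgroupOf Q).index ≤ 2 := by nlinarith
      have hpos : (S.subgroupOf Q).index ≠ 0 := Subgroup.index_ne_zero_of_finite
      omega
    have hgq0 : g * q0 * g⁻¹ ∉ S := by
      intro h
      refine hq0g ?_
      have h' := mem_centralizer_singleton_iff.1 h.2
      have h2 : g * q0 * g⁻¹ = q0 := by
        calc g * q0 * g⁻¹ = g⁻¹ * (g * (g * q0 * g⁻¹)) := by group
          _ = g⁻¹ * ((g * q0 * g⁻¹) * g) := by rw [h']
          _ = q0 := by group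
      exact mul_inv_eq_iff_eq_mul.1 h2
    have hcS : q0⁻¹ * (g * q0 * g⁻¹) ∈ S := by
      have h := (Subgroup.mul_mem_iff_of_index_two hidx (a := ⟨q0⁻¹, inv_mem hq0⟩) (b := ⟨_, hgQ' q0 hq0⟩)).2
        (iff_of_false (fun h => hq0S (by simpa using inv_mem (mem_subgroupOf.1 h))) fun h => hgq0 (mem_subgroupOf.1 h))
      exact mem_subgroupOf.1 h
    obtain ⟨c, hc⟩ : ∃ c, c = q0⁻¹ * (g * q0 * g⁻¹) := ⟨_, rfl⟩
    rw [← hc] at hcS
    have hcg : g * c * g⁻¹ = c := by rw [← mem_centralizer_singleton_iff.1 hcS.2, mul_inv_cancel_right]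
    have e0 : g * q0 * g⁻¹ = q0 * c := by rw [hc]; group
    have e3 : q0 * c * c * c = q0 := by
      conv_rhs => rw [← hg3Q q0, e0]
      rw [show g * (q0 * c) * g⁻¹ = g * q0 * g⁻¹ * (g * c * g⁻¹) by group, hcg, e0,
        show g * (q0 * c * c) * g⁻¹ = g * q0 * g⁻¹ * (g * c * g⁻¹) * (g * c * g⁻¹) by group, hcg, e0]
    have hc3 : c ^ 3 = 1 := mul_left_cancel (a := q0) (by rw [mul_one, pow_three', ← mul_assoc, ← mul_assoc, e3])
    have hc1 : c = 1 := by
      calc c = (c ^ 3) ^ 3 * (c ^ 8)⁻¹ := by rw [← pow_mul]; group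
        _ = 1 := by rw [hc3, hpow8 c hcS.1]; simp
    rw [hc1, mul_one] at e0
    exact hq0g (mul_inv_eq_iff_eq_mul.1 e0)
  have hsq : ∀ q ∈ Q, q ≠ 1 → q ≠ z → q * q = z := by
    intro q hq h1 h2
    have h4 : q * q * (q * q) = 1 := by
      by_contra h4
      have h4' : q ^ 4 ≠ 1 := fun e => h4 (by rw [← e]; simp [pow_succ, mul_assoc])
      have ho : orderOf q = 2 ^ 3 := orderOf_eq_prime_pow (by simpa using h4') (by simpa using hpow8 q hq)
      have hQq : Q = zpowers q := (eq_of_le_of_card_ge (zpowers_le.2 hq) (by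
        rw [Nat.card_zpowers, ho, hQ8]; norm_num)).symm
      set p := q * q with hp
      have hpQ : p ∈ Q := mul_mem hq hq
      have hp44 : p * p * (p * p) = 1 := by rw [← hpow8 q hq]; simp [hp, pow_succ, mul_assoc]
      -- the two elements of order 4
      have hp4 : ∀ r ∈ Q, r * r * (r * r) = 1 → r * r ≠ 1 → r = p ∨ r = p⁻¹ := by
        intro r hr hr4 hr2
        rw [hQq] at hr
        obtain ⟨k, rfl⟩ := mem_zpowers_iff.1 hr
        have hd : (8 : ℤ) ∣ 4 * k := by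
          have := orderOf_dvd_iff_zpow_eq_one.2 (show q ^ (4 * k) = 1 by rw [← hr4]; group)
          rwa [ho] at this
        have hnd : ¬ (8 : ℤ) ∣ 2 * k := fun hd' => hr2 (by
          rw [← zpow_add, ← two_mul]
          exact orderOf_dvd_iff_zpow_eq_one.1 (by rw [ho]; exact hd'))
        have hmod : k % 8 = 2 ∨ k % 8 = 6 := by omega
        rw [← zpow_mod_orderOf, ho, show ((2 ^ 3 : ℕ) : ℤ) = 8 by norm_num]
        rcases hmod with e | e
        · left; rw [e, hp]; exact zpow_two q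
        · right
          rw [e, hp]
          calc q ^ (6 : ℤ) = q ^ 8 * (q * q)⁻¹ := by group
            _ = _ := by rw [hpow8 q hq, one_mul]
      have hp2 : p * p ≠ 1 := fun e => h4 e
      have hgp := hp4 (g * p * g⁻¹) (hgQ' p hpQ) (by
        rw [show g * p * g⁻¹ * (g * p * g⁻¹) * (g * p * g⁻¹ * (g * p * g⁻¹)) = g * (p * p * (p * p)) * g⁻¹ by group,
          hp44]; group) (fun e => hp2 (by
        rw [show g * p * g⁻¹ * (g * p * g⁻¹) = g * (p * p) * g⁻¹ by group, conj_eq_one_iff] at e; exact e))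
      have hgp' : g * p * g⁻¹ = p := by
        rcases hgp with e | e
        · exact e
        · exfalso
          have h3 := hg3Q p
          rw [e, show g * p⁻¹ * g⁻¹ = (g * p * g⁻¹)⁻¹ by group, e, inv_inv, e] at h3
          exact hp2 (mul_eq_one_iff_eq_inv.2 h3.symm)
      rcases hfix p hpQ (mul_inv_eq_iff_eq_mul.1 hgp') with e | e
      · exact hp2 (by rw [e, one_mul])
      · exact hp2 (by rw [e, zz B])
    rcases hinvQ B hQL (q * q) (mul_mem hq hq) h4 with e | e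
    · exact absurd (hinvQ B hQL q hq e) (by push Not; exact ⟨h1, h2⟩)
    · exact e
  have D : QData Q z g :=
    ⟨hQ8, hzQ, zz B, hz1, fun q hq => hLz (hQL hq), hg1, hLz hgL, hgQ', hfix, hsq⟩
  have h1 : q0 ≠ 1 := fun e => hq0g (by rw [e, mul_one, one_mul])
  have h2 : q0 ≠ z := fun e => hq0g (by rw [e]; exact hLz hgL)
  rcases D.rel_cases hq0 h1 h2 with h | h
  · exact ⟨Q, g, q0, hQL, hgL, hg3, D, hq0, h1, h2, h⟩
  refine ⟨Q, g⁻¹, q0, hQL, inv_mem hgL, by rw [orderOf_inv, hg3], D.inv, hq0, h1, h2, ?_⟩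
  have e1 : g⁻¹ * q0 * g⁻¹⁻¹ = g * (g * q0 * g⁻¹) * g⁻¹ := by
    conv_lhs => rw [← hg3Q q0]
    group
  rw [e1, show g⁻¹ * (g * (g * q0 * g⁻¹) * g⁻¹) * g⁻¹⁻¹ = g * q0 * g⁻¹ by group]
  have hq0z : q0 * z = z * q0 := hLz (hQL hq0)
  calc q0 * (g * (g * q0 * g⁻¹) * g⁻¹) = q0 * (z * (z * (g * (g * q0 * g⁻¹) * g⁻¹))) := by
        rw [← mul_assoc z z, zz B, one_mul]
    _ = q0 * (z * (q0 * (g * q0 * g⁻¹))) := by rw [h]
    _ = (q0 * q0) * (z * (g * q0 * g⁻¹)) := by
        rw [← mul_assoc z q0, ← hq0z, mul_assoc q0 z, ← mul_assoc q0 q0]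
    _ = g * q0 * g⁻¹ := by rw [hsq q0 hq0 h1 h2, ← mul_assoc, zz B, one_mul]

/-- An involution inverting `x` and normalising `zpowers w`. -/
theorem exists_u {Q : Subgroup G} {w : G} (hQL : Q ≤ centralizer ({x} : Set G) ⊓ centralizer ({z} : Set G))
    (hwL : w ∈ centralizer ({x} : Set G) ⊓ centralizer ({z} : Set G)) (hw3 : orderOf w = 3) (D : QData Q z w) :
    ∃ u : G, u * x * u⁻¹ = x⁻¹ ∧ u * z = z * u ∧ u * u = 1 ∧ (∀ q ∈ Q, u * q * u⁻¹ ∈ Q) ∧
      (u * w * u⁻¹ = w ∨ u * w * u⁻¹ = w * w) := by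
  classical
  haveI : Fact (Nat.Prime 2) := ⟨Nat.prime_two⟩
  haveI : Fact (Nat.Prime 3) := ⟨Nat.prime_three⟩
  set L := centralizer ({x} : Set G) ⊓ centralizer ({z} : Set G)
  have hLc : ∀ l ∈ L, l * z = z * l ∧ l * x = x * l := fun l hl =>
    ⟨mem_centralizer_singleton_iff.1 hl.2, mem_centralizer_singleton_iff.1 hl.1⟩
  have hwN : w ∈ normalizer (Q : Set G) := Subgroup.mem_normalizer_fintype fun q hq => D.norm q hq
  -- `L` normalises `Q`
  have hLQ : L ≤ normalizer (Q : Set G) := by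
    have hx : zpowers x ≤ normalizer (Q : Set G) := zpowers_le.2 (Subgroup.mem_normalizer_fintype fun q hq => by
      rw [SetLike.mem_coe, ← (hLc q (hQL hq)).2, mul_inv_cancel_right]; exact hq)
    set K := Q ⊔ zpowers w ⊔ zpowers x
    have hle : K ≤ L := sup_le (sup_le hQL (zpowers_le.2 hwL))
      (zpowers_le.2 ⟨mem_centralizer_singleton_iff.2 rfl, mem_centralizer_singleton_iff.2 B.comm_xz.eq⟩)
    have h8 : 8 ∣ Nat.card ↥K := D.card ▸ card_dvd_of_le (le_sup_left.trans le_sup_left)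
    have h3 : 3 ∣ Nat.card ↥K := by
      rw [← hw3, ← Nat.card_zpowers]; exact card_dvd_of_le (le_sup_right.trans le_sup_left)
    have h11 : 11 ∣ Nat.card ↥K := card_X B ▸ card_dvd_of_le le_sup_right
    have h264 : 264 ≤ Nat.card ↥K := Nat.le_of_dvd Nat.card_pos
      (Nat.Coprime.mul_dvd_of_dvd_of_dvd (m := 24) (n := 11) (by norm_num)
        (Nat.Coprime.mul_dvd_of_dvd_of_dvd (m := 8) (n := 3) (by norm_num) h8 h3) h11)
    rw [← eq_of_le_of_card_ge hle ((card_L_le B).trans h264)]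
    exact sup_le (sup_le le_normalizer (zpowers_le.2 hwN)) hx
  have h2Q : ∀ l ∈ L, ∀ n : ℕ, l ^ (2 ^ n) = 1 → l ∈ Q := by
    intro l hl n hn
    have hp : IsPGroup 2 ↥(zpowers l) := by
      obtain ⟨e, -, he⟩ := (Nat.dvd_prime_pow Nat.prime_two).1 (orderOf_dvd_of_pow_eq_one hn)
      exact IsPGroup.of_card (by rw [Nat.card_zpowers, he])
    have hsup := IsPGroup.to_sup_of_normal_left' (IsPGroup.of_card (n := 3) (p := 2) (by rw [D.card]; norm_num)) hp
      ((zpowers_le.2 hl).trans hLQ)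
    obtain ⟨e, he⟩ := IsPGroup.iff_card.1 hsup
    have hdvd : Nat.card ↥(Q ⊔ zpowers l : Subgroup G) ∣ 2 ^ 3 * 3993 := by
      rw [show 2 ^ 3 * 3993 = 31944 from rfl, ← B.card_cent_x]
      exact card_dvd_of_le (sup_le (hQL.trans inf_le_left) (zpowers_le.2 hl.1))
    rw [he] at hdvd
    have he3 : 2 ^ e ∣ 2 ^ 3 := ((Nat.Coprime.pow_left e (by norm_num : Nat.Coprime 2 3993))).dvd_of_dvd_mul_right hdvd
    have heq : Q = Q ⊔ zpowers l := eq_of_le_of_card_ge le_sup_left (by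
      rw [he, D.card]; exact Nat.le_of_dvd (by norm_num) he3)
    rw [heq]; exact Subgroup.mem_sup_right (mem_zpowers l)
  obtain ⟨h, hhx, hhz⟩ := exists_h B
  have hhx' : h * x⁻¹ * h⁻¹ = x := by rw [← conj_inv, hhx, inv_inv]
  have hhw : h * w * h⁻¹ ∈ L := by
    refine ⟨mem_centralizer_singleton_iff.2 ?_, mem_centralizer_singleton_iff.2 ?_⟩
    · calc h * w * h⁻¹ * x = h * w * h⁻¹ * (h * x⁻¹ * h⁻¹) := by rw [hhx']
        _ = h * (w * x⁻¹) * h⁻¹ := by group
        _ = h * (x⁻¹ * w) * h⁻¹ := by rw [((show Commute w x from (hLc w hwL).2).inv_right).eq]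
        _ = (h * x⁻¹ * h⁻¹) * (h * w * h⁻¹) := by group
        _ = _ := by rw [hhx']
    · have hc : Commute h z := hhz
      exact ((hc.mul_left (hLc w hwL).1).mul_left hc.inv_left).eq
  have hcard3 : ∀ P : Sylow 3 ↥L, Nat.card ↥(P : Subgroup ↥L) ≤ 3 := by
    intro P
    obtain ⟨e, he⟩ := IsPGroup.iff_card.1 P.isPGroup'
    have hd : 3 ^ e ∣ 3 * 10648 := by
      rw [show 3 * 10648 = 31944 from rfl, ← B.card_cent_x, ← he]
      exact (card_subgroup_dvd_card _).trans (card_dvd_of_le inf_le_left)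
    have := ((Nat.Coprime.pow_left e (by norm_num : Nat.Coprime 3 10648))).dvd_of_dvd_mul_right hd
    exact he ▸ Nat.le_of_dvd (by norm_num) this
  have hsyl : ∀ a : ↥L, orderOf a = 3 → ∃ P : Sylow 3 ↥L, (P : Subgroup ↥L) = zpowers a := fun a ha => by
    obtain ⟨P, hP⟩ := (IsPGroup.of_card (p := 3) (n := 1) (G := ↥(zpowers a))
      (by rw [Nat.card_zpowers, ha, pow_one])).exists_le_sylow
    exact ⟨P, (eq_of_le_of_card_ge hP (by rw [Nat.card_zpowers, ha]; exact hcard3 P)).symm⟩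
  obtain ⟨P1, h1⟩ := hsyl ⟨w, hwL⟩ (by rw [Subgroup.orderOf_mk]; exact hw3)
  obtain ⟨P2, h2⟩ := hsyl ⟨_, hhw⟩ (by
    rw [Subgroup.orderOf_mk, show h * w * h⁻¹ = MulAut.conj h w from rfl, MulEquiv.orderOf_eq, hw3])
  obtain ⟨l, hl⟩ := MulAction.exists_smul_eq ↥L P2 P1
  obtain ⟨h', hh'⟩ : ∃ h', h' = (l : G) * h := ⟨_, rfl⟩
  have hn : h' * w * h'⁻¹ ∈ zpowers w := by
    have hmem : l * ⟨_, hhw⟩ * l⁻¹ ∈ (P1 : Subgroup ↥L) := by
      rw [← hl, Sylow.coe_subgroup_smul, h2]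
      exact ⟨_, mem_zpowers _, rfl⟩
    rw [h1] at hmem
    obtain ⟨e, he⟩ := mem_zpowers_iff.1 hmem
    refine mem_zpowers_iff.2 ⟨e, ?_⟩
    rw [show h' * w * h'⁻¹ = (l : G) * (h * w * h⁻¹) * (l : G)⁻¹ by rw [hh']; group]
    simpa using congrArg Subtype.val he
  have h1x : h' * x * h'⁻¹ = x⁻¹ := by
    rw [show h' * x * h'⁻¹ = (l : G) * (h * x * h⁻¹) * (l : G)⁻¹ by rw [hh']; group, hhx,
      ((show Commute (l : G) x from (hLc l l.2).2).inv_right).eq, mul_inv_cancel_right]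
  have h1z : Commute h' z := hh' ▸ (show Commute (l : G) z from (hLc l l.2).1).mul_left hhz
  obtain ⟨e, m, hm, hem⟩ := Nat.exists_eq_pow_mul_and_not_dvd (orderOf_pos h').ne' 2 (by norm_num)
  have hpow : ∀ r : ℕ, h' ^ (2 * r + 1) * x * (h' ^ (2 * r + 1))⁻¹ = x⁻¹ := by
    intro r
    induction r with
    | zero => simpa using h1x
    | succ r ih =>
      rw [show 2 * (r + 1) + 1 = 2 * r + 1 + 1 + 1 by ring, pow_succ' h' (2 * r + 1 + 1), pow_succ' h' (2 * r + 1),
        show h' * (h' * h' ^ (2 * r + 1)) * x * (h' * (h' * h' ^ (2 * r + 1)))⁻¹ =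
          h' * (h' * (h' ^ (2 * r + 1) * x * (h' ^ (2 * r + 1))⁻¹) * h'⁻¹) * h'⁻¹ by group,
        ih, show h' * x⁻¹ * h'⁻¹ = x by rw [← conj_inv, h1x, inv_inv], h1x]
  obtain ⟨r, hr⟩ := Nat.odd_iff.2 (show m % 2 = 1 by omega)
  obtain ⟨v, hv⟩ : ∃ v, v = h' ^ m := ⟨_, rfl⟩
  have hvx : v * x * v⁻¹ = x⁻¹ := by rw [hv, hr]; exact hpow r
  have hvz : Commute v z := hv ▸ h1z.pow_left m
  have hvw : v * w * v⁻¹ ∈ zpowers w := by
    have hN : h' ∈ normalizer (zpowers w : Set G) := Subgroup.mem_normalizer_fintype fun q hq => by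
      obtain ⟨r, rfl⟩ := mem_zpowers_iff.1 hq
      rw [SetLike.mem_coe, ← conj_zpow]; exact zpow_mem hn r
    exact (mem_set_normalizer_iff.1 (hv ▸ pow_mem hN m) w).1 (mem_zpowers w)
  have hvL : ∀ a ∈ L, v * a * v⁻¹ ∈ L := fun a ha => by
    have hvx' : v * x⁻¹ * v⁻¹ = x := by rw [← conj_inv, hvx, inv_inv]
    refine ⟨mem_centralizer_singleton_iff.2 ?_, mem_centralizer_singleton_iff.2
      ((hvz.mul_left (hLc a ha).1).mul_left hvz.inv_left).eq⟩
    calc v * a * v⁻¹ * x = v * a * v⁻¹ * (v * x⁻¹ * v⁻¹) := by rw [hvx']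
      _ = v * (a * x⁻¹) * v⁻¹ := by group
      _ = v * (x⁻¹ * a) * v⁻¹ := by rw [((show Commute a x from (hLc a ha).2).inv_right).eq]
      _ = (v * x⁻¹ * v⁻¹) * (v * a * v⁻¹) := by group
      _ = _ := by rw [hvx']
  have hvQ : ∀ q ∈ Q, v * q * v⁻¹ ∈ Q := fun q hq => h2Q _ (hvL q (hQL hq)) 3 (by
    have h := pow_card_eq_one' (G := ↥Q) (x := ⟨q, hq⟩)
    rw [D.card] at h
    rw [conj_pow, show q ^ 2 ^ 3 = 1 from congrArg Subtype.val h, mul_one, mul_inv_cancel])
  have hv2L : v * v ∈ L := by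
    refine ⟨mem_centralizer_singleton_iff.2 (mul_inv_eq_iff_eq_mul.1 ?_),
      mem_centralizer_singleton_iff.2 (hvz.mul_left hvz).eq⟩
    rw [show v * v * x * (v * v)⁻¹ = v * (v * x * v⁻¹) * v⁻¹ by group, hvx, ← conj_inv, hvx, inv_inv]
  have hv2Q : v * v ∈ Q := h2Q _ hv2L e (by
    rw [← pow_two, hv, ← pow_mul, ← pow_mul, show m * (2 * 2 ^ e) = 2 * (2 ^ e * m) by ring, ← hem, mul_comm,
      pow_mul, pow_orderOf_eq_one, one_pow])
  obtain ⟨r', hr'⟩ := mem_zpowers_iff.1 hvw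
  have hmod : r' % 3 = 1 ∨ r' % 3 = 2 := by
    have : r' % 3 ≠ 0 := fun h0 => by
      rw [← zpow_mod_orderOf, hw3, show ((3 : ℕ) : ℤ) = 3 from rfl, h0, zpow_zero, eq_comm, conj_eq_one_iff] at hr'
      rw [hr', orderOf_one] at hw3
      omega
    omega
  have hvw' : v * w * v⁻¹ = w ∨ v * w * v⁻¹ = w * w := by
    rw [← hr', ← zpow_mod_orderOf, hw3, show ((3 : ℕ) : ℤ) = 3 from rfl]
    rcases hmod with h | h <;> rw [h]
    · exact Or.inl (zpow_one w)
    · exact Or.inr (zpow_two w)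
  have hv2w : w * (v * v) = v * v * w := by
    refine (mul_inv_eq_iff_eq_mul.1 ?_).symm
    rw [show v * v * w * (v * v)⁻¹ = v * (v * w * v⁻¹) * v⁻¹ by group]
    rcases hvw' with h | h <;> rw [h]
    · exact h
    · rw [show v * (w * w) * v⁻¹ = v * w * v⁻¹ * (v * w * v⁻¹) by group, h,
        show w * w * (w * w) = w * w * w * w by group, D.w3, one_mul]
  refine ⟨v, hvx, hvz.eq, ?_, hvQ, hvw'⟩
  rcases D.fix _ hv2Q hv2w with h | h
  · exact h
  · exact absurd h (sq_ne_z B hvx)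

/-- **GL(2,3) in the normaliser.** -/
theorem exists_gl23 (hq : Quat z x) :
    ∃ K : Subgroup G, K ≤ normalizer (U : Set G) ∧ Nonempty (↥K ≃* GL (Fin 2) (ZMod 3)) := by
  classical
  obtain ⟨Q, w, i0, hQL, hwL, hw3, D, hi0, h01, h02, hrel0⟩ := exists_qdata B hq
  obtain ⟨u, hux, huz, huu, huQ, huw⟩ := exists_u B hQL hwL hw3 D
  have hui : u⁻¹ = u := inv_eq_of_mul_eq_one_right huu
  have hu2 : ∀ q : G, u * (u * q * u⁻¹) * u⁻¹ = q := fun q => by
    rw [show u * (u * q * u⁻¹) * u⁻¹ = (u * u) * q * (u * u)⁻¹ by group, huu]; group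
  have huz' : ∀ q : G, u * (z * q) * u⁻¹ = z * (u * q * u⁻¹) := fun q => by
    rw [← mul_assoc u, huz]; group
  have hwz' : ∀ q : G, w * (z * q) * w⁻¹ = z * (w * q * w⁻¹) := fun q => by
    rw [← mul_assoc w, D.wz]; group
  have hnz : ∀ q : G, z * q ≠ q := fun q e => D.z_ne (mul_eq_right.1 e)
  set cu : G → G := fun q => u * q * u⁻¹
  set cw : G → G := fun q => w * q * w⁻¹
  have hjQ := D.norm i0 hi0
  obtain ⟨j1, j2⟩ := D.conj_ne h01 h02
  obtain ⟨k1, k2⟩ := D.conj_ne j1 j2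
  obtain ⟨hi0j, hi0j'⟩ := D.moved hi0 h01 h02
  obtain ⟨hjk, hjk'⟩ := D.moved hjQ j1 j2
  -- the action inverts `w`
  have huw2 : u * w * u⁻¹ = w * w := by
    refine huw.resolve_left fun h => ?_
    have hcomm : ∀ q, cu (cw q) = cw (cu q) := fun q => by
      have e : u * w = w * u := mul_inv_eq_iff_eq_mul.1 h
      show u * (w * q * w⁻¹) * u⁻¹ = w * (u * q * u⁻¹) * w⁻¹
      rw [show u * (w * q * w⁻¹) * u⁻¹ = (u * w) * q * (u * w)⁻¹ by group, e]; group
    have hsame : cu i0 = i0 ∨ cu i0 = z * i0 := by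
      have h3 := D.three i0
      rcases D.mem_cases hi0 h01 h02 (huQ i0 hi0) with e | e | e | (e | e) | (e | e)
      · exact absurd (conj_eq_one_iff.1 e) h01
      · exact absurd (by
          calc i0 = u * (u * i0 * u⁻¹) * u⁻¹ := (hu2 i0).symm
            _ = z := by rw [e, huz, mul_inv_cancel_right]) h02
      · exact e
      · exfalso
        have h4 : cu (cu i0) = cw (cw i0) := by
          show cu (u * i0 * u⁻¹) = _
          rw [e, hcomm, show cu i0 = cw i0 from e]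
        exact (D.moved hjQ j1 j2).1 (by
          have h5 : cw (cw i0) = i0 := h4.symm.trans (hu2 i0)
          have h6 := congrArg cw h5
          exact h6.symm.trans h3 |> fun h7 => absurd h7 hi0j)
      · exfalso
        have h4 : cu (cu i0) = cw (cw i0) := by
          show cu (u * i0 * u⁻¹) = _
          rw [e]
          show u * (z * (w * i0 * w⁻¹)) * u⁻¹ = _
          rw [huz', show u * (w * i0 * w⁻¹) * u⁻¹ = cw (cu i0) from hcomm i0,
            show cu i0 = z * cw i0 from e, show cw (z * cw i0) = z * cw (cw i0) from hwz' _, ← mul_assoc, D.zz,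
            one_mul]
        have h5 : cw (cw i0) = i0 := h4.symm.trans (hu2 i0)
        exact hi0j ((congrArg cw h5).symm.trans h3)
      · exfalso
        have h4 : cu (cu i0) = cw (cw (cw (cw i0))) := by
          show cu (u * i0 * u⁻¹) = _
          rw [e]
          show cu (cw (cw i0)) = _
          rw [hcomm, hcomm, show cu i0 = cw (cw i0) from e]
        rw [show cw (cw (cw (cw i0))) = cw i0 from D.three (cw i0)] at h4
        exact hi0j (h4.symm.trans (hu2 i0))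
      · exfalso
        have h4 : cu (cu i0) = cw (cw (cw (cw i0))) := by
          show cu (u * i0 * u⁻¹) = _
          rw [e]
          show u * (z * cw (cw i0)) * u⁻¹ = _
          rw [huz', show u * cw (cw i0) * u⁻¹ = cw (cw (cu i0)) from (hcomm _).trans (congrArg cw (hcomm _)),
            show cu i0 = z * cw (cw i0) from e, show cw (z * cw (cw i0)) = z * cw (cw (cw i0)) from hwz' _,
            show cw (z * cw (cw (cw i0))) = z * cw (cw (cw (cw i0))) from hwz' _, ← mul_assoc, D.zz, one_mul]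
        rw [show cw (cw (cw (cw i0))) = cw i0 from D.three (cw i0)] at h4
        exact hi0j (h4.symm.trans (hu2 i0))
    have hmul : ∀ a b, cu (a * b) = cu a * cu b := fun a b => by simp only [cu]; group
    rcases hsame with e | e
    · refine no_central_involution B hux huu (i := i0) (j := w * i0 * w⁻¹) (hQL hi0).1
        (hQL hjQ).1 (mul_inv_eq_iff_eq_mul.1 e) (mul_inv_eq_iff_eq_mul.1 ?_) (D.commutator hi0 h01 h02 hrel0)
      show cu (cw i0) = cw i0
      rw [hcomm, e]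
    · have e' := congrArg cu hrel0
      rw [hmul, show cu (w * i0 * w⁻¹) = cw (cu i0) from hcomm i0,
        show cu (w * (w * i0 * w⁻¹) * w⁻¹) = cw (cw (cu i0)) from (hcomm _).trans (congrArg cw (hcomm i0)), e,
        show cw (z * i0) = z * cw i0 from hwz' _, show cw (z * cw i0) = z * cw (cw i0) from hwz' _,
        show z * i0 * (z * cw i0) = i0 * cw i0 by
          rw [← D.comm i0 hi0, mul_assoc, ← mul_assoc z z, D.zz, one_mul]] at e'
      exact hnz _ (e'.symm.trans hrel0)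
  have hanti : ∀ q, cu (cw q) = cw (cw (cu q)) := fun q => by
    have e : u * w = w * w * u := mul_inv_eq_iff_eq_mul.1 huw2
    show u * (w * q * w⁻¹) * u⁻¹ = w * (w * (u * q * u⁻¹) * w⁻¹) * w⁻¹
    rw [show u * (w * q * w⁻¹) * u⁻¹ = (u * w) * q * (u * w)⁻¹ by group, e]; group
  have h4w : ∀ q, cw (cw (cw q)) = q := D.three
  -- choose the pair fixed by `u`
  obtain ⟨i, hi, h1, h2, hrel, hfixed⟩ : ∃ i ∈ Q, i ≠ 1 ∧ i ≠ z ∧
      i * (w * i * w⁻¹) = w * (w * i * w⁻¹) * w⁻¹ ∧ (cu i = i ∨ cu i = z * i) := by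
    have hshift : ∀ a, a * cw a = cw (cw a) → cw a * cw (cw a) = cw (cw (cw a)) := fun a h => by
      rw [show cw a * cw (cw a) = cw (a * cw a) by simp only [cw]; group, h]
    rcases D.mem_cases hi0 h01 h02 (huQ i0 hi0) with e | e | e | e | e
    · exact absurd (conj_eq_one_iff.1 e) h01
    · exact absurd (by
        calc i0 = u * (u * i0 * u⁻¹) * u⁻¹ := (hu2 i0).symm
          _ = z := by rw [e, huz, mul_inv_cancel_right]) h02
    · exact ⟨i0, hi0, h01, h02, hrel0, e⟩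
    · refine ⟨cw (cw i0), D.norm _ hjQ, k1, k2, hshift _ (hshift _ hrel0), ?_⟩
      have hc : cu (cw (cw i0)) = cw (cu i0) := by
        rw [hanti, hanti, h4w (cw (cu i0))]
      rw [hc]
      rcases e with e | e
      · exact Or.inl (congrArg cw e)
      · exact Or.inr ((congrArg cw e).trans (hwz' _))
    · refine ⟨cw i0, hjQ, j1, j2, hshift _ hrel0, ?_⟩
      rw [hanti]
      rcases e with e | e
      · refine Or.inl ?_
        rw [show cu i0 = cw (cw i0) from e, h4w (cw i0)]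
      · refine Or.inr ?_
        rw [show cu i0 = z * cw (cw i0) from e, show cw (z * cw (cw i0)) = z * cw (cw (cw i0)) from hwz' _,
          show cw (z * cw (cw (cw i0))) = z * cw (cw (cw (cw i0))) from hwz' _, h4w (cw i0)]
  obtain ⟨j1', j2'⟩ := D.conj_ne h1 h2
  have hui2 : cu i = z * i := by
    refine hfixed.resolve_left fun e => ?_
    have hmul : ∀ a b, cu (a * b) = cu a * cu b := fun a b => by simp only [cu]; group
    have e' := congrArg cu hrel
    rw [hmul, show cu (w * i * w⁻¹) = cw (cw (cu i)) from hanti i,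
      show cu (w * (w * i * w⁻¹) * w⁻¹) = cw (cw (cw (cw (cu i)))) from
        (hanti _).trans (congrArg (fun q => cw (cw q)) (hanti i)), e, show cw (cw (cw (cw i))) = cw i from h4w _] at e'
    have h3 : i * (i * cw i) = cw i := by
      rw [show i * cw i = cw (cw i) from hrel]
      exact e'
    rw [← mul_assoc, D.sq i hi h1 h2] at h3
    exact hnz _ h3
  -- the group
  set K := Q ⊔ zpowers w ⊔ zpowers u
  have hwN : zpowers w ≤ normalizer (Q : Set G) :=
    zpowers_le.2 (Subgroup.mem_normalizer_fintype fun q hq => D.norm q hq)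
  have huN : zpowers u ≤ normalizer ((Q ⊔ zpowers w : Subgroup G) : Set G) := by
    refine zpowers_le.2 (Subgroup.mem_normalizer_fintype fun q hq => ?_)
    rw [SetLike.mem_coe, ← SetLike.mem_coe, Subgroup.coe_mul_of_right_le_normalizer_left Q (zpowers w) hwN] at hq
    obtain ⟨a, ha, b, hb, rfl⟩ := Set.mem_mul.1 hq
    obtain ⟨r, rfl⟩ := mem_zpowers_iff.1 hb
    rw [show u * (a * w ^ r) * u⁻¹ = u * a * u⁻¹ * (u * w ^ r * u⁻¹) by group, ← conj_zpow, huw2]
    exact mul_mem (Subgroup.mem_sup_left (huQ a ha))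
      (Subgroup.mem_sup_right (zpow_mem (mul_mem (mem_zpowers w) (mem_zpowers w)) r))
  have hu1 : u ≠ 1 := fun e => by
    rw [e, one_mul, inv_one, mul_one] at hux
    have h2 : x ^ 2 = 1 := by rw [pow_two]; exact mul_eq_one_iff_eq_inv.2 hux
    have := orderOf_dvd_of_pow_eq_one h2
    rw [B.order_x] at this
    norm_num at this
  have huQw : u ∉ Q ⊔ zpowers w := fun h => by
    have h' := mem_centralizer_singleton_iff.1 ((sup_le hQL (zpowers_le.2 hwL)) h).1
    rw [h', mul_inv_cancel_right] at hux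
    have h2 : x ^ 2 = 1 := by rw [pow_two]; exact mul_eq_one_iff_eq_inv.2 hux
    have := orderOf_dvd_of_pow_eq_one h2
    rw [B.order_x] at this
    norm_num at this
  have hK48 : Nat.card ↥K = 48 := by
    haveI : Fact (Nat.Prime 2) := ⟨Nat.prime_two⟩
    have hw : Nat.card ↥(zpowers w) = 3 := by rw [Nat.card_zpowers, hw3]
    have hu : Nat.card ↥(zpowers u) = 2 := by
      rw [Nat.card_zpowers, orderOf_eq_prime ((pow_two u).trans huu) hu1]
    have h24 : Nat.card ↥(Q ⊔ zpowers w : Subgroup G) = 24 := by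
      refine le_antisymm ((card_sup_le hwN).trans (by rw [D.card, hw])) (Nat.le_of_dvd Nat.card_pos ?_)
      exact Nat.Coprime.mul_dvd_of_dvd_of_dvd (m := 8) (n := 3) (by norm_num)
        (D.card ▸ card_dvd_of_le le_sup_left) (hw ▸ card_dvd_of_le le_sup_right)
    obtain ⟨c, hc⟩ : 24 ∣ Nat.card ↥K := by
      have h := card_dvd_of_le (le_sup_left : Q ⊔ zpowers w ≤ K)
      rwa [h24] at h
    have hle : Nat.card ↥K ≤ 48 := (card_sup_le huN).trans (by rw [h24, hu])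
    have hne : c ≠ 1 := fun e => huQw (by
      rw [eq_of_le_of_card_ge (le_sup_left : Q ⊔ zpowers w ≤ K) (by rw [hc, e, h24])]
      exact Subgroup.mem_sup_right (mem_zpowers u))
    have hpos : 0 < Nat.card ↥K := Nat.card_pos
    omega
  have hiK : i ∈ K := Subgroup.mem_sup_left (Subgroup.mem_sup_left hi)
  have hwK : w ∈ K := Subgroup.mem_sup_left (Subgroup.mem_sup_right (mem_zpowers w))
  have huK : u ∈ K := Subgroup.mem_sup_right (mem_zpowers u)
  have hzK : z ∈ K := Subgroup.mem_sup_left (Subgroup.mem_sup_left D.z_mem)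
  have hKz : K ≤ centralizer ({z} : Set G) := sup_le (sup_le (hQL.trans inf_le_right) (zpowers_le.2 hwL.2))
    (zpowers_le.2 (mem_centralizer_singleton_iff.2 huz))
  refine ⟨K, ?_, ?_⟩
  · exact sup_le (sup_le ((hQL.trans inf_le_left).trans (cent_x_le B)) (zpowers_le.2 (cent_x_le B hwL.1)))
      (zpowers_le.2 (inv_norm B hux))
  refine Mitchell.gl23_of_rel hK48 (i := ⟨i, hiK⟩) (z := ⟨w, hwK⟩) (u := ⟨u, huK⟩) (t := ⟨z, hzK⟩)
    (Subtype.ext (D.sq i hi h1 h2)) (Subtype.ext D.zz)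
    (fun k => Subtype.ext (mem_centralizer_singleton_iff.1 (hKz k.2)).symm) (Subtype.ext D.w3) ?_ (Subtype.ext huu) ?_ ?_ ?_
    (Subtype.ext hrel) ?_
  · exact fun e => by
      have h : w = 1 := congrArg Subtype.val e
      rw [h, orderOf_one] at hw3; omega
  · exact fun e => hu1 (congrArg Subtype.val e)
  · exact Subtype.ext (mul_inv_eq_iff_eq_mul.1 huw2)
  · refine Subtype.ext (?_ : u * i = z * i * u)
    exact mul_inv_eq_iff_eq_mul.1 hui2
  · -- generation
    set C := Subgroup.closure ({⟨i, hiK⟩, ⟨w, hwK⟩, ⟨u, huK⟩} : Set ↥K)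
    have hle : K ≤ C.map K.subtype := by
      have hi' : i ∈ C.map K.subtype := ⟨⟨i, hiK⟩, Subgroup.subset_closure (by simp), rfl⟩
      have hw' : w ∈ C.map K.subtype := ⟨⟨w, hwK⟩, Subgroup.subset_closure (by simp), rfl⟩
      have hu' : u ∈ C.map K.subtype := ⟨⟨u, huK⟩, Subgroup.subset_closure (by simp), rfl⟩
      have hz' : z ∈ C.map K.subtype := D.sq i hi h1 h2 ▸ mul_mem hi' hi'
      refine sup_le (sup_le (fun q hq => ?_) (zpowers_le.2 hw')) (zpowers_le.2 hu')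
      have hj' := mul_mem (mul_mem hw' hi') (inv_mem hw')
      have hk' := mul_mem (mul_mem hw' hj') (inv_mem hw')
      rcases D.mem_cases hi h1 h2 hq with rfl | rfl | (rfl | rfl) | (rfl | rfl) | (rfl | rfl)
      exacts [one_mem _, hz', hi', mul_mem hz' hi', hj', mul_mem hz' hj', hk', mul_mem hz' hk']
    refine (eq_top_iff' C).2 fun k => ?_
    obtain ⟨k', hk', e⟩ := hle k.2
    exact (Subtype.ext e : k' = k) ▸ hk'

end Cfsg.Agent.J4Type.ElevenEnd
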