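/-
Facts for the recognition of Janko-four type from the shape of the centraliser (owner: helper81).

Main results (namespace `Cfsg.Agent.J4Type.FromCent`):
* `no_involution_nine` : no involution of Aut M22 centralises a subgroup of order 9
* `exists_inverting` : pairs `(u, w)` generating a subgroup of order 9, one fixed, one inverted
* `card_range_cube` : the cube lemma for an extraspecial group of order 27 acting on a 2-group
* `perm_eleven` : a permutation of order dividing 11 of a 2-group of small order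
-/
import Cfsg.Agent.Lib.J4Type.ThreeFacts

set_option autoImplicit false
set_option linter.style.haveILetI false
set_option linter.unusedSectionVars false

open Cfsg Subgroup

namespace Cfsg.Agent.J4Type.FromCent

open Cfsg.Agent.OrderM22

theorem no_involution_nine {R : Subgroup (MulAut ↥Spor.M22)} (hR : Nat.card R = 9)
    {s : MulAut ↥Spor.M22} (hs : orderOf s = 2) (hc : ∀ r ∈ R, s * r = r * s) : False := by
  haveI := simple_m22
  haveI : Fact (Nat.Prime 3) := ⟨Nat.prime_three⟩
  have h9 : (Nat.card R) = 3 ^ 2 := by rw [hR]; norm_num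
  have hle : R ≤ inner.range := by
    intro p hp
    have hd : orderOf p ∣ 3 ^ 2 := h9 ▸ Subgroup.orderOf_dvd_natCard R hp
    have h1 : p ^ 9 = 1 := orderOf_dvd_iff_pow_eq_one.1 hd
    rw [show p = (p ^ 5) ^ 2 by
      rw [← pow_mul, show 5 * 2 = 9 + 1 from rfl, pow_succ, h1, one_mul]]
    exact Subgroup.sq_mem_of_index_two inner_index _
  set R0 := R.comap inner with hR0
  have hR0c : Nat.card R0 = 9 := by
    rw [Nat.card_congr (Subgroup.equivMapOfInjective _ inner inner_injective).toEquiv,
      Subgroup.map_comap_eq_self hle, hR]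
  have hfix : ∀ r ∈ R0, s r = r := fun r hr => inner_injective (by
    rw [← inner_conj, hc _ hr, mul_inv_cancel_right])
  by_cases hsi : s ∈ inner.range
  · obtain ⟨t, rfl⟩ := hsi
    have ht : orderOf t = 2 := by rw [← orderOf_injective inner inner_injective t, hs]
    have hle' : R0 ≤ Subgroup.centralizer ({t} : Set ↥Spor.M22) := fun r hr =>
      Subgroup.mem_centralizer_singleton_iff.2 (by
        have := hfix r hr
        rw [inner_apply, mul_inv_eq_iff_eq_mul] at this
        exact this.symm)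
    have hd := Subgroup.card_dvd_of_le hle'
    rw [hR0c, hyp_m22.card_centralizer_two ht] at hd
    norm_num at hd
  · obtain ⟨⟨u, huR⟩, hu⟩ := exists_prime_orderOf_dvd_card' (G := R0) 3 (by rw [hR0c]; norm_num)
    rw [Subgroup.orderOf_mk] at hu
    obtain ⟨w, hwR, hwu⟩ : ∃ w ∈ R0, w ∉ zpowers u := by
      by_contra hcon
      push Not at hcon
      have := Subgroup.card_le_of_le (show R0 ≤ zpowers u from hcon)
      rw [hR0c, Nat.card_zpowers, hu] at this
      omega
    haveI : IsMulCommutative R0 :=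
      IsPGroup.isMulCommutative_of_card_eq_prime_sq (p := 3) (by rw [hR0c]; norm_num)
    have hwu' : Commute w u := congrArg Subtype.val (mul_comm' (⟨w, hwR⟩ : R0) ⟨u, huR⟩)
    have hconjV : ∀ v ∈ four u, w * v * w⁻¹ ∈ four u := fun v hv =>
      ⟨by rw [show w * v * w⁻¹ * (w * v * w⁻¹) = w * (v * v) * w⁻¹ by group, hv.1, mul_one,
        mul_inv_cancel], (hwu'.mul_left hv.2).mul_left hwu'.inv_left⟩
    have hmove : ∀ v ∈ four u, v ≠ 1 → w * v * w⁻¹ ≠ v := by
      intro v hv hv1 he
      have hle' : R0 ≤ Subgroup.centralizer ({v} : Set ↥Spor.M22) := by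
        set K := R0 ⊓ Subgroup.centralizer ({v} : Set ↥Spor.M22) with hK
        have hdK : Nat.card K ∣ 3 ^ 2 := by
          have := Subgroup.card_dvd_of_le (inf_le_left : K ≤ R0)
          rwa [hR0c] at this
        obtain ⟨i, hi, hiK⟩ := (Nat.dvd_prime_pow Nat.prime_three).1 hdK
        have hwK : w ∈ K := ⟨hwR, mem_centralizer_singleton_iff.2 (mul_inv_eq_iff_eq_mul.1 he)⟩
        have huK : u ∈ K := ⟨huR, mem_centralizer_singleton_iff.2 hv.2.eq.symm⟩
        have hlt : 3 < Nat.card K := by
          by_contra hle3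
          have h := Subgroup.eq_of_le_of_card_ge (zpowers_le.2 huK)
            (by rw [Nat.card_zpowers, hu]; omega)
          exact hwu (h ▸ hwK)
        have : i = 2 := by interval_cases i <;> simp_all
        subst this
        rw [← Subgroup.eq_of_le_of_card_ge (inf_le_left : K ≤ R0) (by rw [hiK, hR0c]; norm_num)]
        exact inf_le_right
      have hd := Subgroup.card_dvd_of_le hle'
      rw [hR0c, hyp_m22.card_centralizer_two (orderOf_of_mem_four hv hv1)] at hd
      norm_num at hd
    refine outer_moves_four hu hsi (n := 1) (by rw [pow_one, ← hs, pow_orderOf_eq_one])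
      (hfix u huR) fun e he => ?_
    by_cases he1 : e = 1
    · rw [he1, map_one]
    set f := w * e * w⁻¹ with hf
    set g := w * f * w⁻¹ with hg
    have hfV := hconjV e he
    have hgV := hconjV f hfV
    have hf1 : f ≠ 1 := fun h => he1 (conj_eq_one_iff.1 h)
    have hg1 : g ≠ 1 := fun h => hf1 (conj_eq_one_iff.1 h)
    have hfe : f ≠ e := hmove e he he1
    have hgf : g ≠ f := hmove f hfV hf1
    have hfour := (hyp_m22.four_spec hu).1
    have hge : g ≠ e := by
      intro h
      have h2 : Commute (w ^ 2) e := by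
        show w ^ 2 * e = e * w ^ 2
        rw [← mul_inv_eq_iff_eq_mul, sq, mul_inv_rev]
        calc w * w * e * (w⁻¹ * w⁻¹) = g := by rw [hg, hf]; group
          _ = e := h
      have h9w : w ^ 9 = 1 := by
        have h' := pow_card_eq_one' (G := R0) (x := ⟨w, hwR⟩)
        rw [hR0c] at h'
        exact congrArg Subtype.val h'
      have h3 : Commute w e := by
        have := h2.pow_left 5
        rwa [← pow_mul, show 2 * 5 = 9 + 1 from rfl, pow_succ, h9w, one_mul] at this
      exact hfe (by rw [hf, h3.eq, mul_inv_cancel_right])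
    have hset : ({1, e, f, g} : Set ↥Spor.M22) = four u := by
      refine Set.eq_of_subset_of_ncard_le ?_ ?_ (Set.toFinite _)
      · rintro x (rfl | rfl | rfl | rfl)
        exacts [four_one u, he, hfV, hgV]
      · rw [hfour]
        simp [Set.ncard_insert_of_notMem, Ne.symm he1, Ne.symm hf1, Ne.symm hg1, Ne.symm hfe,
          Ne.symm hgf, Ne.symm hge]
    have hsV : ∀ v ∈ four u, s v ∈ four u := fun v hv =>
      ⟨by rw [← map_mul, hv.1, map_one], by
        have := hv.2.map s.toMonoidHom
        simpa [hfix u huR] using this⟩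
    have hss : s (s e) = e := by
      show (s * s) e = e
      rw [← sq, ← hs, pow_orderOf_eq_one]; rfl
    have hsw : ∀ v, s (w * v * w⁻¹) = w * s v * w⁻¹ := fun v => by
      rw [map_mul, map_mul, map_inv, hfix w hwR]
    have hm := hsV e he
    rw [← hset] at hm
    rcases hm with h | h | h | h
    · exact absurd ((map_eq_one_iff s s.injective).1 h) he1
    · exact h
    · exfalso
      refine hge ?_
      rw [h] at hss
      rw [← hss, hf, hsw, h]
    · exfalso
      have hx : w * g * w⁻¹ = e := by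
        have hm : w * g * w⁻¹ ∈ four u := hconjV g hgV
        rw [← hset] at hm
        rcases hm with h' | h' | h' | h'
        · exact absurd (conj_eq_one_iff.1 h') hg1
        · exact h'
        · exact absurd (mul_left_cancel (mul_right_cancel (h'.trans hf))) hge
        · exact absurd (mul_left_cancel (mul_right_cancel (h'.trans hg))) hgf
      rw [h] at hss
      refine hfe ?_
      calc f = w * (w * g * w⁻¹) * w⁻¹ := by rw [hx]
        _ = w * (w * s e * w⁻¹) * w⁻¹ := by rw [h]
        _ = s g := by rw [hg, hsw, hf, hsw]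
        _ = e := hss

/-- In a subgroup of order 9 there are a fixed and an inverted generator for some automorphism. -/
theorem exists_inverting {R : Subgroup (MulAut ↥Spor.M22)} (hR : Nat.card R = 9) :
    ∃ s u w : MulAut ↥Spor.M22, u ∈ R ∧ w ∈ R ∧ s * u * s⁻¹ = u ∧ s * w * s⁻¹ = w⁻¹ ∧
      u ^ 3 = 1 ∧ w ^ 3 = 1 ∧ R ≤ Subgroup.closure {u, w} := by
  classical
  haveI : Fact (Nat.Prime 3) := ⟨Nat.prime_three⟩
  haveI : Fact (Nat.Prime 2) := ⟨Nat.prime_two⟩
  haveI : IsMulCommutative R :=
    IsPGroup.isMulCommutative_of_card_eq_prime_sq (p := 3) (by rw [hR]; norm_num)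
  obtain ⟨⟨u, huR⟩, hu⟩ := exists_prime_orderOf_dvd_card' (G := R) 3 (by rw [hR]; norm_num)
  rw [Subgroup.orderOf_mk] at hu
  have hu3 : u ^ 3 = 1 := by rw [← hu, pow_orderOf_eq_one]
  set N := Subgroup.normalizer (R : Set (MulAut ↥Spor.M22)) with hN
  have hN144 : Nat.card N = 144 := card_aut_normalizer_nine hR
  set K := N ⊓ Subgroup.centralizer ({u} : Set (MulAut ↥Spor.M22)) with hK
  have hidx : (K.subgroupOf N).index ≤ 8 := by
    have hmem : ∀ n : N, (n : MulAut ↥Spor.M22) * u * (n : MulAut ↥Spor.M22)⁻¹ ∈ R := fun n =>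
      (Subgroup.mem_normalizer_iff.1 n.2 u).1 huR
    let f : ↥N ⧸ K.subgroupOf N → {r : R // r ≠ 1} := Quotient.lift
      (fun n : N => ⟨⟨_, hmem n⟩, fun h => by
        have h' : u = 1 := conj_eq_one_iff.1 (congrArg Subtype.val h)
        rw [h', orderOf_one] at hu
        norm_num at hu⟩) (fun a b hab => by
      have h := mem_centralizer_singleton_iff.1
        (Subgroup.mem_inf.1 (Subgroup.mem_subgroupOf.1 (QuotientGroup.leftRel_apply.1 hab))).2
      refine Subtype.ext (Subtype.ext ?_)
      show (a : MulAut ↥Spor.M22) * u * (a : MulAut ↥Spor.M22)⁻¹ =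
        (b : MulAut ↥Spor.M22) * u * (b : MulAut ↥Spor.M22)⁻¹
      simp only [Subgroup.coe_mul, InvMemClass.coe_inv] at h
      calc (a : MulAut ↥Spor.M22) * u * (a : MulAut ↥Spor.M22)⁻¹
          = a * ((u * ((a : MulAut ↥Spor.M22)⁻¹ * b))) * (b : MulAut ↥Spor.M22)⁻¹ := by group
        _ = a * (((a : MulAut ↥Spor.M22)⁻¹ * b) * u) * (b : MulAut ↥Spor.M22)⁻¹ := by rw [h]
        _ = _ := by group)
    have hinj : Function.Injective f := by
      intro p q
      refine Quotient.inductionOn₂ p q fun a b hab => Quotient.sound ?_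
      have h : (a : MulAut ↥Spor.M22) * u * (a : MulAut ↥Spor.M22)⁻¹ =
          (b : MulAut ↥Spor.M22) * u * (b : MulAut ↥Spor.M22)⁻¹ :=
        congrArg (fun r : {r : R // r ≠ 1} => ((r : R) : MulAut ↥Spor.M22)) hab
      refine QuotientGroup.leftRel_apply.2 (Subgroup.mem_subgroupOf.2 ⟨(a⁻¹ * b).2,
        mem_centralizer_singleton_iff.2 ?_⟩)
      show (a : MulAut ↥Spor.M22)⁻¹ * b * u = u * ((a : MulAut ↥Spor.M22)⁻¹ * b)
      calc (a : MulAut ↥Spor.M22)⁻¹ * b * u
          = (a : MulAut ↥Spor.M22)⁻¹ * (b * u * (b : MulAut ↥Spor.M22)⁻¹) * b := by group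
        _ = (a : MulAut ↥Spor.M22)⁻¹ * (a * u * (a : MulAut ↥Spor.M22)⁻¹) * b := by rw [h]
        _ = _ := by group
    have h1 := Nat.card_le_card_of_injective f hinj
    haveI := Fintype.ofFinite R
    rw [← Subgroup.index_eq_card, Nat.card_eq_fintype_card, Fintype.card_subtype_compl,
      Fintype.card_subtype_eq, ← Nat.card_eq_fintype_card, hR] at h1
    exact h1
  have hKc : Nat.card K * (K.subgroupOf N).index = 144 := by
    rw [← Nat.card_congr (Subgroup.subgroupOfEquivOfLe (show K ≤ N from inf_le_left)).toEquiv,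
      Subgroup.card_mul_index, hN144]
  have h2 : 2 ∣ Nat.card K := by
    by_contra hodd
    have hd : Nat.card K ∣ 9 := ((Nat.prime_two.coprime_iff_not_dvd.2 hodd).pow_left 4).symm.dvd_of_dvd_mul_left
      (show Nat.card K ∣ 2 ^ 4 * 9 from ⟨_, hKc.symm⟩)
    have := Nat.le_of_dvd (by norm_num) hd
    nlinarith
  obtain ⟨⟨s, hsK⟩, hs⟩ := exists_prime_orderOf_dvd_card' (G := K) 2 h2
  rw [Subgroup.orderOf_mk] at hs
  obtain ⟨hsN, hsu⟩ := hsK
  obtain ⟨w0, hw0, hmv⟩ : ∃ w0 ∈ R, s * w0 * s⁻¹ ≠ w0 := by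
    by_contra hcon
    push Not at hcon
    exact no_involution_nine hR hs fun r hr => mul_inv_eq_iff_eq_mul.1 (hcon r hr)
  have hsu' : s * u * s⁻¹ = u := mul_inv_eq_iff_eq_mul.2 (mem_centralizer_singleton_iff.1 hsu)
  have hsR : s * w0 * s⁻¹ ∈ R := (Subgroup.mem_normalizer_iff.1 hsN w0).1 hw0
  have hs2 : s * s = 1 := by rw [← sq, ← hs, pow_orderOf_eq_one]
  have hsi : s⁻¹ = s := inv_eq_of_mul_eq_one_right hs2
  have hcomm : ∀ p ∈ R, ∀ q ∈ R, p * q = q * p := fun p hp q hq =>
    congrArg Subtype.val (mul_comm' (⟨p, hp⟩ : R) ⟨q, hq⟩)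
  set w := w0⁻¹ * (s * w0 * s⁻¹) with hw
  have hwR : w ∈ R := mul_mem (inv_mem hw0) hsR
  have hsw : s * w * s⁻¹ = w⁻¹ := by
    calc s * w * s⁻¹ = (s * w0 * s⁻¹)⁻¹ * ((s * s) * w0 * (s * s)⁻¹) := by rw [hw]; group
      _ = _ := by rw [hs2, hw]; group
  have hw1 : w ≠ 1 := fun h => hmv (inv_mul_eq_one.1 h).symm
  have hne : u ∉ zpowers w := by
    rintro ⟨i, hi⟩
    replace hi : w ^ i = u := hi
    have h : u = u⁻¹ := by
      conv_lhs => rw [← hsu', ← hi]
      rw [← conj_zpow, hsw, inv_zpow, hi]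
    have h' : orderOf u ∣ 2 := orderOf_dvd_of_pow_eq_one (by
      rw [sq]; nth_rw 1 [h]; exact inv_mul_cancel u)
    rw [hu] at h'
    norm_num at h'
  have hw9 : orderOf w ∣ 3 ^ 2 := by
    have := Subgroup.orderOf_dvd_natCard R hwR
    rwa [hR] at this
  have hw3 : orderOf w = 3 := by
    obtain ⟨i, hi, hio⟩ := (Nat.dvd_prime_pow Nat.prime_three).1 hw9
    interval_cases i
    · exact absurd (orderOf_eq_one_iff.1 (by simpa using hio)) hw1
    · simpa using hio
    · exfalso
      apply hne
      rw [Subgroup.eq_of_le_of_card_ge (zpowers_le.2 hwR) (by rw [Nat.card_zpowers, hio, hR]; norm_num)]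
      exact huR
  refine ⟨s, u, w, huR, hwR, hsu', hsw, hu3, by rw [← hw3, pow_orderOf_eq_one], ?_⟩
  set L := Subgroup.closure ({u, w} : Set (MulAut ↥Spor.M22)) with hL
  have hLR : L ≤ R := (Subgroup.closure_le R).2 (by rintro _ (rfl | rfl) <;> assumption)
  have huL : u ∈ L := Subgroup.subset_closure (Set.mem_insert _ _)
  have hwL : w ∈ L := Subgroup.subset_closure (Set.mem_insert_of_mem _ rfl)
  obtain ⟨i, hi, hic⟩ := (Nat.dvd_prime_pow Nat.prime_three).1
    (show Nat.card L ∣ 3 ^ 2 by have := Subgroup.card_dvd_of_le hLR; rwa [hR] at this)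
  have h3L : 3 < Nat.card L := by
    by_contra hle
    exact hne (Subgroup.eq_of_le_of_card_ge (zpowers_le.2 hwL)
      (by rw [Nat.card_zpowers, hw3]; omega) ▸ huL)
  have : i = 2 := by interval_cases i <;> simp_all
  subst this
  exact (Subgroup.eq_of_le_of_card_ge hLR (by rw [hic, hR]; norm_num)).ge

section cube

variable {V : Type*} [CommGroup V]

/-- The map `v ↦ v * X v`. -/
def moved (X : MulAut V) : V →* V where
  toFun v := v * X v
  map_one' := by rw [map_one, mul_one]
  map_mul' a b := by rw [map_mul, mul_mul_mul_comm]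

theorem moved_apply (X : MulAut V) (v : V) : moved X v = v * X v := rfl

theorem moved_stable {X F : MulAut V} (h : F * X = X * F) {v : V} (hv : v ∈ (moved X).range) :
    F v ∈ (moved X).range := by
  obtain ⟨u, rfl⟩ := hv
  refine ⟨F u, ?_⟩
  rw [moved_apply, moved_apply, map_mul]
  exact congrArg (F u * ·) (DFunLike.congr_fun h u).symm

theorem moved_rel (h2 : ∀ v : V, v * v = 1) {X : MulAut V} (hX : X ^ 3 = 1) {v : V}
    (hv : v ∈ (moved X).range) : v * X v * X (X v) = 1 := by
  obtain ⟨u, rfl⟩ := hv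
  have hX' : X (X (X u)) = u := by
    show (X * X * X) u = u
    rw [← pow_three', hX]; rfl
  rw [moved_apply, map_mul, map_mul, hX']
  calc u * X u * (X u * X (X u)) * (X (X u) * u)
      = (u * u) * (X u * X u) * (X (X u) * X (X u)) := by ac_rfl
    _ = 1 := by simp [h2]

/-- The norm of an element of order three. -/
def avg (A : MulAut V) (v : V) : V := v * A v * A (A v)

theorem avg_mul (A : MulAut V) (a b : V) : avg A (a * b) = avg A a * avg A b := by
  simp only [avg, map_mul]; ac_rfl

theorem avg_one (A : MulAut V) : avg A 1 = 1 := by simp [avg]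

theorem avg_self (h2 : ∀ v : V, v * v = 1) {A : MulAut V} {v : V} (h : A v = v) : avg A v = v := by
  rw [avg, h, h, h2, one_mul]

theorem avg_fixed {A : MulAut V} (hA : A ^ 3 = 1) (v : V) : A (avg A v) = avg A v := by
  have hA' : A (A (A v)) = v := by
    show (A * A * A) v = v
    rw [← pow_three', hA]; rfl
  simp only [avg, map_mul, hA']
  ac_rfl

/-- A group of order 27 with centre `⟨X⟩`, generated by `A, B`: the moved part has cubic order. -/
theorem card_range_cube [Finite V] (h2 : ∀ v : V, v * v = 1) (X A B : MulAut V) (hX : X ^ 3 = 1)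
    (hA : A ^ 3 = 1) (hAX : A * X = X * A) (hBX : B * X = X * B) (hBA : B * A = A * X * B) :
    ∃ n, Nat.card (moved X).range = n ^ 3 := by
  let W := (moved X).range
  let Wf : MulAut V → Set V := fun F => {v | v ∈ W ∧ F v = v}
  have hpt : ∀ {F F' : MulAut V}, F = F' → ∀ v, F v = F' v := fun h v => DFunLike.congr_fun h v
  have hXX : ∀ v, X (X (X v)) = v := fun v => by
    show (X * X * X) v = v
    rw [← pow_three', hX]; rfl
  have hAx : ∀ v, A (X v) = X (A v) := fun v => hpt hAX v
  have hBx : ∀ v, B (X v) = X (B v) := fun v => hpt hBX v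
  have hBa : ∀ v, B (A v) = A (X (B v)) := fun v => hpt hBA v
  have hXb : ∀ v, B⁻¹ (X v) = X (B⁻¹ v) := fun v => B.injective (by
    rw [hBx, MulAut.apply_inv_self, MulAut.apply_inv_self])
  set A1 := A * X with hA1
  set A2 := A * X * X with hA2
  have hA1' : A1 ^ 3 = 1 := by rw [hA1, (show Commute A X from hAX).mul_pow, hA, hX, one_mul]
  have hA2' : A2 ^ 3 = 1 := by
    rw [hA2, (Commute.mul_left (show Commute A X from hAX) (Commute.refl X)).mul_pow, hA1', hX, one_mul]
  have hst : ∀ F : MulAut V, F * X = X * F → ∀ v ∈ W, avg F v ∈ W := fun F hF v hv =>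
    mul_mem (mul_mem hv (moved_stable hF hv)) (moved_stable hF (moved_stable hF hv))
  have hA1X : A1 * X = X * A1 := by rw [hA1, ← mul_assoc, ← hAX]
  have hA2X : A2 * X = X * A2 := by rw [hA2, ← mul_assoc, ← hA1, ← hA1X]
  -- eigenvectors for different eigenvalues
  have hz01 : ∀ v ∈ W, A v = v → avg A1 v = 1 ∧ avg A2 v = 1 := by
    intro v hv h
    have h' : ∀ w, A (X w) = X (A w) := hAx
    constructor
    · show v * A (X v) * A (X (A (X v))) = 1
      rw [h' v, h, h', hAx, h]
      exact moved_rel h2 hX hv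
    · show v * A (X (X v)) * A (X (X (A (X (X v))))) = 1
      simp only [hAx, h, hXX]
      rw [mul_right_comm]
      exact moved_rel h2 hX hv
  have hz12 : ∀ v ∈ W, A (X v) = v → avg A2 v = 1 := by
    intro v hv h
    show v * A (X (X v)) * A (X (X (A (X (X v))))) = 1
    have hAv : A v = X (X v) := by
      have := congrArg (fun w => X (X w)) h
      simpa [hAx, hXX] using this
    simp only [hAx, hAv, hXX]
    exact moved_rel h2 hX hv
  let f : Wf A × Wf A1 × Wf A2 → W := fun p =>
    ⟨(p.1 : V) * p.2.1 * p.2.2, mul_mem (mul_mem p.1.2.1 p.2.1.2.1) p.2.2.2.1⟩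
  have hinj : Function.Injective f := by
    rintro ⟨⟨a, ha⟩, ⟨b, hb⟩, ⟨c, hc⟩⟩ ⟨⟨a', ha'⟩, ⟨b', hb'⟩, ⟨c', hc'⟩⟩ h
    have he : a * b * c = a' * b' * c' := congrArg Subtype.val h
    have e2 := congrArg (avg A2) he
    simp only [avg_mul, (hz01 a ha.1 ha.2).2, (hz01 a' ha'.1 ha'.2).2, hz12 b hb.1 hb.2,
      hz12 b' hb'.1 hb'.2, avg_self h2 hc.2, avg_self h2 hc'.2, one_mul] at e2
    subst e2
    have he' : a * b = a' * b' := mul_right_cancel he
    have e1 := congrArg (avg A1) he'
    simp only [avg_mul, (hz01 a ha.1 ha.2).1, (hz01 a' ha'.1 ha'.2).1, avg_self h2 hb.2,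
      avg_self h2 hb'.2, one_mul] at e1
    subst e1
    have e0 : a = a' := mul_right_cancel he'
    subst e0
    rfl
  have hsurj : Function.Surjective f := by
    rintro ⟨w, hw⟩
    refine ⟨(⟨avg A w, hst A hAX w hw, avg_fixed hA w⟩, ⟨avg A1 w, hst A1 hA1X w hw, avg_fixed hA1' w⟩,
      ⟨avg A2 w, hst A2 hA2X w hw, avg_fixed hA2' w⟩), Subtype.ext ?_⟩
    show w * A w * A (A w) * (w * A (X w) * A (X (A (X w)))) *
      (w * A (X (X w)) * A (X (X (A (X (X w)))))) = w
    have hm := moved_rel h2 hX hw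
    have hmA : A (w * X w * X (X w)) = 1 := by rw [hm, map_one]
    have hmAA : A (A (w * X w * X (X w))) = 1 := by rw [hmA, map_one]
    simp only [map_mul] at hmA hmAA
    simp only [← hAx, hXX]
    calc w * A w * A (A w) * (w * A (X w) * A (A (X (X w)))) * (w * A (X (X w)) * A (A (X w)))
        = (w * w) * w * (A w * A (X w) * A (X (X w))) *
            (A (A w) * A (A (X w)) * A (A (X (X w)))) := by ac_rfl
      _ = w := by rw [h2, hmA, hmAA, one_mul, mul_one, mul_one]
  refine ⟨Nat.card (Wf A), ?_⟩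
  show Nat.card W = _
  rw [← Nat.card_eq_of_bijective f ⟨hinj, hsurj⟩, Nat.card_prod, Nat.card_prod]
  have hbW : ∀ {v}, v ∈ W → B v ∈ W := fun hv => moved_stable hBX hv
  have hbW' : ∀ {v}, v ∈ W → B⁻¹ v ∈ W := fun hv => moved_stable (MulEquiv.ext hXb) hv
  have e01 : Nat.card (Wf A) = Nat.card (Wf A1) := Nat.card_congr
    { toFun := fun v => ⟨B v, hbW v.2.1, by
        show A (X (B v)) = B v
        rw [← hBa, v.2.2]⟩
      invFun := fun v => ⟨B⁻¹ v, hbW' v.2.1, B.injective (by
        rw [hBa, MulAut.apply_inv_self]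
        exact v.2.2)⟩
      left_inv := fun v => Subtype.ext (MulAut.inv_apply_self _ _ _)
      right_inv := fun v => Subtype.ext (MulAut.apply_inv_self _ _ _) }
  have e12 : Nat.card (Wf A1) = Nat.card (Wf A2) := Nat.card_congr
    { toFun := fun v => ⟨B v, hbW v.2.1, by
        show A (X (X (B v))) = B v
        rw [← hBx, ← hBa]
        exact congrArg B v.2.2⟩
      invFun := fun v => ⟨B⁻¹ v, hbW' v.2.1, B.injective (by
        show B (A (X (B⁻¹ (v : V)))) = B (B⁻¹ (v : V))
        rw [hBa, hBx, MulAut.apply_inv_self]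
        exact v.2.2)⟩
      left_inv := fun v => Subtype.ext (MulAut.inv_apply_self _ _ _)
      right_inv := fun v => Subtype.ext (MulAut.apply_inv_self _ _ _) }
  rw [← e12, ← e01]
  ring

/-- A permutation of order dividing eleven on a group of order `2 ^ k`, `k < 10`, fixing a
subgroup pointwise and nothing else, is trivial. -/
theorem perm_eleven [Finite V] {k : ℕ} (hk : k < 10) (hV : Nat.card V = 2 ^ k) (Y : MulAut V)
    (hY : Y ^ 11 = 1) : Y = 1 := by
  classical
  haveI := Fintype.ofFinite V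
  haveI : Fact (Nat.Prime 11) := ⟨by norm_num⟩
  let F : Subgroup V :=
    { carrier := {v | Y v = v}
      one_mem' := map_one Y
      mul_mem' := fun {a b} (ha : Y a = a) (hb : Y b = b) => show Y (a * b) = a * b by rw [map_mul, ha, hb]
      inv_mem' := fun {a} (ha : Y a = a) => show Y a⁻¹ = a⁻¹ by rw [map_inv, ha] }
  obtain ⟨i, hi, hiF⟩ := (Nat.dvd_prime_pow Nat.prime_two).1 (hV ▸ F.card_subgroup_dvd_card)
  let σ : Equiv.Perm V := Y.toEquiv
  have hσ : σ ^ 11 ^ 1 = 1 := by
    rw [pow_one]
    refine Equiv.ext fun v => ?_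
    have key : ∀ m : ℕ, ∀ w, (σ ^ m) w = (Y ^ m) w := by
      intro m
      induction m with
      | zero => intro w; rfl
      | succ m ih => intro w; rw [pow_succ, pow_succ, Equiv.Perm.mul_apply, MulAut.mul_apply, ih]; rfl
    rw [key, hY]
    rfl
  have hmod := Equiv.Perm.card_compl_support_modEq hσ
  have hfix : σ.supportᶜ.card = Nat.card F := by
    rw [Nat.card_eq_fintype_card, Fintype.card_of_subtype]
    intro v
    simp [Equiv.Perm.mem_support, σ, F]
  rw [hfix, hiF, ← Nat.card_eq_fintype_card, hV] at hmod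
  have hik : i = k := by
    have : ∀ i < 10, ∀ k < 10, 2 ^ i % 11 = 2 ^ k % 11 → i = k := by decide
    exact this i (by omega) k hk hmod
  have htop : F = ⊤ := Subgroup.eq_top_of_card_eq _ (by rw [hiF, hV, hik])
  exact MulEquiv.ext fun v => show v ∈ F from htop ▸ Subgroup.mem_top v

end cube

end Cfsg.Agent.J4Type.FromCent
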