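import Cfsg.Agent.Lib.Golay.M22Aut

/-!
The stabiliser in M24 of the two deleted points as the automorphism group of M22 (helper19).

* `pairStab`, `mem_pairStab` : the stabiliser of the duad `{none, some 0}`
* `pairStabEquiv` : it is `MulAut M22`
* `m22_le_of_normal` : a normal subgroup of it with abelian-square quotient contains M22
* `natCard_pairStab`, `natCard_M22'`
-/

set_option autoImplicit false
set_option linter.style.haveILetI false
open scoped Pointwise
open Cfsg MulAction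

namespace Cfsg.Agent.J4Type

open Cfsg.Agent.Golay

/-- The first deleted point. -/
abbrev pA : GolayPt := none
/-- The second deleted point. -/
abbrev pB : GolayPt := some 0

theorem pA_ne_pB : pA ≠ pB := by simp

/-- The permutations of M24 stabilising the duad of deleted points. -/
def pairStab : Subgroup (Equiv.Perm GolayPt) :=
  M24 ⊓ stabilizer (Equiv.Perm GolayPt) ({pA, pB} : Finset GolayPt)

theorem mem_pairStab {g : Equiv.Perm GolayPt} :
    g ∈ pairStab ↔ g ∈ M24 ∧ ((g pA = pA ∧ g pB = pB) ∨ (g pA = pB ∧ g pB = pA)) := by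
  unfold pairStab
  show g ∈ M24 ∧ g • ({pA, pB} : Finset GolayPt) = {pA, pB} ↔ _
  rw [Finset.smul_finset_insert, Finset.smul_finset_singleton,
    Equiv.Perm.smul_def, Equiv.Perm.smul_def]
  refine and_congr_right fun _ => ⟨fun h => ?_, ?_⟩
  · have h1 : g pA ∈ ({pA, pB} : Finset GolayPt) := h ▸ Finset.mem_insert_self _ _
    have h2 : g pB ∈ ({pA, pB} : Finset GolayPt) :=
      h ▸ Finset.mem_insert_of_mem (Finset.mem_singleton_self _)
    simp only [Finset.mem_insert, Finset.mem_singleton] at h1 h2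
    rcases h1 with e1 | e1 <;> rcases h2 with e2 | e2
    · exact absurd (g.injective (e1.trans e2.symm)) pA_ne_pB
    · exact Or.inl ⟨e1, e2⟩
    · exact Or.inr ⟨e1, e2⟩
    · exact absurd (g.injective (e1.trans e2.symm)) pA_ne_pB
  · rintro (⟨h1, h2⟩ | ⟨h1, h2⟩) <;> rw [h1, h2]
    exact Finset.pair_comm _ _

theorem m22_le_pairStab : Spor.M22 ≤ pairStab := fun _ hg =>
  mem_pairStab.2 ⟨hg.1.1, Or.inl ⟨hg.1.2, hg.2⟩⟩

theorem mem_M22_iff {g : Equiv.Perm GolayPt} (hg : g ∈ pairStab) : g ∈ Spor.M22 ↔ g pA = pA := by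
  refine ⟨fun h => h.1.2, fun h => ?_⟩
  obtain ⟨hM, ⟨h1, h2⟩ | ⟨h1, -⟩⟩ := mem_pairStab.1 hg
  · exact mem_M22_of_fix hM h1 h2
  · exact absurd (h.symm.trans h1) pA_ne_pB

theorem conj_mem_M22 {p g : Equiv.Perm GolayPt} (hp : p ∈ pairStab) (hg : g ∈ Spor.M22) :
    p * g * p⁻¹ ∈ Spor.M22 := by
  have hga : g pA = pA := hg.1.2
  have hgb : g pB = pB := hg.2
  rw [mem_M22_iff (mul_mem (mul_mem hp (m22_le_pairStab hg)) (inv_mem hp)), Equiv.Perm.mul_apply,
    Equiv.Perm.mul_apply]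
  rcases (mem_pairStab.1 hp).2 with ⟨h1, h2⟩ | ⟨h1, h2⟩
  · rw [show p⁻¹ pA = pA from Equiv.Perm.inv_eq_iff_eq.2 h1.symm, hga, h1]
  · rw [show p⁻¹ pA = pB from Equiv.Perm.inv_eq_iff_eq.2 h2.symm, hgb, h2]

theorem natCard_M22' : Nat.card ↥Spor.M22 = 443520 :=
  natCard_m22 (a := pA) (b := pB) pA_ne_pB

theorem isSimpleGroup_M22' : IsSimpleGroup ↥Spor.M22 :=
  isSimpleGroup_m22 (a := pA) (b := pB) pA_ne_pB

theorem center_M22 (k : ↥Spor.M22) (h : ∀ g : ↥Spor.M22, g * k = k * g) : k = 1 := by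
  haveI := isSimpleGroup_M22'
  rcases IsSimpleGroup.eq_bot_or_eq_top_of_normal (Subgroup.center ↥Spor.M22) inferInstance with e | e
  · exact Subgroup.mem_bot.1 (e ▸ Subgroup.mem_center_iff.2 h)
  · exfalso
    letI : CommGroup ↥Spor.M22 :=
      { (inferInstance : Group ↥Spor.M22) with
        mul_comm := fun a b => by
          have : a ∈ Subgroup.center ↥Spor.M22 := e ▸ Subgroup.mem_top a
          exact (Subgroup.mem_center_iff.1 this b).symm }
    have hp := IsSimpleGroup.prime_card (α := ↥Spor.M22)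
    rw [natCard_M22'] at hp
    norm_num at hp

/-- Conjugation on M22 by a member of the stabiliser. -/
def conjM22 : ↥pairStab →* MulAut ↥Spor.M22 where
  toFun p :=
    { toFun := fun g => ⟨(p : Equiv.Perm GolayPt) * g * (p : Equiv.Perm GolayPt)⁻¹, conj_mem_M22 p.2 g.2⟩
      invFun := fun g => ⟨(p : Equiv.Perm GolayPt)⁻¹ * g * (p : Equiv.Perm GolayPt), by
        simpa using conj_mem_M22 (inv_mem p.2) g.2⟩
      left_inv := fun g => Subtype.ext (by simp [mul_assoc])
      right_inv := fun g => Subtype.ext (by simp [mul_assoc])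
      map_mul' := fun g h => Subtype.ext (by simp [mul_assoc]) }
  map_one' := MulEquiv.ext fun g => Subtype.ext (by simp)
  map_mul' p q := MulEquiv.ext fun g => Subtype.ext (by
    show ((p * q : ↥pairStab) : Equiv.Perm GolayPt) * g * ((p * q : ↥pairStab) : Equiv.Perm GolayPt)⁻¹ =
      (p : Equiv.Perm GolayPt) * ((q : Equiv.Perm GolayPt) * g * (q : Equiv.Perm GolayPt)⁻¹) *
        (p : Equiv.Perm GolayPt)⁻¹
    simp [mul_assoc])

theorem conjM22_bijective : Function.Bijective conjM22 := by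
  refine ⟨(injective_iff_map_eq_one _).2 fun p hp => ?_, fun α => ?_⟩
  · have hfix : ∀ g : ↥Spor.M22, (p : Equiv.Perm GolayPt) * g * (p : Equiv.Perm GolayPt)⁻¹ = g :=
      fun g => congrArg Subtype.val (MulEquiv.ext_iff.1 hp g)
    obtain ⟨hM, ⟨h1, h2⟩ | ⟨h1, h2⟩⟩ := mem_pairStab.1 p.2
    · have h := center_M22 ⟨_, mem_M22_of_fix hM h1 h2⟩ fun g => Subtype.ext (by
        show (g : Equiv.Perm GolayPt) * p = (p : Equiv.Perm GolayPt) * g
        exact (mul_inv_eq_iff_eq_mul.1 (hfix g)).symm)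
      exact Subtype.ext (congrArg (fun k : ↥Spor.M22 => (k : Equiv.Perm GolayPt)) h)
    · exact absurd (fun g => by simpa using hfix g) (not_inner_of_swap hM h1 h2 1)
  · obtain ⟨π, hπ, hcase, hα⟩ := exists_perm_of_mulAut_M22 α
    exact ⟨⟨π, mem_pairStab.2 ⟨hπ, hcase⟩⟩, MulEquiv.ext fun g => Subtype.ext (hα g).symm⟩

/-- The stabiliser of the duad is the automorphism group of M22. -/
noncomputable def pairStabEquiv : ↥pairStab ≃* MulAut ↥Spor.M22 :=
  MulEquiv.ofBijective conjM22 conjM22_bijective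

/-- A subgroup normalised by M22 containing the squares of M22 contains it. -/
theorem m22_le_of_squares {L : Subgroup (Equiv.Perm GolayPt)}
    (hn : ∀ g ∈ Spor.M22, ∀ l ∈ L, g * l * g⁻¹ ∈ L)
    (hsq : ∀ g ∈ Spor.M22, g * g ∈ L) : Spor.M22 ≤ L := by
  haveI := isSimpleGroup_M22'
  haveI : (L.subgroupOf Spor.M22).Normal := ⟨fun n hn' g => by
    exact hn g g.2 n hn'⟩
  rcases IsSimpleGroup.eq_bot_or_eq_top_of_normal (L.subgroupOf Spor.M22) inferInstance with e | e
  · exfalso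
    have hz : ∀ g : ↥Spor.M22, g * g = 1 := fun g => by
      have h1 : g * g ∈ L.subgroupOf Spor.M22 := hsq g g.2
      exact Subgroup.mem_bot.1 (e ▸ h1)
    have hc : ∀ a b : ↥Spor.M22, a * b = b * a := fun a b => by
      have hi : ∀ g : ↥Spor.M22, g⁻¹ = g := fun g => inv_eq_of_mul_eq_one_right (hz g)
      calc a * b = (a * b)⁻¹ := (hi _).symm
        _ = b * a := by rw [mul_inv_rev, hi, hi]
    letI : CommGroup ↥Spor.M22 := { (inferInstance : Group ↥Spor.M22) with mul_comm := hc }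
    have hp := IsSimpleGroup.prime_card (α := ↥Spor.M22)
    rw [natCard_M22'] at hp
    norm_num at hp
  · exact Subgroup.subgroupOf_eq_top.1 e

theorem exists_swap : ∃ t ∈ pairStab, t pA = pB := by
  obtain ⟨t, htM, hta, htb⟩ := exists_map_two (a := pA) (b := pB) (c := pB) (d := pA) pA_ne_pB pA_ne_pB.symm
  exact ⟨t, mem_pairStab.2 ⟨htM, Or.inr ⟨hta, htb⟩⟩, hta⟩

theorem natCard_pairStab : Nat.card ↥pairStab = 887040 := by
  obtain ⟨t, ht, hta⟩ := exists_swap
  have hi : (Spor.M22.subgroupOf pairStab).index = 2 := by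
    rw [Subgroup.index_eq_two_iff]
    refine ⟨⟨t, ht⟩, fun b => ?_⟩
    have hb : (b : Equiv.Perm GolayPt) ∈ pairStab := b.2
    simp only [Subgroup.mem_subgroupOf, Subgroup.coe_mul, mem_M22_iff (mul_mem hb ht), mem_M22_iff hb,
      Equiv.Perm.mul_apply, hta]
    rcases (mem_pairStab.1 hb).2 with ⟨h1, h2⟩ | ⟨h1, h2⟩
    · refine Or.inr ⟨h1, fun e => pA_ne_pB ?_⟩
      exact (h2.symm.trans e).symm
    · refine Or.inl ⟨h2, fun e => pA_ne_pB ?_⟩
      exact e.symm.trans h1
  have h := (Spor.M22.subgroupOf pairStab).index_mul_card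
  rw [hi, Nat.card_congr (Subgroup.subgroupOfEquivOfLe m22_le_pairStab).toEquiv, natCard_M22'] at h
  omega

end Cfsg.Agent.J4Type
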