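import Cfsg.Prelude.Def_JankoFourType
import Cfsg.Agent.Lib.J4Type.PairStab
import Cfsg.Agent.Lib.LargeExtraspecial.Pair

/-!
The hypotheses of Janko-four type at `(z, P)` in usable form (helper19).

* `Setting z P`, `exists_setting` : `E`, a generator of `P`, the map `κ` onto the duad stabiliser
* `Setting.data`, `Setting.zpowers_inf`, `Setting.frattini'` : first consequences
* `Setting.card_ker`, `Setting.card_Cz`, `Setting.sylow_isSylow`
-/

set_option autoImplicit false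
set_option linter.style.haveILetI false
set_option linter.unusedSectionVars false
open scoped Pointwise commutatorElement
open Cfsg Subgroup

namespace Cfsg.Agent.J4Type

variable {G : Type*} [Group G]

/-- The centraliser of the element. -/
abbrev Cz (z : G) : Subgroup G := Subgroup.centralizer ({z} : Set G)

/-- Its largest normal 2-subgroup, inside the whole group. -/
abbrev Ez (z : G) : Subgroup G := twoCoreOfCentralizer z

/-- The centraliser of `P` in it. -/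
abbrev Kz (z : G) (P : Subgroup G) : Subgroup G := Cz z ⊓ Subgroup.centralizer (P : Set G)

/-- Data of Janko-four type at `(z, P)`. -/
structure Setting (z : G) (P : Subgroup G) where
  /-- a generator of `P` -/
  gen : G
  /-- the map onto the stabiliser of a duad in M24 -/
  κ : ↥(Cz z) →* Equiv.Perm GolayPt
  orderOf_z : orderOf z = 2
  extra : IsExtraspecial 2 ↥(Ez z)
  card_E : Nat.card ↥(Ez z) = 2 ^ 13
  cent_E : ∀ x ∈ Cz z, (∀ e ∈ Ez z, e * x = x * e) → x ∈ Ez z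
  gen_ord : orderOf gen = 3
  gen_zpowers : Subgroup.zpowers gen = P
  gen_mem : gen ∈ Cz z
  fix : ∀ e ∈ Ez z, e * gen = gen * e → e = 1 ∨ e = z
  κ_range : κ.range = pairStab
  κ_ker : ∀ h : ↥(Cz z), κ h = 1 ↔ ∃ e ∈ Ez z, ∃ n : ℕ, (h : G) = e * gen ^ n
  frattini : ∀ h ∈ Cz z, ∃ e ∈ Ez z, ∃ k ∈ Cz z, k ∈ Subgroup.normalizer (P : Set G) ∧ h = e * k
  inner : ∀ k : ↥(Cz z), (k : G) ∈ Subgroup.normalizer (P : Set G) →
    (κ k pA = pA → (k : G) * gen = gen * k) ∧ (κ k pA ≠ pA → (k : G) * gen * (k : G)⁻¹ = gen⁻¹)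
  derived : gen ∈ ⁅Kz z P, Kz z P⁆

theorem Ez_le_Cz (z : G) : Ez z ≤ Cz z := Subgroup.map_subtype_le _

theorem conj_mem_Ez {z h e : G} (hh : h ∈ Cz z) (he : e ∈ Ez z) : h * e * h⁻¹ ∈ Ez z := by
  obtain ⟨q, hq, rfl⟩ := he
  exact ⟨⟨h, hh⟩ * q * ⟨h, hh⟩⁻¹, LargeExtraspecial.pCore_conj_mem 2 hq _, rfl⟩

theorem mem_Cz {z h : G} : h ∈ Cz z ↔ h * z = z * h := Subgroup.mem_centralizer_singleton_iff

theorem self_mem_Cz (z : G) : z ∈ Cz z := mem_Cz.2 rfl

/-- An automorphism of a group of order three fixes the generator or inverts it. -/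
theorem conj_gen_cases {c k : G} (hc : orderOf c = 3)
    (hk : k ∈ Subgroup.normalizer (Subgroup.zpowers c : Set G)) :
    k * c * k⁻¹ = c ∨ k * c * k⁻¹ = c⁻¹ := by
  have hm : k * c * k⁻¹ ∈ Subgroup.zpowers c := (mem_normalizer_iff.1 hk c).1 (mem_zpowers c)
  obtain ⟨n, hn⟩ := mem_zpowers_iff.1 hm
  rw [← zpow_mod_orderOf, hc] at hn
  have h0 := Int.emod_nonneg n (show ((3 : ℕ) : ℤ) ≠ 0 by norm_num)
  have h3 := Int.emod_lt_of_pos n (show (0 : ℤ) < ((3 : ℕ) : ℤ) by norm_num)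
  have hc3 : c ^ (3 : ℕ) = 1 := hc ▸ pow_orderOf_eq_one c
  obtain h | h | h : n % ((3 : ℕ) : ℤ) = 0 ∨ n % ((3 : ℕ) : ℤ) = 1 ∨ n % ((3 : ℕ) : ℤ) = 2 := by omega
  · rw [h, zpow_zero] at hn
    have : c = 1 := by
      have := hn.symm
      rwa [conj_eq_one_iff] at this
    rw [this, orderOf_one] at hc
    norm_num at hc
  · rw [h, zpow_one] at hn
    exact Or.inl hn.symm
  · right
    rw [← hn, h, zpow_two]
    refine eq_inv_of_mul_eq_one_left ?_
    rw [← hc3]; simp [pow_succ]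

variable [Finite G]

theorem exists_setting {z : G} {P : Subgroup G} (hJ : IsOfJankoFourTypeWith z P) :
    Nonempty (Setting z P) := by
  classical
  obtain ⟨hz, hext, hcard, hcent, ⟨N, hEN, hNH, hHN, hNcard, ⟨hNn, ⟨eN⟩⟩, hPN⟩, hP3, hfix, hne, hder⟩ := hJ
  haveI : Fact (Nat.Prime 3) := ⟨Nat.prime_three⟩
  haveI : IsCyclic ↥P := isCyclic_of_prime_card hP3
  obtain ⟨⟨c, hcP⟩, hcgen⟩ := IsCyclic.exists_generator (α := ↥P)
  have hcz : Subgroup.zpowers c = P := by
    refine le_antisymm (zpowers_le.2 hcP) fun x hx => ?_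
    obtain ⟨n, hn⟩ := mem_zpowers_iff.1 (hcgen ⟨x, hx⟩)
    exact mem_zpowers_iff.2 ⟨n, congrArg Subtype.val hn⟩
  have hc3 : orderOf c = 3 := by rw [← Nat.card_zpowers, hcz, hP3]
  have hcH : c ∈ Cz z := hNH (hPN hcP)
  have hnormP : ∀ k, k * c * k⁻¹ = c ∨ k * c * k⁻¹ = c⁻¹ → k ∈ Subgroup.normalizer (P : Set G) := by
    intro k hk
    refine Subgroup.mem_normalizer_fintype fun q hq => ?_
    rw [SetLike.mem_coe, ← hcz] at hq ⊢
    obtain ⟨n, rfl⟩ := mem_zpowers_iff.1 hq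
    rcases hk with h | h
    · exact mem_zpowers_iff.2 ⟨n, by rw [← conj_zpow, h]⟩
    · exact mem_zpowers_iff.2 ⟨-n, by rw [← conj_zpow, h, inv_zpow, zpow_neg]⟩
  -- `E` is normal of index three in `N`, with `c` a representative
  have hexp : ∀ n ∈ N, ∃ e ∈ Ez z, ∃ i : ℕ, n = e * c ^ i := by
    haveI hnorm : ((Ez z).subgroupOf N).Normal := ⟨fun e he n => conj_mem_Ez (hNH n.2) he⟩
    have hidx : ((Ez z).subgroupOf N).index = 3 := by
      have h := ((Ez z).subgroupOf N).index_mul_card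
      rw [Nat.card_congr (Subgroup.subgroupOfEquivOfLe hEN).toEquiv, hNcard] at h
      exact Nat.eq_of_mul_eq_mul_right Nat.card_pos h
    set Q := ↥N ⧸ (Ez z).subgroupOf N
    have hQ : Nat.card Q = 3 := by rw [← Subgroup.index_eq_card, hidx]
    have hne1 : (QuotientGroup.mk (⟨c, hPN hcP⟩ : ↥N) : Q) ≠ 1 := by
      intro h
      have hcE : c ∈ Ez z := Subgroup.mem_subgroupOf.1 ((QuotientGroup.eq_one_iff (⟨c, hPN hcP⟩ : ↥N)).1 h)
      have h2 := orderOf_dvd_natCard (⟨c, hcE⟩ : ↥(Ez z))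
      rw [Subgroup.orderOf_mk, hc3, hcard] at h2
      norm_num at h2
    intro n hn
    have hm : (QuotientGroup.mk (⟨n, hn⟩ : ↥N) : Q) ∈ Subgroup.zpowers (QuotientGroup.mk (⟨c, hPN hcP⟩ : ↥N) : Q) := by
      rw [zpowers_eq_top_of_prime_card hQ hne1]
      exact mem_top _
    rw [mem_zpowers_iff_mem_range_orderOf] at hm
    simp only [Finset.mem_image, Finset.mem_range] at hm
    obtain ⟨i, -, hi⟩ := hm
    rw [← QuotientGroup.mk_pow, QuotientGroup.eq] at hi
    have hiE : (c ^ i)⁻¹ * n ∈ Ez z := by simpa [Subgroup.mem_subgroupOf] using hi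
    refine ⟨c ^ i * ((c ^ i)⁻¹ * n) * (c ^ i)⁻¹, conj_mem_Ez (pow_mem hcH i) hiE, i, ?_⟩
    group
  -- the Frattini argument
  have hfrat : ∀ h ∈ Cz z, ∃ e ∈ Ez z, ∃ k ∈ Cz z, k ∈ Subgroup.normalizer (P : Set G) ∧ h = e * k := by
    intro h hh
    have hq : Nat.card ↥N = 2 ^ 13 * 3 := by rw [hNcard, hcard]; norm_num
    have hf : (Nat.card ↥N).factorization 3 = 1 := by
      rw [hq, Nat.factorization_mul (by norm_num) (by norm_num), Finsupp.add_apply,
        Nat.Prime.factorization_pow Nat.prime_two, Nat.Prime.factorization Nat.prime_three]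
      simp
    have hc' : h * c * h⁻¹ ∈ N := (mem_normalizer_iff.1 (hHN hh) c).1 (hPN hcP)
    have ho' : orderOf (⟨h * c * h⁻¹, hc'⟩ : ↥N) = 3 := by
      rw [Subgroup.orderOf_mk, show h * c * h⁻¹ = (MulAut.conj h).toMonoidHom c from rfl,
        orderOf_injective _ (MulAut.conj h).injective, hc3]
    let S₁ : Sylow 3 ↥N := Sylow.ofCard (Subgroup.zpowers (⟨c, hPN hcP⟩ : ↥N))
      (by rw [hf, Nat.card_zpowers, Subgroup.orderOf_mk, hc3, pow_one])
    let S₂ : Sylow 3 ↥N := Sylow.ofCard (Subgroup.zpowers (⟨h * c * h⁻¹, hc'⟩ : ↥N))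
      (by rw [hf, Nat.card_zpowers, ho', pow_one])
    obtain ⟨n, hn⟩ := MulAction.exists_smul_eq ↥N S₁ S₂
    have hmem : (⟨h * c * h⁻¹, hc'⟩ : ↥N) ∈ (n • S₁ : Sylow 3 ↥N).1 := by
      rw [hn]; exact mem_zpowers _
    rw [Sylow.coe_subgroup_smul, Subgroup.mem_pointwise_smul_iff_inv_smul_mem] at hmem
    obtain ⟨j, hj⟩ := mem_zpowers_iff.1 (hmem : (MulAut.conj n)⁻¹ • (⟨h * c * h⁻¹, hc'⟩ : ↥N) ∈
      Subgroup.zpowers (⟨c, hPN hcP⟩ : ↥N))
    have hj' : ((n : G)⁻¹ * h) * c * ((n : G)⁻¹ * h)⁻¹ = c ^ j := by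
      have h2 := congrArg Subtype.val hj
      simp only [MulAut.smul_def, MulAut.inv_def, MulAut.conj_symm_apply, Subgroup.coe_mul,
        SubgroupClass.coe_zpow, InvMemClass.coe_inv] at h2
      rw [h2]; group
    have hk : ((n : G)⁻¹ * h) ∈ Subgroup.normalizer (Subgroup.zpowers c : Set G) := by
      refine Subgroup.mem_normalizer_fintype fun q hq' => ?_
      rw [SetLike.mem_coe] at hq' ⊢
      obtain ⟨m, rfl⟩ := mem_zpowers_iff.1 hq'
      rw [← conj_zpow, hj']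
      exact zpow_mem (zpow_mem (mem_zpowers c) j) m
    have hk2 := hnormP _ (conj_gen_cases hc3 hk)
    obtain ⟨e, he, i, hni⟩ := hexp n n.2
    refine ⟨e, he, c ^ i * ((n : G)⁻¹ * h), ?_, ?_, ?_⟩
    · exact mul_mem (pow_mem hcH i) (mul_mem (inv_mem (hNH n.2)) hh)
    · exact mul_mem (pow_mem (hnormP c (Or.inl (by group))) i) hk2
    · rw [← mul_assoc, ← hni]; group
  -- the map to the stabiliser of the duad
  haveI := hNn
  let κ : ↥(Cz z) →* Equiv.Perm GolayPt :=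
    pairStab.subtype.comp (pairStabEquiv.symm.toMonoidHom.comp (eN.toMonoidHom.comp (QuotientGroup.mk' _)))
  have hκr : κ.range = pairStab := by
    ext x
    constructor
    · rintro ⟨h, rfl⟩; exact (pairStabEquiv.symm _).2
    · intro hx
      obtain ⟨h, hh⟩ := QuotientGroup.mk_surjective (eN.symm (pairStabEquiv ⟨x, hx⟩))
      exact ⟨h, by
        show ((pairStabEquiv.symm (eN (QuotientGroup.mk h))) : Equiv.Perm GolayPt) = x
        rw [hh, MulEquiv.apply_symm_apply, MulEquiv.symm_apply_apply]⟩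
  have hκk : ∀ h : ↥(Cz z), κ h = 1 ↔ (h : G) ∈ N := by
    intro h
    show ((pairStabEquiv.symm (eN (QuotientGroup.mk h))) : Equiv.Perm GolayPt) = 1 ↔ _
    rw [OneMemClass.coe_eq_one, EmbeddingLike.map_eq_one_iff, EmbeddingLike.map_eq_one_iff,
      QuotientGroup.eq_one_iff, Subgroup.mem_subgroupOf]
  have hfix' : ∀ e ∈ Ez z, e * c = c * e → e = 1 ∨ e = z := by
    intro e he hec
    have h1 : e ∈ Subgroup.zpowers z := by
      rw [← hfix]
      refine mem_inf.2 ⟨he, mem_centralizer_iff.2 fun q hq => ?_⟩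
      rw [SetLike.mem_coe, ← hcz] at hq
      obtain ⟨n, rfl⟩ := mem_zpowers_iff.1 hq
      exact ((show Commute e c from hec).zpow_right n).eq.symm
    exact LargeExtraspecial.mem_zpowers_two (by rw [← pow_two, ← hz, pow_orderOf_eq_one]) h1
  have hnp : ∀ k, k ∈ Subgroup.normalizer (P : Set G) → k * c * k⁻¹ = c ∨ k * c * k⁻¹ = c⁻¹ :=
    fun k hk => conj_gen_cases hc3 (by rw [hcz]; exact hk)
  -- the centraliser of `P` maps onto M22
  let C : Subgroup ↥(Cz z) := (Subgroup.centralizer (P : Set G)).subgroupOf (Cz z)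
  have hCmem : ∀ k : ↥(Cz z), k ∈ C ↔ (k : G) * c = c * k := by
    intro k
    show (k : G) ∈ Subgroup.centralizer (P : Set G) ↔ _
    rw [mem_centralizer_iff]
    refine ⟨fun h => (h c hcP).symm, fun h q hq => ?_⟩
    rw [SetLike.mem_coe, ← hcz] at hq
    obtain ⟨n, rfl⟩ := mem_zpowers_iff.1 hq
    exact ((show Commute (k : G) c from h).zpow_right n).eq.symm
  have hnotC : ∀ k : ↥(Cz z), (k : G) ∈ Subgroup.normalizer (P : Set G) → k ∉ C →
      (k : G) * c * (k : G)⁻¹ = c⁻¹ := fun k hk hkC =>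
    (hnp k hk).resolve_left fun h => hkC ((hCmem k).2 (mul_inv_eq_iff_eq_mul.1 h))
  have hlift : ∀ g ∈ pairStab, ∃ k : ↥(Cz z), (k : G) ∈ Subgroup.normalizer (P : Set G) ∧ κ k = g := by
    intro g hg
    obtain ⟨h, rfl⟩ : g ∈ κ.range := hκr ▸ hg
    obtain ⟨e, he, k, hk, hkn, hek⟩ := hfrat h h.2
    refine ⟨⟨k, hk⟩, hkn, ?_⟩
    have : h = ⟨e, Ez_le_Cz z he⟩ * ⟨k, hk⟩ := Subtype.ext hek
    rw [this, map_mul, (hκk ⟨e, Ez_le_Cz z he⟩).2 (hEN he), one_mul]
  have hM22 : Spor.M22 ≤ C.map κ := by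
    refine m22_le_of_squares ?_ ?_
    · rintro g hg _ ⟨k, hk, rfl⟩
      obtain ⟨n, hn, rfl⟩ := hlift g (m22_le_pairStab hg)
      refine ⟨n * k * n⁻¹, ?_, by rw [map_mul, map_mul, map_inv]⟩
      rw [SetLike.mem_coe, hCmem] at hk ⊢
      rcases hnp n hn with h | h
      · have h' : (n : G)⁻¹ * c * n = c := by
          calc (n : G)⁻¹ * c * n = (n : G)⁻¹ * ((n : G) * c * (n : G)⁻¹) * n := by rw [h]
            _ = c := by group
        calc (n : G) * k * (n : G)⁻¹ * c = (n : G) * (k * ((n : G)⁻¹ * c * n)) * (n : G)⁻¹ := by group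
          _ = (n : G) * (c * k) * (n : G)⁻¹ := by rw [h', hk]
          _ = (n : G) * c * (n : G)⁻¹ * ((n : G) * k * (n : G)⁻¹) := by group
          _ = c * ((n : G) * k * (n : G)⁻¹) := by rw [h]
      · have h' : (n : G)⁻¹ * c * n = c⁻¹ := by
          have h2 : (n : G) * c⁻¹ * (n : G)⁻¹ = c := by
            have := congrArg (·⁻¹) h
            simpa [mul_assoc] using this
          calc (n : G)⁻¹ * c * n = (n : G)⁻¹ * ((n : G) * c⁻¹ * (n : G)⁻¹) * n := by rw [h2]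
            _ = c⁻¹ := by group
        have h2 : (n : G) * c⁻¹ * (n : G)⁻¹ = c := by
          have := congrArg (·⁻¹) h
          simpa [mul_assoc] using this
        calc (n : G) * k * (n : G)⁻¹ * c = (n : G) * (k * ((n : G)⁻¹ * c * n)) * (n : G)⁻¹ := by group
          _ = (n : G) * (c⁻¹ * k) * (n : G)⁻¹ := by rw [h', (Commute.inv_right hk).eq]
          _ = (n : G) * c⁻¹ * (n : G)⁻¹ * ((n : G) * k * (n : G)⁻¹) := by group
          _ = c * ((n : G) * k * (n : G)⁻¹) := by rw [h2]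
    · intro g hg
      obtain ⟨n, hn, rfl⟩ := hlift g (m22_le_pairStab hg)
      refine ⟨n * n, (hCmem _).2 ?_, map_mul _ _ _⟩
      show (n : G) * n * c = c * (n * n)
      rcases hnp n hn with h | h
      · rw [mul_inv_eq_iff_eq_mul] at h
        calc (n : G) * n * c = n * (c * n) := by rw [← h]; group
          _ = _ := by rw [← mul_assoc, h]; group
      · have h1 : (n : G) * c = c⁻¹ * n := mul_inv_eq_iff_eq_mul.1 h
        calc (n : G) * n * c = n * (c⁻¹ * n) := by rw [← h1]; group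
          _ = ((n : G) * c * (n : G)⁻¹)⁻¹ * (n * n) := by group
          _ = _ := by rw [h, inv_inv]
  have hkerC : ∀ k : ↥(Cz z), (k : G) ∈ Subgroup.normalizer (P : Set G) → κ k = 1 → k ∈ C := by
    intro k hk h1
    obtain ⟨e, he, i, hei⟩ := hexp k ((hκk k).1 h1)
    have hen : e ∈ Subgroup.normalizer (P : Set G) := by
      have : e = (k : G) * (c ^ i)⁻¹ := by rw [hei]; group
      rw [this]
      exact mul_mem hk (inv_mem (pow_mem (hnormP c (Or.inl (by group))) i))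
    have hec : e * c = c * e := by
      rcases hnp e hen with h | h
      · exact mul_inv_eq_iff_eq_mul.1 h
      · exfalso
        -- the commutator lies in `E` and in `P`
        have h1 : c * c ∈ Ez z := by
          have h2 : e * (c * e⁻¹ * c⁻¹) ∈ Ez z := mul_mem he (conj_mem_Ez hcH (inv_mem he))
          rw [show e * (c * e⁻¹ * c⁻¹) = e * c * e⁻¹ * c⁻¹ by group, h] at h2
          simpa using inv_mem h2
        have h2 := orderOf_dvd_natCard (⟨c * c, h1⟩ : ↥(Ez z))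
        rw [Subgroup.orderOf_mk, hcard, ← pow_two, orderOf_pow, hc3] at h2
        norm_num at h2
    rw [hCmem, hei]
    calc e * c ^ i * c = e * (c * c ^ i) := by rw [mul_assoc, (Commute.pow_self c i).eq]
      _ = _ := by rw [← mul_assoc, hec]; group
  -- it is not the whole normaliser
  have hout : ∀ k : ↥(Cz z), k ∈ C → κ k pA = pA := by
    intro k hk
    by_contra hka
    apply hne
    refine le_antisymm (fun y hy => ?_) (inf_le_inf_left _ (centralizer_le_normalizer _))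
    obtain ⟨hyH, hyn⟩ := mem_inf.1 hy
    refine mem_inf.2 ⟨hyH, ?_⟩
    show (⟨y, hyH⟩ : ↥(Cz z)) ∈ C
    have hkn : (k : G) ∈ Subgroup.normalizer (P : Set G) := centralizer_le_normalizer _ hk
    have hyr : κ ⟨y, hyH⟩ ∈ pairStab := hκr ▸ ⟨_, rfl⟩
    have hkr : κ k ∈ pairStab := hκr ▸ ⟨_, rfl⟩
    have hget : ∀ g ∈ pairStab, g pA = pA → ∀ u : ↥(Cz z), (u : G) ∈ Subgroup.normalizer (P : Set G) → κ u = g → u ∈ C := by
      intro g hg hga u hu hug
      obtain ⟨v, hv, hvg⟩ := hM22 ((mem_M22_iff hg).2 hga)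
      have : v⁻¹ * u ∈ C := hkerC _ (mul_mem (inv_mem (centralizer_le_normalizer _ hv)) hu)
        (by rw [map_mul, map_inv, hvg, hug, inv_mul_cancel])
      simpa using C.mul_mem hv this
    by_cases hya : κ ⟨y, hyH⟩ pA = pA
    · exact hget _ hyr hya _ hyn rfl
    · have h := hget _ (mul_mem hyr hkr) ?_ (⟨y, hyH⟩ * k) (mul_mem hyn hkn) (map_mul _ _ _)
      · simpa using C.mul_mem h (C.inv_mem hk)
      · rw [Equiv.Perm.mul_apply]
        rcases (mem_pairStab.1 hyr).2 with ⟨a1, -⟩ | ⟨-, a2⟩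
        · exact absurd a1 hya
        rcases (mem_pairStab.1 hkr).2 with ⟨b1, -⟩ | ⟨b1, -⟩
        · exact absurd b1 hka
        · rw [b1, a2]
  have hinner : ∀ k : ↥(Cz z), (k : G) ∈ Subgroup.normalizer (P : Set G) → κ k pA = pA → k ∈ C := by
    intro k hk hka
    have hg : κ k ∈ pairStab := hκr ▸ ⟨_, rfl⟩
    obtain ⟨v, hv, hvg⟩ := hM22 ((mem_M22_iff hg).2 hka)
    have : v⁻¹ * k ∈ C := hkerC _ (mul_mem (inv_mem (centralizer_le_normalizer _ hv)) hk)
      (by rw [map_mul, map_inv, hvg, inv_mul_cancel])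
    simpa using C.mul_mem hv this
  exact ⟨{
    gen := c
    κ := κ
    orderOf_z := hz
    extra := hext
    card_E := hcard
    cent_E := fun x hx h => hcent (mem_inf.2 ⟨hx, mem_centralizer_iff.2 h⟩)
    gen_ord := hc3
    gen_zpowers := hcz
    gen_mem := hcH
    fix := hfix'
    κ_range := hκr
    κ_ker := fun h => (hκk h).trans ⟨fun hn => hexp _ hn, fun ⟨e, he, i, hei⟩ => hei ▸
      mul_mem (hEN he) (pow_mem (hPN hcP) i)⟩
    frattini := hfrat
    inner := fun k hk => ⟨fun h => (hCmem k).1 (hinner k hk h),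
      fun h => hnotC k hk fun hkC => h (hout k hkC)⟩
    derived := hder hcP }⟩

namespace Setting

variable {z : G} {P : Subgroup G}

omit [Finite G] in
theorem z_sq (S : Setting z P) : z * z = 1 := by rw [← pow_two, ← S.orderOf_z, pow_orderOf_eq_one]

omit [Finite G] in
theorem z_ne (S : Setting z P) : z ≠ 1 := fun h => by simpa [h] using S.orderOf_z

omit [Finite G] in
theorem z_mem_E (S : Setting z P) : z ∈ Ez z :=
  S.cent_E z (self_mem_Cz z) fun _ he => mem_Cz.1 (Ez_le_Cz z he)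

omit [Finite G] in
theorem gen_cube (S : Setting z P) : S.gen ^ 3 = 1 := S.gen_ord ▸ pow_orderOf_eq_one S.gen

omit [Finite G] in
theorem gen_norm (S : Setting z P) : S.gen ∈ Subgroup.normalizer (P : Set G) := by
  exact le_normalizer (S.gen_zpowers.le (mem_zpowers _))

omit [Finite G] in
theorem κ_E (S : Setting z P) {e : G} (he : e ∈ Ez z) : S.κ ⟨e, Ez_le_Cz z he⟩ = 1 :=
  (S.κ_ker _).2 ⟨e, he, 0, by simp⟩

omit [Finite G] in
theorem κ_gen (S : Setting z P) : S.κ ⟨S.gen, S.gen_mem⟩ = 1 :=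
  (S.κ_ker _).2 ⟨1, one_mem _, 1, by simp⟩

omit [Finite G] in
theorem κ_mem (S : Setting z P) (h : ↥(Cz z)) : S.κ h ∈ pairStab := S.κ_range ▸ ⟨h, rfl⟩

omit [Finite G] in
theorem frattini' (S : Setting z P) {g : Equiv.Perm GolayPt} (hg : g ∈ pairStab) :
    ∃ k : ↥(Cz z), (k : G) ∈ Subgroup.normalizer (P : Set G) ∧ S.κ k = g := by
  obtain ⟨h, rfl⟩ : g ∈ S.κ.range := S.κ_range ▸ hg
  obtain ⟨e, he, k, hk, hkn, hek⟩ := S.frattini h h.2
  refine ⟨⟨k, hk⟩, hkn, ?_⟩
  have : h = ⟨e, Ez_le_Cz z he⟩ * ⟨k, hk⟩ := Subtype.ext hek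
  rw [this, map_mul, S.κ_E he, one_mul]

omit [Finite G] in
theorem center_cases (S : Setting z P) {x : G} (hx : x ∈ Ez z) (hc : ∀ e ∈ Ez z, e * x = x * e) :
    x = 1 ∨ x = z := by
  have hzc : (⟨z, S.z_mem_E⟩ : ↥(Ez z)) ∈ Subgroup.center ↥(Ez z) :=
    mem_center_iff.2 fun e => Subtype.ext (mem_Cz.1 (Ez_le_Cz z e.2))
  have hxc : (⟨x, hx⟩ : ↥(Ez z)) ∈ Subgroup.center ↥(Ez z) :=
    mem_center_iff.2 fun e => Subtype.ext (hc e e.2)
  obtain ⟨a, b, hab, huniv⟩ := Nat.card_eq_two_iff.1 S.extra.2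
  by_contra hcon
  push Not at hcon
  have hall : ∀ y : Subgroup.center ↥(Ez z), y = a ∨ y = b := fun y => by
    simpa using (huniv ▸ Set.mem_univ y : y ∈ ({a, b} : Set (Subgroup.center ↥(Ez z))))
  have e1 : (⟨_, hxc⟩ : Subgroup.center ↥(Ez z)) ≠ ⟨_, hzc⟩ := fun h => hcon.2 (by simpa using h)
  have e2 : (⟨_, hxc⟩ : Subgroup.center ↥(Ez z)) ≠ 1 := fun h => hcon.1 (by simpa using h)
  have e3 : (⟨_, hzc⟩ : Subgroup.center ↥(Ez z)) ≠ 1 := fun h => S.z_ne (by simpa using h)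
  rcases hall ⟨_, hxc⟩ with h1 | h1 <;> rcases hall ⟨_, hzc⟩ with h2 | h2 <;>
    rcases hall 1 with h3 | h3 <;> simp_all

omit [Finite G] in
theorem data (S : Setting z P) : LargeExtraspecial.Data (Ez z) z where
  z_mem := S.z_mem_E
  z_ne := S.z_ne
  z_sq := S.z_sq
  z_central q hq := mem_Cz.1 (Ez_le_Cz z hq)
  cent x hx := S.center_cases (S.cent_E x (mem_Cz.2 (hx z S.z_mem_E).symm) hx) hx
  comm a ha b hb := by
    have h : ⁅(⟨a, ha⟩ : ↥(Ez z)), ⟨b, hb⟩⁆ ∈ Subgroup.center ↥(Ez z) := by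
      rw [← S.extra.1.2.2]
      exact commutator_mem_commutator (mem_top _) (mem_top _)
    refine S.center_cases ?_ fun e he => ?_
    · have := SetLike.coe_mem ⁅(⟨a, ha⟩ : ↥(Ez z)), ⟨b, hb⟩⁆
      simpa [commutatorElement_def] using this
    · have := congrArg Subtype.val (mem_center_iff.1 h ⟨e, he⟩)
      simpa [commutatorElement_def] using this
  norm c hc q hq := conj_mem_Ez (mem_Cz.2 hc) hq

theorem card_ker (S : Setting z P) : Nat.card S.κ.ker = 2 ^ 13 * 3 := by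
  classical
  have hin : ∀ p : ↥(Ez z) × ↥P, (p.1 : G) * p.2 ∈ Cz z := fun p =>
    mul_mem (Ez_le_Cz z p.1.2) ((show P ≤ Cz z by rw [← S.gen_zpowers]; exact zpowers_le.2 S.gen_mem) p.2.2)
  let f : ↥(Ez z) × ↥P → S.κ.ker := fun p => ⟨⟨_, hin p⟩, (S.κ_ker _).2 (by
    obtain ⟨q, hq⟩ := p
    have hq2 : (hq : G) ∈ Subgroup.zpowers S.gen := S.gen_zpowers.symm ▸ hq.2
    obtain ⟨n, -, hn⟩ := Finset.mem_image.1 (mem_zpowers_iff_mem_range_orderOf.1 hq2)
    exact ⟨q, q.2, n, by rw [hn]⟩)⟩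
  have hbij : Function.Bijective f := by
    constructor
    · rintro ⟨a, b⟩ ⟨a', b'⟩ h
      have h1 : (a : G) * b = a' * b' := congrArg (fun k : S.κ.ker => ((k : ↥(Cz z)) : G)) h
      have h2 : (a' : G)⁻¹ * a = b' * (b : G)⁻¹ := by
        calc (a' : G)⁻¹ * a = (a' : G)⁻¹ * (a * b) * (b : G)⁻¹ := by group
          _ = _ := by rw [h1]; group
      have h3 : (a' : G)⁻¹ * a ∈ Ez z := mul_mem (inv_mem a'.2) a.2
      have h4 : (a' : G)⁻¹ * a ∈ P := h2 ▸ mul_mem b'.2 (inv_mem b.2)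
      have h5 : (a' : G)⁻¹ * a = 1 := by
        have d1 := orderOf_dvd_natCard (⟨_, h3⟩ : ↥(Ez z))
        have d2 := orderOf_dvd_natCard (⟨_, h4⟩ : ↥P)
        have hP3 : Nat.card ↥P = 3 := by rw [← S.gen_zpowers, Nat.card_zpowers, S.gen_ord]
        rw [Subgroup.orderOf_mk] at d1 d2
        rw [S.card_E] at d1
        rw [hP3] at d2
        rw [← orderOf_eq_one_iff]
        exact Nat.eq_one_of_dvd_coprimes (by norm_num) d1 d2
      refine Prod.ext (Subtype.ext (inv_mul_eq_one.1 h5).symm) (Subtype.ext ?_)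
      rw [h5] at h2
      exact (mul_inv_eq_one.1 h2.symm).symm
    · rintro ⟨h, hh⟩
      obtain ⟨e, he, n, hn⟩ := (S.κ_ker h).1 hh
      exact ⟨⟨⟨e, he⟩, ⟨S.gen ^ n, (S.gen_zpowers.le (pow_mem (mem_zpowers _) n))⟩⟩,
        Subtype.ext (Subtype.ext hn.symm)⟩
  rw [← Nat.card_congr (Equiv.ofBijective f hbij), Nat.card_prod, S.card_E,
    show Nat.card ↥P = 3 by rw [← S.gen_zpowers, Nat.card_zpowers, S.gen_ord]]

theorem card_Cz (S : Setting z P) : Nat.card ↥(Cz z) = 2 ^ 21 * 10395 := by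
  have h := S.κ.ker.index_mul_card
  rw [Subgroup.index_ker, S.card_ker, S.κ_range, natCard_pairStab] at h
  omega

end Setting

end Cfsg.Agent.J4Type
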