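/-
Janko-four type from the shape of an involution centraliser as in S1646 (owner: helper81).

Main results (namespace `Cfsg.Agent.J4Type.FromCent`):
* `Shape` : the hypotheses, in the centraliser as a group
* `Shape.core` : the conditions of Janko-four type inside that group
* `isOfJankoFourTypeAt_of_centralizer` : the conditions for `G`
-/
import Cfsg.Agent.Lib.J4Type.FromCentralizerFacts
import Cfsg.Agent.Lib.J4Type.Setup
import Cfsg.Agent.Lib.LargeExtraspecial.Simple
import Cfsg.Agent.Lib.Transfer.AbelianHall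
import Cfsg.Agent.Lib.Cores.Basic

set_option autoImplicit false
set_option linter.style.haveILetI false
set_option linter.unusedSectionVars false

open Cfsg Subgroup
open scoped commutatorElement

namespace Cfsg.Agent.J4Type.FromCent

open Cfsg.Agent.OrderM22

theorem pow_three_mul {K : Type*} [Group K] {A B c : K} (hc : B * A = c * (A * B))
    (hcA : Commute c A) (hcB : Commute c B) (h3 : c ^ 3 = 1) : (A * B) ^ 3 = A ^ 3 * B ^ 3 := by
  have h1 : B * A = A * B * c := by rw [hc, (hcA.mul_right hcB).eq]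
  calc (A * B) ^ 3 = A * (B * A) * (B * A) * B := by rw [pow_three']; group
    _ = A * A * B * (c * (A * B)) * c * B := by rw [h1]; group
    _ = A * A * B * (A * B) * (c * c) * B := by rw [(hcA.mul_right hcB).eq]; group
    _ = A * A * (B * A) * (B * (c * c)) * B := by group
    _ = A * A * A * B * (c * B) * (c * c) * B := by rw [h1]; group
    _ = A * A * A * B * B * c * ((c * c) * B) := by rw [hcB.eq]; group
    _ = A * A * A * B * B * c * (B * (c * c)) := by rw [(hcB.mul_left hcB).eq]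
    _ = A * A * A * B * B * (c * B) * (c * c) := by group
    _ = A ^ 3 * B ^ 3 * c ^ 3 := by rw [hcB.eq, pow_three', pow_three', pow_three']; group
    _ = _ := by rw [h3, mul_one]

variable {C : Type*} [Group C] [Finite C]

/-- The shape `2^(1+12).(3.M22).2` of the centraliser. -/
structure Shape (z : C) (Q N M : Subgroup C) : Prop where
  zord : orderOf z = 2
  zcen : ∀ c : C, Commute c z
  qnormal : Q.Normal
  nnormal : N.Normal
  mnormal : M.Normal
  qn : Q ≤ N
  nm : N ≤ M
  index : M.index = 2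
  extra : IsExtraspecial 2 Q
  card : Nat.card Q = 2 ^ 13
  ncard : Nat.card N = 3 * Nat.card Q
  cent : ⁅M, N⁆ ≤ Q
  perf : M ≤ ⁅M, M⁆ ⊔ Q
  self : Subgroup.centralizer (Q : Set C) ≤ Q
  outer : ∀ c : C, (∀ m ∈ M, c * m * c⁻¹ * m⁻¹ ∈ N) → c ∈ M
  iso : ∃ ι : ↥M →* ↥Spor.M22, Function.Surjective ι ∧ ι.ker = N.subgroupOf M

namespace Shape

variable {z : C} {Q N M : Subgroup C}

theorem z_mem (S : Shape z Q N M) : z ∈ Q :=
  S.self (mem_centralizer_iff.2 fun q _ => (S.zcen q).eq)

theorem center_Q (S : Shape z Q N M) : Subgroup.center ↥Q = zpowers (⟨z, S.z_mem⟩ : ↥Q) := by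
  refine (Subgroup.eq_of_le_of_card_ge (zpowers_le.2 ?_) ?_).symm
  · exact mem_center_iff.2 fun q => Subtype.ext (S.zcen q).eq
  · rw [S.extra.2, Nat.card_zpowers, Subgroup.orderOf_mk, S.zord]

/-- Commutators and squares in `Q` are powers of `z`. -/
theorem comm_mem (S : Shape z Q N M) {a b : C} (ha : a ∈ Q) (hb : b ∈ Q) : ⁅a, b⁆ ∈ zpowers z := by
  have h : ⁅(⟨a, ha⟩ : ↥Q), ⟨b, hb⟩⁆ ∈ Subgroup.center ↥Q := by
    rw [← S.extra.1.2.2]
    exact Subgroup.commutator_mem_commutator (Subgroup.mem_top _) (Subgroup.mem_top _)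
  rw [S.center_Q, mem_zpowers_iff] at h
  obtain ⟨n, hn⟩ := h
  exact mem_zpowers_iff.2 ⟨n, by simpa [commutatorElement_def] using congrArg Subtype.val hn⟩

theorem sq_mem (S : Shape z Q N M) {a : C} (ha : a ∈ Q) : a * a ∈ zpowers z := by
  have hzz : z * z = 1 := by rw [← sq, ← S.zord, pow_orderOf_eq_one]
  have h : (⟨a * a, mul_mem ha ha⟩ : ↥Q) ∈ Subgroup.center ↥Q := by
    refine mem_center_iff.2 fun q => Subtype.ext ?_
    show (q : C) * (a * a) = a * a * q
    obtain ⟨n, hn⟩ := mem_zpowers_iff.1 (S.comm_mem ha q.2)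
    have hc : a * (q : C) = z ^ n * (q * a) := by rw [hn, commutatorElement_def]; group
    have hz2 : z ^ n * z ^ n = 1 := by
      rw [← zpow_add, ← two_mul, zpow_mul, zpow_two, hzz, one_zpow]
    symm
    calc a * a * (q : C) = a * z ^ n * (q * a) := by rw [mul_assoc, hc]; group
      _ = z ^ n * (a * q) * a := by rw [((S.zcen a).zpow_right n).eq]; group
      _ = (z ^ n * z ^ n) * (q * (a * a)) := by rw [hc]; group
      _ = _ := by rw [hz2, one_mul]
  rw [S.center_Q, mem_zpowers_iff] at h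
  obtain ⟨n, hn⟩ := h
  exact mem_zpowers_iff.2 ⟨n, congrArg Subtype.val hn⟩

theorem exists_aut (S : Shape z Q N M) : ∃ Θ : C →* MulAut ↥Spor.M22,
    Function.Surjective Θ ∧ Θ.ker = N ∧ (∀ c ∈ M, Θ c ∈ inner.range) := by
  classical
  haveI := S.mnormal
  haveI := S.nnormal
  haveI := simple_m22
  obtain ⟨ι, hι, hker⟩ := S.iso
  choose sec hsec using hι
  have hk : ∀ {m m' : ↥M}, ι m = ι m' → (m : C)⁻¹ * m' ∈ N := by
    intro m m' h
    have : m⁻¹ * m' ∈ ι.ker := by rw [MonoidHom.mem_ker, map_mul, map_inv, h, inv_mul_cancel]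
    rw [hker] at this
    exact mem_subgroupOf.1 this
  let act : C → ↥Spor.M22 → ↥Spor.M22 := fun c k => ι (MulAut.conjNormal c (sec k))
  have hact : ∀ c m, act c (ι m) = ι (MulAut.conjNormal c m) := by
    intro c m
    show ι _ = ι _
    rw [← inv_mul_eq_one, ← map_inv, ← map_mul, ← MonoidHom.mem_ker, hker, mem_subgroupOf]
    simp only [Subgroup.coe_mul, InvMemClass.coe_inv, MulAut.conjNormal_apply]
    have h := S.nnormal.conj_mem _ (hk (hsec (ι m))) c
    convert h using 1
    group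
  have act_mul : ∀ c k k', act c (k * k') = act c k * act c k' := by
    intro c k k'
    conv_lhs => rw [← hsec k, ← hsec k', ← map_mul, hact, map_mul, map_mul]
  have act_comp : ∀ c d k, act (c * d) k = act c (act d k) := by
    intro c d k
    obtain ⟨m, rfl⟩ : ∃ m, ι m = k := ⟨sec k, hsec k⟩
    simp only [hact, map_mul, MulAut.mul_apply]
  have act_one : ∀ k, act 1 k = k := fun k => by
    show ι (MulAut.conjNormal 1 (sec k)) = k
    rw [map_one, MulAut.one_apply, hsec]
  let Θ : C →* MulAut ↥Spor.M22 :=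
    { toFun := fun c =>
        { toFun := act c
          invFun := act c⁻¹
          left_inv := fun k => by rw [← act_comp, inv_mul_cancel, act_one]
          right_inv := fun k => by rw [← act_comp, mul_inv_cancel, act_one]
          map_mul' := act_mul c }
      map_one' := MulEquiv.ext act_one
      map_mul' := fun c d => MulEquiv.ext (act_comp c d) }
  have hΘm : ∀ m : ↥M, Θ m = inner (ι m) := fun m => MulEquiv.ext fun k => by
    show act m k = ι m * k * (ι m)⁻¹
    conv_lhs => rw [← hsec k, hact]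
    rw [show MulAut.conjNormal (m : C) (sec k) = m * sec k * m⁻¹ from Subtype.ext (by simp), map_mul,
      map_mul, map_inv, hsec]
  have hker' : Θ.ker = N := by
    refine le_antisymm (fun c hc => ?_) fun c hc => ?_
    · rw [MonoidHom.mem_ker] at hc
      have hcM : c ∈ M := S.outer c fun m hm => by
        have h1 : ι (MulAut.conjNormal c ⟨m, hm⟩) = ι ⟨m, hm⟩ := by
          rw [← hact]
          show Θ c (ι ⟨m, hm⟩) = _
          rw [hc]; rfl
        have h2 := S.nnormal.conj_mem _ (hk h1.symm) m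
        simpa [mul_assoc] using h2
      have h3 : ι ⟨c, hcM⟩ = 1 := inner_injective (by rw [← hΘm ⟨c, hcM⟩, map_one]; exact hc)
      rw [← MonoidHom.mem_ker, hker, mem_subgroupOf] at h3
      exact h3
    · rw [MonoidHom.mem_ker]
      have h3 : ι ⟨c, S.nm hc⟩ = 1 := by
        rw [← MonoidHom.mem_ker, hker, mem_subgroupOf]; exact hc
      rw [show c = ((⟨c, S.nm hc⟩ : ↥M) : C) from rfl, hΘm, h3, map_one]
  refine ⟨Θ, ?_, hker', fun c hc => ⟨ι ⟨c, hc⟩, (hΘm ⟨c, hc⟩).symm⟩⟩
  have hcardM : Nat.card ↥M = 443520 * Nat.card N := by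
    have h := ι.ker.card_mul_index
    rw [Subgroup.index_ker, MonoidHom.range_eq_top.2 (fun k => ⟨sec k, hsec k⟩), Subgroup.card_top,
      hyp_m22.card, hker, Nat.card_congr (Subgroup.subgroupOfEquivOfLe S.nm).toEquiv] at h
    rw [← h, mul_comm]
  have hr : Nat.card Θ.range = 887040 := by
    have h := Θ.ker.card_mul_index
    rw [Subgroup.index_ker, hker', ← M.card_mul_index, S.index, hcardM] at h
    have hpos : 0 < Nat.card N := Nat.card_pos
    exact Nat.eq_of_mul_eq_mul_left hpos (h.trans (by ring))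
  exact MonoidHom.range_eq_top.1 (Subgroup.eq_top_of_card_eq _ (by rw [hr, natCard_aut]))

theorem pCore_eq (S : Shape z Q N M) : pCore 2 C = Q := by
  haveI : Fact (Nat.Prime 2) := ⟨Nat.prime_two⟩
  haveI := simple_m22
  obtain ⟨Θ, hsurj, hker, -⟩ := S.exists_aut
  refine le_antisymm ?_ (Cores.le_pCore S.qnormal (IsPGroup.of_card S.card))
  set O := pCore 2 C with hO
  have hOn : O.Normal := ⟨fun n hn g => LargeExtraspecial.pCore_conj_mem 2 hn g⟩
  have hOp : IsPGroup 2 ↥O := Cores.le_pCore_iff.1 le_rfl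
  set K := O.map Θ with hK
  haveI hKn : K.Normal := hOn.map Θ hsurj
  have hKp : IsPGroup 2 ↥K := hOp.map Θ
  have hKi : K.comap inner = ⊥ := by
    rcases (inferInstance : (K.comap inner).Normal).eq_bot_or_eq_top with h | h
    · exact h
    · exfalso
      obtain ⟨v, hv⟩ := exists_prime_orderOf_dvd_card' (G := ↥Spor.M22) 11
        (hp := ⟨by norm_num⟩) (by rw [hyp_m22.card]; norm_num)
      obtain ⟨n, hn⟩ := hKp ⟨inner v, show v ∈ K.comap inner from h ▸ mem_top v⟩
      have h' : (inner v) ^ 2 ^ n = 1 := congrArg Subtype.val hn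
      rw [← map_pow] at h'
      have hd := orderOf_dvd_of_pow_eq_one (inner_injective (h'.trans (map_one _).symm))
      rw [hv] at hd
      have := (Nat.Prime.dvd_of_dvd_pow (by norm_num) hd : 11 ∣ 2)
      omega
  have hKbot : K = ⊥ := by
    refine (Subgroup.eq_bot_iff_forall _).2 fun α hα => MulEquiv.ext fun k => ?_
    have h1 : α * inner k * α⁻¹ * (inner k)⁻¹ ∈ K := by
      rw [mul_assoc, mul_assoc, ← mul_assoc (inner k)]
      exact mul_mem hα (hKn.conj_mem _ (inv_mem hα) _)
    rw [inner_conj, ← map_inv, ← map_mul] at h1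
    have h2 : α k * k⁻¹ ∈ K.comap inner := h1
    rw [hKi, Subgroup.mem_bot, mul_inv_eq_one] at h2
    exact h2
  have hON : O ≤ N := by
    rw [← hker]
    intro x hx
    exact MonoidHom.mem_ker.2 (Subgroup.mem_bot.1 (hKbot ▸ Subgroup.mem_map_of_mem Θ hx))
  obtain ⟨k, hk⟩ := IsPGroup.iff_card.1 hOp
  have hd := Subgroup.card_dvd_of_le hON
  rw [hk, S.ncard, S.card] at hd
  have h13 : k ≤ 13 := by
    have h := ((show Nat.Coprime 2 3 by norm_num).pow_left k).dvd_of_dvd_mul_left hd
    exact (Nat.pow_dvd_pow_iff_le_right (by norm_num)).1 h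
  have hQO : Q ≤ O := Cores.le_pCore S.qnormal (IsPGroup.of_card S.card)
  rw [← Subgroup.eq_of_le_of_card_ge hQO (by
    rw [hk, S.card]; exact Nat.pow_le_pow_right (by norm_num) h13)]

/-- The image of `M` in `C / Q` is perfect. -/
theorem perfect_image (S : Shape z Q N M) [Q.Normal] :
    commutator ↥(M.map (QuotientGroup.mk' Q)) = ⊤ := by
  apply Subgroup.map_injective (M.map (QuotientGroup.mk' Q)).subtype_injective
  rw [map_subtype_commutator, ← MonoidHom.range_eq_map, Subgroup.range_subtype, ← Subgroup.map_commutator]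
  refine le_antisymm (Subgroup.map_mono (by
    haveI := S.mnormal
    exact Subgroup.commutator_le_right M M)) ?_
  refine (Subgroup.map_mono S.perf).trans ?_
  rw [Subgroup.map_sup]
  refine sup_le le_rfl ?_
  rw [(Subgroup.map_eq_bot_iff _).2 (le_of_eq (QuotientGroup.ker_mk' Q).symm)]
  exact bot_le

/-- The elements of a subgroup of order 27 of `M` that are used. -/
theorem exists_elems (S : Shape z Q N M) :
    ∃ a b x d : C, a ∈ M ∧ b ∈ M ∧ x ∈ N ∧ orderOf x = 3 ∧ a ^ 3 = 1 ∧
      Commute a x ∧ Commute b x ∧ b * a = x * a * b ∧ d * x * d⁻¹ * x ∈ Q := by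
  classical
  haveI : Fact (Nat.Prime 3) := ⟨Nat.prime_three⟩
  haveI := S.qnormal
  haveI := S.nnormal
  haveI := S.mnormal
  obtain ⟨Θ, hsurj, hker, hM⟩ := S.exists_aut
  have hNq : Nat.card N = 2 ^ 13 * 3 := by rw [S.ncard, S.card]; norm_num
  have hMc : Nat.card M = 443520 * (2 ^ 13 * 3) := by
    have h1 := M.card_mul_index
    have h2 := Θ.ker.card_mul_index
    rw [Subgroup.index_ker, MonoidHom.range_eq_top.2 hsurj, Subgroup.card_top, natCard_aut, hker, hNq] at h2
    rw [S.index] at h1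
    omega
  obtain ⟨T0, hT0⟩ := Sylow.exists_subgroup_card_pow_prime 3 (G := ↥M) (n := 3) (by rw [hMc]; norm_num)
  set T := T0.map M.subtype with hT
  have hTM : T ≤ M := Subgroup.map_subtype_le _
  have hTc : Nat.card T = 27 := by
    rw [hT, Subgroup.card_map_of_injective M.subtype_injective, hT0]; norm_num
  have hT3 : ∀ t ∈ T, ∀ n, orderOf t ∣ 3 ^ n * 2 ^ 13 → orderOf t ∣ 3 ^ n := by
    intro t ht n hd
    have h27 : orderOf t ∣ 3 ^ 3 := by
      have := Subgroup.orderOf_dvd_natCard T ht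
      rwa [hTc] at this
    exact (((show Nat.Coprime 3 2 by norm_num).pow_left 3).coprime_dvd_left h27 |>.pow_right 13).dvd_of_dvd_mul_right hd
  have hTQ : ∀ t ∈ T, t ∈ Q → t = 1 := by
    intro t ht htQ
    refine orderOf_eq_one_iff.1 (Nat.dvd_one.1 ?_)
    have := Subgroup.orderOf_dvd_natCard Q htQ
    rw [S.card] at this
    simpa using hT3 t ht 0 (by simpa using this)
  have hTN : ∀ t ∈ T, t ∈ N → t ^ 3 = 1 := by
    intro t ht htN
    refine orderOf_dvd_iff_pow_eq_one.1 ?_
    have := Subgroup.orderOf_dvd_natCard N htN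
    rw [hNq, mul_comm] at this
    simpa using hT3 t ht 1 (by simpa using this)
  have hzN : ∀ t ∈ T, ∀ n ∈ T, n ∈ N → Commute t n := by
    intro t ht n hn hnN
    refine commutatorElement_eq_one_iff_mul_comm.1 (hTQ _ ?_ (S.cent (commutator_mem_commutator (hTM ht) hnN)))
    rw [commutatorElement_def]
    exact mul_mem (mul_mem (mul_mem ht hn) (inv_mem ht)) (inv_mem hn)
  -- the image
  set R := T.map Θ with hR
  have hRi : R ≤ inner.range := by rintro _ ⟨t, ht, rfl⟩; exact hM t (hTM ht)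
  have hTd : Nat.card ↥(T ⊓ N) ∣ 3 := by
    have h1 := Subgroup.card_dvd_of_le (inf_le_left : T ⊓ N ≤ T)
    rw [hTc] at h1
    have h2 := Subgroup.card_dvd_of_le (inf_le_right : T ⊓ N ≤ N)
    rw [hNq] at h2
    exact (Nat.dvd_gcd h1 h2).trans (by norm_num)
  have hRmul : Nat.card ↥(T ⊓ N) * Nat.card R = 27 := by
    have h := (Θ.comp T.subtype).ker.card_mul_index
    rw [Subgroup.index_ker, MonoidHom.range_comp, Subgroup.range_subtype, hTc, ← MonoidHom.comap_ker, hker] at h
    rw [← Nat.card_congr (Subgroup.subgroupOfEquivOfLe (inf_le_left : T ⊓ N ≤ T)).toEquiv,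
      Subgroup.inf_subgroupOf_left]
    exact h
  have hR9 : Nat.card R = 9 := by
    have hd : Nat.card R ∣ 443520 := natCard_inner ▸ Subgroup.card_dvd_of_le hRi
    rcases (Nat.dvd_prime Nat.prime_three).1 hTd with h | h
    · rw [h, one_mul] at hRmul
      rw [hRmul] at hd
      norm_num at hd
    · rw [h] at hRmul; omega
  obtain ⟨σ, u, w, huR, hwR, hσu, hσw, hu3, hw3, hgen⟩ := exists_inverting hR9
  obtain ⟨a, haT, rfl⟩ := huR
  obtain ⟨b, hbT, rfl⟩ := hwR
  obtain ⟨d, rfl⟩ := hsurj σ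
  haveI : IsMulCommutative R :=
    IsPGroup.isMulCommutative_of_card_eq_prime_sq (p := 3) (by rw [hR9]; norm_num)
  set x := b * a * b⁻¹ * a⁻¹ with hx
  have hxT : x ∈ T := mul_mem (mul_mem (mul_mem hbT haT) (inv_mem hbT)) (inv_mem haT)
  have hxN : x ∈ N := by
    rw [← hker, MonoidHom.mem_ker, hx]
    simp only [map_mul, map_inv]
    rw [show Θ b * Θ a = Θ a * Θ b from congrArg Subtype.val
      (mul_comm' (⟨_, mem_map_of_mem Θ hbT⟩ : R) ⟨_, mem_map_of_mem Θ haT⟩)]
    group
  have hax : Commute a x := hzN a haT x hxT hxN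
  have hbx : Commute b x := hzN b hbT x hxT hxN
  have hxne : x ≠ 1 := by
    intro h1
    have hab : Commute b a := by
      show b * a = a * b
      rw [hx, mul_inv_eq_one, mul_inv_eq_iff_eq_mul] at h1
      exact h1
    set L := Subgroup.closure ({a, b} ∪ ((T ⊓ N : Subgroup C) : Set C)) with hL
    have hTL : T ≤ L := by
      intro t ht
      have hma : Θ t ∈ (Subgroup.closure {a, b}).map Θ := by
        rw [MonoidHom.map_closure, Set.image_insert_eq, Set.image_singleton]
        exact hgen (mem_map_of_mem Θ ht)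
      obtain ⟨l, hl, hlt⟩ := hma
      have hlT : l ∈ T := (Subgroup.closure_le T).2 (by rintro _ (rfl | rfl) <;> assumption) hl
      have hn : l⁻¹ * t ∈ N := by
        rw [← hker, MonoidHom.mem_ker, map_mul, map_inv, hlt, inv_mul_cancel]
      have hlL : l ∈ L := Subgroup.closure_mono Set.subset_union_left hl
      rw [show t = l * (l⁻¹ * t) by group]
      exact mul_mem hlL (Subgroup.subset_closure (Or.inr (Subgroup.mem_inf.2 ⟨T.mul_mem (T.inv_mem hlT) ht, hn⟩)))
    have hcomm : ∀ g ∈ T, ∀ h ∈ T, g * h = h * g := by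
      have hpair : ∀ g ∈ ({a, b} ∪ ((T ⊓ N : Subgroup C) : Set C)),
          ∀ h ∈ ({a, b} ∪ ((T ⊓ N : Subgroup C) : Set C)), Commute g h := by
        rintro g ((rfl | rfl) | hg) h ((rfl | rfl) | hh)
        · exact Commute.refl _
        · exact hab.symm
        · exact hzN _ haT h hh.1 hh.2
        · exact hab
        · exact Commute.refl _
        · exact hzN _ hbT h hh.1 hh.2
        · exact (hzN _ haT g hg.1 hg.2).symm
        · exact (hzN _ hbT g hg.1 hg.2).symm
        · exact hzN g hg.1 h hh.1 hh.2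
      have hLc := Subgroup.isMulCommutative_closure (k := ({a, b} ∪ ((T ⊓ N : Subgroup C) : Set C)))
        (fun g hg h hh => (hpair g hg h hh).eq)
      intro g hg h hh
      exact congrArg Subtype.val (mul_comm' (⟨g, hTL hg⟩ : L) ⟨h, hTL hh⟩)
    -- but an abelian Sylow subgroup meets the centre of a perfect group trivially
    obtain ⟨⟨n, hnT⟩, hn3⟩ := exists_prime_orderOf_dvd_card' (G := ↥(T ⊓ N)) 3 (by
      rcases (Nat.dvd_prime Nat.prime_three).1 hTd with h | h
      · rw [h, one_mul, hR9] at hRmul; norm_num at hRmul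
      · rw [h])
    rw [Subgroup.orderOf_mk] at hn3
    set q := QuotientGroup.mk' Q with hq
    set Mb := M.map q with hMb
    let f : ↥T →* ↥Mb := (q.comp T.subtype).codRestrict Mb fun t => mem_map_of_mem q (hTM t.2)
    have hfi : Function.Injective f := (injective_iff_map_eq_one f).2 fun t ht => by
      have : q (t : C) = 1 := congrArg Subtype.val ht
      rw [hq, QuotientGroup.mk'_apply, QuotientGroup.eq_one_iff] at this
      exact Subtype.ext (hTQ t t.2 this)
    have hMbc : Nat.card Mb = 3 * 443520 := by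
      have h := (q.comp M.subtype).ker.card_mul_index
      rw [Subgroup.index_ker, MonoidHom.range_comp, Subgroup.range_subtype, ← MonoidHom.comap_ker, hq,
        QuotientGroup.ker_mk', hMc] at h
      have hQM : Nat.card (Q.comap M.subtype) = 2 ^ 13 := by
        rw [← S.card]; exact Nat.card_congr (Subgroup.subgroupOfEquivOfLe (S.qn.trans S.nm)).toEquiv
      rw [hQM] at h
      rw [hMb, hq]
      omega
    haveI : IsMulCommutative f.range := ⟨⟨by
      rintro ⟨_, g, rfl⟩ ⟨_, h, rfl⟩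
      refine Subtype.ext ?_
      show f g * f h = f h * f g
      rw [← map_mul, ← map_mul]
      exact congrArg f (Subtype.ext (hcomm g g.2 h h.2))⟩⟩
    have hfc : Nat.card f.range = 27 := by
      rw [← Nat.card_congr (MonoidHom.ofInjective hfi).toEquiv, hTc]
    have hfx := Transfer.inf_commutator_inf_center_eq_bot f.range inferInstance (by
      have h := f.range.card_mul_index
      rw [hfc, hMbc] at h
      rw [hfc, show f.range.index = 49280 by omega]
      norm_num)
    have hmem : f ⟨n, hnT.1⟩ ∈ f.range ⊓ commutator ↥Mb ⊓ center ↥Mb := by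
      refine ⟨⟨⟨_, rfl⟩, ?_⟩, ?_⟩
      · rw [S.perfect_image]; exact mem_top _
      · refine mem_center_iff.2 fun g => Subtype.ext ?_
        obtain ⟨m, hm, hmg⟩ := g.2
        show (g : C ⧸ Q) * q n = q n * g
        rw [← hmg, ← commutatorElement_eq_one_iff_mul_comm, ← map_commutatorElement, hq,
          QuotientGroup.mk'_apply, QuotientGroup.eq_one_iff]
        exact S.cent (commutator_mem_commutator hm hnT.2)
    rw [hfx, Subgroup.mem_bot] at hmem
    have hn1 : n = 1 := congrArg Subtype.val (hfi (hmem.trans (map_one f).symm))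
    rw [hn1, orderOf_one] at hn3
    norm_num at hn3
  have hx3 : x ^ 3 = 1 := hTN x hxT hxN
  have hxo : orderOf x = 3 := orderOf_eq_prime hx3 hxne
  have hba : b * a = x * a * b := by rw [hx]; group
  -- `d` inverts `x` modulo `Q`
  have hd : d * x * d⁻¹ * x ∈ Q := by
    set q := QuotientGroup.mk' Q with hq
    have hc : ∀ m ∈ M, ∀ n ∈ N, Commute (q m) (q n) := fun m hm n hn => by
      refine commutatorElement_eq_one_iff_mul_comm.1 ?_
      rw [← map_commutatorElement, hq, QuotientGroup.mk'_apply, QuotientGroup.eq_one_iff]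
      exact S.cent (commutator_mem_commutator hm hn)
    obtain ⟨n₁, hn₁, e₁⟩ : ∃ n ∈ N, d * a * d⁻¹ = n * a := ⟨d * a * d⁻¹ * a⁻¹, by
      rw [← hker, MonoidHom.mem_ker]
      simp only [map_mul, map_inv, hσu, mul_inv_cancel], by group⟩
    obtain ⟨n₂, hn₂, e₂⟩ : ∃ n ∈ N, d * b * d⁻¹ = n * b⁻¹ := ⟨d * b * d⁻¹ * b, by
      rw [← hker, MonoidHom.mem_ker]
      simp only [map_mul, map_inv, hσw, inv_mul_cancel], by group⟩
    have haM := hTM haT
    have hbM := hTM hbT
    have h1 := hc a haM n₁ hn₁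
    have h2 := hc a haM n₂ hn₂
    have h3 := hc b hbM n₁ hn₁
    have h4 := hc n₁ (S.nm hn₁) n₂ hn₂
    have key : d * x * d⁻¹ = (n₂ * b⁻¹) * (n₁ * a) * (n₂ * b⁻¹)⁻¹ * (n₁ * a)⁻¹ := by
      rw [← e₁, ← e₂, hx]; group
    rw [← QuotientGroup.eq_one_iff, ← QuotientGroup.mk'_apply, ← hq, map_mul, key]
    simp only [map_mul, map_inv, mul_inv_rev, inv_inv]
    have hxq : q x = q b * q a * (q b)⁻¹ * (q a)⁻¹ := by simp only [hx, map_mul, map_inv]
    have hxb : Commute (q b) (q x) := hbx.map q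
    calc q n₂ * (q b)⁻¹ * (q n₁ * q a) * (q b * (q n₂)⁻¹) * ((q a)⁻¹ * (q n₁)⁻¹) * q x
        = q n₂ * ((q b)⁻¹ * q n₁) * q a * q b * ((q n₂)⁻¹ * (q a)⁻¹) * (q n₁)⁻¹ * q x := by group
      _ = q n₂ * (q n₁ * (q b)⁻¹) * q a * q b * ((q a)⁻¹ * (q n₂)⁻¹) * (q n₁)⁻¹ * q x := by
          rw [h3.inv_left.eq, (h2.inv_inv).eq]
      _ = (q n₂ * q n₁) * ((q b)⁻¹ * (q a * q b * (q a)⁻¹ * (q b)⁻¹) * q b) * (q n₂)⁻¹ * (q n₁)⁻¹ * q x := by
          group
      _ = (q n₁ * q n₂) * (q x)⁻¹ * ((q n₂)⁻¹ * (q n₁)⁻¹) * q x := by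
          rw [show q a * q b * (q a)⁻¹ * (q b)⁻¹ = (q x)⁻¹ by rw [hxq]; group, h4.symm.eq,
            show (q b)⁻¹ * (q x)⁻¹ * q b = (q x)⁻¹ by rw [mul_assoc, ← hxb.inv_right.eq, inv_mul_cancel_left]]
          group
      _ = (q x)⁻¹ * (q n₁ * q n₂ * ((q n₂)⁻¹ * (q n₁)⁻¹)) * q x := by
          have : Commute (q n₁ * q n₂) (q x) :=
            (hc n₁ (S.nm hn₁) x hxN).mul_left (hc n₂ (S.nm hn₂) x hxN)
          rw [this.inv_right.eq]; group
      _ = 1 := by group
  -- an element of order three outside `N`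
  have ha3 : a ^ 3 ∈ N := by rw [← hker, MonoidHom.mem_ker, map_pow, hu3]
  have hb3 : b ^ 3 ∈ N := by rw [← hker, MonoidHom.mem_ker, map_pow, hw3]
  have hcyc : ∀ n ∈ T, n ∈ N → n = 1 ∨ n = x ∨ n = x⁻¹ := by
    intro n hn hnN
    have hle : zpowers x ≤ T ⊓ N := zpowers_le.2 ⟨hxT, hxN⟩
    have heq : zpowers x = T ⊓ N := Subgroup.eq_of_le_of_card_ge hle (by
      rw [Nat.card_zpowers, hxo]; exact Nat.le_of_dvd (by norm_num) hTd)
    have hm : n ∈ zpowers x := heq ▸ ⟨hn, hnN⟩
    obtain ⟨i, rfl⟩ := mem_zpowers_iff.1 hm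
    rw [← zpow_mod_orderOf, hxo]
    have h0 := Int.emod_nonneg i (show ((3 : ℕ) : ℤ) ≠ 0 by norm_num)
    have h3 := Int.emod_lt_of_pos i (show (0 : ℤ) < ((3 : ℕ) : ℤ) by norm_num)
    obtain h | h | h : i % ((3 : ℕ) : ℤ) = 0 ∨ i % ((3 : ℕ) : ℤ) = 1 ∨ i % ((3 : ℕ) : ℤ) = 2 := by omega
    · rw [h]; simp
    · rw [h]; simp
    · rw [h, zpow_two]; right; right
      refine eq_inv_of_mul_eq_one_left ?_
      rw [← hx3, pow_three']
  have haM := hTM haT
  have hbM := hTM hbT
  have hcases : a ^ 3 = 1 ∨ b ^ 3 = 1 ∨ a ^ 3 * b ^ 3 = 1 ∨ a ^ 3 * (b⁻¹) ^ 3 = 1 := by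
    rcases hcyc _ (pow_mem haT 3) ha3 with h | h | h <;>
      rcases hcyc _ (pow_mem hbT 3) hb3 with h' | h' | h' <;> simp [h, h', inv_pow]
  rcases hcases with h | h | h | h
  · exact ⟨a, b, x, d, haM, hbM, hxN, hxo, h, hax, hbx, hba, hd⟩
  · -- `(b, a⁻¹)`
    refine ⟨b, a⁻¹, x, d, hbM, inv_mem haM, hxN, hxo, h, hbx, hax.inv_left, ?_, hd⟩
    calc a⁻¹ * b = a⁻¹ * (b * a) * a⁻¹ := by group
      _ = (a⁻¹ * x) * a * b * a⁻¹ := by rw [hba]; group
      _ = _ := by rw [hax.inv_left.eq]; group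
  · -- `(a * b, b)`
    refine ⟨a * b, b, x, d, mul_mem haM hbM, hbM, hxN, hxo, ?_, hax.mul_left hbx, hbx, ?_, hd⟩
    · rw [pow_three_mul (c := x) (hba.trans (mul_assoc _ _ _)) hax.symm hbx.symm hx3, h]
    · rw [← mul_assoc, hba]; group
  · -- `(a * b⁻¹, b)`
    refine ⟨a * b⁻¹, b, x, d, mul_mem haM (inv_mem hbM), hbM, hxN, hxo, ?_, hax.mul_left hbx.inv_left, hbx, ?_, hd⟩
    · refine (pow_three_mul (c := x⁻¹) ?_ hax.symm.inv_left hbx.symm.inv_inv ?_).trans h
      · calc b⁻¹ * a = b⁻¹ * (b * a) * b⁻¹ * (a * b⁻¹)⁻¹ * (b⁻¹ * a) := by group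
          _ = _ := by
            rw [hba]
            calc b⁻¹ * (x * a * b) * b⁻¹ * (a * b⁻¹)⁻¹ * (b⁻¹ * a) = (b⁻¹ * x) * a * b * a⁻¹ * b⁻¹ * a := by group
              _ = (x * b⁻¹) * a * b * a⁻¹ * b⁻¹ * a := by rw [hbx.inv_left.eq]
              _ = x * b⁻¹ * (a * b * a⁻¹ * b⁻¹) * a := by group
              _ = x * (b⁻¹ * x⁻¹) * a := by
                rw [show a * b * a⁻¹ * b⁻¹ = x⁻¹ by rw [hx]; group]; group
              _ = b⁻¹ * a := by rw [hbx.inv_inv.eq]; group
              _ = _ := by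
                rw [show x⁻¹ = (b⁻¹ * a * b * a⁻¹) by
                  calc x⁻¹ = b⁻¹ * (b * x⁻¹) := by group
                    _ = b⁻¹ * (x⁻¹ * b) := by rw [hbx.inv_right.eq]
                    _ = b⁻¹ * (a * b * a⁻¹ * b⁻¹) * b := by
                      rw [show a * b * a⁻¹ * b⁻¹ = x⁻¹ by rw [hx]; group]; group
                    _ = _ := by group]
                group
      · rw [inv_pow, hx3, inv_one]
    · rw [← mul_assoc, hba]; group

/-- An element of order three of `N` as above fixes only the centre of `Q`. -/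
theorem fix_eq (S : Shape z Q N M) {a b x : C} (haM : a ∈ M) (hbM : b ∈ M) (hxN : x ∈ N)
    (hxo : orderOf x = 3) (ha3 : a ^ 3 = 1) (hax : Commute a x) (hbx : Commute b x)
    (hba : b * a = x * a * b) : ∀ q ∈ Q, Commute q x → q ∈ zpowers z := by
  classical
  haveI := S.qnormal
  haveI := S.nnormal
  haveI := S.mnormal
  haveI := simple_m22
  haveI : (zpowers z).Normal := ⟨fun n hn g => by
    obtain ⟨i, rfl⟩ := mem_zpowers_iff.1 hn
    rw [((S.zcen g).zpow_right i).eq, mul_inv_cancel_right]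
    exact zpow_mem (mem_zpowers z) i⟩
  set π := QuotientGroup.mk' (zpowers z) with hπ
  set V := Q.map π with hV
  haveI : V.Normal := S.qnormal.map π (QuotientGroup.mk'_surjective _)
  have hπ1 : ∀ {c : C}, c ∈ zpowers z → π c = 1 := fun h => (QuotientGroup.eq_one_iff _).2 h
  have hVc : ∀ v w : ↥V, v * w = w * v := by
    rintro ⟨_, q, hq, rfl⟩ ⟨_, r, hr, rfl⟩
    refine Subtype.ext ?_
    show π q * π r = π r * π q
    rw [← commutatorElement_eq_one_iff_mul_comm, ← map_commutatorElement]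
    exact hπ1 (S.comm_mem hq hr)
  letI : CommGroup ↥V := { (inferInstance : Group ↥V) with mul_comm := hVc }
  have hV2 : ∀ v : ↥V, v * v = 1 := by
    rintro ⟨_, q, hq, rfl⟩
    refine Subtype.ext ?_
    show π q * π q = 1
    rw [← map_mul]
    exact hπ1 (S.sq_mem hq)
  have hVcard : Nat.card ↥V = 2 ^ 12 := by
    have h := (π.comp Q.subtype).ker.card_mul_index
    rw [Subgroup.index_ker, MonoidHom.range_comp, Subgroup.range_subtype, ← MonoidHom.comap_ker, hπ,
      QuotientGroup.ker_mk', S.card] at h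
    have hz2 : Nat.card ((zpowers z).comap Q.subtype) = 2 := by
      rw [← S.zord, ← Nat.card_zpowers z]
      exact Nat.card_congr (Subgroup.subgroupOfEquivOfLe (zpowers_le.2 S.z_mem)).toEquiv
    rw [hz2] at h
    rw [hV, hπ]
    omega
  let Φ : C →* MulAut ↥V := (MulAut.conjNormal (H := V)).comp π
  have hΦ : ∀ (c : C) (v : ↥V), (Φ c v : C ⧸ zpowers z) = π c * v * (π c)⁻¹ := fun c v =>
    MulAut.conjNormal_apply _ _
  have hΦQ : ∀ q ∈ Q, Φ q = 1 := by
    intro q hq
    refine MulEquiv.ext fun v => Subtype.ext ?_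
    rw [hΦ]
    show π q * (v : C ⧸ zpowers z) * (π q)⁻¹ = v
    have := congrArg Subtype.val (hVc ⟨π q, mem_map_of_mem π hq⟩ v)
    rw [show π q * (v : C ⧸ zpowers z) = v * π q from this, mul_inv_cancel_right]
  have hΦc : ∀ m ∈ M, ∀ n ∈ N, Φ m * Φ n = Φ n * Φ m := fun m hm n hn => by
    rw [← commutatorElement_eq_one_iff_mul_comm, ← map_commutatorElement]
    exact hΦQ _ (S.cent (commutator_mem_commutator hm hn))
  set X := Φ x with hX
  have hx3 : x ^ 3 = 1 := by rw [← hxo, pow_orderOf_eq_one]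
  have hX3 : X ^ 3 = 1 := by rw [hX, ← map_pow, hx3, map_one]
  obtain ⟨n, hn⟩ := card_range_cube hV2 X (Φ a) (Φ b) hX3 (by rw [← map_pow, ha3, map_one])
    (by rw [hX, ← map_mul, ← map_mul, hax.eq]) (by rw [hX, ← map_mul, ← map_mul, hbx.eq])
    (by rw [hX, ← map_mul, ← map_mul, ← map_mul, hba, hax.eq])
  set W := (moved X).range with hW
  obtain ⟨k, hk, hWk⟩ := (Nat.dvd_prime_pow Nat.prime_two).1 (hVcard ▸ W.card_subgroup_dvd_card)
  have hk10 : 10 ≤ k := by
    by_contra hlt
    push Not at hlt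
    have hstab : ∀ (m : ↥M), ∀ w ∈ W, Φ m w ∈ W := fun m w hw =>
      moved_stable (hΦc m m.2 x hxN) hw
    let ρ : ↥M →* MulAut ↥W :=
      { toFun := fun m =>
          { toFun := fun w => ⟨Φ m w, hstab m w w.2⟩
            invFun := fun w => ⟨Φ ((m⁻¹ : ↥M) : C) w, hstab m⁻¹ w w.2⟩
            left_inv := fun w => Subtype.ext (by
              show Φ ((m⁻¹ : ↥M) : C) (Φ m (w : ↥V)) = w
              rw [← MulAut.mul_apply, ← map_mul, InvMemClass.coe_inv, inv_mul_cancel, map_one]; rfl)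
            right_inv := fun w => Subtype.ext (by
              show Φ m (Φ ((m⁻¹ : ↥M) : C) (w : ↥V)) = w
              rw [← MulAut.mul_apply, ← map_mul, InvMemClass.coe_inv, mul_inv_cancel, map_one]; rfl)
            map_mul' := fun v w => Subtype.ext (map_mul (Φ m) (v : ↥V) w) }
        map_one' := MulEquiv.ext fun w => Subtype.ext (by
          show Φ ((1 : ↥M) : C) (w : ↥V) = w
          rw [OneMemClass.coe_one, map_one]; rfl)
        map_mul' := fun m m' => MulEquiv.ext fun w => Subtype.ext (by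
          show Φ ((m * m' : ↥M) : C) (w : ↥V) = Φ m (Φ m' (w : ↥V))
          rw [Subgroup.coe_mul, map_mul]; rfl) }
    have hρQ : ∀ q : ↥M, (q : C) ∈ Q → ρ q = 1 := fun q hq => MulEquiv.ext fun w => Subtype.ext (by
      show Φ q (w : ↥V) = w
      rw [hΦQ _ hq]; rfl)
    obtain ⟨ι, hι, hker⟩ := S.iso
    obtain ⟨y, hy⟩ := exists_prime_orderOf_dvd_card' (G := ↥M) 11 (hp := ⟨by norm_num⟩) (by
      have h := ι.ker.card_mul_index
      rw [Subgroup.index_ker, MonoidHom.range_eq_top.2 hι, Subgroup.card_top, hyp_m22.card] at h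
      rw [← h]
      exact dvd_mul_of_dvd_right (by norm_num) _)
    have hy1 : y ∈ ρ.ker := MonoidHom.mem_ker.2 (perm_eleven hlt hWk _ (by
      rw [← map_pow, ← hy, pow_orderOf_eq_one, map_one]))
    have hιy : ι y ≠ 1 := by
      intro h
      rw [← MonoidHom.mem_ker, hker, mem_subgroupOf] at h
      have hd := Subgroup.orderOf_dvd_natCard N h
      rw [Subgroup.orderOf_coe, hy, S.ncard, S.card] at hd
      norm_num at hd
    have htop : ρ.ker.map ι = ⊤ := by
      haveI : (ρ.ker.map ι).Normal := (inferInstance : ρ.ker.Normal).map ι hι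
      refine (inferInstance : (ρ.ker.map ι).Normal).eq_bot_or_eq_top.resolve_left fun h => hιy ?_
      rw [← Subgroup.mem_bot, ← h]
      exact mem_map_of_mem ι hy1
    have hsplit : ∀ m : ↥M, ∃ n : ↥M, (n : C) ∈ N ∧ ρ m = ρ n := by
      intro m
      obtain ⟨l, hl, hlm⟩ : ι m ∈ ρ.ker.map ι := htop ▸ mem_top _
      have hln : ((l⁻¹ * m : ↥M) : C) ∈ N := by
        rw [← mem_subgroupOf, ← hker, MonoidHom.mem_ker, map_mul, map_inv, hlm, inv_mul_cancel]
      exact ⟨l⁻¹ * m, hln, by
        rw [map_mul, map_inv, MonoidHom.mem_ker.1 hl, inv_one, one_mul]⟩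
    have hcomm : ∀ m m' : ↥M, ρ m * ρ m' = ρ m' * ρ m := by
      intro m m'
      obtain ⟨n, hn, he⟩ := hsplit m
      rw [he, ← commutatorElement_eq_one_iff_mul_comm, ← map_commutatorElement]
      refine hρQ _ ?_
      rw [← inv_mem_iff (H := Q)]
      have h := S.cent (commutator_mem_commutator m'.2 hn)
      rw [← commutatorElement_inv] at h
      simpa [commutatorElement_def, mul_assoc] using h
    have hle : M ≤ ρ.ker.map M.subtype := by
      refine S.perf.trans (sup_le ?_ ?_)
      · rw [commutator_le]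
        intro m hm m' hm'
        exact ⟨⁅(⟨m, hm⟩ : ↥M), ⟨m', hm'⟩⁆, MonoidHom.mem_ker.2 (by
          rw [map_commutatorElement, commutatorElement_eq_one_iff_mul_comm]; exact hcomm _ _),
          by simp [commutatorElement_def]⟩
      · exact fun q hq => ⟨⟨q, S.nm (S.qn hq)⟩, MonoidHom.mem_ker.2 (hρQ _ hq), rfl⟩
    obtain ⟨x', hx', rfl⟩ := hle (S.nm hxN)
    have hfix : ∀ w ∈ W, X w = w := fun w hw => by
      have h := congrArg Subtype.val (DFunLike.congr_fun (MonoidHom.mem_ker.1 hx') (⟨w, hw⟩ : ↥W))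
      exact h
    have hX1 : ∀ v, X v = v := by
      intro v
      have h := hfix _ ⟨v, rfl⟩
      rw [moved_apply, map_mul, mul_comm v] at h
      have h2 : X (X v) = v := mul_left_cancel h
      have h3 : X (X (X v)) = v := by
        show (X * X * X) v = v
        rw [← pow_three', hX3]; rfl
      rw [h2] at h3
      exact h3
    have hxQ : (x' : C) ∈ Q := by
      refine S.self (mem_centralizer_iff.2 fun q hq => ?_)
      have h1 := congrArg Subtype.val (hX1 ⟨π q, mem_map_of_mem π hq⟩)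
      rw [hΦ] at h1
      change π x' * π q * (π x')⁻¹ = π q at h1
      rw [← map_inv, ← map_mul, ← map_mul] at h1
      set e := (x' : C) * q * (x' : C)⁻¹ * q⁻¹ with he
      have hez : e ∈ zpowers z := by
        have h1' : π e = 1 := by rw [he, map_mul, h1, map_inv, mul_inv_cancel]
        exact (QuotientGroup.eq_one_iff _).1 h1'
      obtain ⟨i, hi⟩ := mem_zpowers_iff.1 hez
      have hec : ∀ c, Commute c e := fun c => hi ▸ (S.zcen c).zpow_right i
      have hz2 : z ^ (2 : ℤ) = 1 := by rw [zpow_two, ← sq, ← S.zord, pow_orderOf_eq_one]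
      have he2 : e ^ 2 = 1 := by
        rw [sq, ← hi, ← zpow_add, ← two_mul, zpow_mul, hz2, one_zpow]
      have hstep : (x' : C) * q * (x' : C)⁻¹ = e * q := by rw [he]; group
      have hpow : ∀ j : ℕ, (x' : C) ^ j * q * ((x' : C) ^ j)⁻¹ = e ^ j * q := by
        intro j
        induction j with
        | zero => simp
        | succ j ih =>
          calc (x' : C) ^ (j + 1) * q * ((x' : C) ^ (j + 1))⁻¹
              = x' * ((x' : C) ^ j * q * ((x' : C) ^ j)⁻¹) * (x' : C)⁻¹ := by rw [pow_succ']; group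
            _ = (x' * e ^ j) * q * (x' : C)⁻¹ := by rw [ih]; group
            _ = e ^ j * (x' * q * (x' : C)⁻¹) := by rw [((hec x').pow_right j).eq]; group
            _ = e ^ (j + 1) * q := by rw [hstep, ← mul_assoc, ← pow_succ]
      have h3 := hpow 3
      change (M.subtype x') ^ 3 * q * ((M.subtype x') ^ 3)⁻¹ = e ^ 3 * q at h3
      rw [hx3, one_mul, inv_one, mul_one, pow_succ, he2, one_mul] at h3
      have he1 : e = 1 := mul_right_cancel (h3.symm.trans (one_mul q).symm)
      rw [he1, one_mul] at hstep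
      exact (mul_inv_eq_iff_eq_mul.1 hstep).symm
    have hd := Subgroup.orderOf_dvd_natCard Q hxQ
    rw [S.card, show orderOf (x' : C) = 3 from hxo] at hd
    have := (Nat.Prime.dvd_of_dvd_pow (by norm_num) hd : 3 ∣ 2)
    omega
  have hk12 : k = 12 := by
    have hn4 : n ^ 3 = 2 ^ k := hn.symm.trans hWk
    have hn16 : n ≤ 16 := by
      by_contra hlt
      push Not at hlt
      have h1 : 17 ^ 3 ≤ n ^ 3 := Nat.pow_le_pow_left hlt 3
      have h2 : 2 ^ k ≤ 2 ^ 12 := Nat.pow_le_pow_right (by norm_num) hk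
      norm_num at h1 h2
      omega
    interval_cases k <;> interval_cases n <;> norm_num at hn4 <;> rfl
  have hsurj : Function.Surjective (moved X) := MonoidHom.range_eq_top.1
    (Subgroup.eq_top_of_card_eq _ (by rw [← hW, hWk, hk12, hVcard]))
  have hinj := Finite.injective_iff_surjective.2 hsurj
  intro q hq hc
  let v : ↥V := ⟨π q, mem_map_of_mem π hq⟩
  have hv : X v = v := by
    refine Subtype.ext ?_
    rw [hΦ]
    show π x * π q * (π x)⁻¹ = π q
    rw [← map_inv, ← map_mul, ← map_mul, ← hc.eq, mul_inv_cancel_right]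
  have h1 : moved X v = moved X 1 := by rw [map_one, moved_apply, hv, hV2]
  exact (QuotientGroup.eq_one_iff _).1 (congrArg Subtype.val (hinj h1))

/-- The conditions inside the centraliser. -/
theorem core (S : Shape z Q N M) : ∃ x : C, x ∈ N ∧ orderOf x = 3 ∧
    Q ⊓ Subgroup.centralizer (zpowers x : Set C) = zpowers z ∧
    Subgroup.normalizer (zpowers x : Set C) ≠ Subgroup.centralizer (zpowers x : Set C) ∧
    zpowers x ≤ ⁅Subgroup.centralizer (zpowers x : Set C), Subgroup.centralizer (zpowers x : Set C)⁆ := by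
  classical
  haveI : Fact (Nat.Prime 3) := ⟨Nat.prime_three⟩
  haveI := S.qnormal
  haveI := S.nnormal
  obtain ⟨a, b, x, d, haM, hbM, hxN, hxo, ha3, hax, hbx, hba, hd⟩ := S.exists_elems
  have hfix := S.fix_eq haM hbM hxN hxo ha3 hax hbx hba
  have hcent : ∀ {c : C}, Commute c x → c ∈ Subgroup.centralizer (zpowers x : Set C) := by
    intro c hc
    refine mem_centralizer_iff.2 fun g hg => ?_
    obtain ⟨i, rfl⟩ := mem_zpowers_iff.1 hg
    exact (hc.zpow_right i).eq.symm
  have hx3 : x ^ 3 = 1 := by rw [← hxo, pow_orderOf_eq_one]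
  refine ⟨x, hxN, hxo, ?_, ?_, ?_⟩
  · refine le_antisymm (fun q hq => hfix q hq.1 ?_) (zpowers_le.2 ⟨S.z_mem, hcent (S.zcen x).symm⟩)
    exact (mem_centralizer_iff.1 hq.2 x (mem_zpowers x)).symm
  · -- correct `d` by an element of `N`
    have hq : Nat.card ↥N = 2 ^ 13 * 3 := by rw [S.ncard, S.card]; norm_num
    have hf : (Nat.card ↥N).factorization 3 = 1 := by
      rw [hq, Nat.factorization_mul (by norm_num) (by norm_num), Finsupp.add_apply,
        Nat.Prime.factorization_pow Nat.prime_two, Nat.Prime.factorization Nat.prime_three]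
      simp
    have hx' : d * x * d⁻¹ ∈ N := S.nnormal.conj_mem x hxN d
    have ho' : orderOf (⟨d * x * d⁻¹, hx'⟩ : ↥N) = 3 := by
      rw [Subgroup.orderOf_mk, show d * x * d⁻¹ = (MulAut.conj d).toMonoidHom x from rfl,
        orderOf_injective _ (MulAut.conj d).injective, hxo]
    let S₁ : Sylow 3 ↥N := Sylow.ofCard (Subgroup.zpowers (⟨x, hxN⟩ : ↥N))
      (by rw [hf, Nat.card_zpowers, Subgroup.orderOf_mk, hxo, pow_one])
    let S₂ : Sylow 3 ↥N := Sylow.ofCard (Subgroup.zpowers (⟨d * x * d⁻¹, hx'⟩ : ↥N))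
      (by rw [hf, Nat.card_zpowers, ho', pow_one])
    obtain ⟨n, hn⟩ := MulAction.exists_smul_eq ↥N S₁ S₂
    have hmem : (⟨d * x * d⁻¹, hx'⟩ : ↥N) ∈ (n • S₁ : Sylow 3 ↥N).1 := by
      rw [hn]; exact mem_zpowers _
    rw [Sylow.coe_subgroup_smul, Subgroup.mem_pointwise_smul_iff_inv_smul_mem] at hmem
    obtain ⟨j, hj⟩ := mem_zpowers_iff.1 (hmem : (MulAut.conj n)⁻¹ • (⟨d * x * d⁻¹, hx'⟩ : ↥N) ∈
      Subgroup.zpowers (⟨x, hxN⟩ : ↥N))
    have hj' : ((n : C)⁻¹ * d) * x * ((n : C)⁻¹ * d)⁻¹ = x ^ j := by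
      have h2 := congrArg Subtype.val hj
      simp only [MulAut.smul_def, MulAut.inv_def, MulAut.conj_symm_apply, Subgroup.coe_mul,
        SubgroupClass.coe_zpow, InvMemClass.coe_inv] at h2
      rw [h2]; group
    set r := (n : C)⁻¹ * d with hr
    have hrx : r * x * r⁻¹ * x ∈ Q := by
      have hc : ⁅d * x * d⁻¹, (n : C)⁻¹⁆ ∈ Q := by
        refine S.cent ?_
        exact commutator_mem_commutator (S.nm hx') (inv_mem n.2)
      have h1 := mul_mem (inv_mem hc) hd
      rw [← inv_mul_cancel_left (d * x * d⁻¹) ((d * x * d⁻¹ * x))] at h1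
      have h2 := mul_mem (inv_mem hc) hd
      rw [commutatorElement_def] at h2
      convert h2 using 1
      rw [hr]; group
    have hr1 : r * x * r⁻¹ * x = 1 := by
      refine orderOf_eq_one_iff.1 (Nat.eq_one_of_dvd_coprimes (a := 2 ^ 13) (b := 3) (by norm_num)
        (S.card ▸ Subgroup.orderOf_dvd_natCard Q hrx) (orderOf_dvd_of_pow_eq_one ?_))
      rw [hj', ← zpow_add_one, ← zpow_natCast, ← zpow_mul, mul_comm, zpow_mul, zpow_natCast, hx3, one_zpow]
    have hrinv : r * x * r⁻¹ = x⁻¹ := eq_inv_of_mul_eq_one_left hr1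
    have hrN : r ∈ Subgroup.normalizer (zpowers x : Set C) := by
      refine Subgroup.mem_normalizer_fintype fun g hg => ?_
      obtain ⟨i, rfl⟩ := mem_zpowers_iff.1 hg
      exact mem_zpowers_iff.2 ⟨-i, by rw [← conj_zpow, hrinv, inv_zpow']⟩
    intro heq
    rw [heq] at hrN
    have hcx := mem_centralizer_iff.1 hrN x (mem_zpowers x)
    rw [← hcx, mul_inv_cancel_right, eq_inv_iff_mul_eq_one, ← sq] at hrinv
    have := orderOf_dvd_of_pow_eq_one hrinv
    rw [hxo] at this
    norm_num at this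
  · rw [zpowers_le]
    have hxc : ⁅b, a⁆ = x := by rw [commutatorElement_def, hba]; group
    have := commutator_mem_commutator (hcent hbx) (hcent hax)
    rwa [hxc] at this

end Shape

theorem isOfJankoFourTypeAt_of_centralizer {G : Type*} [Group G] [Finite G] (t : G) (ht : orderOf t = 2)
    (Q N M : Subgroup (Subgroup.centralizer ({t} : Set G))) [Q.Normal] [N.Normal] [M.Normal]
    (hQN : Q ≤ N) (hNM : N ≤ M) (hM : M.index = 2) (hQ : Cfsg.IsExtraspecial 2 Q)
    (hcard : Nat.card Q = 2 ^ 13) (hN : Nat.card N = 3 * Nat.card Q) (hcent : ⁅M, N⁆ ≤ Q)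
    (hperf : M ≤ ⁅M, M⁆ ⊔ Q)
    (h2c : Subgroup.centralizer (Q : Set (Subgroup.centralizer ({t} : Set G))) ≤ Q)
    (hout : ∀ c : Subgroup.centralizer ({t} : Set G), (∀ m ∈ M, c * m * c⁻¹ * m⁻¹ ∈ N) → c ∈ M)
    (hM22 : Cfsg.Spor.IsoM22 (M ⧸ N.subgroupOf M)) : IsOfJankoFourTypeAt t := by
  classical
  obtain ⟨e⟩ := hM22
  have S : Shape (⟨t, mem_centralizer_singleton_iff.2 rfl⟩ : ↥(Subgroup.centralizer ({t} : Set G))) Q N M :=
    { zord := by rw [Subgroup.orderOf_mk, ht]
      zcen := fun c => Subtype.ext (mem_centralizer_singleton_iff.1 c.2)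
      qnormal := inferInstance, nnormal := inferInstance, mnormal := inferInstance
      qn := hQN, nm := hNM, index := hM, extra := hQ, card := hcard, ncard := hN, cent := hcent
      perf := hperf, self := h2c, outer := hout
      iso := ⟨e.toMonoidHom.comp (QuotientGroup.mk' _),
        e.surjective.comp (QuotientGroup.mk'_surjective _), by
          rw [← MonoidHom.comap_ker, (MonoidHom.ker_eq_bot_iff e.toMonoidHom).2 e.injective,
            MonoidHom.comap_bot, QuotientGroup.ker_mk']⟩ }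
  haveI := S.nnormal
  set tH : ↥(Subgroup.centralizer ({t} : Set G)) := ⟨t, mem_centralizer_singleton_iff.2 rfl⟩ with htH
  obtain ⟨x, hxN, hxo, hfix, hne, hder⟩ := S.core
  have hsub := (Subgroup.centralizer ({t} : Set G)).subtype_injective
  have hE : twoCoreOfCentralizer t = Q.map (Subgroup.centralizer ({t} : Set G)).subtype := by
    show (pCore 2 ↥(Subgroup.centralizer ({t} : Set G))).map (Subgroup.centralizer ({t} : Set G)).subtype = _
    rw [S.pCore_eq]
  have hcard' : ∀ K : Subgroup ↥(Subgroup.centralizer ({t} : Set G)), Nat.card (K.map (Subgroup.centralizer ({t} : Set G)).subtype) = Nat.card K := fun K =>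
    Subgroup.card_map_of_injective hsub
  have hcm : ∀ K : Subgroup ↥(Subgroup.centralizer ({t} : Set G)), (Subgroup.centralizer ({t} : Set G)) ⊓ Subgroup.centralizer ((K.map (Subgroup.centralizer ({t} : Set G)).subtype : Subgroup G) : Set G) =
      (Subgroup.centralizer (K : Set ↥(Subgroup.centralizer ({t} : Set G)))).map (Subgroup.centralizer ({t} : Set G)).subtype := by
    intro K
    ext g
    constructor
    · rintro ⟨hgH, hg⟩
      exact ⟨⟨g, hgH⟩, mem_centralizer_iff.2 fun k hk => Subtype.ext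
        (mem_centralizer_iff.1 hg _ (mem_map_of_mem (Subgroup.centralizer ({t} : Set G)).subtype hk)), rfl⟩
    · rintro ⟨g, hg, rfl⟩
      refine ⟨g.2, mem_centralizer_iff.2 ?_⟩
      rintro _ ⟨k, hk, rfl⟩
      exact congrArg Subtype.val (mem_centralizer_iff.1 hg k hk)
  have hnm : ∀ K : Subgroup ↥(Subgroup.centralizer ({t} : Set G)), (Subgroup.centralizer ({t} : Set G)) ⊓ Subgroup.normalizer ((K.map (Subgroup.centralizer ({t} : Set G)).subtype : Subgroup G) : Set G) =
      (Subgroup.normalizer (K : Set ↥(Subgroup.centralizer ({t} : Set G)))).map (Subgroup.centralizer ({t} : Set G)).subtype := by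
    intro K
    ext g
    constructor
    · rintro ⟨hgH, hg⟩
      refine ⟨⟨g, hgH⟩, mem_normalizer_iff.2 fun k => ?_, rfl⟩
      rw [← Subgroup.mem_map_iff_mem hsub, ← Subgroup.mem_map_iff_mem hsub]
      exact mem_normalizer_iff.1 hg k
    · rintro ⟨g, hg, rfl⟩
      refine ⟨g.2, mem_normalizer_iff.2 fun k => ⟨?_, ?_⟩⟩
      · rintro ⟨k, hk, rfl⟩
        exact ⟨g * k * g⁻¹, (mem_normalizer_iff.1 hg k).1 hk, rfl⟩
      · rintro ⟨l, hl, hkl⟩
        refine ⟨g⁻¹ * l * g, ?_, ?_⟩
        · refine (mem_normalizer_iff.1 hg _).2 ?_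
          simpa [mul_assoc] using hl
        · rw [map_mul, map_mul, map_inv, hkl]; group
  haveI hNn : ((N.map (Subgroup.centralizer ({t} : Set G)).subtype).subgroupOf (Subgroup.centralizer ({t} : Set G))).Normal := by
    rw [Subgroup.subgroupOf, Subgroup.comap_map_eq_self_of_injective hsub]; infer_instance
  obtain ⟨Θ, hsurj, hker, -⟩ := S.exists_aut
  refine ⟨(zpowers x).map (Subgroup.centralizer ({t} : Set G)).subtype, ht, ?_, ?_, ?_, ⟨N.map (Subgroup.centralizer ({t} : Set G)).subtype, ?_, Subgroup.map_subtype_le _, ?_, ?_,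
    ⟨hNn, ⟨?_⟩⟩, Subgroup.map_mono (zpowers_le.2 hxN)⟩, ?_, ?_, ?_, ?_⟩
  · rw [hE]
    exact LargeExtraspecial.isExtraspecial_congr (Subgroup.equivMapOfInjective Q _ hsub) hQ
  · rw [hE, hcard', hcard]
  · rw [hE, hcm]; exact Subgroup.map_mono h2c
  · rw [hE]; exact Subgroup.map_mono hQN
  · intro g hg
    refine (hnm N).ge.trans inf_le_right ⟨⟨g, hg⟩, ?_, rfl⟩
    rw [Subgroup.normalizer_eq_top N]; exact mem_top _
  · rw [hE, hcard', hcard', hN]
  · exact (QuotientGroup.quotientMulEquivOfEq (by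
      rw [hker, Subgroup.subgroupOf, Subgroup.comap_map_eq_self_of_injective hsub])).trans
      (QuotientGroup.quotientKerEquivOfSurjective Θ hsurj)
  · rw [hcard', Nat.card_zpowers, hxo]
  · have hmap := congrArg (Subgroup.map (Subgroup.centralizer ({t} : Set G)).subtype) hfix
    rw [Subgroup.map_inf _ _ _ hsub, MonoidHom.map_zpowers, ← hcm, ← hE] at hmap
    refine Eq.trans ?_ hmap
    rw [← inf_assoc, inf_eq_left.2 (show twoCoreOfCentralizer t ≤ (Subgroup.centralizer ({t} : Set G)) from Subgroup.map_subtype_le _)]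
  · rw [hnm, hcm]
    exact fun h => hne (Subgroup.map_injective hsub h)
  · rw [hcm, ← Subgroup.map_commutator]
    exact Subgroup.map_mono hder

end Cfsg.Agent.J4Type.FromCent
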