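import Cfsg.Agent.Lib.J4Type.Classes
import Cfsg.Prelude.Def_JankoFourType

/-!
Groups of Janko-four type: assembly of the centraliser of an involution of the second class from the
statements on the 3-element, on `V` and on its orbits (helper26).

* `SecondClass.exists_splitData` : a `SplitData` with `s` in the class of `z`;
* `SecondClass.isConj_or` : two classes of involutions;
* `SecondClass.centralizer_second` : the centraliser of a second involution.
-/

set_option autoImplicit false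
set_option linter.unusedSectionVars false

namespace Cfsg.Agent.J4Type.SecondClass

open Cfsg

variable {G : Type*} [Group G] [Finite G] {z : G}

/-- The structure from the split normaliser and the two orbits. -/
theorem exists_splitData {V : Subgroup G} (hV : Cfsg.IsElementaryAbelian 2 V) (hcard : Nat.card ↥V = 2 ^ 11)
    (hloc : Subgroup.centralizer (V : Set G) ≤ V ∧ ∃ K : Subgroup G, K ≤ Subgroup.normalizer (V : Set G) ∧
      K ⊓ V = ⊥ ∧ K ⊔ V = Subgroup.normalizer (V : Set G) ∧ Cfsg.Spor.IsoM24 ↥K)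
    (horb : ∃ z' t : G, z' ∈ V ∧ t ∈ V ∧ t ≠ 1 ∧ IsConj z z' ∧ ¬ IsConj z t ∧
      Set.ncard {v : G | ∃ n ∈ Subgroup.normalizer (V : Set G), n * z' * n⁻¹ = v} = 1771 ∧
      Set.ncard {v : G | ∃ n ∈ Subgroup.normalizer (V : Set G), n * t * n⁻¹ = v} = 276 ∧
      Subgroup.centralizer ({t} : Set G) ≤ Subgroup.normalizer (V : Set G)) :
    ∃ D : SplitData G, IsConj z D.s ∧ ¬ IsConj z D.t ∧
      Subgroup.centralizer ({D.t} : Set G) ≤ Subgroup.normalizer (D.V : Set G) := by
  obtain ⟨hcent, K, hK, hinf, hsup, ⟨e⟩⟩ := hloc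
  obtain ⟨z', t, hz', ht, -, hzz', hzt, h1771, h276, hC⟩ := horb
  let D : SplitData G :=
    { V := V
      K := K
      e := e
      t := t
      s := z'
      elem := hV
      card := hcard
      cent := hcent
      K_le := hK
      inf := hinf
      sup := hsup
      t_mem := ht
      s_mem := hz'
      t_orbit := h276
      s_orbit := h1771
      not_conj := fun n _ h => hzt (hzz'.trans (isConj_iff.2 ⟨n⁻¹, by rw [← h]; group⟩)) }
  exact ⟨D, hzz', hzt, hC⟩

variable {P : Subgroup G}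

theorem le_centralizer (hJ : Cfsg.IsOfJankoFourTypeWith z P) :
    P ≤ Subgroup.centralizer ({z} : Set G) := by
  obtain ⟨-, -, -, -, ⟨N, -, hN, -, -, -, hP⟩, -⟩ := hJ
  exact hP.trans hN

theorem card_eq (hJ : Cfsg.IsOfJankoFourTypeWith z P) : Nat.card ↥P = 3 := by
  obtain ⟨-, -, -, -, -, h, -⟩ := hJ
  exact h

/-- **Two classes of involutions.** -/
theorem isConj_or (hJ : Cfsg.IsOfJankoFourTypeWith z P) (D : SplitData G) (hzs : IsConj z D.s)
    (hzt : ¬ IsConj z D.t)
    (huniq : ∀ T : Sylow 2 G, ∃! W : Subgroup G, W ≤ (T : Subgroup G) ∧ Cfsg.IsElementaryAbelian 2 W ∧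
      Nat.card ↥W = 2 ^ 11)
    (hthree : ∀ x y : G, orderOf x = 3 → orderOf y = 3 → IsConj x y)
    (hloc : ⁅(Subgroup.centralizer ({z} : Set G) ⊓ Subgroup.centralizer (P : Set G)),
        (Subgroup.centralizer ({z} : Set G) ⊓ Subgroup.centralizer (P : Set G))⁆ =
        (Subgroup.centralizer ({z} : Set G) ⊓ Subgroup.centralizer (P : Set G)) ∧
      IsCyclic ↥(Subgroup.center ↥(Subgroup.centralizer ({z} : Set G) ⊓ Subgroup.centralizer (P : Set G))) ∧
      Nat.card ↥(Subgroup.center ↥(Subgroup.centralizer ({z} : Set G) ⊓ Subgroup.centralizer (P : Set G))) = 6 ∧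
      Cfsg.Spor.IsoM22 (↥(Subgroup.centralizer ({z} : Set G) ⊓ Subgroup.centralizer (P : Set G)) ⧸
        Subgroup.center ↥(Subgroup.centralizer ({z} : Set G) ⊓ Subgroup.centralizer (P : Set G))) ∧
      Subgroup.normalizer (P : Set G) ≤ Subgroup.centralizer ({z} : Set G))
    {u : G} (hu : orderOf u = 2) : IsConj z u ∨ IsConj D.t u :=
  J4Type.isConj_or D hJ.1 hzs hzt huniq hthree (card_eq hJ) (le_centralizer hJ) hloc.2.2.2.2 hloc.2.1
    hloc.2.2.2.1 hu

/-- **The centraliser of a second involution.** -/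
theorem centralizer_second (D : SplitData G) (hzt : ¬ IsConj z D.t)
    (hC : Subgroup.centralizer ({D.t} : Set G) ≤ Subgroup.normalizer (D.V : Set G))
    (hcls : ∀ u : G, orderOf u = 2 → IsConj z u ∨ IsConj D.t u) {t : G} (ht : orderOf t = 2)
    (hnc : ¬ IsConj z t) :
    ∃ V K : Subgroup G, V ≤ Subgroup.centralizer ({t} : Set G) ∧ K ≤ Subgroup.centralizer ({t} : Set G) ∧
      Subgroup.centralizer ({t} : Set G) ≤ Subgroup.normalizer (V : Set G) ∧
      Cfsg.IsElementaryAbelian 2 V ∧ Nat.card ↥V = 2 ^ 11 ∧ K ⊓ V = ⊥ ∧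
      K ⊔ V = Subgroup.centralizer ({t} : Set G) ∧ Nonempty (↥K ≃* MulAut ↥Cfsg.Spor.M22) := by
  obtain ⟨K, hVC, hKC, hinf, hsup, ⟨e⟩⟩ := D.exists_centralizer hC
  obtain ⟨g, rfl⟩ := isConj_iff.1 ((hcls t ht).resolve_left hnc)
  set φ := (MulAut.conj g).toMonoidHom with hφ
  have hinj : Function.Injective φ := (MulAut.conj g).injective
  have hcen : (Subgroup.centralizer ({D.t} : Set G)).map φ =
      Subgroup.centralizer ({g * D.t * g⁻¹} : Set G) := by
    ext y
    rw [Subgroup.mem_map, Subgroup.mem_centralizer_singleton_iff]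
    constructor
    · rintro ⟨x, hx, rfl⟩
      rw [Subgroup.mem_centralizer_singleton_iff] at hx
      show g * x * g⁻¹ * (g * D.t * g⁻¹) = g * D.t * g⁻¹ * (g * x * g⁻¹)
      calc g * x * g⁻¹ * (g * D.t * g⁻¹) = g * (x * D.t) * g⁻¹ := by group
        _ = _ := by rw [hx]; group
    · intro hy
      refine ⟨g⁻¹ * y * g, Subgroup.mem_centralizer_singleton_iff.2 ?_, by
        show g * (g⁻¹ * y * g) * g⁻¹ = y
        group⟩
      calc g⁻¹ * y * g * D.t = g⁻¹ * (y * (g * D.t * g⁻¹)) * g := by group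
        _ = _ := by rw [hy]; group
  refine ⟨D.V.map φ, K.map φ, hcen ▸ Subgroup.map_mono hVC, hcen ▸ Subgroup.map_mono hKC, ?_,
    elem_map D.elem g, ?_, ?_, ?_, ⟨(Subgroup.equivMapOfInjective K φ hinj).symm.trans e⟩⟩
  · rw [← hcen]
    exact (Subgroup.map_mono hC).trans (Subgroup.le_normalizer_map φ)
  · rw [← Nat.card_congr (Subgroup.equivMapOfInjective _ φ hinj).toEquiv, D.card]
  · rw [← Subgroup.map_inf _ _ _ hinj, hinf, Subgroup.map_bot]
  · rw [← Subgroup.map_sup, hsup, hcen]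

end Cfsg.Agent.J4Type.SecondClass
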