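/-
Search tools for the subgroups of order 2 ^ 10 of a group of Janko-four type (owner: helper81):
an exhaustive search over the elementary abelian subgroups of a coded group, and bit sets on
`0, ..., 2 ^ j - 1` closed under exclusive or.

Main results: `search_sound`, `testBit_zs`, `card_le_two_pow_tops`.
-/
import Cfsg.Agent.EqLemmas

set_option autoImplicit false

namespace Cfsg.Agent.J4Type.TwoTen

/-! ### The search -/

/-- Every way of extending the coded subgroup `L` by generators from `cand`, each the least of its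
coset, ends in a subgroup accepted by `fin`. -/
def search {σ : Type} (mul : ℕ → ℕ → ℕ) (adj : ℕ → ℕ → Bool) (step : σ → ℕ → σ)
    (fin : List ℕ → σ → Bool) : ℕ → List ℕ → σ → List ℕ → Bool
  | 0, _, _, _ => false
  | f + 1, L, s, cand => fin L s && cand.all fun a =>
      !(L.all fun x => Nat.ble a (mul x a)) ||
        search mul adj step fin f (L ++ L.map fun x => mul x a) (step s a)
          (cand.filter fun b => Nat.blt a b && adj a b)

theorem search_sound {σ : Type} {mul : ℕ → ℕ → ℕ} {adj : ℕ → ℕ → Bool} {step : σ → ℕ → σ}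
    {fin : List ℕ → σ → Bool} {H : Type*} [Group H] (φ : ℕ → H) (B : Set ℕ)
    (hmem : ∀ a ∈ B, ∀ b ∈ B, mul a b ∈ B)
    (hmul : ∀ a ∈ B, ∀ b ∈ B, φ (mul a b) = φ a * φ b)
    (hinj : Set.InjOn φ B) (hcomm : ∀ a ∈ B, ∀ b ∈ B, φ a * φ b = φ b * φ a)
    (hsq : ∀ a ∈ B, φ a * φ a = 1) (hadj : ∀ a ∈ B, ∀ b ∈ B, adj a b = true)
    (Inv : σ → Prop) (hstep : ∀ s, ∀ a ∈ B, Inv s → Inv (step s a)) :
    ∀ (f : ℕ) (L : List ℕ) (s : σ) (cand : List ℕ), search mul adj step fin f L s cand = true →
      (∀ x ∈ L, x ∈ B) → (∀ x ∈ L, ∀ y ∈ L, mul x y ∈ L) → L.Nodup → 0 ∈ L → φ 0 = 1 → Inv s →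
      (∀ b ∈ B, b ∈ L ∨ b ∈ cand) →
      ∃ L' s', fin L' s' = true ∧ Inv s' ∧ L'.Nodup ∧ ∀ x, x ∈ L' ↔ x ∈ B := by
  classical
  intro f
  induction f with
  | zero => intro L s cand h; simp [search] at h
  | succ f ih =>
    intro L s cand h hLB hL hnd h0 hφ0 hs hc
    simp only [search, Bool.and_eq_true, List.all_eq_true] at h
    by_cases hex : ∃ a, a ∈ B ∧ a ∉ L
    · obtain ⟨a, ⟨haB, haL⟩, hmin⟩ : ∃ a, (a ∈ B ∧ a ∉ L) ∧ ∀ b, b ∈ B → b ∉ L → a ≤ b :=
        ⟨Nat.find hex, Nat.find_spec hex, fun b hb hb' => Nat.find_le ⟨hb, hb'⟩⟩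
      have hout : ∀ x ∈ L, mul x a ∈ B ∧ mul x a ∉ L := by
        intro x hx
        refine ⟨hmem x (hLB x hx) a haB, fun hy => haL ?_⟩
        have h1 := hL x hx _ hy
        rwa [hinj (hLB _ h1) haB] at h1
        rw [hmul x (hLB x hx) _ (hLB _ hy), hmul x (hLB x hx) a haB, ← mul_assoc,
          hsq x (hLB x hx), one_mul]
      have hcand : a ∈ cand := (hc a haB).resolve_left haL
      have hall : (L.all fun x => Nat.ble a (mul x a)) = true :=
        List.all_eq_true.mpr fun x hx => Nat.ble_eq.mpr (hmin _ (hout x hx).1 (hout x hx).2)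
      have h2 := h.2 a hcand
      rw [hall] at h2
      simp only [Bool.not_true, Bool.false_or] at h2
      have h0a : mul 0 a = a := hinj (hmem 0 (hLB 0 h0) a haB) haB
        (by rw [hmul 0 (hLB 0 h0) a haB, hφ0, one_mul])
      refine ih _ _ _ h2 ?_ ?_ ?_ (List.mem_append_left _ h0) hφ0 (hstep s a haB hs) ?_
      · intro x hx
        rcases List.mem_append.mp hx with hx | hx
        · exact hLB x hx
        · obtain ⟨y, hy, rfl⟩ := List.mem_map.mp hx
          exact (hout y hy).1
      · have key : ∀ x ∈ L, ∀ y ∈ L, mul (mul x a) y = mul (mul x y) a ∧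
            mul x (mul y a) = mul (mul x y) a ∧ mul (mul x a) (mul y a) = mul x y := by
          intro x hx y hy
          have bx := hLB x hx
          have b_y := hLB y hy
          have bxa := (hout x hx).1
          have bya := (hout y hy).1
          have bxy := hmem x bx y b_y
          refine ⟨hinj (hmem _ bxa _ b_y) (hmem _ bxy _ haB) ?_,
            hinj (hmem _ bx _ bya) (hmem _ bxy _ haB) ?_, hinj (hmem _ bxa _ bya) bxy ?_⟩
          · rw [hmul _ bxa _ b_y, hmul _ bxy _ haB, hmul _ bx _ haB, hmul _ bx _ b_y, mul_assoc,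
              hcomm a haB y b_y, ← mul_assoc]
          · rw [hmul _ bx _ bya, hmul _ bxy _ haB, hmul _ b_y _ haB, hmul _ bx _ b_y, mul_assoc]
          · rw [hmul _ bxa _ bya, hmul _ bx _ haB, hmul _ b_y _ haB, hmul _ bx _ b_y,
              hcomm y b_y a haB, mul_assoc (φ x), ← mul_assoc (φ a), hsq a haB, one_mul]
        intro x hx y hy
        simp only [List.mem_append, List.mem_map] at hx hy ⊢
        rcases hx with hx | ⟨x, hx, rfl⟩ <;> rcases hy with hy | ⟨y, hy, rfl⟩
        · exact Or.inl (hL x hx y hy)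
        · exact Or.inr ⟨mul x y, hL x hx y hy, ((key x hx y hy).2.1).symm⟩
        · exact Or.inr ⟨mul x y, hL x hx y hy, ((key x hx y hy).1).symm⟩
        · exact Or.inl (by rw [(key x hx y hy).2.2]; exact hL x hx y hy)
      · refine List.nodup_append.mpr ⟨hnd, hnd.map_on fun x hx y hy e => ?_, ?_⟩
        · have e' := congrArg φ e
          rw [hmul x (hLB x hx) a haB, hmul y (hLB y hy) a haB, mul_left_inj] at e'
          exact hinj (hLB x hx) (hLB y hy) e'
        · intro x hx y hy e
          obtain ⟨z, hz, rfl⟩ := List.mem_map.mp hy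
          exact (hout z hz).2 (e ▸ hx)
      · intro b hb
        by_cases hbL : b ∈ L ++ L.map fun x => mul x a
        · exact Or.inl hbL
        · simp only [List.mem_append, List.mem_map, not_or] at hbL
          refine Or.inr (List.mem_filter.mpr ⟨(hc b hb).resolve_left hbL.1, ?_⟩)
          have hne : b ≠ a := fun e => hbL.2 ⟨0, h0, h0a.trans e.symm⟩
          have hle := hmin b hb hbL.1
          rw [Bool.and_eq_true, Nat.blt_eq]
          exact ⟨lt_of_le_of_ne hle (Ne.symm hne), hadj a haB b hb⟩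
    · push Not at hex
      exact ⟨L, s, h.1, hs, hnd, fun x => ⟨hLB x, hex x⟩⟩

/-! ### Bit sets -/

/-- Doubling step for `zs`. -/
def dbl (flip : Bool) (w m : ℕ) : ℕ :=
  m ||| ((bif flip then (2 ^ w - 1) ^^^ m else m) <<< w)

/-- The set of the numbers below `2 ^ j` sent by the linear map `f` to a number without bit `i`. -/
def zs (f : ℕ → ℕ) (i : ℕ) : ℕ → ℕ
  | 0 => 1
  | j + 1 => dbl ((f (2 ^ j)).testBit i) (2 ^ j) (zs f i j)

theorem two_pow_add_eq_xor {j c : ℕ} (hc : c < 2 ^ j) : 2 ^ j + c = 2 ^ j ^^^ c := by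
  refine Nat.eq_of_testBit_eq fun i => ?_
  rcases lt_trichotomy i j with h | rfl | h
  · rw [Nat.testBit_two_pow_add_gt h, Nat.testBit_xor, Nat.testBit_two_pow]
    simp [Nat.ne_of_gt h]
  · rw [Nat.testBit_two_pow_add_eq, Nat.testBit_xor, Nat.testBit_two_pow_self]
    simp [Nat.testBit_lt_two_pow hc]
  · have h1 : 2 ^ j + c < 2 ^ i := by
      have : 2 ^ (j + 1) ≤ 2 ^ i := Nat.pow_le_pow_right (by norm_num) h
      omega
    rw [Nat.testBit_lt_two_pow h1, Nat.testBit_xor, Nat.testBit_two_pow,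
      Nat.testBit_lt_two_pow (lt_trans hc (Nat.pow_lt_pow_right (by norm_num) h))]
    simp [Nat.ne_of_lt h]

theorem testBit_zs {f : ℕ → ℕ} (hf : ∀ a b, f (a ^^^ b) = f a ^^^ f b) (i : ℕ) :
    ∀ (j c : ℕ), (zs f i j).testBit c = (decide (c < 2 ^ j) && !(f c).testBit i)
  | 0, c => by
    have h0 : f 0 = 0 := by
      have h := hf 0 0
      rwa [Nat.xor_self, Nat.xor_self] at h
    rcases Nat.eq_zero_or_pos c with rfl | hc
    · simp [zs, h0]
    · simp [zs, Nat.testBit_lt_two_pow (Nat.one_lt_two_pow (Nat.pos_iff_ne_zero.mp hc)),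
        show ¬ c < 1 by omega]
  | j + 1, c => by
    have ih := testBit_zs hf i j
    have hp : 2 ^ (j + 1) = 2 ^ j + 2 ^ j := by rw [pow_succ]; ring
    simp only [zs, dbl, Nat.testBit_or, Nat.testBit_shiftLeft, ih]
    by_cases hc : c < 2 ^ j
    · simp [hc, show ¬ c ≥ 2 ^ j by omega, show c < 2 ^ (j + 1) by omega]
    by_cases hc' : c < 2 ^ (j + 1)
    · obtain ⟨d, rfl⟩ := Nat.le.dest (le_of_not_gt hc)
      have hd : d < 2 ^ j := by omega
      have hfd : f (2 ^ j + d) = f (2 ^ j) ^^^ f d := by rw [two_pow_add_eq_xor hd, hf]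
      simp only [Nat.add_sub_cancel_left, hc, decide_false, Bool.false_and, Bool.false_or, hc',
        decide_true, Bool.true_and, hfd, Nat.testBit_xor, ge_iff_le, Nat.le_add_right]
      cases (f (2 ^ j)).testBit i <;>
        simp [Nat.testBit_xor, Nat.testBit_two_pow_sub_one, ih, hd]
    · have hd : ¬ c - 2 ^ j < 2 ^ j := by omega
      cases (f (2 ^ j)).testBit i <;>
        simp [hc, hc', Nat.testBit_xor, Nat.testBit_two_pow_sub_one, ih, hd]

/-- The number of `i < j` for which `s` meets `[2 ^ i, 2 ^ (i + 1))`. -/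
def tops (s : ℕ) : ℕ → ℕ
  | 0 => 0
  | j + 1 => (bif (s >>> 2 ^ j) &&& (2 ^ 2 ^ j - 1) == 0 then 0 else 1) + tops s j

theorem card_le_two_pow_tops {s : ℕ} (C : Finset ℕ) (hC : ∀ a ∈ C, ∀ b ∈ C, a ^^^ b ∈ C)
    (hs : ∀ a ∈ C, s.testBit a = true) :
    ∀ j, (C.filter (· < 2 ^ j)).card ≤ 2 ^ tops s j
  | 0 => by
    refine le_trans (Finset.card_le_card (t := {0}) fun a ha => ?_) (by simp [tops])
    simp at ha
    simp [ha.2]
  | j + 1 => by
    have ih := card_le_two_pow_tops C hC hs j
    set hi : Finset ℕ := C.filter (fun a => 2 ^ j ≤ a ∧ a < 2 ^ (j + 1)) with hhi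
    have hsub : C.filter (· < 2 ^ (j + 1)) ⊆ C.filter (· < 2 ^ j) ∪ hi := by
      intro a ha
      simp only [Finset.mem_filter, Finset.mem_union, hhi] at ha ⊢
      by_cases h : a < 2 ^ j
      · exact Or.inl ⟨ha.1, h⟩
      · exact Or.inr ⟨ha.1, le_of_not_gt h, ha.2⟩
    have hcard := (Finset.card_le_card hsub).trans (Finset.card_union_le _ _)
    rcases hi.eq_empty_or_nonempty with he | ⟨a, ha⟩
    · rw [he, Finset.card_empty, add_zero] at hcard
      refine hcard.trans (ih.trans (Nat.pow_le_pow_right (by norm_num) ?_))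
      simp [tops]
    · simp only [hhi, Finset.mem_filter] at ha
      have hblock : ((s >>> 2 ^ j) &&& (2 ^ 2 ^ j - 1) == 0) = false := by
        rw [beq_eq_false_iff_ne]
        intro h0
        have := congrArg (fun x : ℕ => x.testBit (a - 2 ^ j)) h0
        have hlt : a - 2 ^ j < 2 ^ j := by rw [pow_succ] at ha; omega
        simp [Nat.testBit_shiftRight, hlt,
          Nat.add_sub_cancel' ha.2.1, hs a ha.1] at this
      have hle : hi.card ≤ (C.filter (· < 2 ^ j)).card := by
        refine Finset.card_le_card_of_injOn (fun b => a ^^^ b) (fun b hb => ?_) ?_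
        · simp only [hhi, Finset.coe_filter, Set.mem_ofPred_eq] at hb
          simp only [Finset.coe_filter, Set.mem_ofPred_eq]
          refine ⟨hC a ha.1 b hb.1, ?_⟩
          obtain ⟨d, rfl⟩ := Nat.le.dest ha.2.1
          obtain ⟨e, rfl⟩ := Nat.le.dest hb.2.1
          have hp : 2 ^ (j + 1) = 2 ^ j + 2 ^ j := by rw [pow_succ]; ring
          have hd : d < 2 ^ j := by omega
          have he : e < 2 ^ j := by omega
          rw [two_pow_add_eq_xor hd, two_pow_add_eq_xor he, Nat.xor_assoc,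
            Nat.xor_left_comm d, ← Nat.xor_assoc, Nat.xor_self, Nat.zero_xor]
          exact Nat.xor_lt_two_pow hd he
        · intro b _ c _ h
          exact Nat.xor_right_injective h
      simp only [tops, hblock, cond_false]
      have he : 2 ^ (1 + tops s j) = 2 * 2 ^ tops s j := by rw [Nat.add_comm, pow_succ']
      omega

end Cfsg.Agent.J4Type.TwoTen
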