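/-
The even words modulo the Golay code as numbers below 2 ^ 11, the fixed point sets of
permutations on them, and the elementary abelian 2-subgroups of M24 with large fixed point sets:
only the pointwise stabiliser of an octad occurs (owner: helper81; for S5570, S5571).

Main results: `q_xor`, `q_lift`, `word_sub_lift`, `q_eq_zero_of_code`, `actP_toPerm`,
`testBit_fixSet`, `mem_Rgrp_iff`.
-/
import Cfsg.Agent.Lib.J4Type.TwoTenEngine
import Cfsg.Agent.Lib.M24Sylow.Basic
import Cfsg.Agent.Lib.M24SylowTwo.Basic

set_option autoImplicit false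
open scoped Pointwise symmDiff
open Cfsg Cfsg.Agent.Golay
open Cfsg.Agent.M24Sylow hiding word

namespace Cfsg.Agent.J4Type.TwoTen

/-! ### Coordinates on the even words modulo the code -/

/-- The coordinates of an even word modulo the code. -/
def q (m : ℕ) : ℕ := ((m ^^^ enc (m % 4096)) >>> 12) % 2048

/-- Eleven even words with coordinates the powers of two. -/
def liftRows : List ℕ :=
  [0x801000, 0x802000, 0x804000, 0x808000, 0x810000, 0x820000, 0x840000, 0x880000, 0x900000,
    0xa00000, 0xc00000]

/-- The word with given coordinates. -/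
def lift (c : ℕ) : ℕ := encAux liftRows c

theorem q_xor (a b : ℕ) : q (a ^^^ b) = q a ^^^ q b := by
  have h1 : (a ^^^ b) % 4096 = a % 4096 ^^^ b % 4096 := by
    simpa using Nat.xor_mod_two_pow (n := 12) (a := a) (b := b)
  have h2 : ∀ x y : ℕ, (x ^^^ y) % 2048 = x % 2048 ^^^ y % 2048 := fun x y => by
    simpa using Nat.xor_mod_two_pow (n := 11) (a := x) (b := y)
  simp only [q, h1, enc_xor, ← h2, ← Nat.shiftRight_xor_distrib]
  congr 2
  ac_rfl

theorem q_lt (m : ℕ) : q m < 2048 := Nat.mod_lt _ (by norm_num)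

theorem q_zero : q 0 = 0 := by decide +kernel

theorem lift_xor (a b : ℕ) : lift (a ^^^ b) = lift a ^^^ lift b := encAux_xor _ _ _

theorem lift_lt (c : ℕ) : lift c < 2 ^ 24 :=
  encAux_lt _ 24 (by decide +kernel) c

theorem q_lift {c : ℕ} (hc : c < 2048) : q (lift c) = c := by
  have h : allBits (fun c => q (lift c) == c) 11 0 = true := by decide +kernel
  simpa using forall_lt_two_pow h (k := 11) hc

theorem q_eq_zero_of_code {m : ℕ} (h : isCode m = true) : q m = 0 := by
  have he : enc (m % 4096) = m := beq_iff_eq.mp h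
  simp [q, he]

theorem sum_word (m : ℕ) : ∑ p, word m p = (popcount m : ZMod 2) := by
  rw [← card_pts, pts, ← Finset.sum_boole]
  rfl

theorem word_sub_lift {m : ℕ} (hm : m < 2 ^ 24) (h : ∑ p, word m p = 0) :
    word m + word (lift (q m)) ∈ golayCode := by
  set h12 := (m ^^^ enc (m % 4096)) >>> 12 with hh
  have hlt : h12 < 4096 := by
    rw [hh, Nat.shiftRight_eq_div_pow]
    exact (Nat.div_lt_iff_lt_mul (by norm_num)).mpr (Nat.xor_lt_two_pow hm (enc_lt _))
  have hlow : (m ^^^ enc (m % 4096)) % 4096 = 0 := by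
    have := Nat.xor_mod_two_pow (n := 12) (a := m) (b := enc (m % 4096))
    norm_num at this
    rw [this, enc_mod (Nat.mod_lt _ (by norm_num)), Nat.xor_self]
  have hme : h12 <<< 12 = m ^^^ enc (m % 4096) := by
    rw [hh, Nat.shiftRight_eq_div_pow, Nat.shiftLeft_eq]
    exact Nat.div_mul_cancel (Nat.dvd_of_mod_eq_zero hlow)
  have hk : allBits (fun x => popcount (x <<< 12) % 2 == 1 || lift (x % 2048) == x <<< 12) 12 0
      = true := by decide +kernel
  have hx := forall_lt_two_pow hk (k := 12) hlt
  have hcode : word (enc (m % 4096)) ∈ golayCode :=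
    (word_mem_golayCode_iff (enc_lt _)).mpr (isCode_enc _)
  have heven : popcount (h12 <<< 12) % 2 ≠ 1 := by
    intro ho
    have hs : ∑ p, word (h12 <<< 12) p = 0 := by
      rw [hme, word_xor]
      simp only [Pi.add_apply, Finset.sum_add_distrib, h, zero_add]
      have h8 : ∀ r ∈ [m % 4096], popcount (enc r) % 2 = 0 := by
        intro r hr
        have hall : allBits (fun x => popcount (enc x) % 2 == 0) 12 0 = true := by decide +kernel
        rw [List.mem_singleton] at hr
        simpa using forall_lt_two_pow hall (k := 12) (hr ▸ Nat.mod_lt _ (by norm_num))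
      rw [sum_word, ZMod.natCast_eq_zero_iff_even]
      exact Nat.even_iff.mpr (h8 _ List.mem_cons_self)
    rw [sum_word, ZMod.natCast_eq_zero_iff_even, Nat.even_iff] at hs
    omega
  simp only [Bool.or_eq_true, beq_iff_eq, heven, false_or] at hx
  have hq : q m = h12 % 2048 := rfl
  rw [hq, hx, hme, word_xor, ← add_assoc, show word m + word m = 0 by
    funext p; exact CharTwo.add_self_eq_zero _, zero_add]
  exact hcode

/-- The action of a permutation on the coordinates. -/
def act (d c : ℕ) : ℕ := q (imgMask d (lift c))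

/-- The action of a permutation on the coordinates. -/
noncomputable def actP (σ : Equiv.Perm GolayPt) (c : ℕ) : ℕ := q (maskOf (σ • pts (lift c)))

theorem maskOf_smul_toPerm {d : ℕ} (hd : validPerm d = true) (m : ℕ) :
    maskOf (toPerm d • pts m) = imgMask d m := by
  rw [← pts_imgMask hd m, maskOf_pts]
  refine Nat.lt_pow_two_of_testBit _ fun i hi => ?_
  rw [Bool.eq_false_iff]
  intro h
  obtain ⟨k, hk, -, he⟩ := (testBit_imgAux d m i 24).mp h
  have := fn_lt_of_valid hd hk
  omega

theorem actP_toPerm {d : ℕ} (hd : validPerm d = true) (c : ℕ) : actP (toPerm d) c = act d c := by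
  rw [actP, maskOf_smul_toPerm hd, act]

theorem maskOf_smul_xor (σ : Equiv.Perm GolayPt) (a b : ℕ) :
    maskOf (σ • pts (a ^^^ b)) = maskOf (σ • pts a) ^^^ maskOf (σ • pts b) := by
  apply pts_injOn (maskOf_lt _) (Nat.xor_lt_two_pow (maskOf_lt _) (maskOf_lt _))
  rw [pts_maskOf, pts_xor, smul_symmDiff, pts_xor, pts_maskOf, pts_maskOf]

theorem actP_xor (σ : Equiv.Perm GolayPt) (a b : ℕ) :
    actP σ (a ^^^ b) = actP σ a ^^^ actP σ b := by
  rw [actP, lift_xor, maskOf_smul_xor, q_xor, actP, actP]

theorem act_xor {d : ℕ} (hd : validPerm d = true) (a b : ℕ) :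
    act d (a ^^^ b) = act d a ^^^ act d b := by
  simp only [← actP_toPerm hd]
  exact actP_xor _ a b

/-- The set of the coordinates fixed by a permutation. -/
def fixSet (d : ℕ) : ℕ :=
  (List.range 11).foldr (fun i acc => zs (fun c => act d c ^^^ c) i 11 &&& acc) (2 ^ 2048 - 1)

theorem testBit_fixSet {d c : ℕ} (hd : validPerm d = true) (hc : c < 2048) (h : act d c = c) :
    (fixSet d).testBit c = true := by
  have hlin : ∀ a b, (fun c => act d c ^^^ c) (a ^^^ b)
      = (fun c => act d c ^^^ c) a ^^^ (fun c => act d c ^^^ c) b := fun a b => by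
    simp only [act_xor hd]
    ac_rfl
  have key : ∀ l : List ℕ,
      (l.foldr (fun i acc => zs (fun c => act d c ^^^ c) i 11 &&& acc) (2 ^ 2048 - 1)).testBit c
        = true := by
    intro l
    induction l with
    | nil => simp [Nat.testBit_two_pow_sub_one, hc]
    | cons i l ih =>
      rw [List.foldr_cons, Nat.testBit_and, ih, testBit_zs hlin]
      simp [hc, h]
  exact key _

/-! ### The octad and its pointwise stabiliser -/

/-- The octad fixed by the Sylow subgroup `model`. -/
def oM : ℕ := 0x82402f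

/-- The octad. -/
noncomputable def oct : Finset GolayPt := pts oM

theorem oct_mem : oct ∈ octads := pts_mem_octads (by decide +kernel)

/-- The pointwise stabiliser of the octad. -/
noncomputable def Rgrp : Subgroup ↥M24 := Cfsg.Agent.M24SylowTwo.fixO oct

/-- The number in `model` of an element of `Rgrp`. -/
def rcode (h : ℕ) : ℕ := encAux [1, 16, 128, 512] h

/-- The numbers of the elements of `Rgrp`. -/
def rList : List ℕ :=
  [0, 1, 16, 17, 128, 129, 144, 145, 512, 513, 528, 529, 640, 641, 656, 657]

theorem rList_lt {a : ℕ} (h : a ∈ rList) : a < 1024 := by revert a; decide +kernel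

theorem elt_mem_Rgrp {a : ℕ} (h : a ∈ rList) : elt a ∈ Rgrp := by
  rw [Rgrp, Cfsg.Agent.M24SylowTwo.fixO, Subgroup.mem_subgroupOf, elt_val (rList_lt h),
    mem_octadFix]
  refine ⟨perm_mem (rList_lt h), fun p hp => idx_injective ?_⟩
  rw [idx_toPerm (perm_valid (rList_lt h))]
  have hk : ∀ a ∈ rList, ∀ i < 24, oM.testBit i = true → fn (perm a) i = i := by decide +kernel
  exact hk a h _ (idx_lt p) (mem_pts.mp hp)

theorem elt_injective {a b : ℕ} (ha : a < 1024) (hb : b < 1024) (h : elt a = elt b) : a = b :=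
  perm_injective ha hb (by rw [← elt_val ha, ← elt_val hb, h])

theorem mem_Rgrp_iff {x : ↥M24} : x ∈ Rgrp ↔ ∃ a ∈ rList, elt a = x := by
  classical
  constructor
  · intro hx
    let f : {a // a ∈ rList.toFinset} → ↥Rgrp :=
      fun a => ⟨elt a.1, elt_mem_Rgrp (List.mem_toFinset.mp a.2)⟩
    have hinj : Function.Injective f := fun a b h => Subtype.ext
      (elt_injective (rList_lt (List.mem_toFinset.mp a.2)) (rList_lt (List.mem_toFinset.mp b.2))
        (congrArg Subtype.val h))
    have hc : Nat.card {a // a ∈ rList.toFinset} = Nat.card ↥Rgrp := by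
      rw [Rgrp, Cfsg.Agent.M24SylowTwo.natCard_fixO oct_mem, Nat.card_eq_fintype_card,
        Fintype.card_coe]
      decide +kernel
    obtain ⟨a, ha⟩ := ((Nat.bijective_iff_injective_and_card f).mpr ⟨hinj, hc⟩).2 ⟨x, hx⟩
    exact ⟨a.1, List.mem_toFinset.mp a.2, congrArg Subtype.val ha⟩
  · rintro ⟨a, ha, rfl⟩
    exact elt_mem_Rgrp ha

/-! ### The classification -/

end Cfsg.Agent.J4Type.TwoTen
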