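/-
The exhaustive search behind the classification of the elementary abelian 2-subgroups of M24
with large fixed point sets on the cocode (owner: helper81; for S5570, S5571).
-/
import Cfsg.Agent.Lib.J4Type.TwoTenData

set_option autoImplicit false
open Cfsg Cfsg.Agent.Golay
open Cfsg.Agent.M24Sylow hiding word

namespace Cfsg.Agent.J4Type.TwoTen

/-- The involutions of `model`. -/
def invList : List ℕ := (List.range 1024).filter fun a => !(a == 0) && mulW a a == 0

/-- The test at the end of the search. -/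
def classFin (L : List ℕ) (s : ℕ) : Bool :=
  L.length == 1 || Nat.blt (L.length * 2 ^ tops s 11) 1024 ||
    (L.length == 16 && L.all fun a => rList.contains a)

theorem classSearch : search mulW (fun a b => mulW a b == mulW b a)
    (fun s a => s &&& fixSet (perm a)) classFin 8 [0] (2 ^ 2048 - 1) invList = true := by
  decide +kernel

theorem classify (B : Subgroup ↥M24) (hB : B ≤ model) (hcomm : ∀ a ∈ B, ∀ b ∈ B, a * b = b * a)
    (hsq : ∀ a ∈ B, a * a = 1) (C : Finset ℕ) (hClt : ∀ c ∈ C, c < 2048)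
    (hCx : ∀ a ∈ C, ∀ b ∈ C, a ^^^ b ∈ C)
    (hfix : ∀ b ∈ B, ∀ c ∈ C, actP (b : Equiv.Perm GolayPt) c = c)
    (hcard : 2 ^ 10 ≤ Nat.card ↥B * C.card) : B = ⊥ ∨ B = Rgrp := by
  classical
  set S : Set ℕ := {a | a < 1024 ∧ elt a ∈ B} with hS
  have h1 : elt 0 = 1 := Subtype.ext (by rw [elt_val (by norm_num), perm_zero]; rfl)
  obtain ⟨L, s, hfin, hinv, hnd, hL⟩ := search_sound (φ := elt) (B := S)
    (mul := mulW) (adj := fun a b => mulW a b == mulW b a)
    (step := fun s a => s &&& fixSet (perm a)) (fin := classFin)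
    (fun a ha b hb => ⟨mulW_lt ha.1 b, by rw [elt_mul ha.1 hb.1]; exact mul_mem ha.2 hb.2⟩)
    (fun a ha b hb => elt_mul ha.1 hb.1)
    (fun a ha b hb h => elt_injective ha.1 hb.1 h)
    (fun a ha b hb => hcomm _ ha.2 _ hb.2) (fun a ha => hsq _ ha.2)
    (fun a ha b hb => beq_iff_eq.mpr (elt_injective (mulW_lt ha.1 b) (mulW_lt hb.1 a)
      (by rw [elt_mul ha.1 hb.1, elt_mul hb.1 ha.1, hcomm _ ha.2 _ hb.2])))
    (fun s => ∀ c ∈ C, s.testBit c = true)
    (fun s a ha hs c hc => by
      have hf : act (perm a) c = c := by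
        rw [← actP_toPerm (perm_valid ha.1), ← elt_val ha.1]
        exact hfix _ ha.2 c hc
      rw [Nat.testBit_and, hs c hc, testBit_fixSet (perm_valid ha.1) (hClt c hc) hf]
      rfl)
    8 [0] (2 ^ 2048 - 1) invList classSearch
    (fun x hx => by
      rw [List.mem_singleton] at hx
      subst hx
      exact ⟨by norm_num, by rw [h1]; exact one_mem B⟩)
    (fun x hx y hy => by
      simp only [List.mem_singleton] at hx hy ⊢
      subst hx; subst hy
      decide +kernel)
    (List.nodup_singleton 0) List.mem_cons_self h1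
    (fun c hc => by simp [Nat.testBit_two_pow_sub_one, hClt c hc])
    (fun a ha => by
      by_cases h0 : a = 0
      · exact Or.inl (by simp [h0])
      · refine Or.inr (List.mem_filter.mpr ⟨List.mem_range.mpr ha.1, ?_⟩)
        have : mulW a a = 0 := elt_injective (mulW_lt ha.1 a) (by norm_num)
          (by rw [elt_mul ha.1 ha.1, h1, hsq _ ha.2])
        simp [h0, this])
  have hmem : ∀ x ∈ B, ∃ a ∈ L, elt a = x := by
    intro x hx
    obtain ⟨a, ha, hax⟩ := hB hx
    exact ⟨a, (hL a).mpr ⟨ha, hax ▸ hx⟩, hax⟩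
  have hBcard : Nat.card ↥B = L.length := by
    rw [← List.toFinset_card_of_nodup hnd, ← Fintype.card_coe, ← Nat.card_eq_fintype_card]
    symm
    refine Nat.card_eq_of_bijective
      (fun a => (⟨elt a.1, ((hL a.1).mp (List.mem_toFinset.mp a.2)).2⟩ : ↥B)) ⟨?_, ?_⟩
    · intro a b h
      exact Subtype.ext (elt_injective ((hL a.1).mp (List.mem_toFinset.mp a.2)).1
        ((hL b.1).mp (List.mem_toFinset.mp b.2)).1 (congrArg Subtype.val h))
    · rintro ⟨x, hx⟩
      obtain ⟨a, ha, hax⟩ := hmem x hx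
      exact ⟨⟨a, List.mem_toFinset.mpr ha⟩, Subtype.ext hax⟩
  have hC : C.card ≤ 2 ^ tops s 11 := by
    have := card_le_two_pow_tops C hCx hinv 11
    rwa [Finset.filter_true_of_mem fun c hc => (hClt c hc).trans_le (le_of_eq (by norm_num))]
      at this
  simp only [classFin, Bool.or_eq_true, beq_iff_eq, Nat.blt_eq, Bool.and_eq_true,
    List.all_eq_true, List.contains_iff_mem] at hfin
  rcases hfin with (h | h) | ⟨h16, hR⟩
  · exact Or.inl (Subgroup.card_eq_one.mp (hBcard.trans h))
  · exfalso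
    have := Nat.mul_le_mul_left L.length hC
    rw [hBcard] at hcard
    omega
  · refine Or.inr (Subgroup.eq_of_le_of_card_ge (fun x hx => ?_) ?_)
    · obtain ⟨a, ha, hax⟩ := hmem x hx
      exact mem_Rgrp_iff.mpr ⟨a, hR a ha, hax⟩
    · rw [Rgrp, Cfsg.Agent.M24SylowTwo.natCard_fixO oct_mem, hBcard, h16]

/-- Every 2-subgroup of `M24` is conjugate into `model`. -/
theorem exists_conj_le_model {B : Subgroup ↥M24} (hB : IsPGroup 2 ↥B) :
    ∃ g : ↥M24, ∀ b ∈ B, g * b * g⁻¹ ∈ model := by
  haveI : Fact (Nat.Prime 2) := ⟨Nat.prime_two⟩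
  obtain ⟨P, hP⟩ := hB.exists_le_sylow
  let Q : Sylow 2 ↥M24 := Sylow.ofCard model (by
    rw [natCard_model, natCard_M24]
    rw [show (244823040 : ℕ).factorization 2 = 10 from ?_]
    · norm_num
    · rw [Nat.factorization_def _ Nat.prime_two,
        show (244823040 : ℕ) = 2 ^ 10 * 239085 by norm_num,
        padicValNat.mul (by norm_num) (by norm_num), padicValNat.prime_pow,
        padicValNat.eq_zero_of_not_dvd (by norm_num)])
  obtain ⟨g, hg⟩ := MulAction.exists_smul_eq ↥M24 P Q
  refine ⟨g, fun b hb => ?_⟩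
  have : g * b * g⁻¹ ∈ ((g • P : Sylow 2 ↥M24) : Subgroup ↥M24) := by
    rw [Sylow.coe_subgroup_smul]
    exact ⟨b, hP hb, rfl⟩
  rw [hg] at this
  exact this

end Cfsg.Agent.J4Type.TwoTen
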