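/-
Groups of Janko-four type: the subgroup `A` of order 2 ^ 10 in `2^11 : M24`, its centraliser and
the classification of the self-centralising elementary abelian subgroups of order 2 ^ 10
(owner: helper81; for S5570, S5571).

Main results: `Ctx`, `A`, `card_A`, `centralizer_A`, `exists_conj_A`.
-/
import Cfsg.Agent.Lib.J4Type.TwoTenSearch
import Cfsg.Agent.Lib.J4Type.VModel

set_option autoImplicit false
set_option linter.unusedSectionVars false
set_option exponentiation.threshold 4096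
open scoped Pointwise
open Cfsg Cfsg.Agent.Golay Cfsg.Agent.J4Type
open Cfsg.Agent.M24Sylow hiding word

namespace Cfsg.Agent.J4Type.TwoTen

/-! ### Words -/

theorem sh_word_mask (σ : ↥M24) (m : ℕ) :
    sh σ (word m) = word (maskOf ((σ : Equiv.Perm GolayPt) • pts m)) := by
  refine eq_of_support₂_eq ?_
  rw [support₂_word, pts_maskOf]
  ext p
  rw [show (σ : Equiv.Perm GolayPt) • pts m = (pts m).image (σ : Equiv.Perm GolayPt) from rfl,
    Finset.mem_image]
  simp only [support₂, Finset.mem_filter, Finset.mem_univ, true_and, sh, word]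
  constructor
  · intro h
    refine ⟨(σ : Equiv.Perm GolayPt).symm p, mem_pts.mpr ?_, by simp⟩
    by_contra hb
    simp [hb] at h
  · rintro ⟨a, ha, rfl⟩
    simp [mem_pts.mp ha]

theorem ev_encAux : ∀ (l : List ℕ), (∀ r ∈ l, Ev (word r)) → ∀ x, Ev (word (encAux l x))
  | [], _, x => by simp [encAux, word_zero, Ev]
  | r :: l, h, x => by
    simp only [encAux, word_xor]
    refine ev_add ?_ (ev_encAux l (fun a ha => h a (List.mem_cons_of_mem _ ha)) _)
    split
    · exact h r List.mem_cons_self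
    · simp [word_zero, Ev]

theorem ev_of_popcount {m : ℕ} (h : popcount m % 2 = 0) : Ev (word m) := by
  rw [Ev, sum_word, ZMod.natCast_eq_zero_iff_even]
  exact Nat.even_iff.mpr h

theorem ev_lift (c : ℕ) : Ev (word (lift c)) :=
  ev_encAux _ (fun r hr => ev_of_popcount
    ((by decide +kernel : ∀ r ∈ liftRows, popcount r % 2 = 0) r hr)) c

theorem actP_lt (σ : Equiv.Perm GolayPt) (c : ℕ) : actP σ c < 2048 := q_lt _

theorem actP_elt {a : ℕ} (ha : a < 1024) (c : ℕ) :
    actP ((elt a : ↥M24) : Equiv.Perm GolayPt) c = act (M24Sylow.perm a) c := by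
  rw [elt_val ha, actP_toPerm (perm_valid ha)]

theorem pair_eq_word (p r : GolayPt) :
    GolayModule.pair p r = word (1 <<< idx p ^^^ 1 <<< idx r) := by
  have hs : ∀ a : GolayPt, word (1 <<< idx a) = Pi.single a 1 := fun a => by
    funext y
    simp only [word, Nat.one_shiftLeft, Nat.testBit_two_pow, decide_eq_true_eq, Pi.single_apply]
    by_cases h : y = a
    · simp [h]
    · rw [if_neg h, if_neg fun e => h (idx_injective e).symm]
  rw [word_xor, hs, hs]
  rfl

theorem pairMask_lt (p r : GolayPt) : 1 <<< idx p ^^^ 1 <<< idx r < 2 ^ 24 := by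
  refine Nat.xor_lt_two_pow ?_ ?_ <;> rw [Nat.one_shiftLeft] <;>
    exact Nat.pow_lt_pow_right (by norm_num) (idx_lt _)

/-! ### The numbers -/

/-- A basis of the coordinates fixed by the stabiliser of the octad: six tetrads. -/
def betaList : List ℕ := [658, 1445, 202, 908, 464, 2013]

/-- The elements fixed by the stabiliser of the octad. -/
def v6 (k : ℕ) : ℕ := encAux betaList k

/-- The set of the values of `v6`. -/
def v6Bits : ℕ :=
  4292102369845326114292905698106236013051536784714613050915322488516307175354798032172443854709133364775630733433275710739454285305614324801343546542499520645092884678260315789920756347300235507344900926406993707387006838492073755549192554116471126513013764343800067661201436737606133563176653394550204379730890072620982794462140810955247944116858233858135682539276516797106596523172096425159602226112559141118815807805638819845905711449523283314376105777711848373544021508808323198624818718512771069041542935241539729007055990804267947260309107384093836400586360255075473313058484296604452224797065005788344193384465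

/-- A duad meeting the octad in one point. -/
def e0 : ℕ := 1478

/-- The commutator of `e0` with an element of the pointwise stabiliser of the octad. -/
def uu (h : ℕ) : ℕ := act (M24Sylow.perm (rcode h)) e0 ^^^ e0

/-- The indices `k` for which `v6 k` is a duad. -/
def tList : List ℕ :=
  [12, 13, 14, 15, 18, 19, 22, 23, 26, 27, 28, 29, 33, 35, 37, 39, 41, 43, 44, 46, 49, 50, 53, 54,
    57, 58, 60, 63]

theorem rmul_check : ∀ a ∈ rList, ∀ b ∈ rList, mulW a b = a ^^^ b := by decide +kernel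

theorem rcode_check : (∀ h < 16, rcode h ∈ rList) ∧ ∀ a ∈ rList, ∃ h < 16, rcode h = a := by
  decide +kernel

theorem rcode_injOn : ∀ h < 16, ∀ h' < 16, rcode h = rcode h' → h = h' := by decide +kernel

theorem v6_injOn : ∀ x < 64, ∀ y < 64, v6 x = v6 y → x = y := by decide +kernel

theorem v6_lt : ∀ x < 64, v6 x < 2048 := by decide +kernel

theorem v6_mem : ∀ x < 64, v6Bits.testBit (v6 x) = true := by decide +kernel

theorem v6_fix : ∀ h < 16, ∀ x < 64, act (M24Sylow.perm (rcode h)) (v6 x) = v6 x := by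
  decide +kernel

theorem v6_surj {c : ℕ} (h : v6Bits.testBit c = true) : ∃ x < 64, v6 x = c := by
  by_cases hc : c < 2048
  · have hk : allBits (fun c => !v6Bits.testBit c || (List.range 64).any fun x => v6 x == c) 11 0
        = true := by decide +kernel
    have := forall_lt_two_pow hk (k := 11) hc
    simpa [h] using this
  · have : v6Bits < 2 ^ c := lt_of_lt_of_le (by decide +kernel : v6Bits < 2 ^ 2048)
      (Nat.pow_le_pow_right (by norm_num) (le_of_not_gt hc))
    rw [Nat.testBit_lt_two_pow this] at h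
    exact absurd h (by simp)

theorem fix_all {c : ℕ} (hc : c < 2048) (h : ∀ h' < 16, act (M24Sylow.perm (rcode h')) c = c) :
    v6Bits.testBit c = true := by
  have hk : (fixSet (M24Sylow.perm (rcode 1)) &&& fixSet (M24Sylow.perm (rcode 2)) &&&
      fixSet (M24Sylow.perm (rcode 4)) &&& fixSet (M24Sylow.perm (rcode 8))) = v6Bits := by
    decide +kernel
  rw [← hk]
  simp only [Nat.testBit_and, Bool.and_eq_true]
  refine ⟨⟨⟨?_, ?_⟩, ?_⟩, ?_⟩ <;>
    exact testBit_fixSet (perm_valid (rList_lt (rcode_check.1 _ (by norm_num)))) hc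
      (h _ (by norm_num))

theorem fix_one {c h : ℕ} (hc : c < 2048) (hh : h < 16) (h0 : h ≠ 0)
    (hf : act (M24Sylow.perm (rcode h)) c = c) :
    v6Bits.testBit c = true ∨ v6Bits.testBit (c ^^^ uu h) = true := by
  have hk : ((List.range 16).all fun h => h == 0 || allBits (fun c =>
      !(fixSet (M24Sylow.perm (rcode h))).testBit c || v6Bits.testBit c ||
        v6Bits.testBit (c ^^^ uu h)) 11 0) = true := by decide +kernel
  have h1 := List.all_eq_true.mp hk h (List.mem_range.mpr hh)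
  simp only [Bool.or_eq_true, beq_iff_eq, h0, false_or] at h1
  have h2 := forall_lt_two_pow h1 (k := 11) hc
  simp only [testBit_fixSet (perm_valid (rList_lt (rcode_check.1 _ hh))) hc hf, Bool.not_true,
    Bool.false_or, Bool.or_eq_true] at h2
  exact h2

theorem uu_facts : (∀ h < 16, h ≠ 0 → v6Bits.testBit (uu h) = false) ∧
    (∀ h < 16, ∀ h' < 16, v6Bits.testBit (uu (h ^^^ h') ^^^ uu h ^^^ uu h') = true) ∧
    ∀ h < 16, ∀ h' < 16, v6Bits.testBit (act (M24Sylow.perm (rcode h)) (uu h') ^^^ uu h') = true := by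
  decide +kernel

theorem v6Bits_xor {a b : ℕ} (ha : v6Bits.testBit a = true) (hb : v6Bits.testBit b = true) :
    v6Bits.testBit (a ^^^ b) = true := by
  obtain ⟨x, hx, rfl⟩ := v6_surj ha
  obtain ⟨y, hy, rfl⟩ := v6_surj hb
  rw [v6, v6, ← encAux_xor]
  exact v6_mem _ (Nat.xor_lt_two_pow (n := 6) hx hy)

theorem act_v6Bits {h c : ℕ} (hh : h < 16) (hc : v6Bits.testBit c = true) :
    act (M24Sylow.perm (rcode h)) c = c := by
  obtain ⟨x, hx, rfl⟩ := v6_surj hc
  exact v6_fix h hh x hx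

theorem duad_v6 : ∀ i < 24, ∀ j < 24, oM.testBit i = true → oM.testBit j = true →
    v6Bits.testBit (q (1 <<< i ^^^ 1 <<< j)) = true := by decide +kernel

theorem tList_check : ∀ x < 64, ((List.range 24).any fun i => (List.range 24).any fun j =>
    decide (i < j) && q (1 <<< i ^^^ 1 <<< j) == v6 x) = tList.contains x := by decide +kernel

/-! ### The group -/

/-- A conjugate of a self-centralising elementary subgroup of order 2 ^ 10 is one. -/
theorem conj_selfCent {G : Type*} [Group G] (g : G) {B : Subgroup G}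
    (hB : Cfsg.IsElementaryAbelian 2 B) (hcard : Nat.card ↥B = 2 ^ 10)
    (hself : Subgroup.centralizer (B : Set G) = B) :
    Cfsg.IsElementaryAbelian 2 (B.map (MulAut.conj g).toMonoidHom) ∧
      Nat.card ↥(B.map (MulAut.conj g).toMonoidHom) = 2 ^ 10 ∧
      Subgroup.centralizer (B.map (MulAut.conj g).toMonoidHom : Set G) =
        B.map (MulAut.conj g).toMonoidHom := by
  haveI := hB.1
  refine ⟨⟨⟨⟨?_⟩⟩, ?_⟩,
    by rw [Subgroup.card_map_of_injective (MulEquiv.injective _), hcard], ?_⟩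
  · rintro ⟨_, a, ha, rfl⟩ ⟨_, b, hb, rfl⟩
    refine Subtype.ext ?_
    show (MulAut.conj g).toMonoidHom a * (MulAut.conj g).toMonoidHom b = _ * _
    rw [← map_mul, ← map_mul,
      show a * b = b * a from congrArg Subtype.val (hB.1.is_comm.comm ⟨a, ha⟩ ⟨b, hb⟩)]
  · rintro _ ⟨a, ha, rfl⟩
    rw [← map_pow, hB.2 a ha, map_one]
  · ext x
    rw [Subgroup.mem_centralizer_iff, Subgroup.mem_map_equiv]
    conv_rhs => rw [← hself, Subgroup.mem_centralizer_iff]
    constructor
    · intro h b hb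
      have h1 := congrArg (MulAut.conj g).symm (h _ ⟨b, hb, rfl⟩)
      simpa only [map_mul, MulEquiv.coe_toMonoidHom, MulEquiv.symm_apply_apply] using h1
    · rintro h _ ⟨b, hb, rfl⟩
      have h1 := congrArg (MulAut.conj g) (h b hb)
      simpa only [map_mul, MulEquiv.coe_toMonoidHom, MulEquiv.apply_symm_apply] using h1

/-- Undoing a conjugation. -/
theorem conj_back {G : Type*} [Group G] {g n : G} {B A : Subgroup G}
    (h : B.map (MulAut.conj g).toMonoidHom = A.map (MulAut.conj n).toMonoidHom) :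
    B = A.map (MulAut.conj (g⁻¹ * n)).toMonoidHom := by
  apply Subgroup.map_injective (f := (MulAut.conj g).toMonoidHom) (MulAut.conj g).injective
  rw [h, Subgroup.map_map]
  congr 1
  ext x
  simp [mul_assoc]

/-- The setting: `2^11 : M24` and the facts on the involutions of the whole group. -/
structure Ctx (G : Type*) [Group G] [Finite G] where
  D : SplitData G
  M : VModel D
  z : G
  s_conj : IsConj z D.s
  t_not : ¬ IsConj z D.t
  t_cent : Subgroup.centralizer ({D.t} : Set G) ≤ Subgroup.normalizer (D.V : Set G)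
  unique : ∀ W : Subgroup G, Cfsg.IsElementaryAbelian 2 W → Nat.card ↥W = 2 ^ 11 →
    W ≤ Subgroup.normalizer (D.V : Set G) → W = D.V
  invol : ∀ a : G, orderOf a = 2 → IsConj z a ∨ IsConj D.t a
  sylow : ∀ P : Subgroup G, IsPGroup 2 ↥P →
    ∃ g : G, ∀ x ∈ P, g * x * g⁻¹ ∈ Subgroup.normalizer (D.V : Set G)

variable {G : Type*} [Group G] [Finite G] (C : Ctx G)

namespace Ctx

local notation "NV" => Subgroup.normalizer (C.D.V : Set G)

/-- The element of `V` with given coordinates. -/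
def vv (c : ℕ) : G := C.M.phi (word (lift c))

theorem vv_mem (c : ℕ) : C.vv c ∈ C.D.V := C.M.mem _

theorem vv_xor (a b : ℕ) : C.vv (a ^^^ b) = C.vv a * C.vv b := by
  rw [vv, lift_xor, word_xor, C.M.map_add]; rfl

theorem vv_zero : C.vv 0 = 1 := by
  have h := C.vv_xor 0 0
  rw [Nat.xor_self] at h
  simpa using h

theorem vv_sq (c : ℕ) : C.vv c * C.vv c = 1 := C.D.sq_one (C.vv_mem c)

theorem phi_word {m : ℕ} (hm : m < 2 ^ 24) (he : Ev (word m)) :
    C.M.phi (word m) = C.vv (q m) := by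
  have h := (C.M.ker _ (ev_add he (ev_lift (q m)))).2 (word_sub_lift hm he)
  rw [C.M.map_add, mul_eq_one_iff_eq_inv, C.D.inv_eq (C.M.mem _)] at h
  exact h

theorem vv_inj {a b : ℕ} (ha : a < 2048) (hb : b < 2048) (h : C.vv a = C.vv b) : a = b := by
  have h1 : C.vv (a ^^^ b) = 1 := by rw [C.vv_xor, h, C.vv_sq]
  have h2 := (C.M.ker _ (ev_lift _)).1 h1
  rw [word_mem_golayCode_iff (lift_lt _)] at h2
  have h3 := q_eq_zero_of_code h2
  rw [q_lift (Nat.xor_lt_two_pow (n := 11) ha hb)] at h3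
  exact Nat.xor_eq_zero_iff.mp h3

theorem vv_surj {v : G} (hv : v ∈ C.D.V) : ∃ c < 2048, C.vv c = v := by
  obtain ⟨w, hw, rfl⟩ := C.M.surj v hv
  refine ⟨q (maskOf (support₂ w)), q_lt _, ?_⟩
  have h := word_maskOf_support₂ w
  conv_rhs => rw [← h]
  rw [C.phi_word (maskOf_lt _) (h.symm ▸ hw)]

theorem conj_vv (σ : ↥M24) (c : ℕ) :
    C.D.el σ * C.vv c * (C.D.el σ)⁻¹ = C.vv (actP (σ : Equiv.Perm GolayPt) c) := by
  rw [vv, C.M.equiv σ _ (ev_lift c), sh_word_mask]
  refine C.phi_word (maskOf_lt _) ?_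
  rw [← sh_word_mask, Ev, sum_sh]
  exact ev_lift c

theorem el_vv (σ : ↥M24) (c : ℕ) :
    C.D.el σ * C.vv c = C.vv (actP (σ : Equiv.Perm GolayPt) c) * C.D.el σ := by
  rw [← C.conj_vv]; group

theorem el_one : C.D.el 1 = 1 := by simp [SplitData.el]

theorem el_eq_one {σ : ↥M24} (h : C.D.el σ ∈ C.D.V) : σ = 1 := by
  have h' : C.D.el σ ∈ C.D.K ⊓ C.D.V := ⟨C.D.el_mem σ, h⟩
  rw [C.D.inf, Subgroup.mem_bot] at h'
  simpa [SplitData.el] using h'

theorem el_inj {σ τ : ↥M24} (h : C.D.el σ = C.D.el τ) : σ = τ := by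
  refine (mul_inv_eq_one.mp (C.el_eq_one ?_))
  rw [C.D.el_mul, C.D.el_inv, h, mul_inv_cancel]
  exact one_mem _

theorem exists_code {n : G} (hn : n ∈ NV) : ∃ c < 2048, ∃ σ : ↥M24, n = C.vv c * C.D.el σ := by
  obtain ⟨v, hv, k, rfl⟩ := C.D.exists_mul hn
  obtain ⟨c, hc, rfl⟩ := C.vv_surj hv
  exact ⟨c, hc, C.D.e k, by simp [SplitData.el]⟩

theorem code_mem (c : ℕ) (σ : ↥M24) : C.vv c * C.D.el σ ∈ NV :=
  mul_mem (Subgroup.le_normalizer (C.vv_mem c)) (C.D.el_norm σ)

theorem code_inj {a b : ℕ} {σ τ : ↥M24} (ha : a < 2048) (hb : b < 2048)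
    (h : C.vv a * C.D.el σ = C.vv b * C.D.el τ) : a = b ∧ σ = τ := by
  have h1 : C.D.el (σ * τ⁻¹) = (C.vv a)⁻¹ * C.vv b := by
    rw [C.D.el_mul, C.D.el_inv, show C.vv b = C.vv a * C.D.el σ * (C.D.el τ)⁻¹ by rw [h]; group]
    group
  have h2 := mul_inv_eq_one.mp
    (C.el_eq_one (h1 ▸ mul_mem (inv_mem (C.vv_mem a)) (C.vv_mem b)))
  subst h2
  exact ⟨C.vv_inj ha hb (mul_right_cancel h), rfl⟩

theorem code_mul (a b : ℕ) (σ τ : ↥M24) :
    C.vv a * C.D.el σ * (C.vv b * C.D.el τ) =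
      C.vv (a ^^^ actP (σ : Equiv.Perm GolayPt) b) * C.D.el (σ * τ) := by
  rw [C.vv_xor, C.D.el_mul, ← C.conj_vv]; group

/-- The projection of the normaliser of `V` onto `M24`. -/
noncomputable def proj : ↥NV →* ↥M24 :=
  MonoidHom.mk' (fun n => (C.exists_code n.2).choose_spec.2.choose) fun n m => by
    have hn := (C.exists_code n.2).choose_spec
    have hm := (C.exists_code m.2).choose_spec
    have hnm := (C.exists_code (n * m).2).choose_spec
    have h := (congrArg₂ (· * ·) hn.2.choose_spec hm.2.choose_spec).symm.trans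
      ((Subgroup.coe_mul _ _ _).symm.trans hnm.2.choose_spec)
    simp only [C.code_mul] at h
    exact (C.code_inj (Nat.xor_lt_two_pow (n := 11) hn.1 (actP_lt _ _)) hnm.1 h).2.symm

theorem proj_code {n : G} (hn : n ∈ NV) {a : ℕ} {σ : ↥M24} (ha : a < 2048)
    (h : n = C.vv a * C.D.el σ) : C.proj ⟨n, hn⟩ = σ :=
  (C.code_inj (C.exists_code hn).choose_spec.1 ha
    ((C.exists_code hn).choose_spec.2.choose_spec.symm.trans h)).2

/-! ### The subgroup `A` -/

/-- The element of the pointwise stabiliser of the octad with a given number. -/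
noncomputable def rr (h : ℕ) : G := C.D.el (elt (rcode h))

theorem elt_rcode_xor {h h' : ℕ} (hh : h < 16) (hh' : h' < 16) :
    elt (rcode (h ^^^ h')) = elt (rcode h) * elt (rcode h') := by
  rw [← elt_mul (rList_lt (rcode_check.1 _ hh)) (rList_lt (rcode_check.1 _ hh')),
    rmul_check _ (rcode_check.1 _ hh) _ (rcode_check.1 _ hh')]
  exact congrArg elt (encAux_xor _ _ _)

theorem rr_xor {h h' : ℕ} (hh : h < 16) (hh' : h' < 16) :
    C.rr (h ^^^ h') = C.rr h * C.rr h' := by
  rw [rr, elt_rcode_xor hh hh', C.D.el_mul]; rfl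

theorem rr_vv {h : ℕ} (hh : h < 16) (c : ℕ) :
    C.rr h * C.vv c = C.vv (act (M24Sylow.perm (rcode h)) c) * C.rr h := by
  rw [rr, C.el_vv, actP_elt (rList_lt (rcode_check.1 _ hh))]

theorem rr_comm {h : ℕ} (hh : h < 16) {c : ℕ} (hc : v6Bits.testBit c = true) :
    C.rr h * C.vv c = C.vv c * C.rr h := by
  rw [C.rr_vv hh, act_v6Bits hh hc]

/-- The element of `A` with given coordinates. -/
noncomputable def al (x : ℕ) : G := C.vv (v6 (x % 64)) * C.rr (x / 64)

theorem al_xor {x y : ℕ} (hx : x < 1024) (hy : y < 1024) :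
    C.al (x ^^^ y) = C.al x * C.al y := by
  have hm : (x ^^^ y) % 64 = x % 64 ^^^ y % 64 := by
    simpa using Nat.xor_mod_two_pow (n := 6) (a := x) (b := y)
  have hd : (x ^^^ y) / 64 = x / 64 ^^^ y / 64 := by
    simpa [Nat.shiftRight_eq_div_pow] using
      (Nat.shiftRight_xor_distrib (a := x) (b := y) (i := 6))
  have h6 : x % 64 < 64 ∧ y % 64 < 64 ∧ x / 64 < 16 ∧ y / 64 < 16 := by omega
  simp only [al, hm, hd, show v6 (x % 64 ^^^ y % 64) = v6 (x % 64) ^^^ v6 (y % 64) from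
    encAux_xor _ _ _, C.rr_xor h6.2.2.1 h6.2.2.2, C.vv_xor]
  rw [mul_assoc (C.vv (v6 (x % 64))) (C.rr (x / 64)),
    ← mul_assoc (C.rr (x / 64)) (C.vv (v6 (y % 64))),
    C.rr_comm h6.2.2.1 (v6_mem _ h6.2.1)]
  simp only [mul_assoc]

theorem rr_zero : C.rr 0 = 1 := by
  have h := C.rr_xor (h := 0) (h' := 0) (by norm_num) (by norm_num)
  rw [Nat.xor_self] at h
  simpa using h

theorem al_zero : C.al 0 = 1 := by
  simp [al, v6, encAux_zero, C.vv_zero, C.rr_zero]

theorem al_sq {x : ℕ} (hx : x < 1024) : C.al x * C.al x = 1 := by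
  rw [← C.al_xor hx hx, Nat.xor_self, C.al_zero]

theorem al_inj {x y : ℕ} (hx : x < 1024) (hy : y < 1024) (h : C.al x = C.al y) : x = y := by
  obtain ⟨h1, h2⟩ := C.code_inj (v6_lt _ (by omega)) (v6_lt _ (by omega)) h
  have h3 := v6_injOn _ (by omega) _ (by omega) h1
  have h4 := rcode_injOn _ (by omega) _ (by omega)
    (elt_injective (rList_lt (rcode_check.1 _ (by omega))) (rList_lt (rcode_check.1 _ (by omega))) h2)
  omega

theorem al_low {x : ℕ} (hx : x < 64) : C.al x = C.vv (v6 x) := by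
  rw [al, Nat.mod_eq_of_lt hx, Nat.div_eq_of_lt hx, C.rr_zero, mul_one]

/-- The subgroup `A`. -/
noncomputable def A : Subgroup G where
  carrier := {a | ∃ x < 1024, C.al x = a}
  one_mem' := ⟨0, by norm_num, C.al_zero⟩
  mul_mem' := by
    rintro _ _ ⟨x, hx, rfl⟩ ⟨y, hy, rfl⟩
    exact ⟨x ^^^ y, Nat.xor_lt_two_pow (n := 10) hx hy, C.al_xor hx hy⟩
  inv_mem' := by
    rintro _ ⟨x, hx, rfl⟩
    exact ⟨x, hx, (inv_eq_of_mul_eq_one_left (C.al_sq hx)).symm⟩

theorem mem_A {a : G} : a ∈ C.A ↔ ∃ x < 1024, C.al x = a := Iff.rfl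

theorem al_mem {x : ℕ} (hx : x < 1024) : C.al x ∈ C.A := ⟨x, hx, rfl⟩

theorem card_A : Nat.card ↥C.A = 1024 := by
  rw [← Nat.card_eq_of_bijective (fun x : Fin 1024 => (⟨C.al x, C.al_mem x.2⟩ : ↥C.A)) ⟨?_, ?_⟩,
    Nat.card_fin]
  · exact fun x y h => Fin.ext (C.al_inj x.2 y.2 (congrArg Subtype.val h))
  · rintro ⟨_, x, hx, rfl⟩
    exact ⟨⟨x, hx⟩, rfl⟩

theorem A_comm {a b : G} (ha : a ∈ C.A) (hb : b ∈ C.A) : a * b = b * a := by
  obtain ⟨x, hx, rfl⟩ := ha
  obtain ⟨y, hy, rfl⟩ := hb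
  rw [← C.al_xor hx hy, ← C.al_xor hy hx, Nat.xor_comm]

theorem elem_A : Cfsg.IsElementaryAbelian 2 C.A := by
  refine ⟨⟨⟨fun a b => Subtype.ext (C.A_comm a.2 b.2)⟩⟩, fun a ha => ?_⟩
  obtain ⟨x, hx, rfl⟩ := ha
  rw [pow_two, C.al_sq hx]

theorem A_le : C.A ≤ NV := by
  rintro _ ⟨x, -, rfl⟩
  exact C.code_mem _ _

/-- A duad is in the orbit of `t`. -/
theorem duad_conj {c : ℕ} {i j : ℕ} (hi : i < 24) (hj : j < 24) (hij : i < j)
    (h : q (1 <<< i ^^^ 1 <<< j) = c) : ∃ σ, C.D.el σ * C.D.t * (C.D.el σ)⁻¹ = C.vv c := by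
  have hne : pt i ≠ pt j := fun e => by
    have := congrArg idx e
    rw [idx_pt hi, idx_pt hj] at this
    omega
  obtain ⟨σ, hσ⟩ := C.M.duad _ _ hne
  refine ⟨σ, hσ.trans ?_⟩
  rw [pair_eq_word, C.phi_word (pairMask_lt _ _) (pair_eq_word _ _ ▸ ev_pair _ _), idx_pt hi,
    idx_pt hj, h]

theorem al_t {x : ℕ} (h : x ∈ tList) : ∃ σ, C.D.el σ * C.D.t * (C.D.el σ)⁻¹ = C.al x := by
  have hx : x < 64 := (by decide +kernel : ∀ x ∈ tList, x < 64) x h
  have hk := tList_check x hx
  rw [List.contains_iff_mem.mpr h] at hk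
  simp only [List.any_eq_true, List.mem_range, Bool.and_eq_true, decide_eq_true_eq,
    beq_iff_eq] at hk
  obtain ⟨i, hi, j, hj, hij, he⟩ := hk
  rw [C.al_low hx]
  exact C.duad_conj hi hj hij he

theorem al_s {x : ℕ} (hx : x < 64) (hx0 : x ≠ 0) (h : x ∉ tList) :
    ∃ σ, C.D.el σ * C.D.s * (C.D.el σ)⁻¹ = C.al x := by
  rcases C.D.eq_one_or (v := C.al x) (by rw [C.al_low hx]; exact C.vv_mem _) with h1 | h1 | h1
  · exact absurd (C.al_inj (by omega) (by norm_num) (h1.trans C.al_zero.symm)) hx0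
  · exfalso
    obtain ⟨σ, hσ⟩ := h1
    obtain ⟨a, b, hab, he⟩ := C.M.duad_all σ
    rw [hσ, C.al_low hx] at he
    have hk := tList_check x hx
    rw [Bool.eq_false_iff.mpr (fun hc => h (List.contains_iff_mem.mp hc))] at hk
    simp only [List.any_eq_false, List.mem_range, Bool.and_eq_true, decide_eq_true_eq,
      beq_iff_eq, not_and, Bool.not_eq_true] at hk
    have key : ∀ p r : GolayPt, idx p < idx r →
        C.M.phi (GolayModule.pair p r) ≠ C.vv (v6 x) := by
      intro p r hpr e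
      rw [pair_eq_word, C.phi_word (pairMask_lt _ _) (pair_eq_word _ _ ▸ ev_pair _ _)] at e
      have := C.vv_inj (q_lt _) (v6_lt _ hx) e
      exact hk _ (idx_lt p) _ (idx_lt r) hpr this
    rcases Nat.lt_or_ge (idx a) (idx b) with hlt | hle
    · exact key a b hlt he
    · refine key b a (lt_of_le_of_ne hle fun e => hab (idx_injective e.symm)) ?_
      rw [show GolayModule.pair b a = GolayModule.pair a b from add_comm _ _]
      exact he
  · exact h1

include C in
/-- A duad fixed by conjugation is a duad fixed setwise. -/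
theorem pts_fixed {σ : ↥M24} {m : ℕ} (hm : m < 2 ^ 24) (hm2 : popcount m = 2)
    (h : actP (σ : Equiv.Perm GolayPt) (q m) = q m) :
    (σ : Equiv.Perm GolayPt) • pts m = pts m := by
  set m' := maskOf ((σ : Equiv.Perm GolayPt) • pts m) with hm'
  have he : Ev (word m) := ev_of_popcount (by rw [hm2])
  have he' : Ev (word m') := by rw [hm', ← sh_word_mask, Ev, sum_sh]; exact he
  have hsum : actP (σ : Equiv.Perm GolayPt) (q m) = q m' := by
    have h1 : C.D.el σ * C.vv (q m) * (C.D.el σ)⁻¹ = C.M.phi (word m') := by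
      rw [← C.phi_word hm he, C.M.equiv σ _ he, sh_word_mask]
    rw [C.conj_vv, C.phi_word (maskOf_lt _) he'] at h1
    exact C.vv_inj (actP_lt _ _) (q_lt _) h1
  have hc : word m + word m' ∈ golayCode := by
    have h1 := word_sub_lift hm he
    have h2 := word_sub_lift (maskOf_lt _) he'
    rw [show q m' = q m from hsum.symm.trans h] at h2
    have := Submodule.add_mem _ h1 h2
    rwa [add_add_add_comm, GolayModule.add_self_word, add_zero] at this
  rw [← word_xor, word_mem_golayCode_iff (Nat.xor_lt_two_pow hm (maskOf_lt _))] at hc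
  have hw := weights ((word_mem_golayCode_iff (Nat.xor_lt_two_pow hm (maskOf_lt _))).mpr hc)
  simp only [← card_support₂, support₂_word, pts_xor] at hw
  have hle : (symmDiff (pts m) (pts m')).card ≤ 4 := by
    refine (Finset.card_le_card (t := pts m ∪ pts m') fun p hp => ?_).trans
      ((Finset.card_union_le _ _).trans ?_)
    · rw [Finset.mem_symmDiff] at hp
      rcases hp with ⟨hp, -⟩ | ⟨hp, -⟩
      · exact Finset.mem_union_left _ hp
      · exact Finset.mem_union_right _ hp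
    · rw [hm', pts_maskOf, Finset.card_smul_finset, card_pts, hm2]
  have h0 : (symmDiff (pts m) (pts m')).card = 0 := by rw [hm'] at hle ⊢; omega
  rw [Finset.card_eq_zero, ← Finset.bot_eq_empty, symmDiff_eq_bot] at h0
  exact (pts_maskOf _).symm.trans h0.symm

include C in
/-- An element of `M24` fixing all of `A ⊓ V` fixes the octad pointwise. -/
theorem mem_Rgrp_of_fix {σ : ↥M24} (h : ∀ x < 64, actP (σ : Equiv.Perm GolayPt) (v6 x) = v6 x) :
    σ ∈ Rgrp := by
  rw [Rgrp, Cfsg.Agent.M24SylowTwo.fixO, Subgroup.mem_subgroupOf, mem_octadFix]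
  refine ⟨σ.2, fun p hp => ?_⟩
  have hpair : ∀ r ∈ oct, r ≠ p → (σ : Equiv.Perm GolayPt) p = p ∨
      (σ : Equiv.Perm GolayPt) p = r := by
    intro r hr hrp
    have hij := duad_v6 _ (idx_lt p) _ (idx_lt r) (mem_pts.mp hp) (mem_pts.mp hr)
    obtain ⟨x, hx, he⟩ := v6_surj hij
    set m := 1 <<< idx p ^^^ 1 <<< idx r with hm
    have hlt : m < 2 ^ 24 := by
      refine Nat.xor_lt_two_pow ?_ ?_ <;> rw [Nat.one_shiftLeft] <;>
        exact Nat.pow_lt_pow_right (by norm_num) (idx_lt _)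
    have hpts : pts m = {p, r} := by
      rw [hm, pts_xor]
      have hs : ∀ a : GolayPt, pts (1 <<< idx a) = {a} := fun a => by
        ext y
        rw [mem_pts, Nat.one_shiftLeft, Nat.testBit_two_pow, Finset.mem_singleton,
          decide_eq_true_eq]
        exact ⟨fun e => (idx_injective e).symm, fun e => by rw [e]⟩
      rw [hs, hs]
      ext y
      simp only [Finset.mem_symmDiff, Finset.mem_singleton, Finset.mem_insert]
      constructor
      · rintro (⟨h1, -⟩ | ⟨h1, -⟩) <;> tauto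
      · rintro (rfl | rfl)
        · exact Or.inl ⟨rfl, fun e => hrp e.symm⟩
        · exact Or.inr ⟨rfl, hrp⟩
    have hm2 : popcount m = 2 := by
      rw [← card_pts, hpts, Finset.card_pair (Ne.symm hrp)]
    have hfix := C.pts_fixed hlt hm2 (he ▸ h x hx)
    have : (σ : Equiv.Perm GolayPt) p ∈ pts m := by
      rw [← hfix, hpts]
      exact Finset.smul_mem_smul_finset (Finset.mem_insert_self _ _)
    rw [hpts, Finset.mem_insert, Finset.mem_singleton] at this
    exact this
  obtain ⟨r, hr, hrp, r', hr', hrp', hrr⟩ : ∃ r ∈ oct, r ≠ p ∧ ∃ r' ∈ oct, r' ≠ p ∧ r ≠ r' := by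
    have h3 : 1 < (oct.erase p).card := by
      rw [Finset.card_erase_of_mem hp, show oct.card = 8 from oct_mem.2]; norm_num
    obtain ⟨r, hr, r', hr', hne⟩ := Finset.one_lt_card.mp h3
    rw [Finset.mem_erase] at hr hr'
    exact ⟨r, hr.2, hr.1, r', hr'.2, hr'.1, hne⟩
  rcases hpair r hr hrp with h1 | h1
  · exact h1
  · rcases hpair r' hr' hrp' with h2 | h2
    · exact h2
    · exact absurd (h1.symm.trans h2) hrr

/-- The element of `A ⊓ V` centralising which puts one in the normaliser of `V`. -/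
theorem centralizer_t0 : Subgroup.centralizer ({C.al 12} : Set G) ≤ NV := by
  obtain ⟨σ, hσ⟩ := C.al_t (x := 12) (by decide)
  intro g hg
  rw [Subgroup.mem_centralizer_singleton_iff, ← hσ] at hg
  have h1 : (C.D.el σ)⁻¹ * g * C.D.el σ ∈ NV := by
    refine C.t_cent ?_
    rw [Subgroup.mem_centralizer_singleton_iff]
    calc (C.D.el σ)⁻¹ * g * C.D.el σ * C.D.t
        = (C.D.el σ)⁻¹ * (g * (C.D.el σ * C.D.t * (C.D.el σ)⁻¹)) * C.D.el σ := by group
      _ = _ := by rw [hg]; group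
  have := mul_mem (mul_mem (C.D.el_norm σ) h1) (inv_mem (C.D.el_norm σ))
  simpa [mul_assoc] using this

theorem centralizer_A : Subgroup.centralizer (C.A : Set G) = C.A := by
  refine le_antisymm (fun g hg => ?_) fun a ha => Subgroup.mem_centralizer_iff.mpr
    fun b hb => C.A_comm hb ha
  rw [Subgroup.mem_centralizer_iff] at hg
  have hgN : g ∈ NV := C.centralizer_t0 (by
    rw [Subgroup.mem_centralizer_singleton_iff]
    exact (hg _ (C.al_mem (by norm_num))).symm)
  obtain ⟨c, hc, σ, rfl⟩ := C.exists_code hgN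
  have hσ : σ ∈ Rgrp := by
    refine C.mem_Rgrp_of_fix fun x hx => ?_
    have h1 := hg _ (C.al_mem (x := x) (by omega))
    rw [C.al_low hx, ← mul_assoc, ← C.vv_xor] at h1
    rw [mul_assoc, C.el_vv, ← mul_assoc, ← C.vv_xor] at h1
    have h2 := (C.code_inj (Nat.xor_lt_two_pow (n := 11) (v6_lt x hx) hc)
      (Nat.xor_lt_two_pow (n := 11) hc (actP_lt _ _)) h1).1
    rw [Nat.xor_comm] at h2
    exact (Nat.xor_right_injective h2).symm
  obtain ⟨a, ha, rfl⟩ := mem_Rgrp_iff.mp hσ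
  obtain ⟨h, hh, rfl⟩ := rcode_check.2 a ha
  have hb : v6Bits.testBit c = true := by
    refine fix_all hc fun h' hh' => ?_
    have h1 := hg _ (C.al_mem (x := h' * 64) (by omega))
    rw [al, Nat.mul_mod_left, Nat.mul_div_cancel h' (by norm_num : 0 < 64), v6, encAux_zero,
      C.vv_zero, one_mul] at h1
    change C.rr h' * (C.vv c * C.rr h) = C.vv c * C.rr h * C.rr h' at h1
    rw [← mul_assoc, C.rr_vv hh', mul_assoc, mul_assoc, ← C.rr_xor hh' hh, ← C.rr_xor hh hh',
      Nat.xor_comm h h'] at h1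
    exact C.vv_inj (q_lt _) hc (mul_right_cancel h1)
  obtain ⟨x, hx, rfl⟩ := v6_surj hb
  refine ⟨h * 64 + x, by omega, ?_⟩
  show C.vv (v6 ((h * 64 + x) % 64)) * C.rr ((h * 64 + x) / 64) = _
  rw [show (h * 64 + x) % 64 = x by omega, show (h * 64 + x) / 64 = h by omega]
  rfl

/-! ### The classification -/

/-- A self-centralising elementary abelian subgroup of order 2 ^ 10 of the model image is `A` or
its conjugate by `vv e0`. -/
theorem exists_conj_A_of_le {B : Subgroup G} (hB : Cfsg.IsElementaryAbelian 2 B)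
    (hcard : Nat.card ↥B = 2 ^ 10) (hself : Subgroup.centralizer (B : Set G) = B)
    (hN : B ≤ NV) (hmod : ∀ b : ↥B, C.proj ⟨b, hN b.2⟩ ∈ model) :
    ∃ n ∈ NV, B = C.A.map (MulAut.conj n).toMonoidHom := by
  classical
  haveI := hB.1
  have hBc : ∀ a ∈ B, ∀ b ∈ B, a * b = b * a := fun a ha b hb =>
    congrArg Subtype.val (hB.1.is_comm.comm ⟨a, ha⟩ ⟨b, hb⟩)
  have hBs : ∀ a ∈ B, a * a = 1 := fun a ha => by rw [← pow_two]; exact hB.2 a ha
  let f : ↥B →* ↥M24 := C.proj.comp (Subgroup.inclusion hN)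
  set Cs : Finset ℕ := (Finset.range 2048).filter fun c => C.vv c ∈ B with hCs
  have hmemCs : ∀ {c}, c ∈ Cs ↔ c < 2048 ∧ C.vv c ∈ B := by simp [hCs]
  have hker : Nat.card ↥f.ker = Cs.card := by
    rw [← Fintype.card_coe Cs, ← Nat.card_eq_fintype_card]
    symm
    refine Nat.card_eq_of_bijective (fun c => (⟨⟨C.vv c.1, (hmemCs.mp c.2).2⟩,
      MonoidHom.mem_ker.mpr (C.proj_code (hN (hmemCs.mp c.2).2) (σ := 1) (hmemCs.mp c.2).1
        (by rw [C.el_one, mul_one]))⟩ : ↥f.ker)) ⟨?_, ?_⟩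
    · intro a b h
      exact Subtype.ext (C.vv_inj (hmemCs.mp a.2).1 (hmemCs.mp b.2).1
        (congrArg (fun x : ↥f.ker => ((x : ↥B) : G)) h))
    · rintro ⟨⟨b, hb⟩, hk⟩
      obtain ⟨c, hc, σ, hbe⟩ := C.exists_code (hN hb)
      have : σ = 1 := (C.proj_code (hN hb) hc hbe).symm.trans (MonoidHom.mem_ker.mp hk)
      subst this
      rw [C.el_one, mul_one] at hbe
      exact ⟨⟨c, hmemCs.mpr ⟨hc, hbe ▸ hb⟩⟩, Subtype.ext (Subtype.ext hbe.symm)⟩
  have hmul : 2 ^ 10 = Nat.card ↥f.range * Cs.card := by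
    rw [← hker, ← hcard, ← Subgroup.index_ker, Subgroup.index_mul_card]
  have hfixc : ∀ σ ∈ f.range, ∀ c ∈ Cs, actP (σ : Equiv.Perm GolayPt) c = c := by
    rintro _ ⟨⟨b, hb⟩, rfl⟩ c hc
    obtain ⟨d, hd, σ, hbe⟩ := C.exists_code (hN hb)
    rw [show f ⟨b, hb⟩ = σ from C.proj_code (hN hb) hd hbe]
    have h1 := hBc b hb _ (hmemCs.mp hc).2
    rw [hbe, mul_assoc, C.el_vv, ← mul_assoc, ← C.vv_xor, ← mul_assoc, ← C.vv_xor] at h1
    have h2 := (C.code_inj (Nat.xor_lt_two_pow (n := 11) hd (actP_lt _ _))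
      (Nat.xor_lt_two_pow (n := 11) (hmemCs.mp hc).1 hd) h1).1
    rw [Nat.xor_comm c] at h2
    exact Nat.xor_right_injective h2
  have hrange := classify f.range (by rintro _ ⟨b, rfl⟩; exact hmod b)
    (by rintro _ ⟨a, rfl⟩ _ ⟨b, rfl⟩; rw [← map_mul, ← map_mul]
        exact congrArg f (Subtype.ext (hBc a a.2 b b.2)))
    (by rintro _ ⟨a, rfl⟩; rw [← map_mul, show a * a = 1 from Subtype.ext (hBs a a.2), map_one])
    Cs (fun c hc => (hmemCs.mp hc).1)
    (fun a ha b hb => hmemCs.mpr ⟨Nat.xor_lt_two_pow (n := 11) (hmemCs.mp ha).1 (hmemCs.mp hb).1,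
      by rw [C.vv_xor]; exact mul_mem (hmemCs.mp ha).2 (hmemCs.mp hb).2⟩)
    hfixc hmul.le
  rcases hrange with h | h
  · exfalso
    have hle : B ≤ C.D.V := by
      intro b hb
      obtain ⟨c, hc, σ, hbe⟩ := C.exists_code (hN hb)
      have h1 : f ⟨b, hb⟩ ∈ f.range := ⟨_, rfl⟩
      rw [h, Subgroup.mem_bot, show f ⟨b, hb⟩ = σ from C.proj_code (hN hb) hc hbe] at h1
      rw [hbe, h1, C.el_one, mul_one]
      exact C.vv_mem c
    have hVle : C.D.V ≤ B := hself ▸ fun v hv => Subgroup.mem_centralizer_iff.mpr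
      fun b hb => C.D.comm (hle hb) hv
    have hle2 := Subgroup.card_le_of_le hVle
    rw [C.D.card, hcard] at hle2
    norm_num at hle2
  -- the kernel is `A ⊓ V`
  have hCs : ∀ c, c ∈ Cs → v6Bits.testBit c = true := fun c hc => fix_all (hmemCs.mp hc).1
    fun h' hh' => by
      rw [← actP_elt (rList_lt (rcode_check.1 _ hh'))]
      exact hfixc _ (h ▸ elt_mem_Rgrp (rcode_check.1 _ hh')) c hc
  have hcardCs : Cs.card = 64 := by
    rw [h, Rgrp, Cfsg.Agent.M24SylowTwo.natCard_fixO oct_mem] at hmul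
    omega
  have hV6 : ∀ x < 64, C.vv (v6 x) ∈ B := by
    have hsub : Cs ⊆ (Finset.range 64).image v6 := fun c hc => by
      obtain ⟨x, hx, rfl⟩ := v6_surj (hCs c hc)
      exact Finset.mem_image_of_mem _ (Finset.mem_range.mpr hx)
    have heq := Finset.eq_of_subset_of_card_le hsub
      (Finset.card_image_le.trans (by rw [Finset.card_range, hcardCs]))
    intro x hx
    have : v6 x ∈ Cs := heq ▸ Finset.mem_image_of_mem _ (Finset.mem_range.mpr hx)
    exact (hmemCs.mp this).2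
  have hV6' : ∀ {c}, v6Bits.testBit c = true → C.vv c ∈ B := fun {c} hc => by
    obtain ⟨x, hx, rfl⟩ := v6_surj hc
    exact hV6 x hx
  -- the lifts
  have hlift : ∀ k < 16, ∃ c < 2048, C.vv c * C.rr k ∈ B := by
    intro k hk
    have : elt (rcode k) ∈ f.range := h ▸ elt_mem_Rgrp (rcode_check.1 _ hk)
    obtain ⟨⟨b, hb⟩, hbk⟩ := this
    obtain ⟨c, hc, σ, hbe⟩ := C.exists_code (hN hb)
    rw [show f ⟨b, hb⟩ = σ from C.proj_code (hN hb) hc hbe] at hbk
    exact ⟨c, hc, by rw [rr, ← hbk, ← hbe]; exact hb⟩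
  choose cc hcc hccB using hlift
  have hsplit : ∀ {k} (hk : k < 16), k ≠ 0 →
      v6Bits.testBit (cc k hk) = true ∨ v6Bits.testBit (cc k hk ^^^ uu k) = true := by
    intro k hk hk0
    refine fix_one (hcc k hk) hk hk0 ?_
    have h1 := hBs _ (hccB k hk)
    rw [mul_assoc, ← mul_assoc (C.rr k), C.rr_vv hk, mul_assoc, ← C.rr_xor hk hk,
      Nat.xor_self, C.rr_zero, mul_one, ← C.vv_xor, ← C.vv_zero] at h1
    exact (Nat.xor_eq_zero_iff.mp (C.vv_inj (Nat.xor_lt_two_pow (n := 11) (hcc k hk) (q_lt _))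
      (by norm_num) h1)).symm
  have hprod : ∀ {k l} (hk : k < 16) (hl : l < 16) (hkl : k ^^^ l < 16), v6Bits.testBit
      (cc (k ^^^ l) hkl ^^^ (cc k hk ^^^ act (M24Sylow.perm (rcode k)) (cc l hl))) = true := by
    intro k l hk hl hkl
    refine hCs _ (hmemCs.mpr ⟨Nat.xor_lt_two_pow (n := 11) (hcc _ hkl)
      (Nat.xor_lt_two_pow (n := 11) (hcc k hk) (q_lt _)), ?_⟩)
    have h1 := mul_mem (hccB (k ^^^ l) hkl) (inv_mem (mul_mem (hccB k hk) (hccB l hl)))
    rw [show C.vv (cc k hk) * C.rr k * (C.vv (cc l hl) * C.rr l) =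
        C.vv (cc k hk ^^^ act (M24Sylow.perm (rcode k)) (cc l hl)) * C.rr (k ^^^ l) by
      rw [C.vv_xor, C.rr_xor hk hl, mul_assoc, ← mul_assoc (C.rr k), C.rr_vv hk]
      simp only [mul_assoc]] at h1
    rw [mul_inv_rev, mul_assoc, mul_inv_cancel_left, C.D.inv_eq (C.vv_mem _), ← C.vv_xor] at h1
    exact h1
  have hconst : (∀ k (hk : k < 16), v6Bits.testBit (cc k hk) = true) ∨
      ∀ k (hk : k < 16), v6Bits.testBit (cc k hk ^^^ uu k) = true := by
    have h00 : ∀ (hk : 0 < 16), v6Bits.testBit (cc 0 hk) = true := fun hk => by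
      have h1 := hccB 0 hk
      rw [C.rr_zero, mul_one] at h1
      exact hCs _ (hmemCs.mpr ⟨hcc 0 hk, h1⟩)
    have huu0 : v6Bits.testBit (uu 0) = true := by decide +kernel
    by_cases hall : ∀ k (hk : k < 16), v6Bits.testBit (cc k hk) = true
    · exact Or.inl hall
    push Not at hall
    obtain ⟨a, ha, hca⟩ := hall
    have ha0 : a ≠ 0 := fun e => by subst e; exact hca (h00 ha)
    have hau := (hsplit ha ha0).resolve_left hca
    refine Or.inr fun b hb => ?_
    by_cases hb0 : b = 0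
    · subst hb0; exact v6Bits_xor (h00 hb) huu0
    rcases hsplit hb hb0 with hcb | hcb
    swap
    · exact hcb
    exfalso
    have hab : a ^^^ b < 16 := Nat.xor_lt_two_pow (n := 4) ha hb
    have hne : a ^^^ b ≠ 0 := fun e => by
      obtain rfl := Nat.xor_eq_zero_iff.mp e
      exact hca hcb
    have h1 := hprod ha hb hab
    rw [act_v6Bits ha hcb] at h1
    have h2 : v6Bits.testBit (cc (a ^^^ b) hab ^^^ uu a) = true := by
      have := v6Bits_xor (v6Bits_xor h1 hau) hcb
      rwa [show cc (a ^^^ b) hab ^^^ (cc a ha ^^^ cc b hb) ^^^ (cc a ha ^^^ uu a) ^^^ cc b hb =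
        cc (a ^^^ b) hab ^^^ uu a ^^^ (cc a ha ^^^ cc a ha) ^^^ (cc b hb ^^^ cc b hb) by ac_rfl,
        Nat.xor_self, Nat.xor_self, Nat.xor_zero, Nat.xor_zero] at this
    rcases hsplit hab hne with h3 | h3
    · have := v6Bits_xor h2 h3
      rw [show cc (a ^^^ b) hab ^^^ uu a ^^^ cc (a ^^^ b) hab =
        uu a ^^^ (cc (a ^^^ b) hab ^^^ cc (a ^^^ b) hab) by ac_rfl, Nat.xor_self, Nat.xor_zero,
        uu_facts.1 a ha ha0] at this
      exact absurd this (by simp)
    · have := v6Bits_xor (v6Bits_xor h2 h3) (uu_facts.2.1 a ha b hb)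
      rw [show cc (a ^^^ b) hab ^^^ uu a ^^^ (cc (a ^^^ b) hab ^^^ uu (a ^^^ b)) ^^^
          (uu (a ^^^ b) ^^^ uu a ^^^ uu b) = uu b ^^^ (cc (a ^^^ b) hab ^^^ cc (a ^^^ b) hab) ^^^
          (uu a ^^^ uu a) ^^^ (uu (a ^^^ b) ^^^ uu (a ^^^ b)) by ac_rfl,
        Nat.xor_self, Nat.xor_self, Nat.xor_self, Nat.xor_zero, Nat.xor_zero, Nat.xor_zero,
        uu_facts.1 b hb hb0] at this
      exact absurd this (by simp)
  have hsize : Nat.card ↥B ≤ Nat.card ↥C.A := by rw [C.card_A, hcard]; norm_num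
  rcases hconst with hc | hc
  · refine ⟨1, one_mem _, (Subgroup.eq_of_le_of_card_ge (fun a ha => ?_) ?_).symm⟩
    · obtain ⟨_, ⟨x, hx, rfl⟩, rfl⟩ := ha
      have hk : x / 64 < 16 := by omega
      have h2 : C.rr (x / 64) ∈ B := by
        have := mul_mem (hV6' (hc _ hk)) (hccB _ hk)
        rwa [← mul_assoc, C.vv_sq, one_mul] at this
      simpa [al] using mul_mem (hV6 _ (Nat.mod_lt x (by norm_num))) h2
    · rw [Subgroup.card_map_of_injective (MulEquiv.injective _)]
      exact hsize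
  · refine ⟨C.vv e0, Subgroup.le_normalizer (C.vv_mem e0),
      (Subgroup.eq_of_le_of_card_ge (fun a ha => ?_) ?_).symm⟩
    · obtain ⟨_, ⟨x, hx, rfl⟩, rfl⟩ := ha
      have hk : x / 64 < 16 := by omega
      have h2 : C.vv (uu (x / 64)) * C.rr (x / 64) ∈ B := by
        have := mul_mem (hV6' (hc _ hk)) (hccB _ hk)
        rwa [← mul_assoc, ← C.vv_xor, Nat.xor_comm (cc _ hk), Nat.xor_assoc, Nat.xor_self,
          Nat.xor_zero] at this
      have h3 := mul_mem (hV6 _ (Nat.mod_lt x (by norm_num))) h2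
      show C.vv e0 * (C.vv (v6 (x % 64)) * C.rr (x / 64)) * (C.vv e0)⁻¹ ∈ B
      rw [C.D.inv_eq (C.vv_mem e0), mul_assoc, mul_assoc (C.vv (v6 _)), C.rr_vv hk, ← mul_assoc,
        ← mul_assoc, ← C.vv_xor, ← C.vv_xor]
      rw [← mul_assoc, ← C.vv_xor] at h3
      rw [show e0 ^^^ v6 (x % 64) ^^^ act (M24Sylow.perm (rcode (x / 64))) e0 =
        v6 (x % 64) ^^^ (act (M24Sylow.perm (rcode (x / 64))) e0 ^^^ e0) by
          rw [Nat.xor_comm e0, Nat.xor_assoc, Nat.xor_comm e0]]
      exact h3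
    · rw [Subgroup.card_map_of_injective (MulEquiv.injective _)]
      exact hsize

/-- **Every self-centralising elementary abelian subgroup of order 2 ^ 10 is conjugate to `A`.** -/
theorem exists_conj_A {B : Subgroup G} (hB : Cfsg.IsElementaryAbelian 2 B)
    (hcard : Nat.card ↥B = 2 ^ 10) (hself : Subgroup.centralizer (B : Set G) = B) :
    ∃ g : G, B = C.A.map (MulAut.conj g).toMonoidHom ∧
      (B ≤ NV → g ∈ NV) := by
  have hp : IsPGroup 2 ↥B := IsPGroup.of_card (n := 10) hcard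
  have key : ∀ {B' : Subgroup G}, Cfsg.IsElementaryAbelian 2 B' → Nat.card ↥B' = 2 ^ 10 →
      Subgroup.centralizer (B' : Set G) = B' → B' ≤ NV →
      ∃ n ∈ NV, B' = C.A.map (MulAut.conj n).toMonoidHom := by
    intro B' hB' hc' hs' hN
    let f : ↥B' →* ↥M24 := C.proj.comp (Subgroup.inclusion hN)
    obtain ⟨g, hg⟩ := exists_conj_le_model (B := f.range)
      ((IsPGroup.of_card (n := 10) hc').of_surjective f.rangeRestrict
        f.rangeRestrict_surjective)
    set B'' := B'.map (MulAut.conj (C.D.el g)).toMonoidHom with hB''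
    have hN'' : B'' ≤ NV := by
      rintro _ ⟨b, hb, rfl⟩
      exact mul_mem (mul_mem (C.D.el_norm g) (hN hb)) (inv_mem (C.D.el_norm g))
    have hproj : ∀ b : ↥B'', C.proj ⟨b, hN'' b.2⟩ ∈ model := by
      rintro ⟨_, b, hb, rfl⟩
      have e : (⟨(MulAut.conj (C.D.el g)).toMonoidHom b, hN'' ⟨b, hb, rfl⟩⟩ : ↥NV) =
          ⟨C.D.el g, C.D.el_norm g⟩ * ⟨b, hN hb⟩ * ⟨C.D.el g, C.D.el_norm g⟩⁻¹ :=
        Subtype.ext rfl
      show C.proj _ ∈ model
      rw [e, map_mul, map_mul, map_inv, C.proj_code (C.D.el_norm g) (a := 0) (σ := g) (by norm_num)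
        (by rw [C.vv_zero, one_mul])]
      exact hg _ ⟨⟨b, hb⟩, rfl⟩
    obtain ⟨h1, h2, h3⟩ := conj_selfCent (C.D.el g) hB' hc' hs'
    obtain ⟨n, hn, he⟩ := C.exists_conj_A_of_le h1 h2 h3 hN'' hproj
    exact ⟨(C.D.el g)⁻¹ * n, mul_mem (inv_mem (C.D.el_norm g)) hn, conj_back he⟩
  by_cases hN : B ≤ NV
  · obtain ⟨n, hn, he⟩ := key hB hcard hself hN
    exact ⟨n, he, fun _ => hn⟩
  · obtain ⟨g, hg⟩ := C.sylow B hp
    set B' := B.map (MulAut.conj g).toMonoidHom with hB'
    obtain ⟨hB1, hB2, hB3⟩ := conj_selfCent g hB hcard hself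
    obtain ⟨n, hn, he⟩ := key hB1 hB2 hB3 (by rintro _ ⟨b, hb, rfl⟩; exact hg b hb)
    exact ⟨g⁻¹ * n, conj_back he, fun h => absurd h hN⟩

end Ctx

end Cfsg.Agent.J4Type.TwoTen
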