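/-
Groups of Janko-four type: the normaliser of the subgroup `A` of order 2 ^ 10 has two orbits of
lengths 155 and 868 on it and is irreducible (owner: helper81; for S5570, S5571).

Main results: `conj_t_mem_NV`, `Ctx.SylowCent`, `exists_member`, `class_values`,
`index_NAV`, `orbit_z`, `orbit_t`, `irreducible`.
-/
import Cfsg.Agent.Lib.J4Type.TwoTenModel
import Cfsg.Agent.Lib.J4Type.TwoTenOrbitData

set_option autoImplicit false
set_option linter.unusedSectionVars false
set_option exponentiation.threshold 4096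
open scoped Pointwise
open Cfsg Cfsg.Agent.Golay Cfsg.Agent.J4Type
open Cfsg.Agent.M24Sylow hiding word

namespace Cfsg.Agent.J4Type.TwoTen

/-- The powers of two below 1024. -/
def pows : List ℕ := [1, 2, 4, 8, 16, 32, 64, 128, 256, 512]

theorem encAux_pows {x : ℕ} (hx : x < 1024) : encAux pows x = x := by
  have h : allBits (fun x => encAux pows x == x) 10 0 = true := by decide +kernel
  simpa using forall_lt_two_pow h (k := 10) hx

/-- The image of `x` under the `k`th generator. -/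
def gImg (k x : ℕ) : ℕ := encAux (genImgs.getD k []) x

/-- The set reached along a path. -/
def walk : List ℕ → ℕ → Option ℕ
  | [], seen => some seen
  | s :: rest, seen => bif seen.testBit (s / 8) && Nat.blt (s % 8) 6
      then walk rest (seen ||| 1 <<< gImg (s % 8) (s / 8)) else none

theorem walk_sound {P : ℕ → Prop} (hP : ∀ k < 6, ∀ x, P x → P (gImg k x)) :
    ∀ (l : List ℕ) (seen out : ℕ), walk l seen = some out →
      (∀ x, seen.testBit x = true → P x) → ∀ x, out.testBit x = true → P x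
  | [], seen, out, h, hs, x, hx => by
    simp only [walk, Option.some.injEq] at h
    exact hs x (h ▸ hx)
  | s :: rest, seen, out, h, hs, x, hx => by
    cases hb : seen.testBit (s / 8) && Nat.blt (s % 8) 6
    · simp [walk, hb] at h
    · simp only [walk, hb, cond_true] at h
      simp only [Bool.and_eq_true, Nat.blt_eq] at hb
      refine walk_sound hP rest _ out h (fun y hy => ?_) x hx
      rw [Nat.testBit_or, Bool.or_eq_true, Nat.one_shiftLeft, Nat.testBit_two_pow,
        decide_eq_true_eq] at hy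
      rcases hy with hy | rfl
      · exact hs y hy
      · exact hP _ hb.2 _ (hs _ hb.1)

theorem walk_Z0 : walk stepsZ0 (2 ^ 1) = some setZ0 := by decide +kernel
theorem walk_T0 : walk stepsT0 (2 ^ 12) = some setT0 := by decide +kernel
theorem walk_Z1 : walk stepsZ1 (2 ^ 64) = some setZ1 := by decide +kernel
theorem walk_T1 : walk stepsT1 (2 ^ 72) = some setT1 := by decide +kernel

theorem set_cover : ∀ x < 1024, x ≠ 0 → setZ0.testBit x = true ∨ setT0.testBit x = true ∨
    setZ1.testBit x = true ∨ setT1.testBit x = true := by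
  have h : allBits (fun x => x == 0 || setZ0.testBit x || setT0.testBit x || setZ1.testBit x ||
      setT1.testBit x) 10 0 = true := by decide +kernel
  intro x hx h0
  have := forall_lt_two_pow h (k := 10) hx
  simpa [h0, or_assoc] using this

theorem set_T0 : ∀ x < 1024, setT0.testBit x = true ↔ x ∈ tList := by
  have h : allBits (fun x => setT0.testBit x == tList.contains x) 10 0 = true := by decide +kernel
  intro x hx
  have := forall_lt_two_pow h (k := 10) hx
  rw [beq_iff_eq] at this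
  rw [this, List.contains_iff_mem]

theorem set_Z0_low : ∀ x < 64, x ≠ 0 → x ∉ tList → setZ0.testBit x = true := by decide +kernel

/-- The coordinates of the members of `A` in the class of `z`. -/
def zSet : ℕ := setZ0 ||| setZ1

/-- The coordinates of the members of `A` in the class of `t`. -/
def tSet : ℕ := setT0 ||| setT1

theorem set_lt : setZ0 ||| setT0 ||| setZ1 ||| setT1 < 2 ^ 1024 := by decide +kernel

/-- The numbers in a set. -/
def elems (m : ℕ) : Finset ℕ := (Finset.range 1024).filter fun x => m.testBit x = true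

theorem card_sets : (elems setT0).card = 28 ∧ (elems zSet).card = 155 ∧
    (elems tSet).card = 868 ∧ (elems (setT0 ||| setZ1)).card = 148 ∧
    (elems (setT0 ||| setZ1 ||| setT1)).card = 988 := by decide +kernel

theorem span_check : encAux [1, 2, 4, 8, 16, 32, 64, 128, 256, 512] 1023 = 1023 ∧
    (∀ i < 10, (zSet.testBit (2 ^ i)) = true) ∧
    (∀ i < 10, ∃ a ∈ List.range 1024, ∃ b ∈ [0, 12, 13, 14, 15, 18, 19, 22, 23, 26, 27, 28, 29, 72],
      tSet.testBit a = true ∧ (b = 0 ∨ tSet.testBit b = true) ∧ a ^^^ b = 2 ^ i) := by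
  decide +kernel

variable {G : Type*} [Group G] [Finite G] (C : Ctx G)

namespace Ctx

local notation "NV" => Subgroup.normalizer (C.D.V : Set G)
local notation "NA" => Subgroup.normalizer (C.A : Set G)

/-! ### Normalising `A` -/

theorem conj_encAux (n : G) : ∀ (l l' : List ℕ),
    List.Forall₂ (fun a b => a < 1024 ∧ b < 1024 ∧ n * C.al a * n⁻¹ = C.al b) l l' →
    ∀ x, encAux l x < 1024 ∧ encAux l' x < 1024 ∧
      n * C.al (encAux l x) * n⁻¹ = C.al (encAux l' x)
  | _, _, .nil, x => by simp [encAux, C.al_zero]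
  | a :: l, b :: l', .cons h hl, x => by
    obtain ⟨i1, i2, i3⟩ := conj_encAux n l l' hl (x / 2)
    by_cases hx : x % 2 = 1
    · simp only [encAux, hx, if_true]
      refine ⟨Nat.xor_lt_two_pow (n := 10) h.1 i1, Nat.xor_lt_two_pow (n := 10) h.2.1 i2, ?_⟩
      rw [C.al_xor h.1 i1, C.al_xor h.2.1 i2, ← h.2.2, ← i3]
      group
    · simp only [encAux, hx, if_false, Nat.zero_xor]
      exact ⟨i1, i2, i3⟩

theorem mem_NA_of_maps {n : G} (h : ∀ a ∈ C.A, n * a * n⁻¹ ∈ C.A) : n ∈ NA := by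
  have hle : C.A.map (MulAut.conj n).toMonoidHom ≤ C.A := by
    rintro _ ⟨a, ha, rfl⟩
    exact h a ha
  have heq := Subgroup.eq_of_le_of_card_ge hle
    (le_of_eq (Subgroup.card_map_of_injective (MulEquiv.injective _)).symm)
  refine Subgroup.mem_normalizer_iff.mpr fun a => ⟨h a, fun ha => ?_⟩
  rw [← heq] at ha
  obtain ⟨b, hb, hba⟩ := ha
  simp only [MulEquiv.coe_toMonoidHom, MulAut.conj_apply, mul_right_inj, mul_left_inj] at hba
  exact hba ▸ hb

theorem NA_conj {n : G} (hn : n ∈ NA) {a : G} (ha : a ∈ C.A) : n * a * n⁻¹ ∈ C.A :=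
  (Subgroup.mem_normalizer_iff.mp hn a).mp ha

/-- The conjugation by `vv c * el σ` on `A`, in coordinates. -/
theorem conj_al {c : ℕ} {σ : ↥M24} {x y : ℕ} (hx : x < 1024) (hy : y < 1024)
    (hperm : σ * elt (rcode (x / 64)) = elt (rcode (y / 64)) * σ)
    (hword : c ^^^ actP (σ : Equiv.Perm GolayPt) (v6 (x % 64)) =
      v6 (y % 64) ^^^ act (M24Sylow.perm (rcode (y / 64))) c) :
    C.vv c * C.D.el σ * C.al x * (C.vv c * C.D.el σ)⁻¹ = C.al y := by
  rw [mul_inv_eq_iff_eq_mul]
  show C.vv c * C.D.el σ * (C.vv (v6 (x % 64)) * C.D.el (elt (rcode (x / 64)))) =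
    C.vv (v6 (y % 64)) * C.D.el (elt (rcode (y / 64))) * (C.vv c * C.D.el σ)
  rw [C.code_mul, C.code_mul, hword, hperm,
    actP_elt (rList_lt (rcode_check.1 _ (by omega)))]

/-- The check on one generator and one basis element. -/
def genOK (k i : ℕ) : Bool :=
  let c := (gens.getD k (0, 0)).1
  let d := (gens.getD k (0, 0)).2
  let x := 2 ^ i
  let y := (genImgs.getD k []).getD i 0
  Nat.blt y 1024 &&
    ((List.range 24).all fun p => fn d (fn (M24Sylow.perm (rcode (x / 64))) p) ==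
      fn (M24Sylow.perm (rcode (y / 64))) (fn d p)) &&
    (c ^^^ act d (v6 (x % 64)) == v6 (y % 64) ^^^ act (M24Sylow.perm (rcode (y / 64))) c)

theorem gen_check : ((List.range 6).all fun k => isAut (gens.getD k (0, 0)).2 &&
    Nat.blt (gens.getD k (0, 0)).1 2048 && (genImgs.getD k []).length == 10 &&
    (List.range 10).all fun i => genOK k i) = true := by decide +kernel

/-- The generators lie in `N(A) ⊓ N(V)` and act as listed. -/
theorem exists_gen {k : ℕ} (hk : k < 6) : ∃ n ∈ NA ⊓ NV, ∀ x < 1024,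
    gImg k x < 1024 ∧ n * C.al x * n⁻¹ = C.al (gImg k x) := by
  have h := List.all_eq_true.mp gen_check k (List.mem_range.mpr hk)
  simp only [Bool.and_eq_true, beq_iff_eq, List.all_eq_true, List.mem_range, Nat.blt_eq] at h
  obtain ⟨⟨⟨haut, hc⟩, hlen⟩, hok⟩ := h
  set c := (gens.getD k (0, 0)).1
  set d := (gens.getD k (0, 0)).2
  let σ : ↥M24 := ⟨toPerm d, toPerm_mem_M24 haut⟩
  have hbase : ∀ i < 10, (genImgs.getD k []).getD i 0 < 1024 ∧
      C.vv c * C.D.el σ * C.al (2 ^ i) * (C.vv c * C.D.el σ)⁻¹ =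
        C.al ((genImgs.getD k []).getD i 0) := by
    intro i hi
    have h := hok i hi
    simp only [genOK, Bool.and_eq_true, beq_iff_eq, List.all_eq_true, List.mem_range,
      Nat.blt_eq] at h
    obtain ⟨⟨hy, hp⟩, hw⟩ := h
    have hx : 2 ^ i < 1024 := Nat.pow_lt_pow_right (by norm_num) hi |>.trans_le (by norm_num)
    refine ⟨hy, C.conj_al hx hy ?_ ?_⟩
    · refine Subtype.ext (Equiv.ext fun p => idx_injective ?_)
      have hlx := rList_lt (rcode_check.1 _ (show 2 ^ i / 64 < 16 by omega))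
      have hly := rList_lt (rcode_check.1 _
        (show (genImgs.getD k []).getD i 0 / 64 < 16 by omega))
      rw [Subgroup.coe_mul, Subgroup.coe_mul, elt_val hlx, elt_val hly, Equiv.Perm.mul_apply,
        Equiv.Perm.mul_apply, idx_toPerm (validPerm_of_isAut haut), idx_toPerm (perm_valid hlx),
        idx_toPerm (perm_valid hly), idx_toPerm (validPerm_of_isAut haut)]
      exact hp _ (idx_lt p)
    · rw [actP_toPerm (validPerm_of_isAut haut)]
      exact hw
  have hF : List.Forall₂ (fun a b => a < 1024 ∧ b < 1024 ∧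
      C.vv c * C.D.el σ * C.al a * (C.vv c * C.D.el σ)⁻¹ = C.al b) pows (genImgs.getD k []) := by
    refine List.forall₂_iff_get.mpr ⟨by rw [hlen]; rfl, fun i hi hi' => ?_⟩
    have hi10 : i < 10 := hi
    have hp : pows.get ⟨i, hi⟩ = 2 ^ i := by
      rw [List.get_eq_getElem]
      exact (by decide : ∀ j : Fin 10, pows[j.val]'j.2 = 2 ^ j.val) ⟨i, hi10⟩
    obtain ⟨h1, h2⟩ := hbase i hi10
    rw [hp, List.get_eq_getElem, ← List.getD_eq_getElem _ 0 hi']
    exact ⟨Nat.pow_lt_pow_right (by norm_num) hi10 |>.trans_le (by norm_num), h1, h2⟩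
  have hmap : ∀ x < 1024, gImg k x < 1024 ∧
      C.vv c * C.D.el σ * C.al x * (C.vv c * C.D.el σ)⁻¹ = C.al (gImg k x) := by
    intro x hx
    obtain ⟨-, h1, h2⟩ := C.conj_encAux _ _ _ hF x
    rw [encAux_pows hx] at h2
    exact ⟨h1, h2⟩
  refine ⟨_, ⟨C.mem_NA_of_maps ?_, C.code_mem c σ⟩, hmap⟩
  rintro _ ⟨x, hx, rfl⟩
  exact ⟨_, (hmap x hx).1, (hmap x hx).2.symm⟩

/-- Each of the four sets lies in one orbit of `N(A) ⊓ N(V)`. -/
theorem orbit_of_walk {r : ℕ} (hr : r < 1024) {steps : List ℕ} {S : ℕ}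
    (h : walk steps (2 ^ r) = some S) {x : ℕ} (hx : S.testBit x = true) :
    x < 1024 ∧ ∃ n ∈ NA ⊓ NV, n * C.al r * n⁻¹ = C.al x := by
  refine walk_sound (P := fun y => y < 1024 ∧ ∃ n ∈ NA ⊓ NV, n * C.al r * n⁻¹ = C.al y)
    (fun k hk y hy => ?_) steps _ S h (fun y hy => ?_) x hx
  · obtain ⟨hy, n, hn, he⟩ := hy
    obtain ⟨m, hm, hmap⟩ := C.exists_gen hk
    refine ⟨(hmap y hy).1, m * n, mul_mem hm hn, ?_⟩
    rw [← (hmap y hy).2, ← he]
    group
  · rw [Nat.testBit_two_pow, decide_eq_true_eq] at hy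
    subst hy
    exact ⟨hr, 1, one_mem _, by group⟩

/-! ### The two classes -/

theorem not_both {a : G} (hz : IsConj C.z a) : ¬ IsConj C.D.t a :=
  fun ht => C.t_not (hz.trans ht.symm)

theorem t_centralizer {v : G} (hv : v ∈ C.D.V) (ht : IsConj C.D.t v) :
    Subgroup.centralizer ({v} : Set G) ≤ NV := by
  rcases C.D.eq_one_or hv with h | ⟨σ, hσ⟩ | ⟨σ, hσ⟩
  · exact absurd (isConj_one_left.mp (h ▸ ht)) C.D.t_ne_one
  · intro g hg
    rw [Subgroup.mem_centralizer_singleton_iff, ← hσ] at hg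
    have h1 : (C.D.el σ)⁻¹ * g * C.D.el σ ∈ NV := by
      refine C.t_cent ?_
      rw [Subgroup.mem_centralizer_singleton_iff]
      calc (C.D.el σ)⁻¹ * g * C.D.el σ * C.D.t
          = (C.D.el σ)⁻¹ * (g * (C.D.el σ * C.D.t * (C.D.el σ)⁻¹)) * C.D.el σ := by group
        _ = _ := by rw [hg]; group
    have := mul_mem (mul_mem (C.D.el_norm σ) h1) (inv_mem (C.D.el_norm σ))
    simpa [mul_assoc] using this
  · refine absurd ht (C.not_both ?_)
    exact C.s_conj.trans (hσ ▸ isConj_iff.mpr ⟨_, rfl⟩)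

/-- An element carrying one member of the class of `t` in `V` to another normalises `V`. -/
theorem conj_t_mem_NV {g v w : G} (hv : v ∈ C.D.V) (hw : w ∈ C.D.V) (hwt : IsConj C.D.t w)
    (h : g * v * g⁻¹ = w) : g ∈ NV := by
  set W := C.D.V.map (MulAut.conj g).toMonoidHom with hW
  have hWel : Cfsg.IsElementaryAbelian 2 W := by
    refine ⟨⟨⟨fun a b => ?_⟩⟩, ?_⟩
    · obtain ⟨_, x, hx, rfl⟩ := a
      obtain ⟨_, y, hy, rfl⟩ := b
      refine Subtype.ext ?_
      show (MulAut.conj g).toMonoidHom x * (MulAut.conj g).toMonoidHom y = _ * _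
      rw [← map_mul, ← map_mul, C.D.comm hx hy]
    · rintro _ ⟨x, hx, rfl⟩
      rw [← map_pow, pow_two, C.D.sq_one hx, map_one]
  have hle : W ≤ NV := by
    rintro _ ⟨x, hx, rfl⟩
    refine C.t_centralizer hw hwt ?_
    rw [Subgroup.mem_centralizer_singleton_iff, ← h]
    show g * x * g⁻¹ * (g * v * g⁻¹) = g * v * g⁻¹ * (g * x * g⁻¹)
    calc g * x * g⁻¹ * (g * v * g⁻¹) = g * (x * v) * g⁻¹ := by group
      _ = _ := by rw [C.D.comm hx hv]; group
  have heq := C.unique W hWel
    (by rw [hW, Subgroup.card_map_of_injective (MulEquiv.injective _), C.D.card]) hle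
  refine Subgroup.mem_normalizer_iff.mpr fun a => ⟨fun ha => heq ▸ ⟨a, ha, rfl⟩, fun ha => ?_⟩
  rw [← heq] at ha
  obtain ⟨b, hb, hba⟩ := ha
  simp only [MulEquiv.coe_toMonoidHom, MulAut.conj_apply, mul_right_inj, mul_left_inj] at hba
  exact hba ▸ hb

theorem al_mem_V {x : ℕ} (hx : x < 1024) (h : C.al x ∈ C.D.V) : x < 64 := by
  obtain ⟨c, hc, he⟩ := C.vv_surj h
  have h1 : C.vv (v6 (x % 64)) * C.D.el (elt (rcode (x / 64))) = C.vv c * C.D.el 1 := by
    rw [C.el_one, mul_one, he]; rfl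
  have h2 := (C.code_inj (v6_lt _ (by omega)) hc h1).2
  have h3 : rcode (x / 64) = rcode 0 := elt_injective (rList_lt (rcode_check.1 _ (by omega)))
    (rList_lt (rcode_check.1 _ (by norm_num))) (h2.trans (by
      refine Subtype.ext ?_
      rw [show rcode 0 = 0 from by decide, elt_val (by norm_num), perm_zero]; rfl))
  have := rcode_injOn _ (by omega) 0 (by norm_num) h3
  omega

/-- Every member of `V` has a Sylow 2-subgroup of its centraliser in the normaliser of `V`. -/
def SylowCent : Prop := ∀ v ∈ C.D.V, v ≠ 1 → ∀ P : Subgroup G, IsPGroup 2 ↥P →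
  P ≤ Subgroup.centralizer ({v} : Set G) →
    ∃ c ∈ Subgroup.centralizer ({v} : Set G), ∀ x ∈ P, c * x * c⁻¹ ∈ NV

/-- Every involution of `A` lies in the image of `V` under an element normalising `A`. -/
theorem exists_member (hS : C.SylowCent) {a : G} (ha : a ∈ C.A) (ha1 : a ≠ 1) :
    ∃ h ∈ NA, h⁻¹ * a * h ∈ C.D.V := by
  haveI : Fact (Nat.Prime 2) := ⟨Nat.prime_two⟩
  have hord : orderOf a = 2 := orderOf_eq_prime (C.elem_A.2 a ha) ha1
  obtain ⟨v, hv, g, hg⟩ : ∃ v ∈ C.D.V, ∃ g : G, g * v * g⁻¹ = a := by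
    rcases C.invol a hord with h | h
    · obtain ⟨g, hg⟩ := isConj_iff.mp (C.s_conj.symm.trans h)
      exact ⟨_, C.D.s_mem, g, hg⟩
    · obtain ⟨g, hg⟩ := isConj_iff.mp h
      exact ⟨_, C.D.t_mem, g, hg⟩
  obtain ⟨h1, h2, h3⟩ := conj_selfCent g⁻¹ C.elem_A (C.card_A.trans (by norm_num)) C.centralizer_A
  set P := C.A.map (MulAut.conj g⁻¹).toMonoidHom with hP
  have hPc : P ≤ Subgroup.centralizer ({v} : Set G) := by
    rintro _ ⟨b, hb, rfl⟩
    rw [Subgroup.mem_centralizer_singleton_iff]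
    have hv' : v = g⁻¹ * a * g := by rw [← hg]; group
    show g⁻¹ * b * g⁻¹⁻¹ * v = v * (g⁻¹ * b * g⁻¹⁻¹)
    rw [hv', inv_inv]
    calc g⁻¹ * b * g * (g⁻¹ * a * g) = g⁻¹ * (b * a) * g := by group
      _ = _ := by rw [C.A_comm hb ha]; group
  obtain ⟨c, hc, hcP⟩ := hS v hv (fun e => ha1 (by rw [← hg, e]; group)) P
    (IsPGroup.of_card (n := 10) h2) hPc
  obtain ⟨h4, h5, h6⟩ := conj_selfCent c h1 h2 h3
  obtain ⟨n, he, hnN⟩ := C.exists_conj_A h4 h5 h6
  have hn : n ∈ NV := hnN (by rintro _ ⟨x, hx, rfl⟩; exact hcP x hx)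
  refine ⟨g * c⁻¹ * n, C.mem_NA_of_maps fun b hb => ?_, ?_⟩
  · have hnb : n * b * n⁻¹ ∈ P.map (MulAut.conj c).toMonoidHom := he ▸ ⟨b, hb, rfl⟩
    obtain ⟨_, ⟨b', hb', rfl⟩, hbe⟩ := hnb
    simp only [MulEquiv.coe_toMonoidHom, MulAut.conj_apply, inv_inv] at hbe
    have : g * c⁻¹ * n * b * (g * c⁻¹ * n)⁻¹ = b' := by
      rw [show g * c⁻¹ * n * b * (g * c⁻¹ * n)⁻¹ = g * c⁻¹ * (n * b * n⁻¹) * (g * c⁻¹)⁻¹ by group,
        ← hbe]
      group
    exact this ▸ hb'
  · rw [Subgroup.mem_centralizer_singleton_iff] at hc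
    have hcv : c * v * c⁻¹ = v := by rw [hc]; group
    have : (g * c⁻¹ * n)⁻¹ * a * (g * c⁻¹ * n) = n⁻¹ * v * (n⁻¹)⁻¹ := by
      rw [← hg]
      calc (g * c⁻¹ * n)⁻¹ * (g * v * g⁻¹) * (g * c⁻¹ * n) = n⁻¹ * (c * v * c⁻¹) * (n⁻¹)⁻¹ := by
            group
        _ = _ := by rw [hcv]
    rw [this]
    exact C.D.conj_mem (inv_mem hn) hv

/-- The coordinates of the members of `A` in the class of `t`. -/
noncomputable def tCoords : Finset ℕ := by
  classical exact (Finset.range 1024).filter fun x => IsConj C.D.t (C.al x)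

theorem mem_tCoords {x : ℕ} : x ∈ C.tCoords ↔ x < 1024 ∧ IsConj C.D.t (C.al x) := by
  simp [tCoords]

theorem t_low {x : ℕ} (hx : x ∈ tList) : IsConj C.D.t (C.al x) := by
  obtain ⟨σ, hσ⟩ := C.al_t hx
  exact isConj_iff.mpr ⟨_, hσ⟩

theorem mem_tList_of_V {x : ℕ} (hx : x < 1024) (hV : C.al x ∈ C.D.V)
    (ht : IsConj C.D.t (C.al x)) : x ∈ tList := by
  have hx6 := C.al_mem_V hx hV
  by_contra hno
  by_cases h0 : x = 0
  · subst h0
    rw [C.al_zero] at ht
    exact C.D.t_ne_one (isConj_one_left.mp ht)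
  obtain ⟨σ, hσ⟩ := C.al_s hx6 h0 hno
  exact C.not_both (C.s_conj.trans (isConj_iff.mpr ⟨_, hσ⟩)) ht

/-- The members of the class of `t` in `A` are parted into sets of 28, one for each coset of
`N(A) ⊓ N(V)` in `N(A)`. -/
theorem card_tCoords (hS : C.SylowCent) :
    C.tCoords.card = ((NA ⊓ NV).subgroupOf NA).index * 28 := by
  classical
  set H := (NA ⊓ NV).subgroupOf NA with hH
  have key : ∀ (q : ↥NA ⧸ H) (x : {x // x ∈ tList.toFinset}),
      ∃ y ∈ C.tCoords, (q.out : G) * C.al x.1 * (q.out : G)⁻¹ = C.al y := by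
    intro q x
    have hx := List.mem_toFinset.mp x.2
    have hx6 : x.1 < 1024 := (by decide +kernel : ∀ x ∈ tList, x < 1024) _ hx
    obtain ⟨y, hy, he⟩ := C.NA_conj q.out.2 (C.al_mem hx6)
    refine ⟨y, C.mem_tCoords.mpr ⟨hy, ?_⟩, he.symm⟩
    exact (C.t_low hx).trans (isConj_iff.mpr ⟨_, he.symm⟩)
  choose f hf hfe using key
  rw [← Fintype.card_coe C.tCoords, ← Nat.card_eq_fintype_card, Subgroup.index,
    show (28 : ℕ) = Nat.card {x // x ∈ tList.toFinset} by
      rw [Nat.card_eq_fintype_card, Fintype.card_coe]; decide +kernel,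
    ← Nat.card_prod]
  symm
  refine Nat.card_eq_of_bijective (fun p => (⟨f p.1 p.2, hf p.1 p.2⟩ : ↥C.tCoords)) ⟨?_, ?_⟩
  · rintro ⟨q, x⟩ ⟨q', x'⟩ h
    have he : f q x = f q' x' := congrArg Subtype.val h
    have hx := List.mem_toFinset.mp x.2
    have hx' := List.mem_toFinset.mp x'.2
    have hlt : ∀ x ∈ tList, x < 64 := by decide +kernel
    have h1 := (hfe q x).trans ((congrArg C.al he).trans (hfe q' x').symm)
    have hg : ((q'.out)⁻¹ * q.out : ↥NA) ∈ H := by
      refine Subgroup.mem_subgroupOf.mpr ⟨SetLike.coe_mem _, C.conj_t_mem_NV (v := C.al x.1) (w := C.al x'.1)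
        (by rw [C.al_low (hlt _ hx)]; exact C.vv_mem _)
        (by rw [C.al_low (hlt _ hx')]; exact C.vv_mem _) (C.t_low hx') ?_⟩
      calc ((q'.out⁻¹ * q.out : ↥NA) : G) * C.al x.1 * (((q'.out⁻¹ * q.out : ↥NA) : G))⁻¹
          = (q'.out : G)⁻¹ * ((q.out : G) * C.al x.1 * (q.out : G)⁻¹) * (q'.out : G) := by
            push_cast; group
        _ = _ := by rw [h1]; group
    have hq : q' = q := by
      rw [← QuotientGroup.out_eq' q', ← QuotientGroup.out_eq' q]
      exact QuotientGroup.eq.mpr hg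
    subst hq
    have hx2 : C.al x.1 = C.al x'.1 := by
      have := congrArg (fun a => (q'.out : G)⁻¹ * a * (q'.out : G)) h1
      simpa [mul_assoc] using this
    exact Prod.ext rfl (Subtype.ext (C.al_inj ((hlt _ hx).trans (by norm_num))
      ((hlt _ hx').trans (by norm_num)) hx2))
  · rintro ⟨y, hy⟩
    obtain ⟨hy, hyt⟩ := C.mem_tCoords.mp hy
    have hy1 : C.al y ≠ 1 := fun e => C.D.t_ne_one (isConj_one_left.mp (e ▸ hyt))
    obtain ⟨h, hh, hhV⟩ := C.exists_member hS (C.al_mem hy) hy1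
    set q : ↥NA ⧸ H := QuotientGroup.mk ⟨h, hh⟩ with hq
    have hrel : (⟨h, hh⟩ : ↥NA)⁻¹ * q.out ∈ H := by
      rw [← QuotientGroup.eq, QuotientGroup.out_eq']
    have hn : (h⁻¹ * (q.out : G)) ∈ NV := (Subgroup.mem_subgroupOf.mp hrel).2
    obtain ⟨x, hx, hxe⟩ : (q.out : G)⁻¹ * C.al y * (q.out : G) ∈ C.A := by
      have := C.NA_conj (inv_mem q.out.2) (C.al_mem hy)
      simpa using this
    have hxV : C.al x ∈ C.D.V := by
      rw [hxe]
      have := C.D.conj_mem (inv_mem hn) hhV
      simpa [mul_assoc] using this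
    have hxt : x ∈ tList := C.mem_tList_of_V hx hxV
      (hyt.trans (isConj_iff.mpr ⟨(q.out : G)⁻¹, by rw [hxe]; group⟩))
    refine ⟨(q, ⟨x, List.mem_toFinset.mpr hxt⟩), Subtype.ext (C.al_inj
      (C.mem_tCoords.mp (hf _ _)).1 hy ?_)⟩
    rw [← hfe, hxe]
    group

theorem class_const {r : ℕ} (hr : r < 1024) {steps : List ℕ} {S : ℕ}
    (h : walk steps (2 ^ r) = some S) {x : ℕ} (hx : S.testBit x = true) :
    IsConj C.D.t (C.al x) ↔ IsConj C.D.t (C.al r) := by
  obtain ⟨-, n, -, hn⟩ := C.orbit_of_walk hr h hx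
  have hc : IsConj (C.al r) (C.al x) := isConj_iff.mpr ⟨n, hn⟩
  exact ⟨fun h => h.trans hc.symm, fun h => h.trans hc⟩

/-- The members of the class of `t` in `A` are those of `tSet`, and `N(A) ⊓ N(V)` has index 31
in `N(A)`. -/
theorem class_values (hS : C.SylowCent) :
    (∀ x < 1024, IsConj C.D.t (C.al x) ↔ tSet.testBit x = true) ∧
      ((NA ⊓ NV).subgroupOf NA).index = 31 := by
  classical
  set k := ((NA ⊓ NV).subgroupOf NA).index with hk
  have hcount := C.card_tCoords hS
  have hT0 : IsConj C.D.t (C.al 12) := C.t_low (by decide)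
  have hZ0 : ¬ IsConj C.D.t (C.al 1) := fun h => by
    have := C.mem_tList_of_V (x := 1) (by norm_num)
      (by rw [C.al_low (by norm_num)]; exact C.vv_mem _) h
    revert this; decide
  have h0 : ¬ IsConj C.D.t (C.al 0) := fun h => by
    rw [C.al_zero] at h
    exact C.D.t_ne_one (isConj_one_left.mp h)
  have hset : ∀ (b c : Prop) [Decidable b] [Decidable c],
      (IsConj C.D.t (C.al 64) ↔ b) → (IsConj C.D.t (C.al 72) ↔ c) →
      C.tCoords = elems (setT0 ||| (if b then setZ1 else 0) ||| (if c then setT1 else 0)) := by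
    intro b c _ _ hb hc
    ext x
    rw [C.mem_tCoords, elems, Finset.mem_filter, Finset.mem_range]
    refine and_congr_right fun hx => ?_
    by_cases hx0 : x = 0
    · subst hx0
      refine ⟨fun h => absurd h h0, fun h => ?_⟩
      exfalso
      revert h
      by_cases hb' : b <;> by_cases hc' : c <;> simp only [hb', hc', if_true, if_false] <;>
        decide +kernel
    have hdis : ∀ y < 1024, setZ0.testBit y = true → (setT0 ||| setZ1 ||| setT1).testBit y = false :=
      by decide +kernel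
    have hdis1 : ∀ y < 1024, setZ1.testBit y = true → (setT0 ||| setT1).testBit y = false := by
      decide +kernel
    have hdis2 : ∀ y < 1024, setT1.testBit y = true → (setT0 ||| setZ1).testBit y = false := by
      decide +kernel
    rcases set_cover x hx hx0 with hs | hs | hs | hs
    · rw [C.class_const (by norm_num) walk_Z0 hs]
      have := hdis x hx hs
      simp only [Nat.testBit_or, Bool.or_eq_false_iff] at this
      refine iff_of_false hZ0 ?_
      by_cases hb' : b <;> by_cases hc' : c <;> simp [hb', hc', this]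
    · rw [C.class_const (by norm_num) walk_T0 hs]
      exact iff_of_true hT0 (by simp [hs])
    · rw [C.class_const (by norm_num) walk_Z1 hs, hb]
      have := hdis1 x hx hs
      simp only [Nat.testBit_or, Bool.or_eq_false_iff] at this
      by_cases hb' : b <;> by_cases hc' : c <;> simp [hb', hc', hs, this]
    · rw [C.class_const (by norm_num) walk_T1 hs, hc]
      have := hdis2 x hx hs
      simp only [Nat.testBit_or, Bool.or_eq_false_iff] at this
      by_cases hb' : b <;> by_cases hc' : c <;> simp [hb', hc', hs, this]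
  by_cases h64 : IsConj C.D.t (C.al 64) <;> by_cases h72 : IsConj C.D.t (C.al 72)
  · exfalso
    have := hset True True (iff_true_intro h64) (iff_true_intro h72)
    rw [this, if_pos trivial, if_pos trivial, card_sets.2.2.2.2] at hcount
    omega
  · exfalso
    have := hset True False (iff_true_intro h64) (iff_false_intro h72)
    rw [this, if_pos trivial, if_neg id, Nat.or_zero, card_sets.2.2.2.1] at hcount
    omega
  · have hs := hset False True (iff_false_intro h64) (iff_true_intro h72)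
    rw [if_neg id, if_pos trivial, Nat.or_zero] at hs
    refine ⟨fun x hx => ?_, ?_⟩
    · have := congrArg (x ∈ ·) hs
      simp only [C.mem_tCoords, elems, Finset.mem_filter, Finset.mem_range, hx, true_and,
        eq_iff_iff] at this
      exact this
    · rw [hs, ← tSet, card_sets.2.2.1] at hcount
      omega
  · exfalso
    have := hset False False (iff_false_intro h64) (iff_false_intro h72)
    rw [this, if_neg id, if_neg id, Nat.or_zero, Nat.or_zero, card_sets.1] at hcount
    have hk1 : k = 1 := by omega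
    rw [hk, Subgroup.index_eq_one] at hk1
    obtain ⟨h, hh, hhV⟩ := C.exists_member hS (C.al_mem (x := 72) (by norm_num))
      (fun e => by
        have := C.al_inj (x := 72) (y := 0) (by norm_num) (by norm_num) (e.trans C.al_zero.symm)
        omega)
    have hmem : (⟨h, hh⟩ : ↥NA) ∈ (NA ⊓ NV).subgroupOf NA := hk1 ▸ Subgroup.mem_top _
    rw [Subgroup.mem_subgroupOf] at hmem
    have h2 := C.D.conj_mem hmem.2 hhV
    rw [show h * (h⁻¹ * C.al 72 * h) * h⁻¹ = C.al 72 by group] at h2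
    have := C.al_mem_V (by norm_num) h2
    omega

theorem z_iff (hS : C.SylowCent) {x : ℕ} (hx : x < 1024) :
    IsConj C.z (C.al x) ↔ zSet.testBit x = true := by
  haveI : Fact (Nat.Prime 2) := ⟨Nat.prime_two⟩
  have hdis : ∀ y < 1024, zSet.testBit y = true → tSet.testBit y = false ∧ y ≠ 0 := by
    decide +kernel
  have hcov : ∀ y < 1024, y ≠ 0 → tSet.testBit y = false → zSet.testBit y = true := by
    decide +kernel
  have ht := (C.class_values hS).1 x hx
  constructor
  · intro hz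
    refine hcov x hx (fun e => ?_) (Bool.eq_false_iff.mpr fun e => C.not_both hz (ht.mpr e))
    subst e
    rw [C.al_zero] at hz
    have h1 := C.s_conj.symm.trans hz
    exact C.D.s_ne_one (isConj_one_left.mp h1)
  · intro hz
    obtain ⟨h1, h2⟩ := hdis x hx hz
    have hord : orderOf (C.al x) = 2 := orderOf_eq_prime (by rw [pow_two, C.al_sq hx])
      (fun e => h2 (C.al_inj hx (by norm_num) (e.trans C.al_zero.symm)))
    rcases C.invol _ hord with h | h
    · exact h
    · rw [ht.mp h] at h1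
      exact absurd h1 (by simp)

theorem index_NAV (hS : C.SylowCent) : ((NA ⊓ NV).subgroupOf NA).index = 31 :=
  (C.class_values hS).2

theorem exists_not_NV (hS : C.SylowCent) : ∃ h ∈ NA, h ∉ NV := by
  by_contra hc
  push Not at hc
  have : (NA ⊓ NV).subgroupOf NA = ⊤ :=
    Subgroup.subgroupOf_eq_top.mpr fun x hx => ⟨hx, hc x hx⟩
  have h1 := C.index_NAV hS
  rw [this, Subgroup.index_top] at h1
  omega

/-- The orbit of `al 1` is the class of `z` in `A`. -/
theorem orbit_z (hS : C.SylowCent) :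
    {v : G | ∃ n ∈ NA, n * C.al 1 * n⁻¹ = v} = C.al '' (elems zSet : Set ℕ) := by
  ext v
  simp only [Set.mem_ofPred_eq, Set.mem_image, SetLike.mem_coe, elems, Finset.mem_filter,
    Finset.mem_range]
  have h1 : IsConj C.z (C.al 1) := (C.z_iff hS (by norm_num)).mpr (by decide +kernel)
  constructor
  · rintro ⟨n, hn, rfl⟩
    obtain ⟨y, hy, hye⟩ := C.NA_conj hn (C.al_mem (x := 1) (by norm_num))
    exact ⟨y, ⟨hy, (C.z_iff hS hy).mp (h1.trans (isConj_iff.mpr ⟨n, hye.symm⟩))⟩, hye⟩
  · rintro ⟨x, ⟨hx, hz⟩, rfl⟩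
    obtain ⟨h, hh, hhV⟩ := C.exists_not_NV hS |>.elim fun h h' =>
      (⟨h, h'.1, h'.2⟩ : ∃ h, h ∈ NA ∧ h ∉ NV)
    rw [zSet, Nat.testBit_or, Bool.or_eq_true] at hz
    rcases hz with hz | hz
    · obtain ⟨-, n, hn, he⟩ := C.orbit_of_walk (by norm_num) walk_Z0 hz
      exact ⟨n, hn.1, he⟩
    · -- some conjugate of a member of `setZ0` lies outside `V`
      have hout : ∃ i < 6, h * C.al (2 ^ i) * h⁻¹ ∉ C.D.V := by
        by_contra hc
        push Not at hc
        refine hhV ?_
        obtain ⟨y, hy, hye⟩ := C.NA_conj hh (C.al_mem (x := 12) (by norm_num))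
        have e : C.al 12 = C.al (2 ^ 2) * C.al (2 ^ 3) := by
          rw [← C.al_xor (by norm_num) (by norm_num)]; rfl
        have hV : C.al y ∈ C.D.V := by
          rw [hye, e]
          have : h * (C.al (2 ^ 2) * C.al (2 ^ 3)) * h⁻¹ =
              h * C.al (2 ^ 2) * h⁻¹ * (h * C.al (2 ^ 3) * h⁻¹) := by group
          rw [this]
          exact mul_mem (hc 2 (by norm_num)) (hc 3 (by norm_num))
        exact C.conj_t_mem_NV (by rw [C.al_low (by norm_num)]; exact C.vv_mem _) hV
          ((C.t_low (by decide)).trans (isConj_iff.mpr ⟨h, hye.symm⟩)) hye.symm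
      obtain ⟨i, hi, hiV⟩ := hout
      have hi0 : setZ0.testBit (2 ^ i) = true :=
        (by decide +kernel : ∀ i < 6, setZ0.testBit (2 ^ i) = true) i hi
      obtain ⟨hi', n, hn, he⟩ := C.orbit_of_walk (by norm_num) walk_Z0 hi0
      obtain ⟨y, hy, hye⟩ := C.NA_conj hh (C.al_mem hi')
      have hyz : setZ1.testBit y = true := by
        have hc := (C.z_iff hS hy).mp (h1.trans (isConj_iff.mpr ⟨h * n, by
          rw [hye, ← he]; group⟩))
        rw [zSet, Nat.testBit_or, Bool.or_eq_true] at hc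
        refine hc.resolve_left fun hc' => hiV ?_
        have hy6 : y < 64 := (by decide +kernel : ∀ y < 1024, setZ0.testBit y = true → y < 64) y hy hc'
        rw [← hye, C.al_low hy6]
        exact C.vv_mem _
      obtain ⟨-, m, hm, hme⟩ := C.orbit_of_walk (by norm_num) walk_Z1 hyz
      obtain ⟨-, m', hm', hme'⟩ := C.orbit_of_walk (by norm_num) walk_Z1 hz
      refine ⟨m' * m⁻¹ * (h * n), mul_mem (mul_mem hm'.1 (inv_mem hm.1)) (mul_mem hh hn.1), ?_⟩
      calc m' * m⁻¹ * (h * n) * C.al 1 * (m' * m⁻¹ * (h * n))⁻¹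
          = m' * m⁻¹ * (h * (n * C.al 1 * n⁻¹) * h⁻¹) * (m' * m⁻¹)⁻¹ := by group
        _ = m' * (m⁻¹ * C.al y * m) * m'⁻¹ := by rw [he, ← hye]; group
        _ = C.al x := by rw [← hme, ← hme']; group

/-- The orbit of `al 12` is the class of `t` in `A`. -/
theorem orbit_t (hS : C.SylowCent) :
    {v : G | ∃ n ∈ NA, n * C.al 12 * n⁻¹ = v} = C.al '' (elems tSet : Set ℕ) := by
  ext v
  simp only [Set.mem_ofPred_eq, Set.mem_image, SetLike.mem_coe, elems, Finset.mem_filter,
    Finset.mem_range]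
  constructor
  · rintro ⟨n, hn, rfl⟩
    obtain ⟨y, hy, hye⟩ := C.NA_conj hn (C.al_mem (x := 12) (by norm_num))
    exact ⟨y, ⟨hy, ((C.class_values hS).1 y hy).mp ((C.t_low (by decide)).trans
      (isConj_iff.mpr ⟨n, hye.symm⟩))⟩, hye⟩
  · rintro ⟨x, ⟨hx, ht⟩, rfl⟩
    have hxt := ((C.class_values hS).1 x hx).mpr ht
    obtain ⟨h, hh, hhV⟩ := C.exists_member hS (C.al_mem hx)
      (fun e => C.D.t_ne_one (isConj_one_left.mp (e ▸ hxt)))
    obtain ⟨y, hy, hye⟩ : h⁻¹ * C.al x * h ∈ C.A := by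
      simpa using C.NA_conj (inv_mem hh) (C.al_mem hx)
    have hyT : setT0.testBit y = true := (set_T0 y hy).mpr (C.mem_tList_of_V hy (hye ▸ hhV)
      (hxt.trans (isConj_iff.mpr ⟨h⁻¹, by rw [hye]; group⟩)))
    obtain ⟨-, n, hn, he⟩ := C.orbit_of_walk (by norm_num) walk_T0 hyT
    exact ⟨h * n, mul_mem hh hn.1, by rw [show h * n * C.al 12 * (h * n)⁻¹ =
      h * (n * C.al 12 * n⁻¹) * h⁻¹ by group, he, hye]; group⟩

theorem ncard_orbit {S n : ℕ} (h : (elems S).card = n) :
    Set.ncard (C.al '' (elems S : Set ℕ)) = n := by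
  rw [Set.InjOn.ncard_image, Set.ncard_coe_finset, h]
  intro a ha b hb
  simp only [SetLike.mem_coe, elems, Finset.mem_filter, Finset.mem_range] at ha hb
  exact C.al_inj ha.1 hb.1

/-- **`N(A)` is irreducible on `A`.** -/
theorem irreducible (hS : C.SylowCent) (W : Subgroup G) (hW : W ≤ C.A)
    (hN : NA ≤ Subgroup.normalizer (W : Set G)) : W = ⊥ ∨ W = C.A := by
  refine or_iff_not_imp_left.mpr fun hne => le_antisymm hW ?_
  obtain ⟨w, hw, hw1⟩ : ∃ w ∈ W, w ≠ 1 := by
    by_contra hc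
    push Not at hc
    exact hne ((Subgroup.eq_bot_iff_forall _).mpr hc)
  obtain ⟨x, hx, rfl⟩ := hW hw
  have hinv : ∀ r, C.al x ∈ {v : G | ∃ n ∈ NA, n * C.al r * n⁻¹ = v} →
      ∀ n ∈ NA, n * C.al r * n⁻¹ ∈ W := by
    rintro r ⟨m, hm, hme⟩ n hn
    have := (Subgroup.mem_normalizer_iff.mp (hN (mul_mem hn (inv_mem hm))) _).mp hw
    rw [← hme] at this
    convert this using 1
    group
  have hall : ∀ i < 10, C.al (2 ^ i) ∈ W := by
    intro i hi
    have hi' : 2 ^ i < 1024 := Nat.pow_lt_pow_right (by norm_num) hi |>.trans_le (by norm_num)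
    have hx0 : x ≠ 0 := fun e => hw1 (e ▸ C.al_zero)
    have hxs : zSet.testBit x = true ∨ tSet.testBit x = true := by
      rcases set_cover x hx hx0 with h | h | h | h <;> simp [zSet, tSet, h]
    rcases hxs with hz | ht
    · have hx' : C.al x ∈ {v : G | ∃ n ∈ NA, n * C.al 1 * n⁻¹ = v} := by
        rw [C.orbit_z hS]; exact ⟨x, by simp [elems, hx, hz], rfl⟩
      have h2 : C.al (2 ^ i) ∈ {v : G | ∃ n ∈ NA, n * C.al 1 * n⁻¹ = v} := by
        rw [C.orbit_z hS]; exact ⟨2 ^ i, by simp [elems, hi', span_check.2.1 i hi], rfl⟩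
      obtain ⟨n, hn, he⟩ := h2
      exact he ▸ hinv 1 hx' n hn
    · have hx' : C.al x ∈ {v : G | ∃ n ∈ NA, n * C.al 12 * n⁻¹ = v} := by
        rw [C.orbit_t hS]; exact ⟨x, by simp [elems, hx, ht], rfl⟩
      have key : ∀ a < 1024, tSet.testBit a = true → C.al a ∈ W := by
        intro a ha hta
        have h2 : C.al a ∈ {v : G | ∃ n ∈ NA, n * C.al 12 * n⁻¹ = v} := by
          rw [C.orbit_t hS]; exact ⟨a, by simp [elems, ha, hta], rfl⟩
        obtain ⟨n, hn, he⟩ := h2
        exact he ▸ hinv 12 hx' n hn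
      obtain ⟨a, ha, b, hb, hat, hbt, hab⟩ := span_check.2.2 i hi
      have hb' : b < 1024 :=
        (by decide : ∀ b ∈ [0, 12, 13, 14, 15, 18, 19, 22, 23, 26, 27, 28, 29, 72], b < 1024) b hb
      rw [List.mem_range] at ha
      rw [← hab, C.al_xor ha hb']
      refine mul_mem (key a ha hat) ?_
      rcases hbt with rfl | hbt
      · rw [C.al_zero]; exact one_mem W
      · exact key b hb' hbt
  rintro _ ⟨y, hy, rfl⟩
  have hgen : ∀ (l : List ℕ), (∀ a ∈ l, a < 1024 ∧ C.al a ∈ W) → ∀ z, encAux l z < 1024 ∧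
      C.al (encAux l z) ∈ W := by
    intro l
    induction l with
    | nil => intro _ z; simp [encAux, C.al_zero]
    | cons a l ih =>
      intro hl z
      obtain ⟨i1, i2⟩ := ih (fun b hb => hl b (List.mem_cons_of_mem _ hb)) (z / 2)
      obtain ⟨a1, a2⟩ := hl a List.mem_cons_self
      by_cases hz : z % 2 = 1
      · simp only [encAux, hz, if_true]
        exact ⟨Nat.xor_lt_two_pow (n := 10) a1 i1, by rw [C.al_xor a1 i1]; exact mul_mem a2 i2⟩
      · simp only [encAux, hz, if_false, Nat.zero_xor]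
        exact ⟨i1, i2⟩
  rw [← encAux_pows hy]
  refine (hgen pows (fun a ha => ?_) y).2
  obtain ⟨i, hi, rfl⟩ := (by decide : ∀ a ∈ pows, ∃ i < 10, 2 ^ i = a) a ha
  exact ⟨Nat.pow_lt_pow_right (by norm_num) hi |>.trans_le (by norm_num), hall i hi⟩

end Ctx

end Cfsg.Agent.J4Type.TwoTen
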