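/-
Groups of Janko-four type: the normaliser of the subgroup `A` of order 2 ^ 10 is a split extension
of `A` by SL(5, 2) (owner: helper81; for S5570).

The decomposable elements of `A`, seen as the exterior square of a space of dimension 5, are the
members of the class of `z`; the maximal subspaces inside them are labelled by the points.

Main results: `psi`, `psi_ker`, `Ctx.exists_complement`.
-/
import Cfsg.Agent.Lib.J4Type.TwoTenNorm
import Cfsg.Agent.Lib.GLOrder.Basic
import Cfsg.Agent.Lib.Solvable.Gaschutz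

set_option autoImplicit false
set_option linter.unusedSectionVars false
set_option exponentiation.threshold 4096
open scoped Pointwise
open Cfsg Cfsg.Agent.Golay Cfsg.Agent.J4Type
open Cfsg.Agent.M24Sylow hiding word

namespace Cfsg.Agent.J4Type.TwoTen

/-! ### The exterior square of the space of dimension 5, in numbers -/

/-- The pairs of coordinates, in the order of the bits of a member of `A`. -/
def wPairs : List (ℕ × ℕ) :=
  [(1, 2), (1, 3), (1, 4), (2, 3), (2, 4), (3, 4), (0, 1), (0, 2), (0, 3), (0, 4)]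

/-- The exterior product. -/
def wedge (p v : ℕ) : ℕ :=
  (List.range 10).foldr (fun k acc =>
    (bif xor (p.testBit (wPairs.getD k (0, 0)).1 && v.testBit (wPairs.getD k (0, 0)).2)
        (p.testBit (wPairs.getD k (0, 0)).2 && v.testBit (wPairs.getD k (0, 0)).1)
      then 1 <<< k else 0) ^^^ acc) 0

/-- The multiples of the point `p`. -/
def ptSet (p : ℕ) : ℕ := (List.range 32).foldr (fun v acc => 1 <<< wedge p v ||| acc) 0

/-- The members of the class of `z` and zero. -/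
def zero1 : ℕ := zSet ||| 1

/-- The final test of the search for the maximal subspaces. -/
def spaceFin (L : List ℕ) (_ : Unit) : Bool :=
  !(L.length == 16) || (List.range 32).any fun q => !(q == 0) && L.all fun x => (ptSet q).testBit x

theorem spaceSearch : search (fun a b => a ^^^ b) (fun a b => zero1.testBit (a ^^^ b))
    (fun s _ => s) spaceFin 8 [0] () ((List.range 1024).filter fun x => zSet.testBit x) = true := by
  decide +kernel

theorem ptSet_card : ∀ p < 32, p ≠ 0 → (elems (ptSet p)).card = 16 := by decide +kernel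

theorem ptSet_sub : ∀ p < 32, p ≠ 0 → ∀ x ∈ elems (ptSet p), zero1.testBit x = true := by
  decide +kernel

theorem ptSet_closed : ∀ p < 32, p ≠ 0 → ∀ x ∈ elems (ptSet p), ∀ y ∈ elems (ptSet p),
    (ptSet p).testBit (x ^^^ y) = true := by decide +kernel

theorem ptSet_inj : ∀ p < 32, ∀ q < 32, ptSet p = ptSet q → p = q := by decide +kernel

/-- Two points span a line: the test. -/
def lineOK (p q : ℕ) : Bool :=
  p == 0 || q == 0 || p == q ||
    (Nat.blt (wedge p q) 1024 && !(wedge p q == 0) &&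
      (ptSet p &&& ptSet q == (1 ||| 1 <<< wedge p q)) &&
      (List.range 32).all fun r =>
        r == 0 || !(ptSet r).testBit (wedge p q) || r == p || r == q || r == p ^^^ q)

theorem lineOK_all : ((List.range 32).all fun p => (List.range 32).all fun q => lineOK p q) = true := by
  decide +kernel

theorem line_check (p : ℕ) (hp : p < 32) (q : ℕ) (hq : q < 32) (hp0 : p ≠ 0) (hq0 : q ≠ 0)
    (hpq : p ≠ q) :
    wedge p q < 1024 ∧ wedge p q ≠ 0 ∧ ptSet p &&& ptSet q = 1 ||| 1 <<< wedge p q ∧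
      ∀ r < 32, r ≠ 0 → (ptSet r).testBit (wedge p q) = true → r = p ∨ r = q ∨ r = p ^^^ q := by
  have h := List.all_eq_true.mp (List.all_eq_true.mp lineOK_all p (List.mem_range.mpr hp)) q
    (List.mem_range.mpr hq)
  simp only [lineOK, Bool.or_eq_true, beq_iff_eq, hp0, hq0, hpq, false_or, Bool.and_eq_true,
    Nat.blt_eq, Bool.not_eq_true', beq_eq_false_iff_ne, List.all_eq_true, List.mem_range] at h
  obtain ⟨⟨⟨h1, h2⟩, h3⟩, h4⟩ := h
  refine ⟨h1, h2, h3, fun r hr hr0 hb => ?_⟩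
  have := h4 r hr
  simp only [hr0, hb, false_or, Bool.true_eq_false] at this
  tauto

theorem line_third : ∀ p < 32, ∀ q < 32, p ≠ 0 → q ≠ 0 → p ≠ q →
    (ptSet (p ^^^ q)).testBit (wedge p q) = true := by decide +kernel

theorem basis_wedge : ∀ i < 10, ∃ a < 5, ∃ b < 5, a ≠ b ∧ wedge (2 ^ a) (2 ^ b) = 2 ^ i := by
  decide +kernel

/-- The vector with given number. -/
def vecOf (x : ℕ) : Fin 5 → ZMod 2 := fun i => if x.testBit i then 1 else 0

theorem vecOf_xor (x y : ℕ) : vecOf (x ^^^ y) = vecOf x + vecOf y := by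
  funext i
  simp only [vecOf, Nat.testBit_xor, Pi.add_apply]
  cases x.testBit i <;> cases y.testBit i <;> decide

theorem vecOf_inj : ∀ x < 32, ∀ y < 32, vecOf x = vecOf y → x = y := by decide +kernel

theorem vecOf_zero : vecOf 0 = 0 := by funext i; simp [vecOf]

theorem vecOf_single : ∀ j : Fin 5, vecOf (2 ^ j.val) = Pi.single j 1 := by decide +kernel

theorem det_one_of_mul {a b : ZMod 2} (h : a * b = 1) : a = 1 := by
  revert h; revert a b; decide

theorem natCard_SL5 : Nat.card (Matrix.SpecialLinearGroup (Fin 5) (ZMod 2)) = 9999360 := by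
  have hGL : Nat.card (GL (Fin 5) (ZMod 2)) = 9999360 := by
    rw [GLOrder.card_GL', Nat.card_zmod]; decide
  rw [← hGL]
  refine Nat.card_eq_of_bijective Matrix.SpecialLinearGroup.toGL ⟨fun a b h => ?_, fun g => ?_⟩
  · exact Subtype.ext (congrArg Units.val h)
  · obtain ⟨u, hu⟩ := (Matrix.isUnit_iff_isUnit_det _).mp g.isUnit
    have hd : (g.val).det = 1 := hu.symm.trans (det_one_of_mul u.mul_inv)
    exact ⟨⟨g.val, hd⟩, Units.ext (Matrix.SpecialLinearGroup.coe_GL_coe_matrix ⟨g.val, hd⟩)⟩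

/-! ### The stabiliser of the octad -/

/-- The duad of the chosen point and the point `b`. -/
def duadQ (b : ℕ) : ℕ := q (1 <<< 4 ^^^ 1 <<< b)

theorem duadQ_facts : (∀ b < 24, oM.testBit b = false → v6Bits.testBit (duadQ b) = true → b = 4) ∧
    ∀ b < 24, oM.testBit b = false → ∀ h < 16,
      v6Bits.testBit (act (M24Sylow.perm (rcode h)) (duadQ b) ^^^ duadQ b) = true := by
  decide +kernel

theorem natCard_stabOct :
    Nat.card ↥(MulAction.stabilizer ↥M24 oct) = 322560 := by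
  rw [← natCard_octadStab oct_mem]
  exact Nat.card_congr
    { toFun := fun g => ⟨g.1.1, g.1.2, g.2⟩
      invFun := fun g => ⟨⟨g.1, g.2.1⟩, g.2.2⟩ }

variable {G : Type*} [Group G] [Finite G] (C : Ctx G)

namespace Ctx

local notation "NV" => Subgroup.normalizer (C.D.V : Set G)
local notation "NA" => Subgroup.normalizer (C.A : Set G)

theorem rr_mem {h : ℕ} (hh : h < 16) : C.rr h ∈ C.A := by
  refine ⟨h * 64, by omega, ?_⟩
  rw [al, Nat.mul_mod_left, Nat.mul_div_cancel h (by norm_num : 0 < 64), v6, encAux_zero, C.vv_zero,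
    one_mul]

theorem vv_mem_A {c : ℕ} (h : v6Bits.testBit c = true) : C.vv c ∈ C.A := by
  obtain ⟨x, hx, rfl⟩ := v6_surj h
  exact C.al_low hx ▸ C.al_mem (hx.trans (by norm_num))

/-- The twisted embedding of the stabiliser of the octad. -/
noncomputable def phi0 (σ : ↥(MulAction.stabilizer ↥M24 oct)) : G :=
  C.M.phi (GolayModule.pair (pt 4) (((σ : ↥M24) : Equiv.Perm GolayPt) (pt 4))) * C.D.el σ

theorem phi0_mul (σ τ : ↥(MulAction.stabilizer ↥M24 oct)) :
    C.phi0 (σ * τ) = C.phi0 σ * C.phi0 τ := by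
  set a := pt 4
  set s := ((σ : ↥M24) : Equiv.Perm GolayPt)
  set t := ((τ : ↥M24) : Equiv.Perm GolayPt)
  have he := C.M.equiv (σ : ↥M24) _ (ev_pair a (t a))
  have hsh : sh (σ : ↥M24) (GolayModule.pair a (t a)) = GolayModule.pair (s a) (s (t a)) := by
    funext p
    exact congrFun (GolayModule.pair_apply_perm s a (t a)) p
  rw [hsh] at he
  have hsum : GolayModule.pair a (s (t a)) =
      GolayModule.pair a (s a) + GolayModule.pair (s a) (s (t a)) := by
    simp only [GolayModule.pair]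
    funext p
    simp only [Pi.add_apply]
    generalize (Pi.single a 1 : GolayPt → ZMod 2) p = u
    generalize (Pi.single (s a) 1 : GolayPt → ZMod 2) p = v
    generalize (Pi.single (s (t a)) 1 : GolayPt → ZMod 2) p = w
    revert u v w; decide
  show C.M.phi (GolayModule.pair a (s (t a))) * C.D.el ((σ : ↥M24) * (τ : ↥M24)) =
    C.M.phi (GolayModule.pair a (s a)) * C.D.el σ * (C.M.phi (GolayModule.pair a (t a)) * C.D.el τ)
  rw [hsum, C.M.map_add, C.D.el_mul, ← he]
  group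

/-- The twisted embedding as a homomorphism. -/
noncomputable def phiHom : ↥(MulAction.stabilizer ↥M24 oct) →* G :=
  MonoidHom.mk' C.phi0 C.phi0_mul

theorem stab_apply_notMem (σ : ↥(MulAction.stabilizer ↥M24 oct)) :
    oM.testBit (idx (((σ : ↥M24) : Equiv.Perm GolayPt) (pt 4))) = false := by
  rw [Bool.eq_false_iff]
  intro h
  have h2 : ((σ : ↥M24) : Equiv.Perm GolayPt) (pt 4) ∈ oct := mem_pts.mpr h
  rw [Cfsg.Agent.M24SylowTwo.apply_mem_iff σ.2, oct, mem_pts, idx_pt (by norm_num)] at h2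
  revert h2; decide

theorem phi0_eq (σ : ↥(MulAction.stabilizer ↥M24 oct)) :
    C.phi0 σ = C.vv (duadQ (idx (((σ : ↥M24) : Equiv.Perm GolayPt) (pt 4)))) * C.D.el σ := by
  rw [phi0, pair_eq_word, C.phi_word (pairMask_lt _ _) (pair_eq_word _ _ ▸ ev_pair _ _),
    idx_pt (by norm_num)]
  rfl

theorem phi0_NA (σ : ↥(MulAction.stabilizer ↥M24 oct)) : C.phi0 σ ∈ NA := by
  have hR : ∀ {τ : ↥M24}, τ ∈ MulAction.stabilizer ↥M24 oct → ∀ {h : ℕ}, h < 16 →
      ∃ h' < 16, τ * elt (rcode h) * τ⁻¹ = elt (rcode h') := by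
    intro τ hτ h hh
    have hm : τ * elt (rcode h) * τ⁻¹ ∈ Rgrp :=
      Cfsg.Agent.M24SylowTwo.conj_fixO hτ (elt_mem_Rgrp (rcode_check.1 _ hh))
    obtain ⟨a, ha, hae⟩ := mem_Rgrp_iff.mp hm
    obtain ⟨h', hh', rfl⟩ := rcode_check.2 a ha
    exact ⟨h', hh', hae.symm⟩
  have hel : C.D.el σ ∈ NA := by
    refine C.mem_NA_of_maps ?_
    rintro _ ⟨x, hx, rfl⟩
    have h1 : C.D.el σ * C.rr (x / 64) * (C.D.el σ)⁻¹ ∈ C.A := by
      obtain ⟨h', hh', he⟩ := hR σ.2 (h := x / 64) (by omega)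
      rw [rr, ← C.D.el_inv, ← C.D.el_mul, ← C.D.el_mul, he]
      exact C.rr_mem hh'
    have h2 : C.D.el σ * C.vv (v6 (x % 64)) * (C.D.el σ)⁻¹ ∈ C.A := by
      rw [C.conj_vv]
      refine C.vv_mem_A (fix_all (actP_lt _ _) fun h hh => ?_)
      obtain ⟨h', hh', he⟩ := hR (inv_mem σ.2) hh
      rw [inv_inv] at he
      have hel : elt (rcode h) * (σ : ↥M24) = (σ : ↥M24) * elt (rcode h') := by
        rw [← he]; group
      refine C.vv_inj (q_lt _) (actP_lt _ _) ?_
      rw [← actP_elt (rList_lt (rcode_check.1 _ hh)), ← C.conj_vv, ← C.conj_vv]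
      calc C.D.el (elt (rcode h)) * (C.D.el σ * C.vv (v6 (x % 64)) * (C.D.el σ)⁻¹) *
            (C.D.el (elt (rcode h)))⁻¹
          = C.D.el (elt (rcode h) * (σ : ↥M24)) * C.vv (v6 (x % 64)) *
              (C.D.el (elt (rcode h) * (σ : ↥M24)))⁻¹ := by rw [C.D.el_mul]; group
        _ = C.D.el σ * (C.rr h' * C.vv (v6 (x % 64)) * (C.rr h')⁻¹) * (C.D.el σ)⁻¹ := by
              rw [hel, C.D.el_mul]; unfold rr; group
        _ = _ := by rw [C.rr_comm hh' (v6_mem _ (Nat.mod_lt x (by norm_num)))]; group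
    rw [show C.D.el σ * C.al x * (C.D.el σ)⁻¹ = C.D.el σ * C.vv (v6 (x % 64)) * (C.D.el σ)⁻¹ *
      (C.D.el σ * C.rr (x / 64) * (C.D.el σ)⁻¹) by rw [al]; group]
    exact mul_mem h2 h1
  rw [C.phi0_eq]
  refine mul_mem (C.mem_NA_of_maps ?_) hel
  rintro _ ⟨x, hx, rfl⟩
  set d := duadQ (idx (((σ : ↥M24) : Equiv.Perm GolayPt) (pt 4)))
  have hd := duadQ_facts.2 _ (idx_lt _) (stab_apply_notMem σ) (x / 64) (by omega)
  have he : C.vv d * C.al x * (C.vv d)⁻¹ =
      C.vv (v6 (x % 64)) * C.vv (act (M24Sylow.perm (rcode (x / 64))) d ^^^ d) * C.rr (x / 64) := by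
    rw [C.vv_xor, al, C.D.inv_eq (C.vv_mem d), mul_assoc, mul_assoc (C.vv (v6 _)),
      C.rr_vv (show x / 64 < 16 by omega), ← mul_assoc, ← mul_assoc]
    rw [C.D.comm (C.vv_mem d) (C.vv_mem (v6 (x % 64))), mul_assoc (C.vv (v6 _)),
      C.D.comm (C.vv_mem d) (C.vv_mem (act _ d))]
  rw [he]
  exact mul_mem (mul_mem (C.vv_mem_A (v6_mem _ (Nat.mod_lt x (by norm_num)))) (C.vv_mem_A hd))
    (C.rr_mem (by omega))

theorem phi0_NV (σ : ↥(MulAction.stabilizer ↥M24 oct)) : C.phi0 σ ∈ NV :=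
  mul_mem (Subgroup.le_normalizer (C.M.mem _)) (C.D.el_norm _)

theorem phi0_mem_A {σ : ↥(MulAction.stabilizer ↥M24 oct)} (h : C.phi0 σ ∈ C.A) : σ = 1 := by
  obtain ⟨x, hx, he⟩ := h
  rw [C.phi0_eq] at he
  obtain ⟨hd, hσ⟩ := C.code_inj (v6_lt _ (by omega)) (q_lt _) he
  set b := idx (((σ : ↥M24) : Equiv.Perm GolayPt) (pt 4))
  have hb : b = 4 := duadQ_facts.1 b (idx_lt _) (stab_apply_notMem σ)
    ((show v6 (x % 64) = duadQ b from hd) ▸ v6_mem _ (Nat.mod_lt x (by norm_num)))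
  have hR : (σ : ↥M24) ∈ Rgrp := hσ ▸ elt_mem_Rgrp (rcode_check.1 _ (by omega))
  rw [Rgrp, Cfsg.Agent.M24SylowTwo.fixO, Subgroup.mem_subgroupOf, mem_octadFix] at hR
  refine Subtype.ext (Subtype.ext ?_)
  refine eq_one_of_octad_point oct_mem hR.1 hR.2 (e := pt 4) ?_ ?_
  · rw [oct, mem_pts, idx_pt (by norm_num)]; decide
  · conv_rhs => rw [← hb, pt_idx]

theorem phiHom_injective : Function.Injective C.phiHom :=
  (injective_iff_map_eq_one _).mpr fun σ h =>
    C.phi0_mem_A (show C.phiHom σ ∈ C.A from h ▸ one_mem _)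

/-! ### The action on the points -/

/-- The point `p` is carried to the point `p'`. -/
def Rel (n : G) (p p' : ℕ) : Prop :=
  p' < 32 ∧ p' ≠ 0 ∧ ∀ y < 1024, ∀ y' < 1024, n * C.al y * n⁻¹ = C.al y' →
    ((ptSet p).testBit y = true ↔ (ptSet p').testBit y' = true)

theorem exists_img {n : G} (hn : n ∈ NA) {y : ℕ} (hy : y < 1024) :
    ∃ y' < 1024, n * C.al y * n⁻¹ = C.al y' := by
  obtain ⟨y', hy', he⟩ := C.NA_conj hn (C.al_mem hy)
  exact ⟨y', hy', he.symm⟩

theorem exists_preimg {n : G} (hn : n ∈ NA) {y : ℕ} (hy : y < 1024) :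
    ∃ y' < 1024, n * C.al y' * n⁻¹ = C.al y := by
  obtain ⟨y', hy', he⟩ := C.exists_img (inv_mem hn) hy
  exact ⟨y', hy', by rw [← he]; group⟩

theorem ptSet_lt {p y : ℕ} (hp : p < 32) (h : (ptSet p).testBit y = true) : y < 1024 := by
  by_contra hy
  have : ptSet p < 2 ^ y := ((by decide +kernel : ∀ p < 32, ptSet p < 2 ^ 1024) p hp).trans_le
    (Nat.pow_le_pow_right (by norm_num) (le_of_not_gt hy))
  rw [Nat.testBit_lt_two_pow this] at h
  exact absurd h (by simp)

theorem mem_elems {m x : ℕ} : x ∈ elems m ↔ x < 1024 ∧ m.testBit x = true := by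
  simp [elems]

theorem rel_exists (hS : C.SylowCent) {n : G} (hn : n ∈ NA) {p : ℕ} (hp : p < 32) (hp0 : p ≠ 0) :
    ∃ p', C.Rel n p p' := by
  classical
  choose f hf hfe using fun y (hy : y < 1024) => C.exists_img hn hy
  set g : ℕ → ℕ := fun y => if hy : y < 1024 then f y hy else 0 with hg
  have hgy : ∀ {y}, y < 1024 → g y < 1024 ∧ n * C.al y * n⁻¹ = C.al (g y) := fun {y} hy => by
    simp only [hg, dif_pos hy]
    exact ⟨hf y hy, hfe y hy⟩
  have hginj : ∀ {a b}, a < 1024 → b < 1024 → g a = g b → a = b := fun {a b} ha hb e => by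
    refine C.al_inj ha hb ?_
    have h1 := (hgy ha).2
    rw [e, ← (hgy hb).2] at h1
    simpa using h1
  have hgx : ∀ {a b}, a < 1024 → b < 1024 → g (a ^^^ b) = g a ^^^ g b := fun {a b} ha hb => by
    have hab : a ^^^ b < 1024 := Nat.xor_lt_two_pow (n := 10) ha hb
    refine C.al_inj (hgy hab).1 (Nat.xor_lt_two_pow (n := 10) (hgy ha).1 (hgy hb).1) ?_
    rw [← (hgy hab).2, C.al_xor ha hb, C.al_xor (hgy ha).1 (hgy hb).1, ← (hgy ha).2, ← (hgy hb).2]
    group
  set S : Finset ℕ := (elems (ptSet p)).image g with hS'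
  have hSz : ∀ x ∈ S, x < 1024 ∧ zero1.testBit x = true := by
    intro x hx
    obtain ⟨y, hy, rfl⟩ := Finset.mem_image.mp hx
    obtain ⟨hy1, hy2⟩ := mem_elems.mp hy
    refine ⟨(hgy hy1).1, ?_⟩
    have hz := ptSet_sub p hp hp0 y hy
    simp only [zero1, Nat.testBit_or, Bool.or_eq_true] at hz ⊢
    rcases hz with hz | hz
    · exact Or.inl ((C.z_iff hS (hgy hy1).1).mp (((C.z_iff hS hy1).mpr hz).trans
        (isConj_iff.mpr ⟨n, (hgy hy1).2⟩)))
    · have : y = 0 := by
        by_contra h0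
        rw [Nat.testBit_one_eq_true_iff_self_eq_zero] at hz
        omega
      subst this
      refine Or.inr ?_
      have : g 0 = 0 := C.al_inj (hgy hy1).1 (by norm_num)
        (by rw [← (hgy hy1).2, C.al_zero]; group)
      rw [this]
      decide
  have hcl : ∀ a ∈ S, ∀ b ∈ S, a ^^^ b ∈ S := by
    intro a ha b hb
    obtain ⟨y, hy, rfl⟩ := Finset.mem_image.mp ha
    obtain ⟨z, hz, rfl⟩ := Finset.mem_image.mp hb
    rw [← hgx (mem_elems.mp hy).1 (mem_elems.mp hz).1]
    exact Finset.mem_image_of_mem _ (mem_elems.mpr ⟨Nat.xor_lt_two_pow (n := 10)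
      (mem_elems.mp hy).1 (mem_elems.mp hz).1, ptSet_closed p hp hp0 y hy z hz⟩)
  have h0S : 0 ∈ S := by
    obtain ⟨x, hx⟩ : S.Nonempty := by
      rw [hS', Finset.image_nonempty, ← Finset.card_pos, ptSet_card p hp hp0]; norm_num
    simpa using hcl x hx x hx
  obtain ⟨L, u, hfin, -, hnd, hL⟩ := search_sound (φ := C.al) (B := (S : Set ℕ))
    (mul := fun a b => a ^^^ b) (adj := fun a b => zero1.testBit (a ^^^ b))
    (step := fun s _ => s) (fin := spaceFin)
    (fun a ha b hb => hcl a ha b hb)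
    (fun a ha b hb => C.al_xor (hSz a ha).1 (hSz b hb).1)
    (fun a ha b hb h => C.al_inj (hSz a ha).1 (hSz b hb).1 h)
    (fun a ha b hb => C.A_comm (C.al_mem (hSz a ha).1) (C.al_mem (hSz b hb).1))
    (fun a ha => C.al_sq (hSz a ha).1)
    (fun a ha b hb => (hSz _ (hcl a ha b hb)).2)
    (fun _ => True) (fun _ _ _ _ => trivial) 8 [0] ()
    ((List.range 1024).filter fun x => zSet.testBit x) spaceSearch
    (fun x hx => by rw [List.mem_singleton] at hx; subst hx; exact h0S)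
    (fun x hx y hy => by simp only [List.mem_singleton] at hx hy ⊢; subst hx; subst hy; rfl)
    (List.nodup_singleton 0) List.mem_cons_self C.al_zero trivial
    (fun b hb => by
      obtain ⟨h1, h2⟩ := hSz b hb
      simp only [zero1, Nat.testBit_or, Bool.or_eq_true,
        Nat.testBit_one_eq_true_iff_self_eq_zero] at h2
      rcases h2 with h2 | h2
      · exact Or.inr (List.mem_filter.mpr ⟨List.mem_range.mpr h1, h2⟩)
      · exact Or.inl (by rw [List.mem_singleton]; omega))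
  have hLS : L.toFinset = S := Finset.ext fun x => by rw [List.mem_toFinset, hL]; rfl
  have hScard : S.card = 16 := by
    rw [hS', Finset.card_image_of_injOn fun a ha b hb e =>
      hginj (mem_elems.mp ha).1 (mem_elems.mp hb).1 e, ptSet_card p hp hp0]
  have hlen : L.length = 16 := by rw [← List.toFinset_card_of_nodup hnd, hLS, hScard]
  simp only [spaceFin, hlen, beq_self_eq_true, Bool.not_true, Bool.false_or, List.any_eq_true,
    List.mem_range, Bool.and_eq_true, Bool.not_eq_true', beq_eq_false_iff_ne, List.all_eq_true]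
    at hfin
  obtain ⟨q', hq, hq0, hall⟩ := hfin
  have hSq : S = elems (ptSet q') := Finset.eq_of_subset_of_card_le
    (fun x hx => mem_elems.mpr ⟨(hSz x hx).1, hall x ((hL x).mpr hx)⟩)
    (le_of_eq (by rw [hScard, ptSet_card q' hq hq0]))
  refine ⟨q', hq, hq0, fun y hy y' hy' he => ?_⟩
  have hgy' : g y = y' := C.al_inj (hgy hy).1 hy' ((hgy hy).2.symm.trans he)
  constructor
  · intro h
    have : g y ∈ S := Finset.mem_image_of_mem _ (mem_elems.mpr ⟨hy, h⟩)
    rw [hSq, hgy'] at this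
    exact (mem_elems.mp this).2
  · intro h
    have : y' ∈ S := hSq ▸ mem_elems.mpr ⟨hy', h⟩
    obtain ⟨z, hz, hzy⟩ := Finset.mem_image.mp this
    rw [hginj hy (mem_elems.mp hz).1 (hgy'.trans hzy.symm)]
    exact (mem_elems.mp hz).2

theorem rel_unique {n : G} (hn : n ∈ NA) {p a b : ℕ} (ha : C.Rel n p a) (hb : C.Rel n p b) :
    a = b := by
  refine ptSet_inj a ha.1 b hb.1 (Nat.eq_of_testBit_eq fun y => ?_)
  rw [Bool.eq_iff_iff]
  constructor <;> intro h
  · obtain ⟨x, hx, he⟩ := C.exists_preimg hn (ptSet_lt ha.1 h)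
    exact (hb.2.2 x hx y (ptSet_lt ha.1 h) he).mp ((ha.2.2 x hx y (ptSet_lt ha.1 h) he).mpr h)
  · obtain ⟨x, hx, he⟩ := C.exists_preimg hn (ptSet_lt hb.1 h)
    exact (ha.2.2 x hx y (ptSet_lt hb.1 h) he).mp ((hb.2.2 x hx y (ptSet_lt hb.1 h) he).mpr h)

/-- The action of an element of the normaliser on the vectors. -/
noncomputable def sig (hS : C.SylowCent) (n : ↥NA) (p : ℕ) : ℕ :=
  if h : p < 32 ∧ p ≠ 0 then (C.rel_exists hS n.2 h.1 h.2).choose else 0

theorem sig_rel (hS : C.SylowCent) (n : ↥NA) {p : ℕ} (hp : p < 32) (hp0 : p ≠ 0) :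
    C.Rel n p (C.sig hS n p) := by
  rw [sig, dif_pos ⟨hp, hp0⟩]
  exact (C.rel_exists hS n.2 hp hp0).choose_spec

theorem sig_zero (hS : C.SylowCent) (n : ↥NA) : C.sig hS n 0 = 0 := by simp [sig]

theorem sig_lt (hS : C.SylowCent) (n : ↥NA) (p : ℕ) : C.sig hS n p < 32 := by
  by_cases h : p < 32 ∧ p ≠ 0
  · exact (C.sig_rel hS n h.1 h.2).1
  · simp [sig, h]

theorem sig_mul (hS : C.SylowCent) (n m : ↥NA) {p : ℕ} (hp : p < 32) :
    C.sig hS (n * m) p = C.sig hS n (C.sig hS m p) := by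
  rcases eq_or_ne p 0 with rfl | hp0
  · simp [C.sig_zero]
  have hm := C.sig_rel hS m hp hp0
  refine C.rel_unique (n := ((n * m : ↥NA) : G)) (n * m).2 (C.sig_rel hS _ hp hp0) ?_
  have hn := C.sig_rel hS n hm.1 hm.2.1
  refine ⟨hn.1, hn.2.1, fun y hy y'' hy'' he => ?_⟩
  obtain ⟨y', hy', he'⟩ := C.exists_img m.2 hy
  rw [hm.2.2 y hy y' hy' he']
  refine hn.2.2 y' hy' y'' hy'' ?_
  rw [← he', ← he, Subgroup.coe_mul]
  group

theorem sig_one (hS : C.SylowCent) {p : ℕ} (hp : p < 32) : C.sig hS 1 p = p := by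
  rcases eq_or_ne p 0 with rfl | hp0
  · simp [C.sig_zero]
  refine C.rel_unique (n := ((1 : ↥NA) : G)) (one_mem _) (C.sig_rel hS _ hp hp0)
    ⟨hp, hp0, fun y hy y' hy' he => ?_⟩
  have : y = y' := C.al_inj hy hy' (by simpa using he)
  rw [this]

theorem sig_inj (hS : C.SylowCent) (n : ↥NA) {p p' : ℕ} (hp : p < 32) (hp' : p' < 32)
    (h : C.sig hS n p = C.sig hS n p') : p = p' := by
  have := congrArg (C.sig hS n⁻¹) h
  rwa [← C.sig_mul hS _ _ hp, ← C.sig_mul hS _ _ hp', inv_mul_cancel, C.sig_one hS hp,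
    C.sig_one hS hp'] at this

theorem sig_ne_zero (hS : C.SylowCent) (n : ↥NA) {p : ℕ} (hp : p < 32) (hp0 : p ≠ 0) :
    C.sig hS n p ≠ 0 :=
  (C.sig_rel hS n hp hp0).2.1

theorem sig_wedge (hS : C.SylowCent) (n : ↥NA) {a b : ℕ} (ha : a < 32) (hb : b < 32) (ha0 : a ≠ 0)
    (hb0 : b ≠ 0) (hab : a ≠ b) :
    (n : G) * C.al (wedge a b) * (n : G)⁻¹ = C.al (wedge (C.sig hS n a) (C.sig hS n b)) := by
  obtain ⟨hw, hw0, hw2, -⟩ := line_check a ha b hb ha0 hb0 hab
  obtain ⟨y, hy, he⟩ := C.exists_img n.2 hw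
  have ra := C.sig_rel hS n ha ha0
  have rb := C.sig_rel hS n hb hb0
  obtain ⟨-, -, hw2', -⟩ := line_check _ ra.1 _ rb.1 ra.2.1 rb.2.1
    (fun e => hab (C.sig_inj hS n ha hb e))
  have hmem : (ptSet a &&& ptSet b).testBit (wedge a b) = true := by
    rw [hw2, Nat.testBit_or, Nat.one_shiftLeft, Nat.testBit_two_pow_self, Bool.or_true]
  rw [Nat.testBit_and, Bool.and_eq_true, ra.2.2 _ hw y hy he, rb.2.2 _ hw y hy he,
    ← Bool.and_eq_true, ← Nat.testBit_and, hw2', Nat.testBit_or, Bool.or_eq_true,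
    Nat.testBit_one_eq_true_iff_self_eq_zero, Nat.one_shiftLeft, Nat.testBit_two_pow,
    decide_eq_true_eq] at hmem
  rcases hmem with h | h
  · exfalso
    have : y = 0 := by omega
    subst this
    refine hw0 (C.al_inj hw (by norm_num) ?_)
    rw [C.al_zero] at he ⊢
    calc C.al (wedge a b) = (n : G)⁻¹ * ((n : G) * C.al (wedge a b) * (n : G)⁻¹) * n := by group
      _ = 1 := by rw [he]; group
  · rw [he, h]

theorem sig_xor (hS : C.SylowCent) (n : ↥NA) {a b : ℕ} (ha : a < 32) (hb : b < 32) :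
    C.sig hS n (a ^^^ b) = C.sig hS n a ^^^ C.sig hS n b := by
  rcases eq_or_ne a 0 with rfl | ha0
  · simp [C.sig_zero]
  rcases eq_or_ne b 0 with rfl | hb0
  · simp [C.sig_zero]
  rcases eq_or_ne a b with rfl | hab
  · simp [C.sig_zero]
  have hc : a ^^^ b < 32 := Nat.xor_lt_two_pow (n := 5) ha hb
  have hc0 : a ^^^ b ≠ 0 := fun e => hab (Nat.xor_eq_zero_iff.mp e)
  have rc := C.sig_rel hS n hc hc0
  obtain ⟨hw, -, -, -⟩ := line_check a ha b hb ha0 hb0 hab
  obtain ⟨hw', -, -, huniq⟩ := line_check _ (C.sig_lt hS n a) _ (C.sig_lt hS n b)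
    (C.sig_ne_zero hS n ha ha0) (C.sig_ne_zero hS n hb hb0) (fun e => hab (C.sig_inj hS n ha hb e))
  rcases huniq _ rc.1 rc.2.1 ((rc.2.2 _ hw _ hw' (C.sig_wedge hS n ha hb ha0 hb0 hab)).mp
    (line_third a ha b hb ha0 hb0 hab)) with h | h | h
  · exfalso
    have := C.sig_inj hS n hc ha h
    exact hb0 (Nat.xor_right_injective (this.trans (Nat.xor_zero a).symm))
  · exfalso
    have := C.sig_inj hS n hc hb h
    rw [Nat.xor_comm] at this
    exact ha0 (Nat.xor_right_injective (this.trans (Nat.xor_zero b).symm))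
  · exact h

/-- The matrix of an element of the normaliser. -/
noncomputable def mat (hS : C.SylowCent) (n : ↥NA) : Matrix (Fin 5) (Fin 5) (ZMod 2) :=
  Matrix.of fun i j => vecOf (C.sig hS n (2 ^ j.val)) i

theorem mat_mulVec (hS : C.SylowCent) (n : ↥NA) {x : ℕ} (hx : x < 32) :
    Matrix.mulVec (C.mat hS n) (vecOf x) = vecOf (C.sig hS n x) := by
  have hbase : ∀ j : Fin 5, Matrix.mulVec (C.mat hS n) (vecOf (2 ^ j.val)) =
      vecOf (C.sig hS n (2 ^ j.val)) := fun j => by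
    rw [vecOf_single, Matrix.mulVec_single_one]
    rfl
  have key : ∀ l : List ℕ, (∀ a ∈ l, a < 32 ∧ Matrix.mulVec (C.mat hS n) (vecOf a) =
      vecOf (C.sig hS n a)) → ∀ z, encAux l z < 32 ∧
      Matrix.mulVec (C.mat hS n) (vecOf (encAux l z)) = vecOf (C.sig hS n (encAux l z)) := by
    intro l
    induction l with
    | nil => intro _ z; simp [encAux, vecOf_zero, C.sig_zero]
    | cons a l ih =>
      intro hl z
      obtain ⟨i1, i2⟩ := ih (fun b hb => hl b (List.mem_cons_of_mem _ hb)) (z / 2)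
      obtain ⟨a1, a2⟩ := hl a List.mem_cons_self
      by_cases hz : z % 2 = 1
      · simp only [encAux, hz, if_true]
        exact ⟨Nat.xor_lt_two_pow (n := 5) a1 i1,
          by rw [vecOf_xor, Matrix.mulVec_add, a2, i2, C.sig_xor hS n a1 i1, vecOf_xor]⟩
      · simp only [encAux, hz, if_false, Nat.zero_xor]
        exact ⟨i1, i2⟩
  have h5 : ∀ x < 32, encAux [1, 2, 4, 8, 16] x = x := by decide +kernel
  rw [← h5 x hx]
  refine (key _ (fun a ha => ?_) x).2
  obtain ⟨j, rfl⟩ := (by decide : ∀ a ∈ [1, 2, 4, 8, 16], ∃ j : Fin 5, 2 ^ j.val = a) a ha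
  exact ⟨(by decide : ∀ j : Fin 5, 2 ^ j.val < 32) j, hbase j⟩

theorem mat_mul (hS : C.SylowCent) (n m : ↥NA) :
    C.mat hS (n * m) = C.mat hS n * C.mat hS m := by
  have h32 : ∀ j : Fin 5, 2 ^ j.val < 32 := by decide
  refine Matrix.ext_of_mulVec_single fun j => ?_
  rw [← Matrix.mulVec_mulVec, ← vecOf_single, C.mat_mulVec hS _ (h32 j),
    C.mat_mulVec hS _ (h32 j), C.mat_mulVec hS _ (C.sig_lt hS _ _), C.sig_mul hS n m (h32 j)]

theorem mat_one (hS : C.SylowCent) : C.mat hS 1 = 1 := by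
  have h32 : ∀ j : Fin 5, 2 ^ j.val < 32 := by decide
  refine Matrix.ext_of_mulVec_single fun j => ?_
  rw [← vecOf_single, C.mat_mulVec hS _ (h32 j), C.sig_one hS (h32 j), Matrix.one_mulVec]

theorem det_mat (hS : C.SylowCent) (n : ↥NA) : (C.mat hS n).det = 1 :=
  det_one_of_mul (b := (C.mat hS n⁻¹).det)
    (by rw [← Matrix.det_mul, ← C.mat_mul, mul_inv_cancel, C.mat_one, Matrix.det_one])

/-- The representation of the normaliser in dimension 5. -/
noncomputable def psi (hS : C.SylowCent) : ↥NA →* Matrix.SpecialLinearGroup (Fin 5) (ZMod 2) :=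
  MonoidHom.mk' (fun n => ⟨C.mat hS n, C.det_mat hS n⟩) fun n m => Subtype.ext (C.mat_mul hS n m)

theorem psi_ker (hS : C.SylowCent) {n : ↥NA} (h : C.psi hS n = 1) : (n : G) ∈ C.A := by
  have h32 : ∀ j, j < 5 → 2 ^ j < 32 := fun j hj =>
    (Nat.pow_lt_pow_right (by norm_num) hj).trans_le (by norm_num)
  have hmat : C.mat hS n = 1 := congrArg Subtype.val h
  have hsig : ∀ j < 5, C.sig hS n (2 ^ j) = 2 ^ j := fun j hj => by
    have := C.mat_mulVec hS n (h32 j hj)
    rw [hmat, Matrix.one_mulVec] at this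
    exact (vecOf_inj _ (h32 j hj) _ (C.sig_lt hS _ _) this).symm
  have hfix : ∀ i < 10, (n : G) * C.al (2 ^ i) * (n : G)⁻¹ = C.al (2 ^ i) := fun i hi => by
    obtain ⟨a, ha, b, hb, hab, hw⟩ := basis_wedge i hi
    have := C.sig_wedge hS n (h32 a ha) (h32 b hb) (by positivity) (by positivity)
      (fun e => hab (Nat.pow_right_injective le_rfl e))
    rw [hsig a ha, hsig b hb, hw] at this
    exact this
  have hF : List.Forall₂ (fun a b => a < 1024 ∧ b < 1024 ∧
      (n : G) * C.al a * (n : G)⁻¹ = C.al b) pows pows := by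
    refine List.forall₂_same.mpr fun a ha => ?_
    obtain ⟨i, hi, rfl⟩ := (by decide : ∀ a ∈ pows, ∃ i < 10, 2 ^ i = a) a ha
    exact ⟨(Nat.pow_lt_pow_right (by norm_num) hi).trans_le (by norm_num),
      (Nat.pow_lt_pow_right (by norm_num) hi).trans_le (by norm_num), hfix i hi⟩
  refine le_of_eq C.centralizer_A (Subgroup.mem_centralizer_iff.mpr ?_)
  rintro _ ⟨x, hx, rfl⟩
  obtain ⟨-, -, h2⟩ := C.conj_encAux (n : G) _ _ hF x
  rw [encAux_pows hx, mul_inv_eq_iff_eq_mul] at h2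
  exact h2.symm

/-! ### The complement -/

theorem exists_complement (hS : C.SylowCent) :
    ∃ B : Subgroup G, B ≤ NA ∧ B ⊓ C.A = ⊥ ∧ B ⊔ C.A = NA ∧
      Nonempty (↥B ≃* Matrix.SpecialLinearGroup (Fin 5) (ZMod 2)) := by
  classical
  set A0 : Subgroup ↥NA := C.A.subgroupOf NA with hA0
  haveI : A0.Normal := ⟨fun a ha g => Subgroup.mem_subgroupOf.mpr (by
    simpa using C.NA_conj g.2 (Subgroup.mem_subgroupOf.mp ha))⟩
  haveI : IsMulCommutative A0 := ⟨⟨fun a b => Subtype.ext (Subtype.ext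
    (C.A_comm (Subgroup.mem_subgroupOf.mp a.2) (Subgroup.mem_subgroupOf.mp b.2)))⟩⟩
  have hAle : C.A ≤ NA := Subgroup.le_normalizer
  have hcA0 : Nat.card ↥A0 = 1024 :=
    (Nat.card_congr (Subgroup.subgroupOfEquivOfLe hAle).toEquiv).trans C.card_A
  let φ : ↥(MulAction.stabilizer ↥M24 oct) →* ↥NA := C.phiHom.codRestrict NA C.phi0_NA
  have hφinj : Function.Injective φ := fun a b h => C.phiHom_injective (congrArg Subtype.val h)
  set B0 := φ.range with hB0
  have hcB0 : Nat.card ↥B0 = 322560 :=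
    (Nat.card_congr (MonoidHom.ofInjective hφinj).toEquiv).symm.trans natCard_stabOct
  have hinf : B0 ⊓ A0 = ⊥ := by
    rw [Subgroup.eq_bot_iff_forall]
    rintro _ ⟨⟨σ, rfl⟩, hA⟩
    rw [C.phi0_mem_A (Subgroup.mem_subgroupOf.mp hA), map_one]
  set U := A0 ⊔ B0 with hU
  have hcard_U : Nat.card ↥U = 1024 * 322560 := by
    have hdis : Disjoint A0 B0 := disjoint_iff.mpr (inf_comm A0 B0 ▸ hinf)
    rw [← hcA0, ← hcB0, ← Nat.card_prod]
    symm
    refine Nat.card_eq_of_bijective (fun ab => (⟨ab.1.1 * ab.2.1,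
      mul_mem (Subgroup.mem_sup_left ab.1.2) (Subgroup.mem_sup_right ab.2.2)⟩ : ↥U)) ⟨?_, ?_⟩
    · intro a b h
      exact Subgroup.mul_injective_of_disjoint hdis (congrArg Subtype.val h)
    · rintro ⟨x, hx⟩
      obtain ⟨a, ha, b, hb, rfl⟩ := Subgroup.mem_sup_of_normal_left.mp hx
      exact ⟨(⟨a, ha⟩, ⟨b, hb⟩), rfl⟩
  set H := (NA ⊓ NV).subgroupOf NA with hH
  have hUH : U ≤ H := by
    refine sup_le (fun a ha => Subgroup.mem_subgroupOf.mpr
      ⟨a.2, C.A_le (Subgroup.mem_subgroupOf.mp ha)⟩) ?_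
    rintro _ ⟨σ, rfl⟩
    exact Subgroup.mem_subgroupOf.mpr ⟨C.phi0_NA σ, C.phi0_NV σ⟩
  have hcNA : Nat.card ↥NA ≤ 1024 * 9999360 := by
    have h1 := (C.psi hS).ker.index_mul_card
    have h2 : Nat.card ↥(C.psi hS).ker ≤ 1024 := hcA0 ▸ Subgroup.card_le_of_le
      (fun n hn => Subgroup.mem_subgroupOf.mpr (C.psi_ker hS hn))
    have h3 : (C.psi hS).ker.index ≤ 9999360 := by
      rw [Subgroup.index_ker, ← natCard_SL5]
      exact Subgroup.card_le_card_group _
    rw [← h1, mul_comm 1024]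
    exact Nat.mul_le_mul h3 h2
  have hcH : Nat.card ↥H * 31 = Nat.card ↥NA := by
    rw [← H.index_mul_card, C.index_NAV hS, mul_comm]
  have hUcard : Nat.card ↥U ≤ Nat.card ↥H := Subgroup.card_le_of_le hUH
  have hindex : U.index = 31 := by
    have := U.index_mul_card
    rw [hcard_U] at this hUcard
    have h4 : Nat.card ↥NA = 31 * (1024 * 322560) := by omega
    omega
  obtain ⟨K, hK⟩ := Cfsg.Agent.Solvable.gaschutz_exists (K := A0) (U := U) le_sup_left
    (by rw [hcA0, hindex]; decide) hinf (by rw [hU])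
  have hKinj : Function.Injective ((C.psi hS).comp K.subtype) := by
    refine (injective_iff_map_eq_one _).mpr fun k hk => Subtype.ext ?_
    have : (k : ↥NA) ∈ A0 ⊓ K := ⟨Subgroup.mem_subgroupOf.mpr (C.psi_ker hS hk), k.2⟩
    rwa [disjoint_iff.mp hK.disjoint, Subgroup.mem_bot] at this
  have hcK : Nat.card ↥K = 9999360 := by
    have h5 := hK.card_mul
    have h6 := U.index_mul_card
    rw [hindex, hcard_U] at h6
    rw [hcA0, ← h6] at h5
    omega
  have hbij : Function.Bijective ((C.psi hS).comp K.subtype) :=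
    (Nat.bijective_iff_injective_and_card _).mpr ⟨hKinj, hcK.trans natCard_SL5.symm⟩
  refine ⟨K.map (Subgroup.subtype NA), Subgroup.map_subtype_le K, ?_, ?_, ⟨?_⟩⟩
  · rw [Subgroup.eq_bot_iff_forall]
    rintro _ ⟨⟨k, hk, rfl⟩, hA⟩
    have : k ∈ A0 ⊓ K := ⟨Subgroup.mem_subgroupOf.mpr hA, hk⟩
    rw [disjoint_iff.mp hK.disjoint, Subgroup.mem_bot] at this
    rw [this]; rfl
  · refine le_antisymm (sup_le (Subgroup.map_subtype_le K) hAle) fun n hn => ?_
    have hmem : (⟨n, hn⟩ : ↥NA) ∈ K ⊔ A0 := by rw [sup_comm, hK.sup_eq_top]; trivial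
    have := Subgroup.mem_map_of_mem (Subgroup.subtype NA) hmem
    rw [Subgroup.map_sup, hA0, Subgroup.map_subgroupOf_eq_of_le hAle] at this
    exact this
  · exact ((K.equivMapOfInjective _ (Subgroup.subtype_injective _)).symm).trans
      (MulEquiv.ofBijective _ hbij)

end Ctx

end Cfsg.Agent.J4Type.TwoTen
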