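/-
Groups of Janko-four type: the self-centralising elementary abelian subgroups of order 2 ^ 10
(owner: helper81; for S5570, S5571), from the statements of S5563, S5564, S5566, S5567, S5568.

Main results: `exists_ctx`, `Main.self_centralizing`, `Main.orbits`.
-/
import Cfsg.Agent.Lib.J4Type.TwoTenLinear
import Cfsg.Agent.Lib.J4Type.SecondClass

set_option autoImplicit false
set_option linter.unusedSectionVars false
open scoped Pointwise
open Cfsg Cfsg.Agent.J4Type

namespace Cfsg.Agent.J4Type.TwoTen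

variable {G : Type*} [Group G] [Finite G]

/-- The centraliser of `v` in `N` has index the length of the orbit of `v`. -/
theorem ncard_conj_orbit (N : Subgroup G) (v : G) :
    Set.ncard {x : G | ∃ n ∈ N, n * v * n⁻¹ = x} =
      ((Subgroup.centralizer ({v} : Set G)).subgroupOf N).index := by
  classical
  set H := (Subgroup.centralizer ({v} : Set G)).subgroupOf N with hH
  have hiff : ∀ a b : ↥N, (a : G) * v * (a : G)⁻¹ = (b : G) * v * (b : G)⁻¹ ↔ a⁻¹ * b ∈ H := by
    intro a b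
    rw [hH, Subgroup.mem_subgroupOf, Subgroup.mem_centralizer_singleton_iff]
    push_cast
    constructor
    · intro h
      calc (a : G)⁻¹ * b * v = (a : G)⁻¹ * ((b : G) * v * (b : G)⁻¹) * b := by group
        _ = _ := by rw [← h]; group
    · intro h
      calc (a : G) * v * (a : G)⁻¹ = (a : G) * (v * ((a : G)⁻¹ * b)) * (b : G)⁻¹ := by group
        _ = _ := by rw [← h]; group
  rw [← Nat.card_coe_set_eq, Subgroup.index]
  symm
  refine Nat.card_eq_of_bijective (fun q => (⟨(q.out : G) * v * (q.out : G)⁻¹, q.out, q.out.2, rfl⟩ :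
    ↥{x : G | ∃ n ∈ N, n * v * n⁻¹ = x})) ⟨?_, ?_⟩
  · intro a b h
    rw [← QuotientGroup.out_eq' a, ← QuotientGroup.out_eq' b]
    exact QuotientGroup.eq.mpr ((hiff _ _).mp (congrArg Subtype.val h))
  · rintro ⟨_, n, hn, rfl⟩
    refine ⟨QuotientGroup.mk ⟨n, hn⟩, Subtype.ext ?_⟩
    exact (hiff _ ⟨n, hn⟩).mpr (QuotientGroup.eq.mp (QuotientGroup.out_eq' _))

/-- A Sylow 2-subgroup containing an elementary subgroup of order 2048, the only one, normalises it. -/
theorem sylow_le_normalizer (T : Sylow 2 G)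
    (huniq : ∃! W : Subgroup G, W ≤ (T : Subgroup G) ∧ Cfsg.IsElementaryAbelian 2 W ∧
      Nat.card ↥W = 2 ^ 11)
    {V : Subgroup G} (hVT : V ≤ (T : Subgroup G)) (hV : Cfsg.IsElementaryAbelian 2 V)
    (hc : Nat.card ↥V = 2 ^ 11) : (T : Subgroup G) ≤ Subgroup.normalizer (V : Set G) := by
  intro x hx
  obtain ⟨W, -, hW⟩ := huniq
  have hmap : V.map (MulAut.conj x).toMonoidHom = V := by
    refine (hW _ ⟨?_, ⟨⟨⟨fun a b => ?_⟩⟩, ?_⟩,
      (Subgroup.card_map_of_injective (MulEquiv.injective _)).trans hc⟩).trans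
      (hW V ⟨hVT, hV, hc⟩).symm
    · rintro _ ⟨v, hv, rfl⟩
      exact mul_mem (mul_mem hx (hVT hv)) (inv_mem hx)
    · obtain ⟨_, v, hv, rfl⟩ := a
      obtain ⟨_, w, hw, rfl⟩ := b
      refine Subtype.ext ?_
      show (MulAut.conj x).toMonoidHom v * (MulAut.conj x).toMonoidHom w = _ * _
      rw [← map_mul, ← map_mul,
        show v * w = w * v from congrArg Subtype.val (hV.1.is_comm.comm ⟨v, hv⟩ ⟨w, hw⟩)]
    · rintro _ ⟨v, hv, rfl⟩
      rw [← map_pow, hV.2 v hv, map_one]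
  refine Subgroup.mem_normalizer_iff.mpr fun v => ⟨fun hv => hmap ▸ ⟨v, hv, rfl⟩, fun hv => ?_⟩
  rw [← hmap] at hv
  obtain ⟨w, hw, hwv⟩ := hv
  simp only [MulEquiv.coe_toMonoidHom, MulAut.conj_apply, mul_right_inj, mul_left_inj] at hwv
  exact hwv ▸ hw

/-- The hypotheses, in the shape of the statements S5566, S5567, S5568, S5564 and S5563. -/
structure Inputs (z : G) (P : Subgroup G) : Prop where
  typeWith : Cfsg.IsOfJankoFourTypeWith z P
  uniq : ∀ T : Sylow 2 G, ∃! W : Subgroup G, W ≤ (T : Subgroup G) ∧ Cfsg.IsElementaryAbelian 2 W ∧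
    Nat.card ↥W = 2 ^ 11
  split : ∀ V : Subgroup G, Cfsg.IsElementaryAbelian 2 V → Nat.card ↥V = 2 ^ 11 →
    Subgroup.centralizer (V : Set G) ≤ V ∧ ∃ K : Subgroup G, K ≤ Subgroup.normalizer (V : Set G) ∧
      K ⊓ V = ⊥ ∧ K ⊔ V = Subgroup.normalizer (V : Set G) ∧ Cfsg.Spor.IsoM24 ↥K
  orb : ∀ V : Subgroup G, Cfsg.IsElementaryAbelian 2 V → Nat.card ↥V = 2 ^ 11 →
    ∃ z' t : G, z' ∈ V ∧ t ∈ V ∧ t ≠ 1 ∧ IsConj z z' ∧ ¬ IsConj z t ∧
      Set.ncard {v : G | ∃ n ∈ Subgroup.normalizer (V : Set G), n * z' * n⁻¹ = v} = 1771 ∧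
      Set.ncard {v : G | ∃ n ∈ Subgroup.normalizer (V : Set G), n * t * n⁻¹ = v} = 276 ∧
      Subgroup.centralizer ({t} : Set G) ≤ Subgroup.normalizer (V : Set G)
  three : ∀ x y : G, orderOf x = 3 → orderOf y = 3 → IsConj x y
  local3 : ⁅(Subgroup.centralizer ({z} : Set G) ⊓ Subgroup.centralizer (P : Set G)),
        (Subgroup.centralizer ({z} : Set G) ⊓ Subgroup.centralizer (P : Set G))⁆ =
        (Subgroup.centralizer ({z} : Set G) ⊓ Subgroup.centralizer (P : Set G)) ∧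
      IsCyclic ↥(Subgroup.center ↥(Subgroup.centralizer ({z} : Set G) ⊓ Subgroup.centralizer (P : Set G))) ∧
      Nat.card ↥(Subgroup.center ↥(Subgroup.centralizer ({z} : Set G) ⊓ Subgroup.centralizer (P : Set G))) = 6 ∧
      Cfsg.Spor.IsoM22 (↥(Subgroup.centralizer ({z} : Set G) ⊓ Subgroup.centralizer (P : Set G)) ⧸
        Subgroup.center ↥(Subgroup.centralizer ({z} : Set G) ⊓ Subgroup.centralizer (P : Set G))) ∧
      Subgroup.normalizer (P : Set G) ≤ Subgroup.centralizer ({z} : Set G)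

theorem exists_ctx {z : G} {P : Subgroup G} (h : Inputs z P) :
    ∃ C : Ctx G, C.z = z ∧ C.SylowCent := by
  haveI : Fact (Nat.Prime 2) := ⟨Nat.prime_two⟩
  obtain ⟨T⟩ := (inferInstance : Nonempty (Sylow 2 G))
  obtain ⟨V, ⟨hVT, hV, hVc⟩, -⟩ := h.uniq T
  have hTN := sylow_le_normalizer T (h.uniq T) hVT hV hVc
  obtain ⟨D₀, hzs, hzt, hC⟩ := SecondClass.exists_splitData hV hVc (h.split V hV hVc) (h.orb V hV hVc)
  -- transfer to the subgroup chosen by the structure
  have key : ∀ (D : SplitData G) (W : Subgroup G), Cfsg.IsElementaryAbelian 2 W →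
      Nat.card ↥W = 2 ^ 11 → W ≤ Subgroup.normalizer (D.V : Set G) → W = D.V := by
    intro D W hW hWc hWN
    have hp : IsPGroup 2 ↥(W ⊔ D.V) :=
      IsPGroup.to_sup_of_normal_right' (IsPGroup.of_card (n := 11) hWc)
        (IsPGroup.of_card (n := 11) D.card) hWN
    obtain ⟨T', hT'⟩ := hp.exists_le_sylow
    obtain ⟨X, -, hX⟩ := h.uniq T'
    exact (hX W ⟨le_sup_left.trans hT', hW, hWc⟩).trans
      (hX D.V ⟨le_sup_right.trans hT', D.elem, D.card⟩).symm
  obtain ⟨M⟩ := exists_vModel D₀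
  have hsyl : ∃ T₀ : Sylow 2 G, (T₀ : Subgroup G) ≤ Subgroup.normalizer (D₀.V : Set G) := by
    obtain ⟨T', hT'⟩ := (IsPGroup.of_card (p := 2) (n := 11) D₀.card).exists_le_sylow
    exact ⟨T', sylow_le_normalizer T' (h.uniq T') hT' D₀.elem D₀.card⟩
  obtain ⟨T₀, hT₀⟩ := hsyl
  let C : Ctx G :=
    { D := D₀
      M := M
      z := z
      s_conj := hzs
      t_not := hzt
      t_cent := hC
      unique := key D₀
      invol := fun a ha => SecondClass.isConj_or h.typeWith D₀ hzs hzt h.uniq h.three h.local3 ha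
      sylow := fun Q hQ => by
        obtain ⟨T', hT'⟩ := hQ.exists_le_sylow
        obtain ⟨g, hg⟩ := MulAction.exists_smul_eq G T' T₀
        refine ⟨g, fun x hx => hT₀ ?_⟩
        rw [← hg, Sylow.coe_subgroup_smul]
        exact ⟨x, hT' hx, rfl⟩ }
  refine ⟨C, rfl, fun v hv hv1 Q hQ hQv => ?_⟩
  rcases D₀.eq_one_or hv with h1 | ⟨σ, hσ⟩ | ⟨σ, hσ⟩
  · exact absurd h1 hv1
  · refine ⟨1, one_mem _, fun x hx => ?_⟩
    rw [one_mul, inv_one, mul_one]
    exact C.t_centralizer hv (isConj_iff.mpr ⟨_, hσ⟩) (hQv hx)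
  · set N := Subgroup.normalizer (D₀.V : Set G) with hN
    set Cv := Subgroup.centralizer ({v} : Set G) with hCv
    have hidx : (Cv.subgroupOf N).index = 1771 := by
      rw [hCv, ← ncard_conj_orbit, ← D₀.s_orbit]
      congr 1
      ext x
      constructor
      · rintro ⟨n, hn, rfl⟩
        exact ⟨n * D₀.el σ, mul_mem hn (D₀.el_norm σ), by rw [← hσ]; group⟩
      · rintro ⟨n, hn, rfl⟩
        exact ⟨n * (D₀.el σ)⁻¹, mul_mem hn (inv_mem (D₀.el_norm σ)), by rw [← hσ]; group⟩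
    obtain ⟨k, hk⟩ := IsPGroup.iff_card.mp T₀.isPGroup'
    have hdvd : 2 ^ k ∣ Nat.card ↥(Cv.subgroupOf N) := by
      have h1 := hk ▸ Subgroup.card_dvd_of_le hT₀
      rw [← (Cv.subgroupOf N).index_mul_card, hidx] at h1
      exact (Nat.Coprime.pow_left k (by norm_num : Nat.Coprime 2 1771)).dvd_of_dvd_mul_left h1
    obtain ⟨R, hR⟩ := Sylow.exists_subgroup_card_pow_prime 2 hdvd
    set R' : Subgroup G := (R.map (Cv.subgroupOf N).subtype).map N.subtype with hR'
    have hR'c : Nat.card ↥R' = 2 ^ k := by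
      rw [hR', Subgroup.card_map_of_injective N.subtype_injective,
        Subgroup.card_map_of_injective (Subgroup.subtype_injective _), hR]
    have hR'le : R' ≤ N ⊓ Cv := by
      rintro _ ⟨_, ⟨⟨⟨x, hx⟩, hxc⟩, -, rfl⟩, rfl⟩
      exact ⟨hx, Subgroup.mem_subgroupOf.mp hxc⟩
    have hRp : IsPGroup 2 ↥(R'.subgroupOf Cv) :=
      (IsPGroup.of_card (n := k) hR'c).of_equiv
        (Subgroup.subgroupOfEquivOfLe (hR'le.trans inf_le_right)).symm
    obtain ⟨S, hS⟩ := hRp.exists_le_sylow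
    have hSR : (S : Subgroup ↥Cv) = R'.subgroupOf Cv := by
      refine (Subgroup.eq_of_le_of_card_ge hS ?_).symm
      rw [Nat.card_congr (Subgroup.subgroupOfEquivOfLe (hR'le.trans inf_le_right)).toEquiv, hR'c,
        ← Subgroup.card_map_of_injective Cv.subtype_injective]
      obtain ⟨T', hT'⟩ := (S.isPGroup'.map Cv.subtype).exists_le_sylow
      refine (Subgroup.card_le_of_le hT').trans ?_
      rw [Nat.card_congr (Sylow.equiv T' T₀).toEquiv, hk]
    have hQp : IsPGroup 2 ↥(Q.subgroupOf Cv) :=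
      hQ.of_equiv (Subgroup.subgroupOfEquivOfLe hQv).symm
    obtain ⟨S', hS'⟩ := hQp.exists_le_sylow
    obtain ⟨c, hc⟩ := MulAction.exists_smul_eq ↥Cv S' S
    refine ⟨c, c.2, fun x hx => ?_⟩
    have h1 : c * ⟨x, hQv hx⟩ * c⁻¹ ∈ (S : Subgroup ↥Cv) := by
      rw [← hc, Sylow.coe_subgroup_smul]
      exact ⟨⟨x, hQv hx⟩, hS' (Subgroup.mem_subgroupOf.mpr hx), rfl⟩
    rw [hSR, Subgroup.mem_subgroupOf] at h1
    exact (hR'le h1).1

/-- Conjugation carries normalisers to normalisers. -/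
theorem mem_normalizer_map {A : Subgroup G} {g n : G} :
    n ∈ Subgroup.normalizer (A.map (MulAut.conj g).toMonoidHom : Set G) ↔
      g⁻¹ * n * g ∈ Subgroup.normalizer (A : Set G) := by
  have hm : ∀ x, x ∈ A.map (MulAut.conj g).toMonoidHom ↔ g⁻¹ * x * g ∈ A := fun x => by
    rw [Subgroup.mem_map_equiv, MulAut.conj_symm_apply]
  simp only [Subgroup.mem_normalizer_iff, hm]
  constructor
  · intro h y
    have := h (g * y * g⁻¹)
    simp only [mul_assoc, inv_mul_cancel, mul_one, inv_mul_cancel_left] at this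
    simp only [mul_inv_rev, inv_inv, mul_assoc]
    exact this
  · intro h x
    have := h (g⁻¹ * x * g)
    simp only [mul_inv_rev, inv_inv, mul_assoc, mul_inv_cancel_left] at this ⊢
    exact this

/-- The conclusion of S5570. -/
theorem self_centralizing {z : G} {P : Subgroup G} (h : Inputs z P) :
    (∃ A : Subgroup G, Cfsg.IsElementaryAbelian 2 A ∧ Nat.card ↥A = 2 ^ 10 ∧ Subgroup.centralizer (A : Set G) = A) ∧
    (∀ A A' : Subgroup G, Cfsg.IsElementaryAbelian 2 A → Nat.card ↥A = 2 ^ 10 → Subgroup.centralizer (A : Set G) = A → Cfsg.IsElementaryAbelian 2 A' → Nat.card ↥A' = 2 ^ 10 → Subgroup.centralizer (A' : Set G) = A' → ∃ g : G, A' = A.map (MulAut.conj g).toMonoidHom) ∧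
    ∀ A : Subgroup G, Cfsg.IsElementaryAbelian 2 A → Nat.card ↥A = 2 ^ 10 → Subgroup.centralizer (A : Set G) = A →
      (∃ B : Subgroup G, B ≤ Subgroup.normalizer (A : Set G) ∧ B ⊓ A = ⊥ ∧ B ⊔ A = Subgroup.normalizer (A : Set G) ∧
        Nonempty (↥B ≃* Matrix.SpecialLinearGroup (Fin 5) (ZMod 2))) ∧
      ∀ W : Subgroup G, W ≤ A → Subgroup.normalizer (A : Set G) ≤ Subgroup.normalizer (W : Set G) → W = ⊥ ∨ W = A := by
  obtain ⟨C, -, hS⟩ := exists_ctx h
  refine ⟨⟨C.A, C.elem_A, C.card_A.trans (by norm_num), C.centralizer_A⟩, ?_, ?_⟩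
  · intro A A' hA hAc hAs hA' hA'c hA's
    obtain ⟨g, rfl, -⟩ := C.exists_conj_A hA hAc hAs
    obtain ⟨g', rfl, -⟩ := C.exists_conj_A hA' hA'c hA's
    refine ⟨g' * g⁻¹, ?_⟩
    rw [Subgroup.map_map]
    congr 1
    ext x
    simp [mul_assoc]
  · intro A hA hAc hAs
    obtain ⟨g, rfl, -⟩ := C.exists_conj_A hA hAc hAs
    set f := (MulAut.conj g).toMonoidHom
    have hf : Function.Injective f := (MulAut.conj g).injective
    have hnorm : (Subgroup.normalizer (C.A : Set G)).map f =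
        Subgroup.normalizer (C.A.map f : Set G) := by
      ext n
      rw [mem_normalizer_map, Subgroup.mem_map_equiv, MulAut.conj_symm_apply]
    constructor
    · obtain ⟨B, hB, hinf, hsup, ⟨e⟩⟩ := C.exists_complement hS
      refine ⟨B.map f, hnorm ▸ Subgroup.map_mono hB, ?_, ?_,
        ⟨(B.equivMapOfInjective f hf).symm.trans e⟩⟩
      · rw [← Subgroup.map_inf _ _ f hf, hinf, Subgroup.map_bot]
      · rw [← Subgroup.map_sup, hsup, hnorm]
    · intro W hW hWN
      have hW' : W.comap f ≤ C.A :=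
        fun x hx => (Subgroup.mem_map_iff_mem hf).mp (hW hx)
      have hNW : Subgroup.normalizer (C.A : Set G) ≤ Subgroup.normalizer (W.comap f : Set G) := by
        intro n hn
        refine Subgroup.mem_normalizer_iff.mpr fun x => ?_
        rw [Subgroup.mem_comap, Subgroup.mem_comap, map_mul, map_mul, map_inv]
        refine Subgroup.mem_normalizer_iff.mp (hWN ?_) _
        rw [← hnorm]
        exact ⟨n, hn, rfl⟩
      have hmap : (W.comap f).map f = W :=
        Subgroup.map_comap_eq_self (fun x _ => ⟨(MulAut.conj g).symm x,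
          (MulAut.conj g).apply_symm_apply x⟩)
      rcases C.irreducible hS _ hW' hNW with e | e
      · exact Or.inl (by rw [← hmap, e, Subgroup.map_bot])
      · exact Or.inr (by rw [← hmap, e])

/-- The conclusion of S5571. -/
theorem orbits {z : G} {P : Subgroup G} (h : Inputs z P) (A : Subgroup G)
    (hA : Cfsg.IsElementaryAbelian 2 A) (hcard : Nat.card ↥A = 2 ^ 10)
    (hself : Subgroup.centralizer (A : Set G) = A) :
    ∃ a b : G, a ∈ A ∧ b ∈ A ∧ Set.ncard {v : G | ∃ n ∈ Subgroup.normalizer (A : Set G), n * a * n⁻¹ = v} = 155 ∧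
    Set.ncard {v : G | ∃ n ∈ Subgroup.normalizer (A : Set G), n * b * n⁻¹ = v} = 868 := by
  obtain ⟨C, -, hS⟩ := exists_ctx h
  obtain ⟨g, rfl, -⟩ := C.exists_conj_A hA hcard hself
  have htr : ∀ x, {v : G | ∃ n ∈ Subgroup.normalizer (C.A.map (MulAut.conj g).toMonoidHom : Set G),
      n * (g * x * g⁻¹) * n⁻¹ = v} =
      (fun v => g * v * g⁻¹) '' {v : G | ∃ n ∈ Subgroup.normalizer (C.A : Set G), n * x * n⁻¹ = v} := by
    intro x
    ext v
    simp only [Set.mem_ofPred_eq, Set.mem_image, mem_normalizer_map]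
    constructor
    · rintro ⟨n, hn, rfl⟩
      exact ⟨_, ⟨g⁻¹ * n * g, hn, rfl⟩, by group⟩
    · rintro ⟨_, ⟨n, hn, rfl⟩, rfl⟩
      refine ⟨g * n * g⁻¹, ?_, by group⟩
      rw [show g⁻¹ * (g * n * g⁻¹) * g = n by group]
      exact hn
  have hinj : Function.Injective fun v : G => g * v * g⁻¹ := fun a b e => by simpa using e
  refine ⟨g * C.al 1 * g⁻¹, g * C.al 12 * g⁻¹, ⟨_, C.al_mem (by norm_num), rfl⟩,
    ⟨_, C.al_mem (by norm_num), rfl⟩, ?_, ?_⟩
  · rw [htr, Set.ncard_image_of_injective _ hinj, C.orbit_z hS]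
    exact C.ncard_orbit card_sets.2.1
  · rw [htr, Set.ncard_image_of_injective _ hinj, C.orbit_t hS]
    exact C.ncard_orbit card_sets.2.2.1

end Cfsg.Agent.J4Type.TwoTen
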