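/-
Generic lemmas for the 3-local part of the Janko-four type.

Main results (namespace `Cfsg.Agent.J4Type.Three`):
* `free_false` : the module argument behind the isolation of `z` in `C(P)`
* `card_fix_sixteen` : fixed points of a non-central element of an extraspecial 3-group, `2 ^ 12` points
* `index_ne_three` : a perfect group has no involutory element fixing exactly a third of an odd group
* `not_mem_commutator_of_central` : transfer into an abelian Sylow subgroup
* `exists_outside_cube_one` : nonabelian groups of order 27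
-/
import Cfsg.Agent.EqLemmas
import Mathlib

set_option autoImplicit false
set_option linter.unusedSectionVars false

namespace Cfsg.Agent.J4Type.Three

open Subgroup

/-- The fixed subgroup of an automorphism. -/
def fix {V : Type*} [Group V] (a : MulAut V) : Subgroup V where
  carrier := {v | a v = v}
  one_mem' := map_one a
  mul_mem' {u v} hu hv := by
    show a (u * v) = u * v
    rw [map_mul, show a u = u from hu, show a v = v from hv]
  inv_mem' {u} hu := by
    show a u⁻¹ = u⁻¹
    rw [map_inv, show a u = u from hu]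

theorem mem_fix {V : Type*} [Group V] {a : MulAut V} {v : V} : v ∈ fix a ↔ a v = v := Iff.rfl

/-- The kernel of an endomorphism of an elementary abelian group of order `2 ^ 12`. -/
theorem free_false {Q : Type*} [CommGroup Q] [Finite Q] (h2 : ∀ q : Q, q * q = 1)
    (hc : Nat.card Q = 2 ^ 12) {k p : MulAut Q} (hkp : Commute k p) (hp : p ^ 3 = 1)
    (hfree : ∀ q, p q = q → q = 1) (hk : k ^ 4 = 1) (hfix : Nat.card (fix (k ^ 2)) ≤ 2 ^ 6) :
    False := by
  haveI : Fact (Nat.Prime 3) := ⟨by norm_num⟩
  have hinv : ∀ q : Q, q⁻¹ = q := fun q => inv_eq_of_mul_eq_one_right (h2 q)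
  set f : Q →* Q := k.toMonoidHom * MonoidHom.id Q with hf
  have hfa : ∀ q, f q = k q * q := fun q => rfl
  have hff : ∀ q, f (f q) = (k ^ 2) q * q := by
    intro q
    rw [hfa, hfa, map_mul, sq, MulAut.mul_apply,
      show k (k q) * k q * (k q * q) = k (k q) * (k q * k q) * q by simp only [mul_assoc],
      h2, mul_one]
  have hk4 : ∀ q, f (f (f (f q))) = 1 := by
    intro q
    rw [hff, hff, map_mul, show (k ^ 2) ((k ^ 2) q) = q by
      rw [← MulAut.mul_apply, ← pow_add, hk, MulAut.one_apply],
      show q * (k ^ 2) q * ((k ^ 2) q * q) = q * ((k ^ 2) q * (k ^ 2) q) * q by simp only [mul_assoc],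
      h2, mul_one, h2]
  set F : Q →* Q := f.comp f with hF
  have hker2 : F.ker = fix (k ^ 2) := by
    ext q
    rw [MonoidHom.mem_ker, mem_fix, hF, MonoidHom.comp_apply, hff, mul_eq_one_iff_eq_inv, hinv]
  have hle : F.range ≤ F.ker := by
    rintro _ ⟨q, rfl⟩
    exact hk4 q
  have hmul : Nat.card F.ker * Nat.card F.range = 2 ^ 12 := by
    rw [← hc, ← Subgroup.index_ker, Subgroup.card_mul_index]
  have h6 : Nat.card F.ker = 2 ^ 6 := by
    have h1 := Subgroup.card_le_of_le hle
    rw [hker2] at hmul h1 ⊢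
    nlinarith
  have heq : F.range = F.ker := by
    refine Subgroup.eq_of_le_of_card_ge hle ?_
    rw [h6] at hmul
    omega
  -- `f` maps `ker F` onto `ker f`
  set g : F.ker →* Q := f.comp F.ker.subtype with hg
  have hgr : g.range = f.ker := by
    ext v
    constructor
    · rintro ⟨⟨u, hu⟩, rfl⟩
      exact hu
    · intro hv
      obtain ⟨w, rfl⟩ : v ∈ F.range := heq ▸ (show f (f v) = 1 by
        rw [show f v = 1 from hv, map_one])
      exact ⟨⟨f w, hv⟩, rfl⟩
  have hgk : Nat.card g.ker = Nat.card f.ker := by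
    have hkF : f.ker ≤ F.ker := fun v hv => by
      show f (f v) = 1
      rw [show f v = 1 from hv, map_one]
    rw [show g.ker = f.ker.subgroupOf F.ker from rfl]
    exact Nat.card_congr (Subgroup.subgroupOfEquivOfLe hkF).toEquiv
  have h8 : Nat.card f.ker = 2 ^ 3 := by
    have h := Subgroup.card_mul_index g.ker
    rw [Subgroup.index_ker, hgr, hgk, h6] at h
    exact Nat.mul_self_inj.1 h
  -- `p` acts on it without fixed points
  have hpk : ∀ q ∈ f.ker, p q ∈ f.ker := by
    intro q hq
    show k (p q) * p q = 1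
    rw [← MulAut.mul_apply, hkp.eq, MulAut.mul_apply, ← map_mul,
      show k q * q = 1 from hq, map_one]
  let σ : Equiv.Perm f.ker :=
    { toFun := fun q => ⟨p q, hpk q q.2⟩
      invFun := fun q => ⟨p (p q), hpk _ (hpk q q.2)⟩
      left_inv := fun q => Subtype.ext (by
        show p (p (p (q : Q))) = q
        rw [← MulAut.mul_apply, ← MulAut.mul_apply, ← pow_three', hp, MulAut.one_apply])
      right_inv := fun q => Subtype.ext (by
        show p (p (p (q : Q))) = q
        rw [← MulAut.mul_apply, ← MulAut.mul_apply, ← pow_three', hp, MulAut.one_apply]) }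
  have hσ : σ ^ 3 ^ 1 = 1 := by
    refine Equiv.ext fun q => Subtype.ext ?_
    show p (p (p (q : Q))) = q
    exact congrArg Subtype.val (σ.right_inv q)
  classical
  haveI : Fintype f.ker := Fintype.ofFinite _
  have hfx : Fintype.card (Function.fixedPoints σ) = 1 := by
    rw [Fintype.card_eq_one_iff]
    exact ⟨⟨1, Subtype.ext (map_one p)⟩, fun q => Subtype.ext (Subtype.ext
      (hfree _ (congrArg Subtype.val q.2)))⟩
  have := Equiv.Perm.card_fixedPoints_modEq (f := (⇑σ : Function.End f.ker)) (p := 3) (n := 1) (by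
    refine funext fun q => ?_
    exact Equiv.ext_iff.1 hσ q)
  rw [hfx, ← Nat.card_eq_fintype_card, h8] at this
  exact absurd this (by decide)

/-- Fixed points of a non-central element of an extraspecial group of order 27 on `2 ^ 12` points. -/
theorem card_fix_sixteen {V : Type*} [CommGroup V] [Finite V] (hc : Nat.card V = 2 ^ 12)
    {a b r : MulAut V} (hab : Commute a b) (ha : a ^ 3 = 1) (hb : b ^ 3 = 1)
    (hfree : ∀ v, b v = v → v = 1) (hr : r * a * r⁻¹ = a * b) (hrb : Commute r b) :
    Nat.card (fix a) = 16 := by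
  have ha3 : ∀ v, a (a (a v)) = v := fun v => by
    rw [← MulAut.mul_apply, ← MulAut.mul_apply, ← pow_three', ha, MulAut.one_apply]
  have hb3 : ∀ v, b (b (b v)) = v := fun v => by
    rw [← MulAut.mul_apply, ← MulAut.mul_apply, ← pow_three', hb, MulAut.one_apply]
  have hab' : ∀ v, a (b v) = b (a v) := fun v => by
    rw [← MulAut.mul_apply, hab.eq, MulAut.mul_apply]
  have hrb' : ∀ v, r (b v) = b (r v) := fun v => by
    rw [← MulAut.mul_apply, hrb.eq, MulAut.mul_apply]
  have hra : ∀ v, r (a v) = a (b (r v)) := fun v => by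
    have h : r * a = a * b * r := by rw [← hr, inv_mul_cancel_right]
    rw [← MulAut.mul_apply, h, MulAut.mul_apply, MulAut.mul_apply]
  have hnb : ∀ v, v * b v * b (b v) = 1 := fun v => hfree _ (by
    rw [map_mul, map_mul, hb3, mul_comm (b v * b (b v)) v, mul_assoc])
  -- the three fixed subgroups are conjugate by `r`
  have hf1 : ∀ v, a v = v → a (b (r v)) = r v := fun v hv => by rw [← hra, hv]
  have hf2 : ∀ v, a v = v → a (b (b (r (r v)))) = r (r v) := fun v hv => by
    have h := congrArg r (hf1 v hv)
    rwa [hra, hrb'] at h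
  -- and independent
  let m : fix a × fix a × fix a →* V :=
    MonoidHom.coprod (fix a).subtype
      (MonoidHom.coprod (r.toMonoidHom.comp (fix a).subtype)
        (r.toMonoidHom.comp (r.toMonoidHom.comp (fix a).subtype)))
  have hm : ∀ u v w : fix a, m (u, v, w) = (u : V) * (r v * r (r w)) := fun u v w => rfl
  let N : V → V := fun v => v * a v * a (a v)
  have hN1 : ∀ x y, N (x * y) = N x * N y := fun x y => by
    simp only [N, map_mul]
    rw [mul_mul_mul_comm x y, mul_mul_mul_comm]
  -- norms
  have hzero : ∀ x, a (b x) = x → N x = 1 := by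
    intro x hx
    have h1 : a x = b (b x) := by
      conv_rhs => rw [← hx]
      rw [hab', hb3]
    have h2 : a (a x) = b x := by rw [h1, hab', hab', h1, hb3]
    show x * a x * a (a x) = 1
    rw [h2, h1, mul_assoc, mul_comm (b (b x)), ← mul_assoc, hnb]
  have hzero2 : ∀ x, a (b (b x)) = x → N x = 1 := by
    intro x hx
    have h1 : a x = b x := by
      conv_rhs => rw [← hx]
      rw [hab', hab', hb3]
    have h2 : a (a x) = b (b x) := by rw [h1, hab', h1]
    show x * a x * a (a x) = 1
    rw [h2, h1, hnb]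
  have hcube : ∀ x, a x = x → N x = x ^ 3 := fun x hx => by
    show x * a x * a (a x) = x ^ 3
    rw [hx, hx, pow_three']
  have h3 : (Nat.card V).Coprime 3 := by rw [hc]; norm_num
  have hinj : ∀ x y : V, x ^ 3 = y ^ 3 → x = y := fun x y h =>
    (powCoprime h3).injective h
  have hpart : ∀ u v w : fix a, m (u, v, w) = 1 → u = 1 := by
    intro u v w h
    rw [hm] at h
    have h1 := congrArg N h
    rw [hN1, hN1, hzero _ (hf1 _ v.2), hzero2 _ (hf2 _ w.2), hcube _ u.2, mul_one, mul_one,
      show N 1 = (1 : V) ^ 3 by simp [N]] at h1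
    exact Subtype.ext (hinj _ _ h1)
  have hminj : Function.Injective m := by
    refine (injective_iff_map_eq_one m).2 ?_
    rintro ⟨u, v, w⟩ h
    have hu := hpart u v w h
    subst hu
    have h' : m (v, w, 1) = 1 := by
      refine r.injective ?_
      rw [hm, OneMemClass.coe_one, map_one, map_one, mul_one, map_mul]
      rw [hm, OneMemClass.coe_one, one_mul] at h
      exact h
    have hv := hpart v w 1 h'
    subst hv
    rw [hm] at h
    simp only [OneMemClass.coe_one, map_one, one_mul] at h
    have hw : w = 1 := Subtype.ext (r.injective (r.injective (by rw [h, OneMemClass.coe_one, map_one, map_one])))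
    rw [hw]
    rfl
  have hsurj : Function.Surjective m := by
    intro y
    obtain ⟨x, rfl⟩ := (powCoprime h3).surjective y
    -- the norms over the three subgroups multiply to the cube
    have e1 : x * a x * a (a x) ∈ fix a := by
      show a (x * a x * a (a x)) = _
      rw [map_mul, map_mul, ha3, mul_comm (a x * a (a x)) x, mul_assoc]
    have e2 : r.symm (x * a (b x) * a (a (b (b x)))) ∈ fix a := by
      refine r.injective ?_
      rw [hra, MulEquiv.apply_symm_apply]
      simp only [map_mul, ← hab', ha3, hb3]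
      rw [mul_comm (a (b x) * a (a (b (b x)))) x, mul_assoc]
    have e3 : r.symm (r.symm (x * a (b (b x)) * a (a (b x)))) ∈ fix a := by
      refine r.injective (r.injective ?_)
      rw [hra, hra, hrb']
      simp only [MulEquiv.apply_symm_apply, map_mul, ← hab', ha3, hb3]
      rw [mul_comm (a (b (b x)) * a (a (b x))) x, mul_assoc]
    refine ⟨(⟨_, e1⟩, ⟨_, e2⟩, ⟨_, e3⟩), ?_⟩
    rw [hm]
    simp only [MulEquiv.apply_symm_apply]
    show _ = x ^ 3
    have ea : a x * a (b x) * a (b (b x)) = 1 := by rw [← map_mul, ← map_mul, hnb, map_one]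
    have eaa : a (a x) * a (a (b x)) * a (a (b (b x))) = 1 := by
      rw [← map_mul, ← map_mul, ← map_mul, ← map_mul, hnb, map_one, map_one]
    calc x * a x * a (a x) * (x * a (b x) * a (a (b (b x))) * (x * a (b (b x)) * a (a (b x))))
        = x ^ 3 * (a x * a (b x) * a (b (b x))) * (a (a x) * a (a (b x)) * a (a (b (b x)))) := by
          simp only [pow_three, mul_comm, mul_assoc, mul_left_comm]
      _ = x ^ 3 := by rw [ea, eaa, mul_one, mul_one]
  have hcard := Nat.card_congr (Equiv.ofBijective m ⟨hminj, hsurj⟩)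
  rw [Nat.card_prod, Nat.card_prod, hc, ← mul_assoc, ← pow_three'] at hcard
  exact Nat.pow_left_injective (n := 3) (by norm_num) (hcard.trans (by norm_num))

/-- A perfect group has no involutory element fixing exactly a third of an odd group. -/
theorem index_ne_three {C W : Type*} [Group C] [Group W] [Finite W] (hC : commutator C = ⊤)
    (f : C →* MulAut W) (hodd : Odd (Nat.card W)) {t : C} (ht : f t * f t = 1) :
    Nat.card W ≠ 3 * Nat.card (fix (f t)) := by
  classical
  haveI : Fintype W := Fintype.ofFinite W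
  intro h3
  set s : C →* ℤˣ := Equiv.Perm.sign.comp ((MulAut.toPerm W).comp f) with hs
  have h1 : s t = 1 := Abelianization.commutator_subset_ker s (hC ▸ Subgroup.mem_top t)
  set σ : Equiv.Perm W := MulAut.toPerm W (f t) with hσ
  have hσ2 : σ ^ 2 = 1 := by rw [hσ, ← map_pow, sq, ht, map_one]
  have hfp : Fintype.card (Function.fixedPoints σ) = Nat.card (fix (f t)) := by
    rw [← Nat.card_eq_fintype_card]
    rfl
  rw [hs, MonoidHom.comp_apply, MonoidHom.comp_apply, Equiv.Perm.sign_of_pow_two_eq_one hσ2, hfp,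
    ← Nat.card_eq_fintype_card, h3, show (3 * Nat.card (fix (f t)) - Nat.card (fix (f t))) / 2 =
      Nat.card (fix (f t)) by omega,
    (hodd.of_dvd_nat (Subgroup.card_subgroup_dvd_card (fix (f t)))).neg_one_pow] at h1
  exact absurd h1 (by decide)

/-- Transfer into an abelian Sylow subgroup. -/
theorem not_mem_commutator_of_central {C : Type*} [Group C] [Finite C] {q : ℕ} [Fact q.Prime]
    (R : Sylow q C) (hR : ∀ a ∈ R, ∀ b ∈ R, Commute a b) {x : C} (hx : x ∈ R)
    (hxc : x ∈ Subgroup.center C) (hx1 : x ≠ 1) : x ∉ commutator C := by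
  intro hcom
  open scoped IsMulCommutative in
  haveI : IsMulCommutative (R : Subgroup C) := ⟨⟨fun a b => Subtype.ext (hR a a.2 b b.2)⟩⟩
  haveI : Subgroup.FiniteIndex (R : Subgroup C) := inferInstance
  have key : ∀ (k : ℕ) (g₀ : C), g₀⁻¹ * x ^ k * g₀ ∈ (R : Subgroup C) → g₀⁻¹ * x ^ k * g₀ = x ^ k :=
    fun k g₀ _ => by
      rw [mul_assoc, ← Subgroup.mem_center_iff.1 (pow_mem hxc k) g₀, ← mul_assoc, inv_mul_cancel,
        one_mul]
  open scoped IsMulCommutative in
  have h1 : MonoidHom.transfer (MonoidHom.id (R : Subgroup C)) x = 1 :=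
    Abelianization.commutator_subset_ker _ hcom
  open scoped IsMulCommutative in
  rw [MonoidHom.transfer_eq_pow (MonoidHom.id (R : Subgroup C)) x key] at h1
  have h2 : x ^ (R : Subgroup C).index = 1 := congrArg Subtype.val h1
  obtain ⟨n, hn⟩ := R.2 ⟨x, hx⟩
  have h3 : orderOf x ∣ q ^ n := orderOf_dvd_of_pow_eq_one (congrArg Subtype.val hn)
  have hcop : (q ^ n).Coprime (R : Subgroup C).index :=
    ((Fact.out : q.Prime).coprime_iff_not_dvd.2 R.not_dvd_index).pow_left _
  exact hx1 (orderOf_eq_one_iff.1 (Nat.eq_one_of_dvd_coprimes hcop h3 (orderOf_dvd_of_pow_eq_one h2)))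

/-- Cubes of products in class two. -/
theorem cube_mul {G : Type*} [Group G] {a b c : G} (hc : b * a = c * (a * b)) (hca : Commute c a)
    (hcb : Commute c b) : (a * b) ^ 3 = c ^ 3 * (a ^ 3 * b ^ 3) := by
  have hca' : ∀ y, a * (c * y) = c * (a * y) := fun y => by rw [← mul_assoc, ← hca.eq, mul_assoc]
  have hcb' : ∀ y, b * (c * y) = c * (b * y) := fun y => by rw [← mul_assoc, ← hcb.eq, mul_assoc]
  have hc' : ∀ y, b * (a * y) = c * (a * (b * y)) := fun y => by
    rw [← mul_assoc, hc, mul_assoc, mul_assoc]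
  simp only [pow_succ, pow_zero, one_mul, mul_assoc, hc', hca', hcb']

/-- A nonabelian group of order 27 with centre containing `P` has an element of order 3 outside `P`. -/
theorem exists_outside_cube_one {G : Type*} [Group G] [Finite G] (hG : Nat.card G = 27)
    {P : Subgroup G} (hP : Nat.card P = 3) (hc : P ≤ Subgroup.center G)
    (hder : ∀ a b : G, a * b * a⁻¹ * b⁻¹ ∈ P) (hcube : ∀ g : G, g ^ 3 ∈ P) :
    ∃ y : G, y ∉ P ∧ y ^ 3 = 1 := by
  classical
  haveI : P.Normal := ⟨fun n hn g => by
    rw [Subgroup.mem_center_iff.1 (hc hn) g, mul_inv_cancel_right]; exact hn⟩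
  have h3 : ∀ n ∈ P, n ^ 3 = 1 := fun n hn => by
    have h := pow_card_eq_one' (x := (⟨n, hn⟩ : P))
    rw [hP] at h
    exact congrArg Subtype.val h
  by_contra hcon
  push Not at hcon
  haveI : Fintype G := Fintype.ofFinite G
  haveI : Fact (Nat.Prime 3) := ⟨by norm_num⟩
  obtain ⟨a, ha⟩ : ∃ a, a ∉ P := by
    by_contra h; push Not at h
    rw [(Subgroup.eq_top_iff' P).2 h, Subgroup.card_top, hG] at hP
    norm_num at hP
  -- the cyclic group on `a` has order 9 and contains `P`
  have ha9 : orderOf a = 9 := orderOf_eq_prime_pow (p := 3) (n := 1)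
    (by rw [pow_one]; exact hcon a ha) (by
      rw [show 3 ^ (1 + 1) = 3 * 3 from rfl, pow_mul]
      exact h3 _ (hcube a))
  obtain ⟨b, hb⟩ : ∃ b, b ∉ Subgroup.zpowers a := by
    by_contra h; push Not at h
    have h' : Nat.card (Subgroup.zpowers a) = 27 := by
      rw [(Subgroup.eq_top_iff' _).2 h, Subgroup.card_top, hG]
    rw [Nat.card_zpowers, ha9] at h'
    norm_num at h'
  have hPa : P ≤ Subgroup.zpowers a := by
    have hle : Subgroup.zpowers (a ^ 3) ≤ P := Subgroup.zpowers_le.2 (hcube a)
    have heq : Subgroup.zpowers (a ^ 3) = P := by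
      refine Subgroup.eq_of_le_of_card_ge hle ?_
      rw [hP, Nat.card_zpowers, orderOf_eq_prime (h3 _ (hcube a)) (hcon a ha)]
    rw [← heq]
    exact Subgroup.zpowers_le.2 (pow_mem (Subgroup.mem_zpowers a) 3)
  have hpair : ∀ x ∈ P, ∀ y ∈ P, x ≠ 1 → y ≠ 1 → x = y ∨ x * y = 1 := by
    intro x hx y hy hx1 hy1
    by_contra hne
    push Not at hne
    have hsub : ({1, x, y, x * y} : Finset G) ⊆ (P : Set G).toFinset := by
      intro v hv
      simp only [Finset.mem_insert, Finset.mem_singleton] at hv
      rw [Set.mem_toFinset]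
      rcases hv with rfl | rfl | rfl | rfl
      exacts [P.one_mem, hx, hy, P.mul_mem hx hy]
    have hc4 : ({1, x, y, x * y} : Finset G).card = 4 := by
      rw [Finset.card_insert_of_notMem, Finset.card_insert_of_notMem, Finset.card_insert_of_notMem,
        Finset.card_singleton]
      · simpa using hx1
      · simp [hne.1, hy1]
      · simp [Ne.symm hx1, Ne.symm hy1, Ne.symm hne.2]
    have := Finset.card_le_card hsub
    rw [hc4, ← Set.ncard_eq_toFinset_card', ← Nat.card_coe_set_eq] at this
    exact absurd (this.trans hP.le) (by norm_num)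
  have hbP : b ∉ P := fun h => hb (hPa h)
  obtain ⟨b', hb', hprod⟩ : ∃ b', b' ∉ Subgroup.zpowers a ∧ a ^ 3 * b' ^ 3 = 1 := by
    rcases hpair _ (hcube a) _ (hcube b) (hcon a ha) (hcon b hbP) with h | h
    · exact ⟨b⁻¹, fun hc' => hb (by simpa using inv_mem hc'), by rw [h, inv_pow, mul_inv_cancel]⟩
    · exact ⟨b, hb, h⟩
  refine hcon (a * b') (fun h => hb' ?_) ?_
  · have h' : a * b' ∈ Subgroup.zpowers a := hPa h
    exact ((Subgroup.zpowers a).mul_mem_cancel_left (Subgroup.mem_zpowers a)).1 h'
  · have hcm := hder b' a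
    rw [cube_mul (c := b' * a * b'⁻¹ * a⁻¹) (by group)
      (Subgroup.mem_center_iff.1 (hc hcm) a).symm (Subgroup.mem_center_iff.1 (hc hcm) b').symm,
      h3 _ hcm, one_mul, hprod]

end Cfsg.Agent.J4Type.Three
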