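/-
The centraliser `C` of `P` in `C(z)` for the Janko-four type.

Main results (namespace `Cfsg.Agent.J4Type.Three`):
* `Frame`, `exists_frame` : the extension `C(z) → Aut M22` with kernel `N = E P`
* `exists_inverting`, `Frame.exists_mul_normalizer` : `C(z) = N N(P)`
* `Frame.exists_psi` : `C → M22` surjective with kernel `P <z>`; `Frame.card_C`
* `Frame.sylow_*` : the Sylow 3-subgroups of `C`
* `conj_involution` : involutions of `C` other than `z` are conjugate to `a` or `a * z`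
-/
import Cfsg.Agent.EqLemmas
import Cfsg.Agent.Lib.J4Type.ThreeFacts
import Cfsg.Agent.Lib.J4Type.ThreeLemmas
import Cfsg.Agent.Lib.Extraspecial.Basic
import Cfsg.Prelude.Def_JankoFourType

set_option autoImplicit false
set_option linter.unusedSectionVars false

open Cfsg Subgroup

namespace Cfsg.Agent.J4Type.Three

variable {G : Type*} [Group G] [Finite G] {z : G} {P : Subgroup G}

/-- `C(z)`. -/
abbrev cH (z : G) : Subgroup G := centralizer ({z} : Set G)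

/-- `C(z) ∩ C(P)`. -/
abbrev cC (z : G) (P : Subgroup G) : Subgroup G :=
  centralizer ({z} : Set G) ⊓ centralizer (P : Set G)

/-- The extension `C(z) → Aut M22` with kernel `N`. -/
structure Frame (z : G) (P : Subgroup G) where
  hyp : IsOfJankoFourTypeWith z P
  N : Subgroup G
  E_le : twoCoreOfCentralizer z ≤ N
  N_le : N ≤ cH z
  card_N : Nat.card N = 3 * 2 ^ 13
  P_le : P ≤ N
  φ : ↥(cH z) →* MulAut ↥Spor.M22
  surj : Function.Surjective φ
  ker : ∀ x : ↥(cH z), φ x = 1 ↔ (x : G) ∈ N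

theorem exists_frame (h : IsOfJankoFourTypeWith z P) : Nonempty (Frame z P) := by
  obtain ⟨-, -, hcE, -, ⟨N, hEN, hNH, -, hNc, ⟨hnor, ⟨e⟩⟩, hPN⟩, -⟩ := id h
  haveI := hnor
  refine ⟨⟨h, N, hEN, hNH, by rw [hNc, hcE], hPN,
    e.toMonoidHom.comp (QuotientGroup.mk' (N.subgroupOf (cH z))),
    e.surjective.comp (QuotientGroup.mk'_surjective _), fun x => ?_⟩⟩
  rw [MonoidHom.comp_apply, MulEquiv.coe_toMonoidHom, MulEquiv.map_eq_one_iff,
    QuotientGroup.mk'_apply, QuotientGroup.eq_one_iff, mem_subgroupOf]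

/-- `z` commutes with `P` and with `E`. -/
theorem commute_z {g : G} (hg : g ∈ cH z) : Commute g z := mem_centralizer_singleton_iff.1 hg

section basic

variable (h : IsOfJankoFourTypeWith z P)
include h

theorem two : orderOf z = 2 := h.1

theorem card_P : Nat.card P = 3 := h.2.2.2.2.2.1

theorem z_sq : z * z = 1 := by
  rw [← sq, ← two h, pow_orderOf_eq_one]

theorem z_ne : z ≠ 1 := by
  intro e
  have h2 := two h
  rw [e, orderOf_one] at h2
  norm_num at h2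

theorem pow_three_P {p : G} (hp : p ∈ P) : p ^ 3 = 1 := by
  have h1 := pow_card_eq_one' (x := (⟨p, hp⟩ : P))
  rw [card_P h] at h1
  exact congrArg Subtype.val h1

theorem exists_gen : ∃ π ∈ P, orderOf π = 3 ∧ P = zpowers π := by
  haveI : Fact (Nat.Prime 3) := ⟨by norm_num⟩
  obtain ⟨⟨π, hπ⟩, ho⟩ := exists_prime_orderOf_dvd_card' (G := P) 3 (by rw [card_P h])
  rw [Subgroup.orderOf_mk] at ho
  refine ⟨π, hπ, ho, (eq_of_le_of_card_ge (zpowers_le.2 hπ) ?_).symm⟩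
  rw [Nat.card_zpowers, ho, card_P h]

theorem E_le_cH : twoCoreOfCentralizer z ≤ cH z := map_subtype_le _

theorem conj_mem_E {g e : G} (hg : g ∈ cH z) (he : e ∈ twoCoreOfCentralizer z) :
    g * e * g⁻¹ ∈ twoCoreOfCentralizer z := by
  obtain ⟨e', he', rfl⟩ := he
  exact ⟨⟨g, hg⟩ * e' * ⟨g, hg⟩⁻¹, (Cores.pCore_normal 2 _).conj_mem _ he' _, rfl⟩

theorem E_inf : twoCoreOfCentralizer z ⊓ centralizer (P : Set G) = zpowers z := h.2.2.2.2.2.2.1

theorem z_mem_E : z ∈ twoCoreOfCentralizer z :=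
  ((E_inf h).ge (mem_zpowers z)).1

theorem P_le_cH : P ≤ cH z := by
  obtain ⟨N, -, hN, -, -, -, hP⟩ := h.2.2.2.2.1
  exact hP.trans hN

theorem mem_zpowers_z {x : G} : x ∈ zpowers z ↔ x = 1 ∨ x = z := by
  constructor
  · rintro ⟨n, rfl⟩
    rcases Int.even_or_odd n with ⟨k, rfl⟩ | ⟨k, rfl⟩
    · left
      show z ^ (k + k) = 1
      rw [← two_mul, zpow_mul, zpow_two, z_sq h, one_zpow]
    · right
      show z ^ (2 * k + 1) = z
      rw [zpow_add, zpow_mul, zpow_two, z_sq h, one_zpow, one_mul, zpow_one]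
  · rintro (rfl | rfl)
    exacts [one_mem _, mem_zpowers _]

theorem fix_P {e : G} (he : e ∈ twoCoreOfCentralizer z) (hc : ∀ p ∈ P, Commute p e) :
    e = 1 ∨ e = z :=
  (mem_zpowers_z h).1 ((E_inf h).le ⟨he, mem_centralizer_iff.2 fun p hp => hc p hp⟩)

/-- A generator of `P` fixes only `1` and `z`, even modulo `z`. -/
theorem fix_mod {π e : G} (hπ : π ∈ P) (hπ1 : π ≠ 1) (he : e ∈ twoCoreOfCentralizer z)
    (hc : π * e * π⁻¹ * e⁻¹ = 1 ∨ π * e * π⁻¹ * e⁻¹ = z) : e = 1 ∨ e = z := by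
  have hP : P = zpowers π := by
    haveI : Fact (Nat.Prime 3) := ⟨by norm_num⟩
    refine (eq_of_le_of_card_ge (zpowers_le.2 hπ) ?_).symm
    rw [Nat.card_zpowers, orderOf_eq_prime (pow_three_P h hπ) hπ1, card_P h]
  have hz := commute_z (E_le_cH h he)
  have hπz := commute_z (P_le_cH h hπ)
  have hcomm : π * e * π⁻¹ = e := by
    rcases hc with hc | hc
    · exact mul_inv_eq_one.1 hc
    · exfalso
      have h1 : π * e * π⁻¹ = z * e := mul_inv_eq_iff_eq_mul.1 hc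
      have h1' : ∀ y, π * (z * y) * π⁻¹ = z * (π * y * π⁻¹) := fun y => by
        rw [← mul_assoc π, hπz.eq]; simp only [mul_assoc]
      have h2 : π ^ 3 * e * (π ^ 3)⁻¹ = z * (z * (z * e)) := by
        have e1 : π ^ 3 * e * (π ^ 3)⁻¹ = π * (π * (π * e * π⁻¹) * π⁻¹) * π⁻¹ := by
          rw [pow_three']; group
        rw [e1, h1, h1', h1, h1', h1', h1]
      rw [pow_three_P h hπ, ← mul_assoc z z, z_sq h] at h2
      exact z_ne h (by simpa using h2)
  refine fix_P h he fun p hp => ?_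
  rw [hP] at hp
  obtain ⟨n, rfl⟩ := hp
  exact (show Commute π e from mul_inv_eq_iff_eq_mul.1 hcomm).zpow_left n

theorem mul_mem_center {e : G} (he : e ∈ twoCoreOfCentralizer z)
    (hc : ∀ f ∈ twoCoreOfCentralizer z, Commute e f) : e = 1 ∨ e = z := by
  haveI : Fintype G := Fintype.ofFinite G
  set E := twoCoreOfCentralizer z
  have hZ : Nat.card (center ↥E) = 2 := h.2.1.2
  have hzc : (⟨z, z_mem_E h⟩ : ↥E) ∈ center ↥E := mem_center_iff.2 fun f =>
    Subtype.ext (commute_z (E_le_cH h f.2)).eq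
  have hec : (⟨e, he⟩ : ↥E) ∈ center ↥E := mem_center_iff.2 fun f =>
    Subtype.ext (hc f f.2).eq.symm
  obtain ⟨a, b, -, hab⟩ := Nat.card_eq_two_iff.1 hZ
  have hall : ∀ c : center ↥E, c = a ∨ c = b := fun c => by
    have := Set.mem_univ c
    rwa [← hab] at this
  by_contra hne
  push Not at hne
  have h01 : (1 : center ↥E) ≠ ⟨_, hzc⟩ := fun e => z_ne h (congrArg (fun c : center ↥E => ((c : ↥E) : G)) e).symm
  have h02 : (1 : center ↥E) ≠ ⟨_, hec⟩ := fun e => hne.1 (congrArg (fun c : center ↥E => ((c : ↥E) : G)) e).symm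
  have h12 : (⟨_, hzc⟩ : center ↥E) ≠ ⟨_, hec⟩ := fun e =>
    hne.2 (congrArg (fun c : center ↥E => ((c : ↥E) : G)) e).symm
  rcases hall 1 with h1 | h1 <;> rcases hall ⟨_, hzc⟩ with h2 | h2 <;>
    rcases hall ⟨_, hec⟩ with h3 | h3 <;>
    first
      | exact h01 (h1.trans h2.symm)
      | exact h02 (h1.trans h3.symm)
      | exact h12 (h2.trans h3.symm)

theorem comm_E {e f : G} (he : e ∈ twoCoreOfCentralizer z) (hf : f ∈ twoCoreOfCentralizer z) :
    e * f * e⁻¹ * f⁻¹ = 1 ∨ e * f * e⁻¹ * f⁻¹ = z := by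
  refine mul_mem_center h (mul_mem (mul_mem (mul_mem he hf) (inv_mem he)) (inv_mem hf)) fun g hg => ?_
  haveI : Fact (Nat.Prime 2) := ⟨Nat.prime_two⟩
  have hm := mem_center_iff.1 (Extraspecial.commutatorElement_mem_center h.2.1 ⟨e, he⟩ ⟨f, hf⟩)
    ⟨g, hg⟩
  exact (congrArg Subtype.val hm).symm

theorem sq_E {e : G} (he : e ∈ twoCoreOfCentralizer z) : e * e = 1 ∨ e * e = z := by
  refine mul_mem_center h (mul_mem he he) fun g hg => ?_
  haveI : Fact (Nat.Prime 2) := ⟨Nat.prime_two⟩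
  have hm := mem_center_iff.1 (Extraspecial.pow_mem_center h.2.1 ⟨e, he⟩) ⟨g, hg⟩
  have hm' := congrArg Subtype.val hm
  simp only [Subgroup.coe_mul, SubmonoidClass.coe_pow, sq] at hm'
  exact hm'.symm

theorem pow_four_E {e : G} (he : e ∈ twoCoreOfCentralizer z) : e ^ 4 = 1 := by
  rw [show 4 = 2 * 2 from rfl, pow_mul, sq e]
  rcases sq_E h he with e' | e' <;> rw [e']
  · exact one_pow 2
  · rw [sq, z_sq h]

theorem E_inf_P {x : G} (hE : x ∈ twoCoreOfCentralizer z) (hP : x ∈ P) : x = 1 := by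
  have h4 := pow_four_E h hE
  rw [show 4 = 3 + 1 from rfl, pow_succ, pow_three_P h hP, one_mul] at h4
  exact h4

/-- Some element of `C(z)` inverts `P`. -/
theorem exists_inverting : ∃ s ∈ cH z, ∀ p ∈ P, s * p * s⁻¹ = p⁻¹ := by
  obtain ⟨π, hπ, hπ3, hgen⟩ := exists_gen h
  have hne := h.2.2.2.2.2.2.2.1
  obtain ⟨s, hs, hs'⟩ : ∃ s, s ∈ cH z ⊓ normalizer (P : Set G) ∧ s ∉ cH z ⊓ centralizer (P : Set G) := by
    by_contra hall
    push Not at hall
    exact hne (le_antisymm (fun s hs => hall s hs)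
      (fun s hs => ⟨hs.1, (centralizer_le_normalizer _) hs.2⟩))
  obtain ⟨hsH, hsN⟩ := hs
  have h1 : s * π * s⁻¹ ∈ P := (mem_normalizer_iff.1 hsN π).1 hπ
  have h2 : s * π * s⁻¹ ≠ π := by
    intro e
    refine hs' ⟨hsH, mem_centralizer_iff.2 fun p hp => ?_⟩
    rw [hgen] at hp
    obtain ⟨n, rfl⟩ := hp
    exact ((show Commute s π from mul_inv_eq_iff_eq_mul.1 e).zpow_right n).eq.symm
  have h3 : s * π * s⁻¹ = π⁻¹ := by
    rw [hgen] at h1
    obtain ⟨n, hn⟩ := h1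
    change π ^ n = s * π * s⁻¹ at hn
    have hmod : π ^ (n % 3) = π ^ n := by
      conv_lhs => rw [show (3 : ℤ) = (orderOf π : ℤ) by rw [hπ3]; norm_num]
      exact zpow_mod_orderOf π n
    have hlt := Int.emod_lt_of_pos n (show (0 : ℤ) < 3 by norm_num)
    have hge := Int.emod_nonneg n (show (3 : ℤ) ≠ 0 by norm_num)
    have hπ1 : π ≠ 1 := fun e => by rw [e, orderOf_one] at hπ3; norm_num at hπ3
    rcases (show n % 3 = 0 ∨ n % 3 = 1 ∨ n % 3 = 2 by omega) with e | e | e <;> rw [e] at hmod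
    · rw [zpow_zero] at hmod
      exact absurd (by rwa [← hmod, eq_comm, conj_eq_one_iff] at hn) hπ1
    · rw [zpow_one] at hmod
      exact absurd (hn.symm.trans hmod.symm) h2
    · rw [← hn, ← hmod, eq_inv_iff_mul_eq_one]
      show π ^ ((2 : ℕ) : ℤ) * π = 1
      rw [zpow_natCast, ← pow_succ, pow_three_P h hπ]
  refine ⟨s, hsH, fun p hp => ?_⟩
  rw [hgen] at hp
  obtain ⟨n, rfl⟩ := hp
  show s * π ^ n * s⁻¹ = (π ^ n)⁻¹
  rw [← conj_zpow, h3, inv_zpow]

end basic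

namespace Frame

variable (F : Frame z P)
include F

theorem relIndex_E : (twoCoreOfCentralizer z).relIndex F.N = 3 := by
  have h1 := card_mul_index ((twoCoreOfCentralizer z).subgroupOf F.N)
  rw [Nat.card_congr (subgroupOfEquivOfLe F.E_le).toEquiv, F.hyp.2.2.1, F.card_N] at h1
  rw [relIndex]
  omega

theorem mem_N {g : G} (hg : g ∈ F.N) :
    ∃ e ∈ twoCoreOfCentralizer z, ∃ p ∈ P, g = e * p := by
  classical
  let f : ↥(twoCoreOfCentralizer z) × ↥P → ↥F.N := fun x =>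
    ⟨x.1 * x.2, mul_mem (F.E_le x.1.2) (F.P_le x.2.2)⟩
  have hf : Function.Injective f := by
    rintro ⟨e, p⟩ ⟨e', p'⟩ he
    have he' : (e : G) * p = e' * p' := congrArg Subtype.val he
    have h1 : (e' : G)⁻¹ * e = p' * (p : G)⁻¹ := by
      rw [eq_mul_inv_iff_mul_eq, mul_assoc, he', inv_mul_cancel_left]
    have h2 := E_inf_P F.hyp (mul_mem (inv_mem e'.2) e.2) (h1 ▸ mul_mem p'.2 (inv_mem p.2))
    have h3 : (e : G) = e' := (inv_mul_eq_one.1 h2).symm
    rw [h3] at he'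
    exact Prod.ext (Subtype.ext h3) (Subtype.ext (mul_left_cancel he'))
  obtain ⟨⟨e, p⟩, he⟩ := ((Nat.bijective_iff_injective_and_card f).2 ⟨hf, by
    rw [Nat.card_prod, F.hyp.2.2.1, card_P F.hyp, F.card_N, mul_comm]⟩).2 ⟨g, hg⟩
  exact ⟨e, e.2, p, p.2, (congrArg Subtype.val he).symm⟩

theorem mem_E_of_pow {g : G} (hg : g ∈ F.N) {n : ℕ} (hn : g ^ 2 ^ n = 1) :
    g ∈ twoCoreOfCentralizer z := by
  set E := twoCoreOfCentralizer z
  haveI : (E.subgroupOf F.N).Normal := ⟨fun x hx y => by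
    rw [mem_subgroupOf] at hx ⊢
    exact conj_mem_E F.hyp (F.N_le y.2) hx⟩
  have h3 : g ^ 3 ∈ E := by
    have h1 := pow_index_mem (E.subgroupOf F.N) (⟨g, hg⟩ : F.N)
    rw [← relIndex, F.relIndex_E, mem_subgroupOf] at h1
    exact h1
  have hco : Nat.Coprime 3 (2 ^ n) := (by norm_num : Nat.Coprime 3 2).pow_right n
  have hb := Nat.gcd_eq_gcd_ab 3 (2 ^ n)
  rw [hco] at hb
  have : g = (g ^ 3) ^ Nat.gcdA 3 (2 ^ n) * (g ^ 2 ^ n) ^ Nat.gcdB 3 (2 ^ n) := by
    rw [← zpow_natCast g 3, ← zpow_natCast g (2 ^ n), ← zpow_mul, ← zpow_mul, ← zpow_add, ← hb,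
      Nat.cast_one, zpow_one]
  rw [this, hn, one_zpow, mul_one]
  exact zpow_mem h3 _

theorem normal_N {h n : G} (hh : h ∈ cH z) (hn : n ∈ F.N) : h * n * h⁻¹ ∈ F.N := by
  have := (F.ker ⟨h * n * h⁻¹, mul_mem (mul_mem hh (F.N_le hn)) (inv_mem hh)⟩).1 ?_
  · exact this
  · show F.φ (⟨h, hh⟩ * ⟨n, F.N_le hn⟩ * ⟨h, hh⟩⁻¹) = 1
    rw [map_mul, map_mul, (F.ker ⟨n, F.N_le hn⟩).2 hn, mul_one, map_inv, mul_inv_cancel]

/-- Elements of `N` normalising `P` centralise it. -/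
theorem N_normalizer {g : G} (hg : g ∈ F.N) (hn : ∀ p ∈ P, g * p * g⁻¹ ∈ P) :
    ∃ p ∈ P, g = p ∨ g = z * p := by
  obtain ⟨e, he, p, hp, rfl⟩ := F.mem_N hg
  obtain ⟨π, hπ, hπ3, hgen⟩ := exists_gen F.hyp
  have hπ1 : π ≠ 1 := fun e => by rw [e, orderOf_one] at hπ3; norm_num at hπ3
  have hcomm : p * π = π * p := by
    rw [hgen] at hp
    obtain ⟨n, rfl⟩ := hp
    exact ((Commute.refl π).zpow_left n).eq
  have h1 : e * π * e⁻¹ ∈ P := by
    have := hn π hπ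
    rwa [mul_inv_rev, show e * p * π * (p⁻¹ * e⁻¹) = e * (p * π * p⁻¹) * e⁻¹ by group, hcomm,
      mul_inv_cancel_right] at this
  have h2 : π * e * π⁻¹ * e⁻¹ = 1 := E_inf_P F.hyp
    (mul_mem (conj_mem_E F.hyp (P_le_cH F.hyp hπ) he) (inv_mem he))
    (by rw [mul_assoc π, mul_assoc π]
        exact mul_mem hπ (by simpa [mul_assoc] using (inv_mem h1 : (e * π * e⁻¹)⁻¹ ∈ P)))
  rcases fix_mod F.hyp hπ hπ1 he (Or.inl h2) with rfl | rfl
  · exact ⟨p, hp, Or.inl (one_mul p)⟩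
  · exact ⟨p, hp, Or.inr rfl⟩

theorem N_inf_cC {g : G} (hg : g ∈ F.N) (hc : g ∈ cC z P) : ∃ p ∈ P, g = p ∨ g = z * p :=
  F.N_normalizer hg fun p hp => by
    rw [(mem_centralizer_iff.1 hc.2 p hp).symm, mul_inv_cancel_right]; exact hp

/-- `C(z) = N N(P)`. -/
theorem exists_mul_normalizer {h : G} (hh : h ∈ cH z) :
    ∃ n ∈ F.N, ∀ p ∈ P, (n * h) * p * (n * h)⁻¹ ∈ P := by
  haveI : Fact (Nat.Prime 3) := ⟨by norm_num⟩
  set Q := P.map (MulAut.conj h).toMonoidHom with hQ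
  have hQN : Q ≤ F.N := by
    rintro _ ⟨p, hp, rfl⟩
    exact F.normal_N hh (F.P_le hp)
  have hfac : (3 * 2 ^ 13).factorization 3 = 1 := by
    rw [Nat.factorization_mul (by norm_num) (pow_ne_zero 13 two_ne_zero), Nat.prime_three.factorization,
      Nat.prime_two.factorization_pow]
    simp [Finsupp.single_apply]
  have hS : ∀ S : Subgroup G, S ≤ F.N → Nat.card S = 3 →
      Nat.card (S.subgroupOf F.N) = 3 ^ (Nat.card F.N).factorization 3 := fun S hS h3 => by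
    rw [Nat.card_congr (subgroupOfEquivOfLe hS).toEquiv, h3, F.card_N, hfac, pow_one]
  have hQ3 : Nat.card Q = 3 := by
    rw [hQ, card_map_of_injective (MulAut.conj h).injective, card_P F.hyp]
  obtain ⟨n, hn⟩ := MulAction.exists_smul_eq ↥F.N (Sylow.ofCard _ (hS Q hQN hQ3))
    (Sylow.ofCard _ (hS P F.P_le (card_P F.hyp)))
  refine ⟨n, n.2, fun p hp => ?_⟩
  have hmem : (⟨h * p * h⁻¹, F.normal_N hh (F.P_le hp)⟩ : ↥F.N) ∈
      ((Sylow.ofCard _ (hS Q hQN hQ3) : Sylow 3 ↥F.N) : Subgroup ↥F.N) := by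
    rw [Sylow.coe_ofCard, mem_subgroupOf]
    exact ⟨p, hp, rfl⟩
  have h1 := Subgroup.smul_mem_pointwise_smul _ (MulAut.conj n) _ hmem
  rw [← Sylow.coe_subgroup_smul, hn, Sylow.coe_ofCard, mem_subgroupOf] at h1
  change (n : G) * (h * p * h⁻¹) * (n : G)⁻¹ ∈ P at h1
  rwa [mul_inv_rev, show (n : G) * h * p * (h⁻¹ * (n : G)⁻¹) = n * (h * p * h⁻¹) * (n : G)⁻¹ by group]

/-- `C → M22`. -/
theorem exists_psi : ∃ ψ : ↥(cC z P) →* ↥Spor.M22, Function.Surjective ψ ∧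
    ∀ c : ↥(cC z P), ψ c = 1 ↔ (c : G) ∈ F.N := by
  obtain ⟨s, hs, hsi⟩ := exists_inverting F.hyp
  obtain ⟨π, hπ, hπ3, hgen⟩ := exists_gen F.hyp
  set j : ↥(cC z P) →* ↥(cH z) := inclusion inf_le_left
  set M := (F.φ.comp j).range with hM
  have hcase : ∀ g ∈ cH z, (∀ p ∈ P, g * p * g⁻¹ ∈ P) → g ∈ cC z P ∨ g * s ∈ cC z P := by
    intro g hg hgn
    have hsg : ∀ k ∈ cH z, k * π * k⁻¹ = π → k ∈ cC z P := fun k hk e =>
      ⟨hk, mem_centralizer_iff.2 fun p hp => by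
        rw [hgen] at hp
        obtain ⟨n, rfl⟩ := hp
        exact ((show Commute k π from mul_inv_eq_iff_eq_mul.1 e).zpow_right n).eq.symm⟩
    have h1 := hgn π hπ
    rw [hgen] at h1
    obtain ⟨n, hn⟩ := h1
    change π ^ n = g * π * g⁻¹ at hn
    have hmod : π ^ (n % 3) = π ^ n := by
      conv_lhs => rw [show (3 : ℤ) = (orderOf π : ℤ) by rw [hπ3]; norm_num]
      exact zpow_mod_orderOf π n
    have hlt := Int.emod_lt_of_pos n (show (0 : ℤ) < 3 by norm_num)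
    have hge := Int.emod_nonneg n (show (3 : ℤ) ≠ 0 by norm_num)
    have hπ1 : π ≠ 1 := fun e => by rw [e, orderOf_one] at hπ3; norm_num at hπ3
    rcases (show n % 3 = 0 ∨ n % 3 = 1 ∨ n % 3 = 2 by omega) with e | e | e <;>
      rw [e, hn] at hmod
    · rw [zpow_zero, eq_comm, conj_eq_one_iff] at hmod
      exact absurd hmod hπ1
    · rw [zpow_one] at hmod
      exact Or.inl (hsg g hg hmod.symm)
    · refine Or.inr (hsg _ (mul_mem hg hs) ?_)
      have h2 : π ^ (2 : ℤ) = π⁻¹ := by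
        rw [eq_inv_iff_mul_eq_one, ← zpow_add_one, show (2 : ℤ) + 1 = ((3 : ℕ) : ℤ) from rfl,
          zpow_natCast, pow_three_P F.hyp hπ]
      rw [h2] at hmod
      rw [mul_inv_rev, show g * s * π * (s⁻¹ * g⁻¹) = g * (s * π * s⁻¹) * g⁻¹ by group, hsi π hπ,
        ← conj_inv, ← hmod, inv_inv]
  have hMi : M.index = 2 := by
    refine index_eq_two_iff.2 ⟨F.φ ⟨s, hs⟩, fun α => ?_⟩
    obtain ⟨⟨g, hg⟩, rfl⟩ := F.surj α
    obtain ⟨n, hn, hnor⟩ := F.exists_mul_normalizer hg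
    have hφ : F.φ ⟨g, hg⟩ = F.φ ⟨n * g, mul_mem (F.N_le hn) hg⟩ := by
      have e : (⟨n * g, mul_mem (F.N_le hn) hg⟩ : ↥(cH z)) = ⟨n, F.N_le hn⟩ * ⟨g, hg⟩ := rfl
      rw [e, map_mul, (F.ker ⟨n, F.N_le hn⟩).2 hn, one_mul]
    rw [hφ]
    have hsN : F.φ ⟨s, hs⟩ ∉ M := by
      rintro ⟨c, hc⟩
      have hN : s * (c : G)⁻¹ ∈ F.N := (F.ker (⟨s, hs⟩ * (j c)⁻¹)).1 (by
        rw [map_mul, map_inv, ← hc]
        exact mul_inv_cancel _)
      have hcc : ∀ p ∈ P, (c : G)⁻¹ * p * (c : G) = p := fun p hp => by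
        rw [mul_assoc, mem_centralizer_iff.1 c.2.2 p hp, inv_mul_cancel_left]
      have hk : ∀ p ∈ P, s * (c : G)⁻¹ * p * (s * (c : G)⁻¹)⁻¹ = p⁻¹ := fun p hp => by
        rw [mul_inv_rev, inv_inv, show s * (c : G)⁻¹ * p * ((c : G) * s⁻¹) =
          s * ((c : G)⁻¹ * p * (c : G)) * s⁻¹ by group, hcc p hp, hsi p hp]
      obtain ⟨q, hq, e | e⟩ := F.N_normalizer hN (fun p hp => by
        rw [hk p hp]; exact inv_mem hp) <;>
      · have h1 := hk π hπ
        rw [e] at h1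
        have hqc : q * π = π * q := by
          rw [hgen] at hq
          obtain ⟨n, rfl⟩ := hq
          exact ((Commute.refl π).zpow_left n).eq
        have hzc := (commute_z (P_le_cH F.hyp hπ)).eq
        have h2 : π = π⁻¹ := by
          first
            | (rw [hqc, mul_inv_cancel_right] at h1; exact h1)
            | (rw [mul_inv_rev, show z * q * π * (q⁻¹ * z⁻¹) = z * (q * π * q⁻¹) * z⁻¹ by group,
                hqc, mul_inv_cancel_right, ← hzc, mul_inv_cancel_right] at h1; exact h1)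
        have h3 := pow_three_P F.hyp hπ
        rw [pow_three, show π * π = 1 from by nth_rw 1 [h2]; rw [inv_mul_cancel], mul_one] at h3
        rw [h3, orderOf_one] at hπ3
        norm_num at hπ3
    rcases hcase _ (mul_mem (F.N_le hn) hg) hnor with hc | hc
    · have h1 : F.φ ⟨n * g, mul_mem (F.N_le hn) hg⟩ ∈ M := ⟨⟨n * g, hc⟩, rfl⟩
      exact Or.inr ⟨h1, fun hm => hsN (by simpa using mul_mem (inv_mem h1) hm)⟩
    · have h1 : F.φ ⟨n * g, mul_mem (F.N_le hn) hg⟩ * F.φ ⟨s, hs⟩ ∈ M :=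
        ⟨⟨n * g * s, hc⟩, by rw [← map_mul]; rfl⟩
      exact Or.inl ⟨h1, fun hm => hsN (by simpa using mul_mem (inv_mem hm) h1)⟩
  have hMeq := eq_inner_of_index_two M hMi
  let e := (MonoidHom.ofInjective inner_injective).symm
  let ψ : ↥(cC z P) →* ↥Spor.M22 := e.toMonoidHom.comp
    ((F.φ.comp j).codRestrict inner.range fun c => hMeq ▸ ⟨c, rfl⟩)
  refine ⟨ψ, ?_, fun c => ?_⟩
  · intro k
    obtain ⟨c, hc⟩ : inner k ∈ M := hMeq ▸ ⟨k, rfl⟩
    refine ⟨c, ?_⟩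
    show e ⟨_, _⟩ = k
    rw [MulEquiv.symm_apply_eq]
    exact Subtype.ext hc
  · show e ⟨_, _⟩ = 1 ↔ _
    rw [MulEquiv.map_eq_one_iff]
    refine Iff.trans ?_ (F.ker (j c))
    exact ⟨fun h => congrArg Subtype.val h, fun h => Subtype.ext h⟩

end Frame

section kernel

variable (F : Frame z P)
include F

theorem P_le_cC : P ≤ cC z P := by
  obtain ⟨π, hπ, -, hgen⟩ := exists_gen F.hyp
  refine le_inf (P_le_cH F.hyp) fun p hp => mem_centralizer_iff.2 fun q hq => ?_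
  rw [hgen] at hp
  have hq' : q ∈ zpowers π := hgen ▸ hq
  obtain ⟨m, rfl⟩ := hp
  obtain ⟨n, rfl⟩ := hq'
  exact (Commute.zpow_zpow_self π n m).eq

theorem z_mem_cC : z ∈ cC z P :=
  ⟨mem_centralizer_singleton_iff.2 rfl, mem_centralizer_iff.2 fun _ hp =>
    (commute_z (P_le_cH F.hyp hp)).eq⟩

theorem z_mem_N : z ∈ F.N := F.E_le (z_mem_E F.hyp)

theorem central_cC {w : G} (hw : w ∈ F.N) (hc : w ∈ cC z P) {c : G} (hc' : c ∈ cC z P) :
    Commute w c := by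
  obtain ⟨p, hp, rfl | rfl⟩ := F.N_inf_cC hw hc
  · exact mem_centralizer_iff.1 hc'.2 _ hp
  · exact Commute.mul_left (commute_z hc'.1).symm (mem_centralizer_iff.1 hc'.2 _ hp)

theorem mem_P_of_odd {w : G} (hw : w ∈ F.N) (hc : w ∈ cC z P) {k : ℕ} (hk : w ^ 3 ^ k = 1) :
    w ∈ P := by
  obtain ⟨p, hp, rfl | rfl⟩ := F.N_inf_cC hw hc
  · exact hp
  · exfalso
    rw [(show Commute z p from (commute_z (P_le_cH F.hyp hp)).symm).mul_pow] at hk
    have hz : z ^ 3 ^ k = z := by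
      obtain ⟨j, hj⟩ : Odd (3 ^ k) := (by decide : Odd 3).pow
      rw [hj, pow_succ, pow_mul, sq z, z_sq F.hyp, one_pow, one_mul]
    rw [hz] at hk
    exact z_ne F.hyp (E_inf_P F.hyp (z_mem_E F.hyp)
      ((mul_eq_one_iff_eq_inv.1 hk) ▸ inv_mem (pow_mem hp _)))

theorem mem_one_or_z_of_sq {w : G} (hw : w ∈ F.N) (hc : w ∈ cC z P) (h2 : w * w = 1) :
    w = 1 ∨ w = z := by
  obtain ⟨p, hp, rfl | rfl⟩ := F.N_inf_cC hw hc
  · refine Or.inl ?_
    have h3 := pow_three_P F.hyp hp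
    rwa [pow_three, h2, mul_one] at h3
  · refine Or.inr ?_
    have hzp : Commute z p := (commute_z (P_le_cH F.hyp hp)).symm
    rw [← sq, hzp.mul_pow, sq, sq, z_sq F.hyp, one_mul] at h2
    have h3 := pow_three_P F.hyp hp
    rw [pow_three, h2, mul_one] at h3
    rw [h3, mul_one]

theorem card_C : Nat.card (cC z P) = 2661120 := by
  classical
  obtain ⟨ψ, hψ, hker⟩ := F.exists_psi
  have hzp : ∀ p ∈ P, Commute z p := fun p hp => (commute_z (P_le_cH F.hyp hp)).symm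
  let f : ↥(zpowers z) × ↥P → ↥ψ.ker := fun x =>
    ⟨⟨(x.1 : G) * x.2, mul_mem ((zpowers_le.2 (z_mem_cC F)) x.1.2) (P_le_cC F x.2.2)⟩,
      (hker _).2 (mul_mem ((zpowers_le.2 (z_mem_N F)) x.1.2) (F.P_le x.2.2))⟩
  have hf : Function.Bijective f := by
    constructor
    · rintro ⟨a, p⟩ ⟨b, q⟩ h
      have h' : (a : G) * p = b * q :=
        congrArg (fun v : ↥ψ.ker => ((v : ↥(cC z P)) : G)) h
      have h1 : (b : G)⁻¹ * a = q * (p : G)⁻¹ := by
        rw [eq_mul_inv_iff_mul_eq, mul_assoc, h', inv_mul_cancel_left]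
      have h2 := E_inf_P F.hyp
        (mul_mem (inv_mem ((zpowers_le.2 (z_mem_E F.hyp)) b.2)) ((zpowers_le.2 (z_mem_E F.hyp)) a.2))
        (h1 ▸ mul_mem q.2 (inv_mem p.2))
      have h3 : (a : G) = b := (inv_mul_eq_one.1 h2).symm
      rw [h3] at h'
      exact Prod.ext (Subtype.ext h3) (Subtype.ext (mul_left_cancel h'))
    · rintro ⟨⟨c, hc⟩, hc1⟩
      obtain ⟨p, hp, e | e⟩ := F.N_inf_cC ((hker ⟨c, hc⟩).1 hc1) hc
      · exact ⟨(⟨1, one_mem _⟩, ⟨p, hp⟩), Subtype.ext (Subtype.ext ((one_mul p).trans e.symm))⟩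
      · exact ⟨(⟨z, mem_zpowers z⟩, ⟨p, hp⟩), Subtype.ext (Subtype.ext e.symm)⟩
  have h6 : Nat.card ψ.ker = 6 := by
    rw [← Nat.card_congr (Equiv.ofBijective f hf), Nat.card_prod, Nat.card_zpowers, two F.hyp,
      card_P F.hyp]
  rw [← ψ.ker.card_mul_index, index_ker, MonoidHom.range_eq_top.2 hψ, card_top, h6,
    OrderM22.hyp_m22.card]

theorem card_H : Nat.card (cH z) = 3 * 2 ^ 13 * 887040 := by
  rw [← F.φ.ker.card_mul_index, index_ker, MonoidHom.range_eq_top.2 F.surj, card_top, natCard_aut]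
  congr 1
  rw [← F.card_N, ← Nat.card_congr (subgroupOfEquivOfLe F.N_le).toEquiv]
  exact Nat.card_congr (Equiv.subtypeEquivRight fun x => (F.ker x))

theorem exists_sylow : ∃ R : Subgroup G, R ≤ cC z P ∧ Nat.card R = 27 := by
  haveI : Fact (Nat.Prime 3) := ⟨by norm_num⟩
  obtain ⟨S, hS⟩ := Sylow.exists_subgroup_card_pow_prime (G := ↥(cC z P)) 3 (n := 3)
    (by rw [card_C F]; norm_num)
  exact ⟨S.map (cC z P).subtype, map_subtype_le S, by
    rw [card_map_of_injective (cC z P).subtype_injective, hS]; norm_num⟩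

variable {R : Subgroup G} (hR : R ≤ cC z P) (h27 : Nat.card R = 27)
include hR h27

theorem pow_R {r : G} (hr : r ∈ R) : r ^ 3 ^ 3 = 1 := by
  have h1 := pow_card_eq_one' (x := (⟨r, hr⟩ : R))
  rw [h27] at h1
  exact congrArg Subtype.val h1

theorem P_le_R : P ≤ R := by
  haveI : Fact (Nat.Prime 3) := ⟨by norm_num⟩
  have hP : IsPGroup 3 P := IsPGroup.of_card (n := 1) (by rw [card_P F.hyp]; norm_num)
  have hR' : IsPGroup 3 R := IsPGroup.of_card (n := 3) (by rw [h27]; norm_num)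
  have hn : R ≤ normalizer (P : Set G) :=
    (hR.trans inf_le_right).trans (centralizer_le_normalizer _)
  have hp : IsPGroup 3 ↥(R ⊔ P) := hR'.to_sup_of_normal_right' hP hn
  obtain ⟨k, hk⟩ := IsPGroup.iff_card.1 hp
  have hd : 3 ^ k ∣ 2661120 := hk ▸ card_C F ▸ card_dvd_of_le (sup_le hR (P_le_cC F))
  have hk3 : k ≤ 3 := by
    by_contra hlt
    have := (pow_dvd_pow 3 (show 4 ≤ k by omega)).trans hd
    norm_num at this
  have heq : R = R ⊔ P := eq_of_le_of_card_ge le_sup_left (by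
    rw [h27, hk]
    exact le_trans (Nat.pow_le_pow_right (by norm_num) hk3) (by norm_num))
  exact heq ▸ le_sup_right

theorem inter_N {r : G} (hr : r ∈ R) (hN : r ∈ F.N) : r ∈ P :=
  mem_P_of_odd F hN (hR hr) (pow_R F hR h27 hr)

theorem psi_range_nine {ψ : ↥(cC z P) →* ↥Spor.M22} (hker : ∀ c, ψ c = 1 ↔ (c : G) ∈ F.N) :
    Nat.card ((R.subgroupOf (cC z P)).map ψ) = 9 := by
  set R' := R.subgroupOf (cC z P)
  have h27' : Nat.card R' = 27 := by
    rw [Nat.card_congr (subgroupOfEquivOfLe hR).toEquiv, h27]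
  have hk : Nat.card (ψ.comp R'.subtype).ker = 3 := by
    rw [← card_P F.hyp]
    refine Nat.card_congr
      { toFun := fun x => ⟨((x : ↥R') : ↥(cC z P)), inter_N F hR h27 x.1.2 ((hker _).1 x.2)⟩
        invFun := fun p => ⟨⟨⟨p, P_le_cC F p.2⟩, P_le_R F hR h27 p.2⟩, (hker _).2 (F.P_le p.2)⟩
        left_inv := fun x => rfl
        right_inv := fun p => rfl }
  have h := (ψ.comp R'.subtype).ker.card_mul_index
  rw [index_ker, hk, h27', MonoidHom.range_comp, range_subtype] at h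
  omega

theorem commutator_R {a b : G} (ha : a ∈ R) (hb : b ∈ R) : a * b * a⁻¹ * b⁻¹ ∈ P := by
  haveI : Fact (Nat.Prime 3) := ⟨by norm_num⟩
  obtain ⟨ψ, -, hker⟩ := F.exists_psi
  have h9 := psi_range_nine F hR h27 hker
  have hmem : ∀ x ∈ R, ∀ hx : x ∈ cC z P, ψ ⟨x, hx⟩ ∈ (R.subgroupOf (cC z P)).map ψ :=
    fun x hx hx' => mem_map_of_mem ψ (mem_subgroupOf.2 hx)
  have hc := IsPGroup.commutative_of_card_eq_prime_sq (p := 3)
    (show Nat.card ((R.subgroupOf (cC z P)).map ψ) = 3 ^ 2 by rw [h9]; norm_num)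
    ⟨_, hmem a ha (hR ha)⟩ ⟨_, hmem b hb (hR hb)⟩
  refine inter_N F hR h27 (mul_mem (mul_mem (mul_mem ha hb) (inv_mem ha)) (inv_mem hb)) ?_
  refine (hker (⟨a, hR ha⟩ * ⟨b, hR hb⟩ * ⟨a, hR ha⟩⁻¹ * ⟨b, hR hb⟩⁻¹)).1 ?_
  rw [map_mul, map_mul, map_mul, map_inv, map_inv]
  have hc' := congrArg Subtype.val hc
  simp only [Subgroup.coe_mul] at hc'
  rw [hc', mul_inv_cancel_right, mul_inv_cancel]

theorem cube_mem {r : G} (hr : r ∈ R) : r ^ 3 ∈ P := by
  haveI : Fact (Nat.Prime 3) := ⟨by norm_num⟩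
  obtain ⟨ψ, -, hker⟩ := F.exists_psi
  refine inter_N F hR h27 (pow_mem hr 3) ((hker (⟨r, hR hr⟩ ^ 3)).1 ?_)
  rw [map_pow]
  set u := ψ ⟨r, hR hr⟩
  have h9 : u ^ 3 ^ 2 = 1 := by
    have h1 := pow_card_eq_one' (x := (⟨u, mem_map_of_mem ψ (mem_subgroupOf.2 hr)⟩ :
      (R.subgroupOf (cC z P)).map ψ))
    rw [psi_range_nine F hR h27 hker] at h1
    exact congrArg Subtype.val h1
  obtain ⟨j, hj, hj'⟩ := (Nat.dvd_prime_pow Nat.prime_three).1 (orderOf_dvd_of_pow_eq_one h9)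
  refine orderOf_dvd_iff_pow_eq_one.1 ?_
  interval_cases j
  · rw [hj']; norm_num
  · rw [hj']; norm_num
  · haveI := OrderM22.simple_m22
    exact absurd hj' (OrderM22.hyp_m22.no_nine u)

theorem exists_noncomm : ∃ a ∈ R, ∃ b ∈ R, ¬ Commute a b := by
  by_contra hcon
  push Not at hcon
  haveI : Fact (Nat.Prime 3) := ⟨by norm_num⟩
  set C := cC z P
  have hidx : (Nat.card C).factorization 3 = 3 := by
    rw [card_C F, show 2661120 = 3 ^ 3 * 98560 from rfl,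
      Nat.factorization_mul (by norm_num) (by norm_num), Nat.prime_three.factorization_pow]
    simp [Nat.factorization_eq_zero_of_not_dvd (show ¬ 3 ∣ 98560 by norm_num)]
  let S : Sylow 3 C := Sylow.ofCard (R.subgroupOf C) (by
    rw [Nat.card_congr (subgroupOfEquivOfLe hR).toEquiv, h27, hidx]; norm_num)
  have hmem : ∀ x : C, x ∈ S ↔ (x : G) ∈ R := fun x => by
    show x ∈ (S : Subgroup C) ↔ _
    rw [Sylow.coe_ofCard, mem_subgroupOf]
  obtain ⟨π, hπ, hπ3, -⟩ := exists_gen F.hyp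
  have hπC := P_le_cC F hπ
  refine not_mem_commutator_of_central S (fun a ha b hb => Subtype.ext
    (hcon a ((hmem a).1 ha) b ((hmem b).1 hb)).eq) (x := ⟨π, hπC⟩)
    ((hmem _).2 (P_le_R F hR h27 hπ))
    (mem_center_iff.2 fun g => Subtype.ext (central_cC F (F.P_le hπ) hπC g.2).eq.symm) ?_ ?_
  · intro e
    rw [show π = 1 from congrArg Subtype.val e, orderOf_one] at hπ3
    norm_num at hπ3
  · obtain ⟨x, hx, hxe⟩ : π ∈ (commutator C).map C.subtype := by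
      rw [map_subtype_commutator]
      exact F.hyp.2.2.2.2.2.2.2.2 hπ
    have : x = ⟨π, hπC⟩ := Subtype.ext hxe
    exact this ▸ hx

theorem center_R {x : G} (hx : x ∈ R) (hc : ∀ y ∈ R, Commute x y) : x ∈ P := by
  haveI : Fact (Nat.Prime 3) := ⟨by norm_num⟩
  by_contra hxP
  obtain ⟨a, ha, b, hb, hab⟩ := exists_noncomm F hR h27
  -- the centraliser of `a` in `R` properly contains `<a> P`
  set A := R ⊓ centralizer ({a} : Set G) with hA
  have hPA : P ≤ A := le_inf (P_le_R F hR h27) fun p hp =>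
    mem_centralizer_singleton_iff.2 (central_cC F (F.P_le hp) (P_le_cC F hp) (hR ha)).eq
  have haA : a ∈ A := ⟨ha, mem_centralizer_singleton_iff.2 rfl⟩
  have hxA : x ∈ A := ⟨hx, mem_centralizer_singleton_iff.2 (hc a ha).eq⟩
  have hne : A ≠ R := fun e => hab ((mem_centralizer_singleton_iff.1 (e ▸ hb : b ∈ A).2).symm)
  have hAR : A ≤ R := inf_le_left
  obtain ⟨j, hj, hj'⟩ := (Nat.dvd_prime_pow Nat.prime_three).1
    (show Nat.card A ∣ 3 ^ 3 by rw [show 3 ^ 3 = 27 from rfl, ← h27]; exact card_dvd_of_le hAR)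
  have hj2 : j ≤ 2 := by
    by_contra hlt
    exact hne (eq_of_le_of_card_ge hAR (by rw [hj', h27, show j = 3 by omega]; norm_num))
  -- so the centre has order 9 and is the whole of `A`
  set B := P ⊔ zpowers x with hB
  have hBA : B ≤ A := sup_le hPA (zpowers_le.2 hxA)
  have hBlt : 3 < Nat.card B := by
    by_contra hlt
    exact hxP ((eq_of_le_of_card_ge (le_sup_left : P ≤ B) (by rw [card_P F.hyp]; exact not_lt.1 hlt)).symm ▸
      (le_sup_right : zpowers x ≤ B) (mem_zpowers x))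
  have hAB : B = A := by
    refine eq_of_le_of_card_ge hBA ?_
    obtain ⟨i, -, hi⟩ := (Nat.dvd_prime_pow Nat.prime_three).1 (hj' ▸ card_dvd_of_le hBA)
    have h1 : Nat.card A ≤ 3 ^ 2 := hj' ▸ Nat.pow_le_pow_right (by norm_num) hj2
    have h2 : 2 ≤ i := by
      by_contra hlt
      have h4 : Nat.card B ≤ 3 ^ 1 := hi ▸ Nat.pow_le_pow_right (by norm_num) (by omega)
      rw [pow_one] at h4
      exact absurd h4 (not_le.2 hBlt)
    have h3 : 3 ^ 2 ≤ Nat.card B := hi ▸ Nat.pow_le_pow_right (by norm_num) h2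
    omega
  refine hab ((mem_centralizer_singleton_iff.1 ((?_ : B ≤ centralizer ({b} : Set G))
    (hAB ▸ haA : a ∈ B))))
  exact sup_le (fun p hp => mem_centralizer_singleton_iff.2
    (central_cC F (F.P_le hp) (P_le_cC F hp) (hR hb)).eq)
    (zpowers_le.2 (mem_centralizer_singleton_iff.2 (hc b hb).eq))

/-- `R` has exponent 3. -/
theorem cube_R {r : G} (hr : r ∈ R) : r ^ 3 = 1 := by
  classical
  haveI : Fact (Nat.Prime 3) := ⟨by norm_num⟩
  obtain ⟨y, hyP, hy⟩ := exists_outside_cube_one (G := R) (P := P.subgroupOf R) h27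
    (by rw [Nat.card_congr (subgroupOfEquivOfLe (P_le_R F hR h27)).toEquiv, card_P F.hyp])
    (fun p hp => mem_center_iff.2 fun g =>
      Subtype.ext (central_cC F (F.P_le hp) (P_le_cC F hp) (hR g.2)).eq.symm)
    (fun a b => commutator_R F hR h27 a.2 b.2) (fun g => cube_mem F hR h27 g.2)
  by_cases hrP : r ∈ P
  · exact pow_three_P F.hyp hrP
  obtain ⟨ψ, hψ, hker⟩ := F.exists_psi
  have hord : ∀ x ∈ R, ∀ hx : x ∈ cC z P, x ∉ P → orderOf (ψ ⟨x, hx⟩) = 3 := by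
    intro x hxR hx hxP
    refine orderOf_eq_prime ?_ fun e => hxP (inter_N F hR h27 hxR ((hker _).1 e))
    rw [← map_pow]
    exact (hker _).2 (F.P_le (cube_mem F hR h27 hxR))
  have hyP' : (y : G) ∉ P := fun e => hyP e
  haveI := OrderM22.simple_m22
  obtain ⟨k, hk⟩ := isConj_iff.1 (OrderM22.hyp_m22.one_class_three
    (hord y y.2 (hR y.2) hyP') (hord r hr (hR hr) hrP))
  obtain ⟨c, rfl⟩ := hψ k
  set w := ((c : G) * y * (c : G)⁻¹)⁻¹ * r with hw
  have hwC : w ∈ cC z P :=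
    mul_mem (inv_mem (mul_mem (mul_mem c.2 (hR y.2)) (inv_mem c.2))) (hR hr)
  have hwN : w ∈ F.N := (hker ((c * ⟨y, hR y.2⟩ * c⁻¹)⁻¹ * ⟨r, hR hr⟩)).1 (by
    rw [map_mul, map_inv, map_mul, map_mul, map_inv, hk, inv_mul_cancel])
  have hcc : Commute ((c : G) * y * (c : G)⁻¹) w :=
    (central_cC F hwN hwC (mul_mem (mul_mem c.2 (hR y.2)) (inv_mem c.2))).symm
  have hrw : r = (c : G) * y * (c : G)⁻¹ * w := by rw [hw, mul_inv_cancel_left]
  have hy' : (y : G) ^ 3 = 1 := congrArg Subtype.val hy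
  have hwP : w ∈ P := by
    refine mem_P_of_odd F hwN hwC (k := 3) ?_
    have h1 := pow_R F hR h27 hr
    rwa [hrw, hcc.mul_pow, conj_pow, pow_R F hR h27 y.2, mul_one, mul_inv_cancel, one_mul] at h1
  rw [hrw, hcc.mul_pow, conj_pow, hy', mul_one, mul_inv_cancel, one_mul, pow_three_P F.hyp hwP]

/-- The translates of an element outside `P` by `P` are conjugate in `R`. -/
theorem conj_translate {r p : G} (hr : r ∈ R) (hrP : r ∉ P) (hp : p ∈ P) :
    ∃ y ∈ R, y * r * y⁻¹ = r * p := by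
  obtain ⟨y, hy, hyr⟩ : ∃ y ∈ R, ¬ Commute r y := by
    by_contra hall
    push Not at hall
    exact hrP (center_R F hR h27 hr hall)
  set c := r⁻¹ * (y * r * y⁻¹) with hc
  have hcP : c ∈ P := by
    have h := commutator_R F hR h27 (inv_mem hr) hy
    rw [inv_inv] at h
    rw [hc, show r⁻¹ * (y * r * y⁻¹) = r⁻¹ * y * r * y⁻¹ by simp only [mul_assoc]]
    exact h
  have hc1 : c ≠ 1 := fun e => hyr (mul_inv_eq_iff_eq_mul.1 (inv_mul_eq_one.1 (hc ▸ e)).symm).symm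
  have hgen : zpowers c = P := by
    haveI : Fact (Nat.Prime 3) := ⟨by norm_num⟩
    refine eq_of_le_of_card_ge (zpowers_le.2 hcP) ?_
    rw [Nat.card_zpowers, orderOf_eq_prime (pow_three_P F.hyp hcP) hc1, card_P F.hyp]
  have hstep : ∀ n : ℕ, y ^ n * r * (y ^ n)⁻¹ = r * c ^ n := by
    intro n
    induction n with
    | zero => simp
    | succ n ih =>
      have hcy : Commute (c ^ n) y := (central_cC F (F.P_le hcP) (P_le_cC F hcP) (hR hy)).pow_left n
      have hyc : y * r * y⁻¹ = r * c := by rw [hc, mul_inv_cancel_left]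
      rw [pow_succ' y, mul_inv_rev, show y * y ^ n * r * ((y ^ n)⁻¹ * y⁻¹) =
        y * (y ^ n * r * (y ^ n)⁻¹) * y⁻¹ by group, ih,
        show y * (r * c ^ n) * y⁻¹ = y * r * y⁻¹ * (y * c ^ n * y⁻¹) by group, ← hcy.eq,
        mul_inv_cancel_right, hyc, pow_succ' c, mul_assoc]
  rw [← hgen] at hp
  obtain ⟨m, rfl⟩ := (isOfFinOrder_of_finite c).mem_powers_iff_mem_zpowers.2 hp
  exact ⟨y ^ m, pow_mem hy m, hstep m⟩

/-- `C` has one class of elements of order 3 outside `P`. -/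
theorem conj_three {g r : G} (hg : g ∈ cC z P) (hg3 : g ^ 3 = 1) (hgP : g ∉ P) (hr : r ∈ R)
    (hrP : r ∉ P) : ∃ c ∈ cC z P, c * g * c⁻¹ = r := by
  haveI : Fact (Nat.Prime 3) := ⟨by norm_num⟩
  obtain ⟨ψ, hψ, hker⟩ := F.exists_psi
  have hord : ∀ x, x ^ 3 = 1 → ∀ hx : x ∈ cC z P, x ∉ P → orderOf (ψ ⟨x, hx⟩) = 3 := by
    intro x hx3 hx hxP
    refine orderOf_eq_prime ?_ fun e => hxP (mem_P_of_odd F ((hker _).1 e) hx (k := 1)
      (by rw [pow_one]; exact hx3))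
    rw [← map_pow]
    exact (hker _).2 (by rw [SubmonoidClass.coe_pow, hx3]; exact one_mem _)
  haveI := OrderM22.simple_m22
  obtain ⟨k, hk⟩ := isConj_iff.1 (OrderM22.hyp_m22.one_class_three
    (hord g hg3 hg hgP) (hord r (cube_R F hR h27 hr) (hR hr) hrP))
  obtain ⟨c, rfl⟩ := hψ k
  set w := ((c : G) * g * (c : G)⁻¹)⁻¹ * r with hw
  have hwC : w ∈ cC z P :=
    mul_mem (inv_mem (mul_mem (mul_mem c.2 hg) (inv_mem c.2))) (hR hr)
  have hwN : w ∈ F.N := (hker ((c * ⟨g, hg⟩ * c⁻¹)⁻¹ * ⟨r, hR hr⟩)).1 (by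
    rw [map_mul, map_inv, map_mul, map_mul, map_inv, hk, inv_mul_cancel])
  have hcc : Commute ((c : G) * g * (c : G)⁻¹) w :=
    (central_cC F hwN hwC (mul_mem (mul_mem c.2 hg) (inv_mem c.2))).symm
  have hrw : r = (c : G) * g * (c : G)⁻¹ * w := by rw [hw, mul_inv_cancel_left]
  have hwP : w ∈ P := by
    refine mem_P_of_odd F hwN hwC (k := 1) ?_
    have h1 := cube_R F hR h27 hr
    rwa [hrw, hcc.mul_pow, conj_pow, hg3, mul_one, mul_inv_cancel, one_mul, ← pow_one 3] at h1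
  obtain ⟨y, hy, hye⟩ := conj_translate F hR h27 hr hrP (inv_mem hwP)
  refine ⟨y⁻¹ * c, mul_mem (inv_mem (hR hy)) c.2, ?_⟩
  rw [mul_inv_rev, inv_inv, show y⁻¹ * (c : G) * g * ((c : G)⁻¹ * y) =
    y⁻¹ * ((c : G) * g * (c : G)⁻¹) * y by group,
    show (c : G) * g * (c : G)⁻¹ = r * w⁻¹ by rw [hrw, mul_inv_cancel_right], ← hye]
  group

end kernel

/-- An involution of `C` other than `z` is conjugate in `C` to `a` or to `a * z`. -/
theorem conj_involution (h : IsOfJankoFourTypeWith z P) {a y : G} (ha : a ∈ cC z P)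
    (ha2 : orderOf a = 2) (haz : a ≠ z) (hy : y ∈ cC z P) (hy2 : orderOf y = 2) (hyz : y ≠ z) :
    ∃ c ∈ cC z P, c * y * c⁻¹ = a ∨ c * y * c⁻¹ = a * z := by
  obtain ⟨F⟩ := exists_frame h
  haveI : Fact (Nat.Prime 2) := ⟨Nat.prime_two⟩
  obtain ⟨ψ, hψ, hker⟩ := F.exists_psi
  have hsq : ∀ x : G, orderOf x = 2 → x * x = 1 := fun x hx => by
    rw [← sq, ← hx, pow_orderOf_eq_one]
  have hord : ∀ x, ∀ hx : x ∈ cC z P, orderOf x = 2 → x ≠ z → orderOf (ψ ⟨x, hx⟩) = 2 := by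
    intro x hx hx2 hxz
    refine orderOf_eq_prime ?_ fun e => ?_
    · rw [← map_pow]
      exact (hker _).2 (by rw [SubmonoidClass.coe_pow, sq, hsq x hx2]; exact one_mem _)
    · rcases mem_one_or_z_of_sq F ((hker _).1 e) hx (hsq x hx2) with e' | e'
      · rw [show x = 1 from e', orderOf_one] at hx2; norm_num at hx2
      · exact hxz e'
  haveI := OrderM22.simple_m22
  obtain ⟨k, hk⟩ := isConj_iff.1 (OrderM22.hyp_m22.one_class (hord y hy hy2 hyz) (hord a ha ha2 haz))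
  obtain ⟨c, rfl⟩ := hψ k
  set w := ((c : G) * y * (c : G)⁻¹)⁻¹ * a with hw
  have hwC : w ∈ cC z P := mul_mem (inv_mem (mul_mem (mul_mem c.2 hy) (inv_mem c.2))) ha
  have hwN : w ∈ F.N := (hker ((c * ⟨y, hy⟩ * c⁻¹)⁻¹ * ⟨a, ha⟩)).1 (by
    rw [map_mul, map_inv, map_mul, map_mul, map_inv, hk, inv_mul_cancel])
  have hcc : Commute ((c : G) * y * (c : G)⁻¹) w :=
    (central_cC F hwN hwC (mul_mem (mul_mem c.2 hy) (inv_mem c.2))).symm
  have hrw : a = (c : G) * y * (c : G)⁻¹ * w := by rw [hw, mul_inv_cancel_left]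
  have hw2 : w * w = 1 := by
    have h1 := hsq a ha2
    rwa [hrw, ← sq, hcc.mul_pow, conj_pow, sq y, hsq y hy2, mul_one, mul_inv_cancel, one_mul,
      sq] at h1
  refine ⟨c, c.2, ?_⟩
  rcases mem_one_or_z_of_sq F hwN hwC hw2 with e | e
  · exact Or.inl (by rw [hrw, e, mul_one])
  · exact Or.inr (by rw [hrw, e, mul_assoc _ z z, z_sq h, mul_one])

end Cfsg.Agent.J4Type.Three
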