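/-
`z` is isolated in the centraliser of `P` (Janko-four type).

Main results (namespace `Cfsg.Agent.J4Type.Three`):
* `act` : the action of `C(z)` on `E / Z(E)`, `bar_fpf`, `lift_fix`
* `isolated` : a conjugate of `z` under `C(P)` in `C(z)` is `z`; `isolated_normalizer`
* `oddCore`, `centralizer_eq` : `C(P) = O(C(P)) C`
-/
import Cfsg.Agent.EqLemmas
import Cfsg.Agent.Lib.J4Type.ThreeBase
import Cfsg.Agent.Lib.ZStar.Glauberman
import Cfsg.Agent.Lib.ZStarPrimePower.Proved

set_option autoImplicit false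
set_option linter.unusedSectionVars false

open Cfsg Subgroup

namespace Cfsg.Agent.J4Type.Three

variable {G : Type*} [Group G]

theorem conj_mem_twoCore {z g e : G} (hg : g ∈ cH z) (he : e ∈ twoCoreOfCentralizer z) :
    g * e * g⁻¹ ∈ twoCoreOfCentralizer z := by
  obtain ⟨e', he', rfl⟩ := he
  exact ⟨⟨g, hg⟩ * e' * ⟨g, hg⟩⁻¹, (Cores.pCore_normal 2 _).conj_mem _ he' _, rfl⟩

/-- Conjugation of `C(z)` on `E`. -/
def conjE (z : G) : ↥(cH z) →* MulAut ↥(twoCoreOfCentralizer z) where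
  toFun g :=
    { toFun := fun e => ⟨g * e * (g : G)⁻¹, conj_mem_twoCore g.2 e.2⟩
      invFun := fun e => ⟨(g : G)⁻¹ * e * g, by simpa using conj_mem_twoCore (inv_mem g.2) e.2⟩
      left_inv := fun e => Subtype.ext (by simp [mul_assoc])
      right_inv := fun e => Subtype.ext (by simp [mul_assoc])
      map_mul' := fun a b => Subtype.ext (by simp [mul_assoc]) }
  map_one' := MulEquiv.ext fun e => Subtype.ext (by simp)
  map_mul' a b := MulEquiv.ext fun e => Subtype.ext (by simp [mul_assoc])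

/-- Automorphisms of a group act on its central quotient. -/
noncomputable def barAut (K : Type*) [Group K] : MulAut K →* MulAut (K ⧸ center K) where
  toFun α := QuotientGroup.congr (center K) (center K) α
    (characteristic_iff_map_eq.1 inferInstance α)
  map_one' := MulEquiv.ext fun x => QuotientGroup.induction_on x fun _ => rfl
  map_mul' a b := MulEquiv.ext fun x => QuotientGroup.induction_on x fun _ => rfl

/-- `E / Z(E)`. -/
abbrev Ebar (z : G) := ↥(twoCoreOfCentralizer z) ⧸ center ↥(twoCoreOfCentralizer z)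

/-- The action of `C(z)` on `E / Z(E)`. -/
noncomputable def act (z : G) : ↥(cH z) →* MulAut (Ebar z) := (barAut _).comp (conjE z)

theorem act_mk {z : G} (g : ↥(cH z)) (e : ↥(twoCoreOfCentralizer z)) :
    act z g (e : Ebar z) =
      ((⟨g * e * (g : G)⁻¹, conj_mem_twoCore g.2 e.2⟩ : ↥(twoCoreOfCentralizer z)) : Ebar z) := rfl

variable [Finite G] {z : G} {P : Subgroup G} (h : IsOfJankoFourTypeWith z P)
include h

theorem mem_center_E {e : ↥(twoCoreOfCentralizer z)} :
    e ∈ center ↥(twoCoreOfCentralizer z) ↔ (e : G) = 1 ∨ (e : G) = z := by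
  constructor
  · intro he
    exact mul_mem_center h e.2 fun f hf => (congrArg Subtype.val (mem_center_iff.1 he ⟨f, hf⟩)).symm
  · intro he
    refine mem_center_iff.2 fun f => Subtype.ext ?_
    show (f : G) * e = e * f
    rcases he with e' | e' <;> rw [e']
    · rw [mul_one, one_mul]
    · exact (commute_z (E_le_cH h f.2)).eq

theorem mk_eq_one {e : ↥(twoCoreOfCentralizer z)} :
    (e : Ebar z) = 1 ↔ (e : G) = 1 ∨ (e : G) = z := by
  rw [QuotientGroup.eq_one_iff, mem_center_E h]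

theorem mk_eq_mk {a b : ↥(twoCoreOfCentralizer z)} :
    (a : Ebar z) = (b : Ebar z) ↔ (b : G) = a ∨ (b : G) = a * z := by
  rw [QuotientGroup.eq, mem_center_E h, Subgroup.coe_mul, Subgroup.coe_inv, inv_mul_eq_one,
    inv_mul_eq_iff_eq_mul]
  exact or_congr eq_comm Iff.rfl

theorem card_Ebar : Nat.card (Ebar z) = 2 ^ 12 := by
  have h1 := card_eq_card_quotient_mul_card_subgroup (center ↥(twoCoreOfCentralizer z))
  rw [h.2.1.2, h.2.2.1] at h1
  change 2 ^ 13 = Nat.card (Ebar z) * 2 at h1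
  omega

theorem bar_sq (x : Ebar z) : x * x = 1 :=
  QuotientGroup.induction_on x fun e => by
    rw [← QuotientGroup.mk_mul, mk_eq_one h]
    exact sq_E h e.2

theorem bar_comm (x y : Ebar z) : x * y = y * x := by
  have hi : ∀ u : Ebar z, u⁻¹ = u := fun u => inv_eq_of_mul_eq_one_right (bar_sq h u)
  rw [← hi (x * y), mul_inv_rev, hi, hi]

theorem bar_fpf {π : G} (hπ : π ∈ P) (hπ1 : π ≠ 1) (x : Ebar z)
    (hx : act z ⟨π, P_le_cH h hπ⟩ x = x) : x = 1 := by
  revert hx
  refine QuotientGroup.induction_on x fun e => ?_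
  intro hx
  rw [act_mk, eq_comm, mk_eq_mk h] at hx
  refine (mk_eq_one h).2 (fix_mod h hπ hπ1 e.2 ?_)
  rcases hx with e' | e' <;> change π * e * π⁻¹ = _ at e' <;> rw [e']
  · exact Or.inl (mul_inv_cancel _)
  · rw [(commute_z (E_le_cH h e.2)).eq, mul_inv_cancel_right]
    exact Or.inr rfl

theorem act_pow_three {π : G} (hπ : π ∈ P) : act z ⟨π, P_le_cH h hπ⟩ ^ 3 = 1 := by
  rw [← map_pow, show (⟨π, P_le_cH h hπ⟩ : ↥(cH z)) ^ 3 = 1 from
    Subtype.ext (pow_three_P h hπ), map_one]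

/-- Fixed points lift for elements centralising `P`. -/
theorem lift_fix {g e : G} (hg : g ∈ cC z P) (he : e ∈ twoCoreOfCentralizer z)
    (hfix : g * e * g⁻¹ = e ∨ g * e * g⁻¹ = e * z) : g * e * g⁻¹ = e := by
  refine hfix.resolve_right fun hz => ?_
  obtain ⟨π, hπ, hπ3, -⟩ := exists_gen h
  have hπ1 : π ≠ 1 := fun e => by rw [e, orderOf_one] at hπ3; norm_num at hπ3
  have hπH := P_le_cH h hπ
  have hgπ : π * g = g * π := mem_centralizer_iff.1 hg.2 π hπ
  let E := twoCoreOfCentralizer z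
  let e1 : ↥E := ⟨π * e * π⁻¹, conj_mem_twoCore hπH he⟩
  let e2 : ↥E := ⟨π * (π * e * π⁻¹) * π⁻¹, conj_mem_twoCore hπH e1.2⟩
  set n : ↥E := ⟨e, he⟩ * e1 * e2 with hn
  have hn1 : (n : Ebar z) = 1 := by
    refine bar_fpf h hπ hπ1 _ ?_
    rw [hn, QuotientGroup.mk_mul, QuotientGroup.mk_mul, map_mul, map_mul, act_mk, act_mk, act_mk]
    have h3 : (⟨π * (π * (π * e * π⁻¹) * π⁻¹) * π⁻¹, conj_mem_twoCore hπH e2.2⟩ : ↥E) = ⟨e, he⟩ :=
      Subtype.ext (by
        show π * (π * (π * e * π⁻¹) * π⁻¹) * π⁻¹ = e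
        rw [show π * (π * (π * e * π⁻¹) * π⁻¹) * π⁻¹ = π ^ 3 * e * (π ^ 3)⁻¹ by
          rw [pow_three']; group, pow_three_P h hπ, inv_one, one_mul, mul_one])
    show (e1 : Ebar z) * (e2 : Ebar z) *
      ((⟨π * (π * (π * e * π⁻¹) * π⁻¹) * π⁻¹, _⟩ : ↥E) : Ebar z) = _
    rw [h3, bar_comm h ((e1 : Ebar z) * e2), ← mul_assoc]
  have hgn : g * (n : G) * g⁻¹ = n := by
    have hgz : g * z = z * g := (commute_z hg.1).eq
    rcases (mk_eq_one h).1 hn1 with e' | e' <;> rw [e']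
    · rw [mul_one, mul_inv_cancel]
    · rw [hgz, mul_inv_cancel_right]
  have hcomm : ∀ y, g * (π * y * π⁻¹) * g⁻¹ = π * (g * y * g⁻¹) * π⁻¹ := fun y => by
    have h1 : π⁻¹ * g⁻¹ = g⁻¹ * π⁻¹ := by rw [← mul_inv_rev, ← hgπ, mul_inv_rev]
    calc g * (π * y * π⁻¹) * g⁻¹ = g * π * y * (π⁻¹ * g⁻¹) := by simp only [mul_assoc]
      _ = π * g * y * (g⁻¹ * π⁻¹) := by rw [hgπ, h1]
      _ = π * (g * y * g⁻¹) * π⁻¹ := by simp only [mul_assoc]
  have hmz : ∀ y, π * (y * z) * π⁻¹ = π * y * π⁻¹ * z := fun y => by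
    rw [mul_assoc, mul_assoc, ← (commute_z (inv_mem hπH)).eq, ← mul_assoc, ← mul_assoc]
  have hzE : ∀ y ∈ E, z * y = y * z := fun y hy => (commute_z (E_le_cH h hy)).eq.symm
  have h2 : g * (n : G) * g⁻¹ = (n : G) * z := by
    show g * (e * (π * e * π⁻¹) * (π * (π * e * π⁻¹) * π⁻¹)) * g⁻¹ = _
    rw [show ∀ a b c : G, g * (a * b * c) * g⁻¹ = g * a * g⁻¹ * (g * b * g⁻¹) * (g * c * g⁻¹) from
      fun a b c => by group, hcomm, hcomm, hcomm, hz, hmz, hmz]
    show e * z * (π * e * π⁻¹ * z) * (π * (π * e * π⁻¹) * π⁻¹ * z) =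
      e * (π * e * π⁻¹) * (π * (π * e * π⁻¹) * π⁻¹) * z
    rw [mul_assoc e z, ← mul_assoc z, hzE _ e1.2, mul_assoc (π * e * π⁻¹) z, z_sq h, mul_one,
      ← mul_assoc]
  rw [hgn, eq_comm, mul_eq_left] at h2
  exact z_ne h h2

/-- `z` is isolated in the centraliser of `P`. -/
theorem isolated {g : G} (hg : g ∈ centralizer (P : Set G)) (hc : g * z * g⁻¹ ∈ cH z) :
    g * z * g⁻¹ = z := by
  by_contra hne
  obtain ⟨F⟩ := exists_frame h
  haveI : Fact (Nat.Prime 2) := ⟨Nat.prime_two⟩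
  set x := g * z * g⁻¹ with hx
  obtain ⟨π, hπ, hπ3, -⟩ := exists_gen h
  have hπ1 : π ≠ 1 := fun e => by rw [e, orderOf_one] at hπ3; norm_num at hπ3
  have hπH := P_le_cH h hπ
  have hgπ : π * g = g * π := mem_centralizer_iff.1 hg π hπ
  have hxC : x ∈ cC z P := ⟨hc, (centralizer (P : Set G)).mul_mem ((centralizer (P : Set G)).mul_mem hg (z_mem_cC F).2)
    ((centralizer (P : Set G)).inv_mem hg)⟩
  have hx2 : orderOf x = 2 := by
    rw [hx, show g * z * g⁻¹ = MulAut.conj g z from rfl, MulEquiv.orderOf_eq, two h]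
  set E := twoCoreOfCentralizer z
  -- the centraliser of `x` in `E`
  set A : Subgroup ↥E := (centralizer ({x} : Set G)).subgroupOf E with hA
  have key : ∀ a ∈ A, ∃ w : G, g⁻¹ * w * g ∈ E ∧ w ∈ E ∧ ((a : G) = w ∨ (a : G) = w * z) := by
    intro a ha
    have hax : (a : G) * x = x * a := mem_centralizer_singleton_iff.1 (mem_subgroupOf.1 ha)
    have haz : g⁻¹ * a * g ∈ cH z := mem_centralizer_singleton_iff.2 (by
      calc g⁻¹ * (a : G) * g * z = g⁻¹ * ((a : G) * x) * g := by rw [hx]; group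
        _ = g⁻¹ * (x * a) * g := by rw [hax]
        _ = z * (g⁻¹ * (a : G) * g) := by rw [hx]; group)
    -- conjugation back by `g`
    set b := g⁻¹ * (a : G) * g with hb
    have ha4 : (a : G) ^ 4 = 1 := pow_four_E h a.2
    have hb4 : b ^ 4 = 1 := by
      rw [hb, show g⁻¹ * (a : G) * g = g⁻¹ * a * (g⁻¹)⁻¹ by rw [inv_inv], conj_pow, ha4]
      group
    set u := π * b * π⁻¹ * b⁻¹ with hu
    have huN : u ∈ F.N := by
      have h1 : b * π⁻¹ * b⁻¹ ∈ F.N := F.normal_N haz (inv_mem (F.P_le hπ))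
      rw [hu, show π * b * π⁻¹ * b⁻¹ = π * (b * π⁻¹ * b⁻¹) by group]
      exact mul_mem (F.P_le hπ) h1
    have hgu : g * u * g⁻¹ = π * a * π⁻¹ * (a : G)⁻¹ := by
      have e1 : g * π * g⁻¹ = π := by rw [← hgπ, mul_inv_cancel_right]
      calc g * u * g⁻¹ = g * π * g⁻¹ * a * (g * π * g⁻¹)⁻¹ * (a : G)⁻¹ := by rw [hu, hb]; group
        _ = π * a * π⁻¹ * (a : G)⁻¹ := by rw [e1]
    have huE : u ∈ E := by
      refine F.mem_E_of_pow huN (n := 2) ((MulAut.conj g).injective ?_)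
      rw [map_one, map_pow]
      show (g * u * g⁻¹) ^ 4 = 1
      rw [hgu]
      exact pow_four_E h (mul_mem (conj_mem_twoCore hπH a.2) (inv_mem a.2))
    let e1 : ↥E := ⟨π * a * π⁻¹, conj_mem_twoCore hπH a.2⟩
    let e2 : ↥E := ⟨π * (π * a * π⁻¹) * π⁻¹, conj_mem_twoCore hπH e1.2⟩
    set n : ↥E := a * e1 * e2 with hn
    have hn1 : (n : Ebar z) = 1 := by
      refine bar_fpf h hπ hπ1 _ ?_
      rw [hn, QuotientGroup.mk_mul, QuotientGroup.mk_mul, map_mul, map_mul, act_mk, act_mk, act_mk]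
      have h3 : (⟨π * (π * (π * a * π⁻¹) * π⁻¹) * π⁻¹, conj_mem_twoCore hπH e2.2⟩ : ↥E) = a :=
        Subtype.ext (by
          show π * (π * (π * a * π⁻¹) * π⁻¹) * π⁻¹ = a
          rw [show π * (π * (π * (a : G) * π⁻¹) * π⁻¹) * π⁻¹ = π ^ 3 * a * (π ^ 3)⁻¹ by
            rw [pow_three']; group, pow_three_P h hπ, inv_one, one_mul, mul_one])
      show (e1 : Ebar z) * (e2 : Ebar z) *
        ((⟨π * (π * (π * (a : G) * π⁻¹) * π⁻¹) * π⁻¹, _⟩ : ↥E) : Ebar z) = _
      rw [h3, bar_comm h ((e1 : Ebar z) * e2), ← mul_assoc]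
    -- `n` is congruent to `a ^ 3` modulo `g E g⁻¹`
    set v := π * b * π⁻¹ with hv
    have hv' : v = u * b := by rw [hu, inv_mul_cancel_right]
    set v2 := π * v * π⁻¹ with hv2
    have hv2' : v2 = π * u * π⁻¹ * (u * b) := by
      rw [hv2, ← hv']
      calc π * v * π⁻¹ = π * (u * b) * π⁻¹ := by rw [hv']
        _ = π * u * π⁻¹ * (π * b * π⁻¹) := by group
    have hq : g⁻¹ * (n : G) * g = b * v * v2 := by
      have e1' : g * π * g⁻¹ = π := by rw [← hgπ, mul_inv_cancel_right]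
      have e2' : g⁻¹ * π * g = π := by rw [mul_assoc, hgπ, inv_mul_cancel_left]
      show g⁻¹ * ((a : G) * (π * a * π⁻¹) * (π * (π * a * π⁻¹) * π⁻¹)) * g = _
      calc g⁻¹ * ((a : G) * (π * a * π⁻¹) * (π * (π * a * π⁻¹) * π⁻¹)) * g
          = b * ((g⁻¹ * π * g) * b * (g⁻¹ * π * g)⁻¹) * ((g⁻¹ * π * g) *
              ((g⁻¹ * π * g) * b * (g⁻¹ * π * g)⁻¹) * (g⁻¹ * π * g)⁻¹) := by rw [hb]; group
        _ = b * v * v2 := by rw [e2']
    set q := b * u * b⁻¹ * (b ^ 2 * (π * u * π⁻¹ * u) * (b ^ 2)⁻¹) with hq'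
    have hqE : q ∈ E := mul_mem (conj_mem_twoCore haz huE)
      (conj_mem_twoCore (pow_mem haz 2) (mul_mem (conj_mem_twoCore hπH huE) huE))
    have hprod : g⁻¹ * (n : G) * g = q * b ^ 3 := by
      rw [hq, hv', hv2', hq']; group
    -- so `a = n⁻¹ w`
    refine ⟨g * q * g⁻¹, by simpa [mul_assoc] using hqE, ?_, ?_⟩
    · have e1' : g * q * g⁻¹ = (n : G) * (a : G) := by
        calc g * q * g⁻¹ = g * (q * b ^ 3 * b) * g⁻¹ := by
              rw [mul_assoc q, ← pow_succ, hb4, mul_one]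
          _ = g * (g⁻¹ * (n : G) * g * b) * g⁻¹ := by rw [hprod]
          _ = (n : G) * (a : G) := by rw [hb]; group
      rw [e1']
      exact mul_mem n.2 a.2
    · have e1' : g * q * g⁻¹ = (n : G) * (a : G) := by
        calc g * q * g⁻¹ = g * (q * b ^ 3 * b) * g⁻¹ := by
              rw [mul_assoc q, ← pow_succ, hb4, mul_one]
          _ = g * (g⁻¹ * (n : G) * g * b) * g⁻¹ := by rw [hprod]
          _ = (n : G) * (a : G) := by rw [hb]; group
      rcases (mk_eq_one h).1 hn1 with e' | e' <;> rw [e1', e']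
      · exact Or.inl (one_mul _).symm
      · refine Or.inr ?_
        rw [mul_assoc, (commute_z (E_le_cH h a.2)).eq, ← mul_assoc, z_sq h, one_mul]
  have hAc : ∀ a ∈ A, ∀ b ∈ A, a * b = b * a := by
    intro a ha b hb
    obtain ⟨w, hw1, hw2, hw⟩ := key a ha
    obtain ⟨w', hw1', hw2', hw'⟩ := key b hb
    have hcw : w * w' = w' * w := by
      rcases comm_E h hw2 hw2' with e | e
      · exact mul_inv_eq_iff_eq_mul.1 (mul_inv_eq_one.1 e)
      · exfalso
        have h1 : g⁻¹ * z * g ∈ E := by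
          rw [← e, show g⁻¹ * (w * w' * w⁻¹ * w'⁻¹) * g =
            g⁻¹ * w * g * (g⁻¹ * w' * g) * (g⁻¹ * w * g)⁻¹ * (g⁻¹ * w' * g)⁻¹ by group]
          exact mul_mem (mul_mem (mul_mem hw1 hw1') (inv_mem hw1)) (inv_mem hw1')
        have h2 : ∀ p ∈ P, Commute p (g⁻¹ * z * g) := fun p hp =>
          mem_centralizer_iff.1 (mul_mem (mul_mem (inv_mem hg) (z_mem_cC F).2) hg) p hp
        rcases fix_P h h1 h2 with e' | e'
        · exact z_ne h (by
            have := congrArg (fun y => g * y * g⁻¹) e'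
            simpa [mul_assoc] using this)
        · refine hne ?_
          have := congrArg (fun y => g * y * g⁻¹) e'
          simp only [mul_assoc, mul_inv_cancel_left, mul_inv_cancel, mul_one] at this
          rw [hx, mul_assoc]
          exact this.symm
    refine Subtype.ext ?_
    show (a : G) * b = b * a
    have hz1 : ∀ y ∈ E, Commute z y := fun y hy => (commute_z (E_le_cH h hy)).symm
    have hcw' : Commute w w' := hcw
    rcases hw with e | e <;> rcases hw' with e' | e' <;> rw [e, e']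
    · exact hcw
    · exact (hcw'.mul_right (hz1 _ hw2).symm).eq
    · exact (hcw'.mul_left (hz1 _ hw2')).eq
    · exact ((hcw'.mul_right (hz1 _ hw2).symm).mul_left ((hz1 _ hw2').mul_right (Commute.refl z))).eq
  have hA7 : Nat.card A ≤ 2 ^ 7 := by
    have h1 := Extraspecial.card_abelian_sq_le h.2.1 hAc
    rw [h.2.2.1] at h1
    nlinarith
  -- its image is the fixed group of `x`
  set xH : ↥(cH z) := ⟨x, hxC.1⟩ with hxH
  have hzA : ∀ e : ↥E, (e : G) = 1 ∨ (e : G) = z → e ∈ A := fun e he => mem_subgroupOf.2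
    (mem_centralizer_singleton_iff.2 (by
      rcases he with e' | e' <;> rw [e']
      · rw [one_mul, mul_one]
      · exact (commute_z hxC.1).eq.symm))
  set m : A →* Ebar z := (QuotientGroup.mk' (center ↥E)).comp A.subtype with hm
  have hrange : m.range = fix (act z xH) := by
    ext y
    constructor
    · rintro ⟨⟨a, ha⟩, rfl⟩
      show act z xH (a : Ebar z) = a
      rw [act_mk, eq_comm, mk_eq_mk h]
      refine Or.inl ?_
      show x * (a : G) * x⁻¹ = a
      rw [← mem_centralizer_singleton_iff.1 (mem_subgroupOf.1 ha), mul_inv_cancel_right]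
    · refine QuotientGroup.induction_on y fun e hy => ?_
      have hy' : act z xH (e : Ebar z) = e := hy
      rw [act_mk, eq_comm, mk_eq_mk h] at hy'
      have h1 := lift_fix h hxC e.2 hy'
      exact ⟨⟨e, mem_subgroupOf.2 (mem_centralizer_singleton_iff.2
        (mul_inv_eq_iff_eq_mul.1 h1).symm)⟩, rfl⟩
  have hker : Nat.card m.ker = 2 := by
    rw [← h.2.1.2]
    exact Nat.card_congr
      { toFun := fun a => ⟨((a : A) : ↥E), (QuotientGroup.eq_one_iff _).1 a.2⟩
        invFun := fun e => ⟨⟨e, hzA e ((mem_center_E h).1 e.2)⟩, (QuotientGroup.eq_one_iff _).2 e.2⟩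
        left_inv := fun a => rfl
        right_inv := fun e => rfl }
  have hfix : Nat.card (fix (act z xH)) ≤ 2 ^ 6 := by
    have h1 := m.ker.card_mul_index
    rw [index_ker, hrange, hker] at h1
    omega
  -- a square root of `x z^ε`
  obtain ⟨ψ, hψ, hker'⟩ := F.exists_psi
  haveI := OrderM22.simple_m22
  have hxq : x * x = 1 := by rw [← sq, ← hx2, pow_orderOf_eq_one]
  have hord : orderOf (ψ ⟨x, hxC⟩) = 2 := by
    refine orderOf_eq_prime ?_ fun e => ?_
    · rw [← map_pow]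
      exact (hker' _).2 (by rw [SubmonoidClass.coe_pow, sq, hxq]; exact one_mem _)
    · rcases mem_one_or_z_of_sq F ((hker' _).1 e) hxC hxq with e' | e'
      · rw [show x = 1 from e', orderOf_one] at hx2; norm_num at hx2
      · exact hne e'
  obtain ⟨k0, hk0⟩ := involution_square hord
  obtain ⟨c, rfl⟩ := hψ k0
  set w := x⁻¹ * ((c : G) * c) with hw
  have hwC : w ∈ cC z P := mul_mem (inv_mem hxC) (mul_mem c.2 c.2)
  have hwN : w ∈ F.N := (hker' ((⟨x, hxC⟩ : ↥(cC z P))⁻¹ * (c * c))).1 (by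
    rw [map_mul, map_inv, map_mul, hk0, inv_mul_cancel])
  have hcc : (c : G) * c = x * w := by rw [hw, mul_inv_cancel_left]
  have hxw : Commute x w := (central_cC F hwN hwC hxC).symm
  have hc6 : ((c : G) ^ 3) ^ 2 = x * w ^ 3 := by
    rw [← pow_mul, show 3 * 2 = 2 * 3 from rfl, pow_mul, sq (c : G), hcc, hxw.mul_pow,
      pow_three x, hxq, mul_one]
  have hw3 : w ^ 3 = 1 ∨ w ^ 3 = z := by
    obtain ⟨p, hp, e | e⟩ := F.N_inf_cC hwN hwC <;> rw [e]
    · exact Or.inl (pow_three_P h hp)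
    · refine Or.inr ?_
      rw [(show Commute z p from (commute_z (P_le_cH h hp)).symm).mul_pow, pow_three_P h hp, mul_one,
        pow_three, z_sq h, mul_one]
  set k : ↥(cH z) := ⟨(c : G) ^ 3, pow_mem c.2.1 3⟩ with hk
  set zH : ↥(cH z) := ⟨z, (z_mem_cC F).1⟩ with hzH
  have hzact : act z zH = 1 := MulEquiv.ext fun y => by
    revert y
    refine fun y => QuotientGroup.induction_on y fun e => ?_
    rw [act_mk, MulAut.one_apply, eq_comm, mk_eq_mk h]
    refine Or.inl ?_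
    show z * (e : G) * z⁻¹ = e
    rw [← (commute_z (E_le_cH h e.2)).eq, mul_inv_cancel_right]
  have hk2 : act z k ^ 2 = act z xH := by
    rw [← map_pow]
    rcases hw3 with e | e
    · congr 1
      exact Subtype.ext (by show ((c : G) ^ 3) ^ 2 = x; rw [hc6, e, mul_one])
    · rw [show k ^ 2 = xH * zH from Subtype.ext (by show ((c : G) ^ 3) ^ 2 = x * z; rw [hc6, e]),
        map_mul, hzact, mul_one]
  have hk4 : act z k ^ 4 = 1 := by
    rw [show 4 = 2 * 2 from rfl, pow_mul, hk2, ← map_pow,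
      show xH ^ 2 = 1 from Subtype.ext (by show x ^ 2 = 1; rw [sq, hxq]), map_one]
  letI : CommGroup (Ebar z) := { (inferInstance : Group (Ebar z)) with mul_comm := bar_comm h }
  refine free_false (Q := Ebar z) (bar_sq h) (card_Ebar h) (k := act z k)
    (p := act z ⟨π, hπH⟩) ?_ (act_pow_three h hπ) (bar_fpf h hπ hπ1) hk4 (by rw [hk2]; exact hfix)
  refine Commute.map ?_ _
  exact Subtype.ext (mem_centralizer_iff.1 (pow_mem c.2.2 3) π hπ).symm

/-- `z` is isolated in the normaliser of `P`. -/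
theorem isolated_normalizer {g : G} (hg : g ∈ normalizer (P : Set G))
    (hc : g * z * g⁻¹ ∈ cH z) : g * z * g⁻¹ = z := by
  obtain ⟨π, hπ, hπ3, hgen⟩ := exists_gen h
  obtain ⟨s, hs, hsi⟩ := exists_inverting h
  have hcent : ∀ k : G, k * π * k⁻¹ = π → k ∈ centralizer (P : Set G) := fun k e =>
    mem_centralizer_iff.2 fun p hp => by
      rw [hgen] at hp
      obtain ⟨n, rfl⟩ := hp
      exact ((show Commute k π from mul_inv_eq_iff_eq_mul.1 e).zpow_right n).eq.symm
  have h1 : g * π * g⁻¹ ∈ P := (mem_normalizer_iff.1 hg π).1 hπ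
  have hπ1 : π ≠ 1 := fun e => by rw [e, orderOf_one] at hπ3; norm_num at hπ3
  rw [hgen] at h1
  obtain ⟨n, hn⟩ := (isOfFinOrder_of_finite π).mem_powers_iff_mem_zpowers.2 h1
  have hmod : π ^ (n % 3) = g * π * g⁻¹ := by
    rw [← hn, ← hπ3]; exact pow_mod_orderOf π n
  rcases (show n % 3 = 0 ∨ n % 3 = 1 ∨ n % 3 = 2 by omega) with e | e | e <;> rw [e] at hmod
  · rw [pow_zero, eq_comm, conj_eq_one_iff] at hmod
    exact absurd hmod hπ1
  · rw [pow_one] at hmod
    exact isolated h (hcent g hmod.symm) hc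
  · have hgs : g * s ∈ centralizer (P : Set G) := by
      refine hcent _ ?_
      have h2 : π ^ 2 = π⁻¹ := by
        rw [eq_inv_iff_mul_eq_one, ← pow_succ, pow_three_P h hπ]
      rw [h2] at hmod
      rw [mul_inv_rev, show g * s * π * (s⁻¹ * g⁻¹) = g * (s * π * s⁻¹) * g⁻¹ by group, hsi π hπ,
        ← conj_inv, ← hmod, inv_inv]
    have h3 : g * s * z * (g * s)⁻¹ = g * z * g⁻¹ := by
      rw [mul_inv_rev, show g * s * z * (s⁻¹ * g⁻¹) = g * (s * z * s⁻¹) * g⁻¹ by group,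
        (commute_z hs).eq, mul_inv_cancel_right]
    rw [← h3]
    exact isolated h hgs (h3.symm ▸ hc)

omit h [Finite G] in
/-- `O(C(P))` as a subgroup of `G`. -/
noncomputable def oddCore (P : Subgroup G) : Subgroup G :=
  (pPrimeCore 2 ↥(centralizer (P : Set G))).map (centralizer (P : Set G)).subtype

omit h [Finite G] in
theorem oddCore_le (P : Subgroup G) : oddCore P ≤ centralizer (P : Set G) := map_subtype_le _

omit h in
theorem oddCore_odd (P : Subgroup G) : Odd (Nat.card (oddCore P)) := by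
  rw [oddCore, card_map_of_injective (subtype_injective _)]
  exact Nat.coprime_two_right.1 (Cores.coprime_card_pPrimeCore 2)

omit h [Finite G] in
theorem oddCore_conj (P : Subgroup G) {g o : G} (hg : g ∈ centralizer (P : Set G))
    (ho : o ∈ oddCore P) : g * o * g⁻¹ ∈ oddCore P := by
  obtain ⟨o', ho', rfl⟩ := ho
  exact ⟨⟨g, hg⟩ * o' * ⟨g, hg⟩⁻¹, (Cores.pPrimeCore_normal 2 _).conj_mem _ ho' _, rfl⟩

/-- `C(P) = O(C(P)) C`. -/
theorem centralizer_eq {g : G} (hg : g ∈ centralizer (P : Set G)) :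
    ∃ o ∈ oddCore P, ∃ c ∈ cC z P, g = o * c := by
  obtain ⟨F⟩ := exists_frame h
  have hzK := (z_mem_cC F).2
  set K := centralizer (P : Set G) with hK
  have hiso : IsIsolatedInvolution (⟨z, hzK⟩ : ↥K) := by
    refine ⟨by rw [Subgroup.orderOf_mk]; exact two h, fun k hk => ?_⟩
    refine Subtype.ext (isolated h k.2 ?_)
    exact mem_centralizer_singleton_iff.2 (congrArg Subtype.val hk).symm
  have hO := ZStar.zStar_of_brauerSuzuki ZStarPrimePower.uniqueInvolutionZStar_proved hiso ⟨g, hg⟩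
  set o := z * g * z⁻¹ * g⁻¹ with ho
  have hoO : o ∈ oddCore P := ⟨_, hO, rfl⟩
  have hzi : z⁻¹ = z := inv_eq_of_mul_eq_one_right (z_sq h)
  -- `z` inverts `o`
  have hinv : z * o * z⁻¹ = o⁻¹ := by
    rw [ho, show (z * g * z⁻¹ * g⁻¹)⁻¹ = g * z * g⁻¹ * z⁻¹ by group, hzi,
      show z * (z * g * z * g⁻¹) * z = (z * z) * g * z * g⁻¹ * z by group, z_sq h, one_mul]
  obtain ⟨n, hn⟩ := (oddCore_odd P : Odd (Nat.card (oddCore P)))
  have hon : o ^ (2 * n + 1) = 1 := by
    have h1 := pow_card_eq_one' (x := (⟨o, hoO⟩ : oddCore P))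
    rw [hn] at h1
    exact congrArg Subtype.val h1
  set r := o ^ (n + 1) with hr
  have hr2 : r * r = o := by
    rw [hr, ← pow_add, show n + 1 + (n + 1) = 2 * n + 1 + 1 by ring, pow_succ, hon, one_mul]
  have hzr : z * r * z⁻¹ = r⁻¹ := by rw [hr, ← conj_pow, hinv, inv_pow]
  refine ⟨r⁻¹, inv_mem (pow_mem hoO _), r * g, ⟨?_, ?_⟩, (inv_mul_cancel_left r g).symm⟩
  · refine mem_centralizer_singleton_iff.2 ?_
    have h1 : z * g * z⁻¹ = r * r * g := by rw [hr2, ho]; group
    calc r * g * z = r * (z⁻¹ * (z * g * z⁻¹)) * (z * z) := by group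
      _ = r * z⁻¹ * (r * r * g) := by rw [h1, z_sq h, mul_one, ← mul_assoc r]
      _ = z⁻¹ * (z * r * z⁻¹) * r * r * g := by group
      _ = z * (r * g) := by rw [hzr, hzi]; group
  · exact mul_mem (pow_mem (oddCore_le P hoO) _) hg

end Cfsg.Agent.J4Type.Three
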