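/-
Consequences of fusion of `z` inside `C` for the Janko-four type, first part.

Main results (namespace `Cfsg.Agent.J4Type.Three`):
* `Fusion` : some conjugate of `z` other than `z` lies in `C`
* `exists_fused` : `P` is conjugate to a non-central subgroup of `R`
* `card_fix_q`, `card_centralizer_E` : fixed points of the non-central `q` on `E`
* `z_mem_commutator` : `z ∈ C'`
-/
import Cfsg.Agent.EqLemmas
import Cfsg.Agent.Lib.J4Type.ThreeIso

set_option autoImplicit false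
set_option linter.unusedSectionVars false

open Cfsg Subgroup
open scoped commutatorElement

namespace Cfsg.Agent.J4Type.Three

variable {G : Type*} [Group G] [Finite G] {z : G} {P : Subgroup G}

/-- Some conjugate of `z` other than `z` lies in `C`. -/
def Fusion (z : G) (P : Subgroup G) : Prop :=
  ∃ g : G, g * z * g⁻¹ ∈ cC z P ∧ g * z * g⁻¹ ≠ z

variable (F : Frame z P)
include F

theorem mem_P_of_odd_card {w : G} (hw : w ∈ F.N) (hc : w ∈ cC z P) {m : ℕ} (hm : Odd m)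
    (hwm : w ^ m = 1) : w ∈ P := by
  obtain ⟨p, hp, rfl | rfl⟩ := F.N_inf_cC hw hc
  · exact hp
  · exfalso
    rw [(show Commute z p from (commute_z (P_le_cH F.hyp hp)).symm).mul_pow] at hwm
    obtain ⟨j, rfl⟩ := hm
    rw [pow_succ, pow_mul, sq z, z_sq F.hyp, one_pow, one_mul] at hwm
    exact z_ne F.hyp (E_inf_P F.hyp (z_mem_E F.hyp)
      ((mul_eq_one_iff_eq_inv.1 hwm) ▸ inv_mem (pow_mem hp _)))

theorem oddCore_inter {o : G} (ho : o ∈ oddCore P) (hc : o ∈ cC z P) : o ∈ P := by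
  haveI := OrderM22.simple_m22
  obtain ⟨ψ, hψ, hker⟩ := F.exists_psi
  set D : Subgroup ↥(cC z P) := (oddCore P).subgroupOf (cC z P) with hD
  haveI : D.Normal := ⟨fun d hd c => by
    rw [hD, mem_subgroupOf] at hd ⊢
    exact oddCore_conj P c.2.2 hd⟩
  haveI : (D.map ψ).Normal := Subgroup.Normal.map inferInstance ψ hψ
  have hodd : Odd (Nat.card D) := by
    refine (oddCore_odd P).of_dvd_nat ?_
    rw [← card_map_of_injective (cC z P).subtype_injective]
    exact card_dvd_of_le fun x ⟨d, hd, e⟩ => e ▸ hd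
  have hbot : D.map ψ = ⊥ := by
    refine (‹(D.map ψ).Normal›.eq_bot_or_eq_top).resolve_right fun e => ?_
    have hd : Nat.card (D.map ψ) ∣ Nat.card D := card_map_dvd D ψ
    rw [e, card_top, OrderM22.hyp_m22.card] at hd
    exact (Nat.not_odd_iff_even.2 (show Even 443520 by decide)) (hodd.of_dvd_nat hd)
  have hN : o ∈ F.N := (hker ⟨o, hc⟩).1 (mem_bot.1 (hbot ▸ mem_map_of_mem ψ
    (show (⟨o, hc⟩ : ↥(cC z P)) ∈ D from ho)))
  refine mem_P_of_odd_card F hN hc (oddCore_odd P) ?_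
  have h1 := pow_card_eq_one' (x := (⟨o, ho⟩ : oddCore P))
  exact congrArg Subtype.val h1

variable {R : Subgroup G} (hR : R ≤ cC z P) (h27 : Nat.card R = 27)
include hR h27

theorem sylow_H : ∃ S : Sylow 3 ↥(cH z), ∀ x : ↥(cH z), x ∈ S ↔ (x : G) ∈ R := by
  haveI : Fact (Nat.Prime 3) := ⟨by norm_num⟩
  have hf : (Nat.card (cH z)).factorization 3 = 3 := by
    rw [card_H F, show 3 * 2 ^ 13 * 887040 = 3 ^ 3 * 807403520 from rfl,
      Nat.factorization_mul (by norm_num) (by norm_num), Nat.prime_three.factorization_pow]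
    simp [Nat.factorization_eq_zero_of_not_dvd (show ¬ 3 ∣ 807403520 by norm_num)]
  have hRH : R ≤ cH z := hR.trans inf_le_left
  refine ⟨Sylow.ofCard (R.subgroupOf (cH z)) (by
    rw [Nat.card_congr (subgroupOfEquivOfLe hRH).toEquiv, h27, hf]; norm_num), fun x => ?_⟩
  show x ∈ ((Sylow.ofCard _ _ : Sylow 3 ↥(cH z)) : Subgroup ↥(cH z)) ↔ _
  rw [Sylow.coe_ofCard, mem_subgroupOf]

/-- A 3-element of `C(z)` is conjugate in `C(z)` into `R`. -/
theorem conj_into_R {x : G} (hx : x ∈ cH z) {k : ℕ} (hk : x ^ 3 ^ k = 1) :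
    ∃ h ∈ cH z, h * x * h⁻¹ ∈ R := by
  haveI : Fact (Nat.Prime 3) := ⟨by norm_num⟩
  obtain ⟨S, hS⟩ := sylow_H F hR h27
  have hp : IsPGroup 3 (zpowers (⟨x, hx⟩ : ↥(cH z))) := by
    rintro ⟨y, n, rfl⟩
    refine ⟨k, Subtype.ext ?_⟩
    show ((⟨x, hx⟩ : ↥(cH z)) ^ n) ^ 3 ^ k = 1
    rw [← zpow_natCast, ← zpow_mul, mul_comm, zpow_mul, zpow_natCast,
      show (⟨x, hx⟩ : ↥(cH z)) ^ 3 ^ k = 1 from Subtype.ext hk, one_zpow]
  obtain ⟨T, hT⟩ := hp.exists_le_sylow
  obtain ⟨h, hh⟩ := MulAction.exists_smul_eq ↥(cH z) T S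
  refine ⟨h, h.2, (hS (h * ⟨x, hx⟩ * h⁻¹)).1 ?_⟩
  show _ ∈ (S : Subgroup ↥(cH z))
  rw [← hh, Sylow.coe_subgroup_smul]
  exact smul_mem_pointwise_smul _ (MulAut.conj h) _ (hT (mem_zpowers _))

/-- Under fusion `P` is conjugate to a non-central subgroup of `R`. -/
theorem exists_fused (hF : Fusion z P) : ∃ g : G, g * z * g⁻¹ ∈ cC z P ∧ g * z * g⁻¹ ≠ z ∧
    (∀ p ∈ P, g⁻¹ * p * g ∈ R) ∧ ∀ p ∈ P, p ≠ 1 → g⁻¹ * p * g ∉ P := by
  obtain ⟨g₀, hx, hne⟩ := hF
  obtain ⟨π, hπ, hπ3, hgen⟩ := exists_gen F.hyp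
  have hy : g₀⁻¹ * π * g₀ ∈ cH z := mem_centralizer_singleton_iff.2 (by
    have h1 : π * (g₀ * z * g₀⁻¹) = g₀ * z * g₀⁻¹ * π := mem_centralizer_iff.1 hx.2 π hπ
    calc g₀⁻¹ * π * g₀ * z = g₀⁻¹ * (π * (g₀ * z * g₀⁻¹)) * g₀ := by group
      _ = g₀⁻¹ * (g₀ * z * g₀⁻¹ * π) * g₀ := by rw [h1]
      _ = z * (g₀⁻¹ * π * g₀) := by group)
  obtain ⟨h, hh, hhR⟩ := conj_into_R F hR h27 hy (k := 1) (by
    rw [pow_one, show g₀⁻¹ * π * g₀ = g₀⁻¹ * π * (g₀⁻¹)⁻¹ by rw [inv_inv], conj_pow,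
      pow_three_P F.hyp hπ]
    group)
  set g := g₀ * h⁻¹ with hg
  have hgz : g * z * g⁻¹ = g₀ * z * g₀⁻¹ := by
    rw [hg, mul_inv_rev, inv_inv, show g₀ * h⁻¹ * z * (h * g₀⁻¹) = g₀ * (h⁻¹ * (z * h)) * g₀⁻¹ by
      group, ← (commute_z hh).eq, inv_mul_cancel_left]
  have hgR : g⁻¹ * π * g ∈ R := by
    rw [hg, mul_inv_rev, inv_inv, show h * g₀⁻¹ * π * (g₀ * h⁻¹) = h * (g₀⁻¹ * π * g₀) * h⁻¹ by group]
    exact hhR
  refine ⟨g, hgz ▸ hx, hgz ▸ hne, fun p hp => ?_, fun p hp hp1 hpP => ?_⟩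
  · rw [hgen] at hp
    obtain ⟨n, rfl⟩ := hp
    show g⁻¹ * π ^ n * g ∈ R
    rw [show g⁻¹ * π ^ n * g = g⁻¹ * π ^ n * (g⁻¹)⁻¹ by rw [inv_inv], ← conj_zpow, inv_inv]
    exact zpow_mem hgR n
  · -- then `g` normalises `P`
    haveI : Fact (Nat.Prime 3) := ⟨by norm_num⟩
    have hgp : zpowers p = P := by
      refine eq_of_le_of_card_ge (zpowers_le.2 hp) ?_
      rw [Nat.card_zpowers, orderOf_eq_prime (pow_three_P F.hyp hp) hp1, card_P F.hyp]
    have hall : ∀ q ∈ P, g⁻¹ * q * g ∈ P := fun q hq => by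
      rw [← hgp] at hq
      obtain ⟨n, rfl⟩ := hq
      show g⁻¹ * p ^ n * g ∈ P
      rw [show g⁻¹ * p ^ n * g = g⁻¹ * p ^ n * (g⁻¹)⁻¹ by rw [inv_inv], ← conj_zpow, inv_inv]
      exact zpow_mem hpP n
    have hnor : g⁻¹ ∈ normalizer (P : Set G) :=
      mem_normalizer_fintype fun q hq => by rw [inv_inv]; exact hall q hq
    have := inv_mem hnor
    rw [inv_inv] at this
    exact hne (hgz ▸ isolated_normalizer F.hyp this (hgz ▸ hx.1))

omit hR h27 in
theorem lift_three {q e : G} (hq : q ∈ cH z) (hq3 : q ^ 3 = 1) (he : e ∈ twoCoreOfCentralizer z)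
    (hfix : q * e * q⁻¹ = e ∨ q * e * q⁻¹ = e * z) : q * e * q⁻¹ = e := by
  refine hfix.resolve_right fun h1 => z_ne F.hyp ?_
  have hz : ∀ y, q * (y * z) * q⁻¹ = q * y * q⁻¹ * z := fun y => by
    rw [mul_assoc, mul_assoc, ← (commute_z (inv_mem hq)).eq, ← mul_assoc, ← mul_assoc]
  have h2 : q ^ 3 * e * (q ^ 3)⁻¹ = e * z * z * z := by
    rw [show q ^ 3 * e * (q ^ 3)⁻¹ = q * (q * (q * e * q⁻¹) * q⁻¹) * q⁻¹ by
      rw [pow_three']; group, h1, hz, h1, hz, hz, h1]
  rw [hq3, inv_one, one_mul, mul_one, mul_assoc e z z, z_sq F.hyp, mul_one] at h2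
  exact mul_left_cancel ((mul_one e).trans h2).symm

theorem card_fix_q {q : G} (hq : q ∈ R) (hqP : q ∉ P) :
    Nat.card (fix (act z ⟨q, (hR hq).1⟩)) = 16 := by
  obtain ⟨π, hπ, hπ3, -⟩ := exists_gen F.hyp
  have hπ1 : π ≠ 1 := fun e => by rw [e, orderOf_one] at hπ3; norm_num at hπ3
  obtain ⟨y, hy, hyq⟩ := conj_translate F hR h27 hq hqP hπ
  have hcq := central_cC F (F.P_le hπ) (P_le_cC F hπ) (hR hq)
  have hcy := central_cC F (F.P_le hπ) (P_le_cC F hπ) (hR hy)
  letI : CommGroup (Ebar z) :=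
    { (inferInstance : Group (Ebar z)) with mul_comm := bar_comm F.hyp }
  refine card_fix_sixteen (V := Ebar z) (card_Ebar F.hyp) (b := act z ⟨π, P_le_cH F.hyp hπ⟩)
    (r := act z ⟨y, (hR hy).1⟩) ?_ ?_ (act_pow_three F.hyp hπ) (bar_fpf F.hyp hπ hπ1) ?_ ?_
  · exact Commute.map (Subtype.ext hcq.symm.eq) _
  · rw [← map_pow, show (⟨q, (hR hq).1⟩ : ↥(cH z)) ^ 3 = 1 from
      Subtype.ext (cube_R F hR h27 hq), map_one]
  · rw [← map_inv, ← map_mul, ← map_mul, ← map_mul]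
    exact congrArg _ (Subtype.ext hyq)
  · exact Commute.map (Subtype.ext hcy.symm.eq) _

theorem card_centralizer_E {q : G} (hq : q ∈ R) (hqP : q ∉ P) :
    Nat.card ↥(twoCoreOfCentralizer z ⊓ centralizer ({q} : Set G)) = 32 := by
  set E := twoCoreOfCentralizer z
  set A : Subgroup ↥E := (centralizer ({q} : Set G)).subgroupOf E with hA
  have hAc : Nat.card A = Nat.card ↥(E ⊓ centralizer ({q} : Set G)) := by
    rw [hA, ← inf_subgroupOf_left]
    exact Nat.card_congr (subgroupOfEquivOfLe inf_le_left).toEquiv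
  rw [← hAc]
  set qH : ↥(cH z) := ⟨q, (hR hq).1⟩
  have hzA : ∀ e : ↥E, (e : G) = 1 ∨ (e : G) = z → e ∈ A := fun e he => mem_subgroupOf.2
    (mem_centralizer_singleton_iff.2 (by
      rcases he with e' | e' <;> rw [e']
      · rw [one_mul, mul_one]
      · exact (commute_z (hR hq).1).eq.symm))
  set m : A →* Ebar z := (QuotientGroup.mk' (center ↥E)).comp A.subtype with hm
  have hrange : m.range = fix (act z qH) := by
    ext y
    constructor
    · rintro ⟨⟨a, ha⟩, rfl⟩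
      show act z qH (a : Ebar z) = a
      rw [act_mk, eq_comm, mk_eq_mk F.hyp]
      refine Or.inl ?_
      show q * (a : G) * q⁻¹ = a
      rw [← mem_centralizer_singleton_iff.1 (mem_subgroupOf.1 ha), mul_inv_cancel_right]
    · refine QuotientGroup.induction_on y fun e hy => ?_
      have hy' : act z qH (e : Ebar z) = e := hy
      rw [act_mk, eq_comm, mk_eq_mk F.hyp] at hy'
      have h1 := lift_three F (hR hq).1 (cube_R F hR h27 hq) e.2 hy'
      exact ⟨⟨e, mem_subgroupOf.2 (mem_centralizer_singleton_iff.2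
        (mul_inv_eq_iff_eq_mul.1 h1).symm)⟩, rfl⟩
  have hker : Nat.card m.ker = 2 := by
    rw [← F.hyp.2.1.2]
    exact Nat.card_congr
      { toFun := fun a => ⟨((a : A) : ↥E), (QuotientGroup.eq_one_iff _).1 a.2⟩
        invFun := fun e => ⟨⟨e, hzA e ((mem_center_E F.hyp).1 e.2)⟩,
          (QuotientGroup.eq_one_iff _).2 e.2⟩
        left_inv := fun a => rfl
        right_inv := fun e => rfl }
  have h1 := m.ker.card_mul_index
  rw [index_ker, hrange, hker, card_fix_q F hR h27 hq hqP] at h1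
  omega

/-- `z` is a commutator in the centraliser of `q` in `E`. -/
theorem exists_comm_z {q : G} (hq : q ∈ R) (hqP : q ∉ P) :
    ∃ e ∈ twoCoreOfCentralizer z ⊓ centralizer ({q} : Set G),
      ∃ f ∈ twoCoreOfCentralizer z ⊓ centralizer ({q} : Set G), ⁅e, f⁆ = z := by
  set E := twoCoreOfCentralizer z
  have hqH : q ∈ cH z := (hR hq).1
  obtain ⟨e, he, he1⟩ : ∃ e ∈ E ⊓ centralizer ({q} : Set G), e ∉ zpowers z := by
    by_contra hall
    push Not at hall
    have h1 := card_le_of_le (show E ⊓ centralizer ({q} : Set G) ≤ zpowers z from hall)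
    rw [card_centralizer_E F hR h27 hq hqP, Nat.card_zpowers, two F.hyp] at h1
    norm_num at h1
  obtain ⟨f, hf, hef⟩ : ∃ f ∈ E, ¬ Commute e f := by
    by_contra hall
    push Not at hall
    exact he1 ((mem_zpowers_z F.hyp).2 (mul_mem_center F.hyp he.1 hall))
  have hef' : e * f * e⁻¹ = z * f := by
    rcases comm_E F.hyp he.1 hf with e' | e'
    · exact absurd (mul_inv_eq_iff_eq_mul.1 (mul_inv_eq_one.1 e')) hef
    · exact mul_inv_eq_iff_eq_mul.1 e'
  have hqe : q * e = e * q := (mem_centralizer_singleton_iff.1 he.2).symm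
  have hstep : ∀ y, e * y * e⁻¹ = z * y → e * (q * y * q⁻¹) * e⁻¹ = z * (q * y * q⁻¹) := by
    intro y hy
    have h1 : q⁻¹ * e⁻¹ = e⁻¹ * q⁻¹ := by rw [← mul_inv_rev, ← hqe, mul_inv_rev]
    calc e * (q * y * q⁻¹) * e⁻¹ = e * q * y * (q⁻¹ * e⁻¹) := by simp only [mul_assoc]
      _ = q * e * y * (e⁻¹ * q⁻¹) := by rw [hqe, h1]
      _ = q * (e * y * e⁻¹) * q⁻¹ := by simp only [mul_assoc]
      _ = z * (q * y * q⁻¹) := by
        rw [hy, ← mul_assoc q, (commute_z hqH).eq]; simp only [mul_assoc]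
  let f0 : ↥E := ⟨f, hf⟩
  let f1 : ↥E := ⟨q * f * q⁻¹, conj_mem_twoCore hqH hf⟩
  let f2 : ↥E := ⟨q * (q * f * q⁻¹) * q⁻¹, conj_mem_twoCore hqH f1.2⟩
  set n : ↥E := f0 * f1 * f2 with hn
  have hnq : q * (n : G) * q⁻¹ = n := by
    refine lift_three F hqH (cube_R F hR h27 hq) n.2 ?_
    have h3 : q * (q * (q * f * q⁻¹) * q⁻¹) * q⁻¹ = f := by
      rw [show q * (q * (q * f * q⁻¹) * q⁻¹) * q⁻¹ = q ^ 3 * f * (q ^ 3)⁻¹ by
        rw [pow_three']; group, cube_R F hR h27 hq, inv_one, one_mul, mul_one]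
    have h4 : act z ⟨q, hqH⟩ (n : Ebar z) = n := by
      rw [hn, QuotientGroup.mk_mul, QuotientGroup.mk_mul, map_mul, map_mul, act_mk, act_mk, act_mk]
      show (f1 : Ebar z) * (f2 : Ebar z) *
        ((⟨q * (q * (q * f * q⁻¹) * q⁻¹) * q⁻¹, _⟩ : ↥E) : Ebar z) = _
      rw [show (⟨q * (q * (q * f * q⁻¹) * q⁻¹) * q⁻¹, conj_mem_twoCore hqH f2.2⟩ : ↥E) = f0 from
        Subtype.ext h3, bar_comm F.hyp ((f1 : Ebar z) * f2), ← mul_assoc]
    rw [act_mk, eq_comm, mk_eq_mk F.hyp] at h4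
    exact h4
  refine ⟨e, he, n, ⟨n.2, mem_centralizer_singleton_iff.2 (mul_inv_eq_iff_eq_mul.1 hnq).symm⟩, ?_⟩
  have hen : e * (n : G) * e⁻¹ = z * (n : G) := by
    show e * (f * (q * f * q⁻¹) * (q * (q * f * q⁻¹) * q⁻¹)) * e⁻¹ = _
    rw [show ∀ a b c : G, e * (a * b * c) * e⁻¹ = e * a * e⁻¹ * (e * b * e⁻¹) * (e * c * e⁻¹) from
      fun a b c => by group, hef', hstep f hef', hstep _ (hstep f hef')]
    show z * f * (z * (q * f * q⁻¹)) * (z * (q * (q * f * q⁻¹) * q⁻¹)) =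
      z * (f * (q * f * q⁻¹) * (q * (q * f * q⁻¹) * q⁻¹))
    have hzy : ∀ y ∈ E, ∀ w, y * (z * w) = z * (y * w) := fun y hy w => by
      rw [← mul_assoc, (commute_z (E_le_cH F.hyp hy)).eq, mul_assoc]
    simp only [mul_assoc z, mul_assoc f]
    rw [hzy (q * f * q⁻¹) f1.2, hzy f hf, ← mul_assoc z z, z_sq F.hyp, one_mul, hzy f hf]
  rw [commutatorElement_def, hen, mul_inv_cancel_right]

/-- An index two subgroup of `C(q)` contains `N ∩ C(q)`. -/
theorem N_centralizer_le {q : G} (hq : q ∈ R) (hqP : q ∉ P)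
    (M' : Subgroup ↥(centralizer ({q} : Set G)))
    (hM' : M'.index = 2) :
    ∀ w, ∀ hw : w ∈ centralizer ({q} : Set G), w ∈ F.N →
      (⟨w, hw⟩ : ↥(centralizer ({q} : Set G))) ∈ M' := by
  obtain ⟨π, hπ, hπ3, hgen⟩ := exists_gen F.hyp
  have hπ1 : π ≠ 1 := fun e => by rw [e, orderOf_one] at hπ3; norm_num at hπ3
  have hqH : q ∈ cH z := (hR hq).1
  have hmul : ∀ a b : ↥(centralizer ({q} : Set G)), a * b ∈ M' ↔ (a ∈ M' ↔ b ∈ M') := fun a b => mul_mem_iff_of_index_two hM'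
  have hcomm : ∀ a b : ↥(centralizer ({q} : Set G)), a * b * a⁻¹ * b⁻¹ ∈ M' := fun a b => by
    rw [hmul, hmul, hmul, inv_mem_iff, inv_mem_iff]; tauto
  have hodd : ∀ a : ↥(centralizer ({q} : Set G)), a ^ 3 = 1 → a ∈ M' := fun a ha => by
    rw [show a = (a ^ 2) ^ 2 by rw [← pow_mul, show 2 * 2 = 3 + 1 from rfl, pow_succ, ha, one_mul]]
    exact sq_mem_of_index_two hM' _
  set E := twoCoreOfCentralizer z
  have hπA : π ∈ (centralizer ({q} : Set G)) := mem_centralizer_singleton_iff.2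
    (central_cC F (F.P_le hπ) (P_le_cC F hπ) (hR hq)).eq
  have hzA : z ∈ (centralizer ({q} : Set G)) := mem_centralizer_singleton_iff.2 (commute_z hqH).eq.symm
  have hzM' : (⟨z, hzA⟩ : ↥(centralizer ({q} : Set G))) ∈ M' := by
    obtain ⟨e, he, f, hf, hef⟩ := exists_comm_z F hR h27 hq hqP
    have := hcomm ⟨e, he.2⟩ ⟨f, hf.2⟩
    convert this using 1
    exact Subtype.ext hef.symm
  have hEM : ∀ e, ∀ he : e ∈ (centralizer ({q} : Set G)), e ∈ E → (⟨e, he⟩ : ↥(centralizer ({q} : Set G))) ∈ M' := by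
    intro e he heE
    set a : ↥(centralizer ({q} : Set G)) := ⟨e, he⟩
    set p : ↥(centralizer ({q} : Set G)) := ⟨π, hπA⟩
    have hc1 : ∀ b : ↥(centralizer ({q} : Set G)), p * b * p⁻¹ ∈ M' ↔ b ∈ M' := fun b => by
      rw [hmul, hmul, inv_mem_iff]; tauto
    set n := a * (p * a * p⁻¹) * (p * (p * a * p⁻¹) * p⁻¹) with hn
    have hπH := P_le_cH F.hyp hπ
    have hnE : (n : G) ∈ E := mul_mem (mul_mem heE (conj_mem_twoCore hπH heE))
      (conj_mem_twoCore hπH (conj_mem_twoCore hπH heE))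
    have hn1 : (n : G) = 1 ∨ (n : G) = z := by
      let e1 : ↥E := ⟨π * e * π⁻¹, conj_mem_twoCore hπH heE⟩
      let e2 : ↥E := ⟨π * (π * e * π⁻¹) * π⁻¹, conj_mem_twoCore hπH e1.2⟩
      refine (mk_eq_one F.hyp (e := ⟨e, heE⟩ * e1 * e2)).1 (bar_fpf F.hyp hπ hπ1 _ ?_)
      rw [QuotientGroup.mk_mul, QuotientGroup.mk_mul, map_mul, map_mul, act_mk, act_mk, act_mk]
      have h3 : (⟨π * (π * (π * e * π⁻¹) * π⁻¹) * π⁻¹, conj_mem_twoCore hπH e2.2⟩ : ↥E) = ⟨e, heE⟩ :=
        Subtype.ext (by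
          show π * (π * (π * e * π⁻¹) * π⁻¹) * π⁻¹ = e
          rw [show π * (π * (π * e * π⁻¹) * π⁻¹) * π⁻¹ = π ^ 3 * e * (π ^ 3)⁻¹ by
            rw [pow_three']; group, pow_three_P F.hyp hπ, inv_one, one_mul, mul_one])
      show (e1 : Ebar z) * (e2 : Ebar z) *
        ((⟨π * (π * (π * e * π⁻¹) * π⁻¹) * π⁻¹, _⟩ : ↥E) : Ebar z) = _
      rw [h3, bar_comm F.hyp ((e1 : Ebar z) * e2), ← mul_assoc]
    have hnM : n ∈ M' := by
      rcases hn1 with e' | e'
      · rw [show n = 1 from Subtype.ext e']; exact one_mem _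
      · rw [show n = ⟨z, hzA⟩ from Subtype.ext e']; exact hzM'
    rw [hn, hmul, hmul, hc1, hc1, hc1] at hnM
    tauto
  -- elements of `N` centralising `q`
  intro w hw hwN
  obtain ⟨e, he, p, hp, rfl⟩ := F.mem_N hwN
  have hpA : p ∈ (centralizer ({q} : Set G)) := mem_centralizer_singleton_iff.2
    (central_cC F (F.P_le hp) (P_le_cC F hp) (hR hq)).eq
  have heA : e ∈ (centralizer ({q} : Set G)) := by simpa using mul_mem hw (inv_mem hpA)
  exact mul_mem (hEM e heA he) (hodd ⟨p, hpA⟩ (Subtype.ext (pow_three_P F.hyp hp)))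

/-- The centraliser in `C` of an involution, if `z` is not a commutator. -/
theorem card_centralizer_invol (hz : z ∉ ⁅cC z P, cC z P⁆) {x : G} (hx : x ∈ cC z P)
    (hxx : x * x = 1) (hx1 : x ≠ 1) (hne : x ≠ z) :
    Nat.card (centralizer ({⟨x, hx⟩} : Set ↥(cC z P))) = 2304 := by
  obtain ⟨ψ, hψ, hker⟩ := F.exists_psi
  haveI := OrderM22.simple_m22
  haveI : Fact (Nat.Prime 2) := ⟨Nat.prime_two⟩
  have hψx : orderOf (ψ ⟨x, hx⟩) = 2 := by
    refine orderOf_eq_prime ?_ fun e => ?_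
    · rw [← map_pow]
      exact (hker _).2 (by rw [SubmonoidClass.coe_pow, sq, hxx]; exact one_mem _)
    · rcases mem_one_or_z_of_sq F ((hker _).1 e) hx hxx with e' | e'
      · exact hx1 e'
      · exact hne e'
  set L : Subgroup ↥(cC z P) := centralizer ({⟨x, hx⟩} : Set ↥(cC z P)) with hL
  have hrange : (ψ.comp L.subtype).range = centralizer ({ψ ⟨x, hx⟩} : Set ↥Spor.M22) := by
    ext u
    constructor
    · rintro ⟨⟨l, hl⟩, rfl⟩
      refine mem_centralizer_singleton_iff.2 ?_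
      show ψ l * ψ _ = ψ _ * ψ l
      rw [← map_mul, ← map_mul, mem_centralizer_singleton_iff.1 hl]
    · intro hu
      obtain ⟨c, rfl⟩ := hψ u
      refine ⟨⟨c, ?_⟩, rfl⟩
      have hu' := mem_centralizer_singleton_iff.1 hu
      set v := (c : G) * x * (c : G)⁻¹ with hv
      have hvC : v ∈ cC z P := mul_mem (mul_mem c.2 hx) (inv_mem c.2)
      have hwN : x⁻¹ * v ∈ F.N := (hker ((⟨x, hx⟩ : ↥(cC z P))⁻¹ * (c * ⟨x, hx⟩ * c⁻¹))).1 (by
        rw [map_mul, map_inv, map_mul, map_mul, map_inv, hu', mul_inv_cancel_right,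
          inv_mul_cancel])
      have hwC : x⁻¹ * v ∈ cC z P := mul_mem (inv_mem hx) hvC
      have hxw : Commute x (x⁻¹ * v) := (central_cC F hwN hwC hx).symm
      have hw2 : x⁻¹ * v * (x⁻¹ * v) = 1 := by
        have h1 : (x * (x⁻¹ * v)) ^ 2 = 1 := by
          rw [mul_inv_cancel_left, hv, conj_pow, sq, hxx, mul_one, mul_inv_cancel]
        rwa [hxw.mul_pow, sq x, hxx, one_mul, sq] at h1
      rcases mem_one_or_z_of_sq F hwN hwC hw2 with e | e
      · refine mem_centralizer_singleton_iff.2 (Subtype.ext ?_)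
        exact mul_inv_eq_iff_eq_mul.1 (show (c : G) * x * (c : G)⁻¹ = x from
          (inv_mul_eq_one.1 e).symm)
      · exfalso
        refine hz ?_
        have e1 : v * x⁻¹ = z := by
          rw [show v = x * z from inv_mul_eq_iff_eq_mul.1 e, ← (commute_z hx.1).symm.eq,
            mul_inv_cancel_right]
        have h1 : ⁅(c : G), x⁆ ∈ ⁅cC z P, cC z P⁆ := commutator_mem_commutator c.2 hx
        rwa [commutatorElement_def, ← hv, e1] at h1
  have hker6 : Nat.card (ψ.comp L.subtype).ker = 6 := by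
    have h6 : Nat.card ψ.ker = 6 := by
      have h1 := ψ.ker.card_mul_index
      rw [index_ker, MonoidHom.range_eq_top.2 hψ, card_top, OrderM22.hyp_m22.card, card_C F] at h1
      omega
    rw [← h6]
    have hkL : ψ.ker ≤ L := fun w hw => mem_centralizer_singleton_iff.2
      (Subtype.ext (central_cC F ((hker w).1 hw) w.2 hx).eq)
    exact Nat.card_congr
      { toFun := fun w => ⟨((w : ↥L) : ↥(cC z P)), w.2⟩
        invFun := fun w => ⟨⟨w, hkL w.2⟩, w.2⟩
        left_inv := fun w => rfl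
        right_inv := fun w => rfl }
  rw [← (ψ.comp L.subtype).ker.card_mul_index, index_ker, hrange, hker6,
    OrderM22.hyp_m22.card_centralizer_two hψx]

/-- A central involution of a subgroup of order 2304 of `C(z) ∩ C(q)` is a commutator modulo `N`. -/
theorem exists_commutator_mod {q : G} (hq : q ∈ R) (hqP : q ∉ P) (L' : Subgroup G)
    (hL'mem : ∀ b ∈ L', b ∈ cH z ∧ b ∈ centralizer ({q} : Set G)) (hL'c : Nat.card L' = 2304)
    {z' : G} (hz'L : z' ∈ L') (hz'2 : z' * z' = 1) (hz'c : ∀ b ∈ L', Commute z' b) :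
    ∃ m ∈ commutator ↥L', (m : G)⁻¹ * z' ∈ F.N := by
  haveI : Fact (Nat.Prime 2) := ⟨Nat.prime_two⟩
  have hqH : q ∈ cH z := (hR hq).1
  set A := centralizer ({q} : Set G) with hA
  set E := twoCoreOfCentralizer z
  -- its image in the automorphism group of `M22`
  let ι : ↥L' →* ↥(cH z) := inclusion fun b hb => (hL'mem b hb).1
  set f : ↥L' →* MulAut ↥Spor.M22 := F.φ.comp ι with hf
  have hfN : ∀ b : ↥L', f b = 1 ↔ (b : G) ∈ F.N := fun b => F.ker (ι b)
  set D := F.N ⊓ A with hD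
  have hD96 : Nat.card D ∣ 96 := by
    set T := E ⊓ A with hT
    have hT32 : Nat.card T = 32 := card_centralizer_E F hR h27 hq hqP
    have hTD : T ≤ D := fun t ht => ⟨F.E_le ht.1, ht.2⟩
    have hrel : T.relIndex D ∣ 3 := by
      haveI : (E.subgroupOf F.N).Normal := ⟨fun w hw y => by
        rw [mem_subgroupOf] at hw ⊢
        exact conj_mem_E F.hyp (F.N_le y.2) hw⟩
      have h1 : (E.subgroupOf F.N).relIndex (D.subgroupOf F.N) ∣ 3 := by
        have h2 := relIndex_dvd_index_of_normal (E.subgroupOf F.N) (D.subgroupOf F.N)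
        rwa [← relIndex, F.relIndex_E] at h2
      rw [relIndex_subgroupOf (inf_le_left : D ≤ F.N), ← inf_relIndex_right] at h1
      convert h1 using 2
      rw [hT, ← inf_assoc, inf_eq_left.2 F.E_le]
    have h1 := card_mul_index (T.subgroupOf D)
    rw [Nat.card_congr (subgroupOfEquivOfLe hTD).toEquiv, hT32, ← relIndex] at h1
    rw [← h1]
    exact (mul_dvd_mul_left 32 hrel).trans (by norm_num)
  have hkerd : Nat.card f.ker ∣ 96 := by
    refine Nat.dvd_trans ?_ hD96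
    let j : ↥f.ker →* ↥D :=
      { toFun := fun b => ⟨((b : ↥L') : G), (hfN b).1 b.2, (hL'mem _ (b : ↥L').2).2⟩
        map_one' := rfl
        map_mul' := fun a b => rfl }
    exact card_dvd_of_injective j fun a b (e : j a = j b) =>
      Subtype.ext (Subtype.ext (congrArg (fun d : ↥D => (d : G)) e))
  set I := f.range with hI
  have hI24 : 24 ∣ Nat.card I := by
    have h1 := f.ker.card_mul_index
    rw [index_ker, hL'c, ← hI] at h1
    obtain ⟨k, hk⟩ := hkerd
    refine Nat.dvd_of_mul_dvd_mul_left (show 0 < Nat.card f.ker from Nat.card_pos) ?_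
    refine ⟨k, ?_⟩
    rw [h1, mul_comm (Nat.card f.ker) 24, mul_assoc, ← hk]
    <;> norm_num
  set σ := F.φ ⟨q, hqH⟩ with hσ
  have hσ3 : orderOf σ = 3 := by
    haveI : Fact (Nat.Prime 3) := ⟨by norm_num⟩
    refine orderOf_eq_prime ?_ fun e => hqP (inter_N F hR h27 hq ((F.ker _).1 e))
    rw [hσ, ← map_pow, show (⟨q, hqH⟩ : ↥(cH z)) ^ 3 = 1 from
      Subtype.ext (cube_R F hR h27 hq), map_one]
  have hIC : I ≤ centralizer ({σ} : Set (MulAut ↥Spor.M22)) := by
    rintro _ ⟨b, rfl⟩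
    refine mem_centralizer_singleton_iff.2 ?_
    show F.φ (ι b) * σ = σ * F.φ (ι b)
    rw [hσ, ← map_mul, ← map_mul]
    exact congrArg _ (Subtype.ext (mem_centralizer_singleton_iff.1 (hL'mem _ b.2).2))
  set τ := f ⟨z', hz'L⟩ with hτ
  obtain ⟨S⟩ : Nonempty (Sylow 2 ↥I) := inferInstance
  set S' : Subgroup (MulAut ↥Spor.M22) := (S : Subgroup ↥I).map I.subtype with hS'
  have hS'I : S' ≤ I := map_subtype_le _
  have hS'p : IsPGroup 2 S' := S.2.map _
  have h72 := card_aut_centralizer_three hσ3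
  have hS'8 : Nat.card S' = 8 := by
    have h1 : Nat.card S' = 2 ^ (Nat.card I).factorization 2 := by
      rw [hS', card_map_of_injective I.subtype_injective, S.card_eq_multiplicity]
    have hd1 : Nat.card S' ∣ 72 := h72 ▸ card_dvd_of_le (hS'I.trans hIC)
    have h3 : 3 ≤ (Nat.card I).factorization 2 :=
      (Nat.prime_two.pow_dvd_iff_le_factorization Nat.card_pos.ne').1
        ((by norm_num : 2 ^ 3 ∣ 24).trans hI24)
    rw [h1] at hd1 ⊢
    have h4 : (Nat.card I).factorization 2 ≤ 3 := by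
      by_contra hlt
      exact absurd ((pow_dvd_pow 2 (show 4 ≤ (Nat.card I).factorization 2 by omega)).trans hd1)
        (by norm_num)
    rw [show (Nat.card I).factorization 2 = 3 by omega]
    norm_num
  have hτc : ∀ t ∈ I, Commute τ t := by
    rintro _ ⟨b, rfl⟩
    exact Commute.map (show Commute (⟨z', hz'L⟩ : ↥L') b from
      Subtype.ext (hz'c _ b.2).eq) f
  have hτS : τ ∈ S' := by
    have hτI : τ ∈ I := ⟨_, rfl⟩
    have hp2 : IsPGroup 2 (zpowers τ) := by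
      rintro ⟨y, n, rfl⟩
      refine ⟨1, Subtype.ext ?_⟩
      show (τ ^ n) ^ 2 ^ 1 = 1
      rw [pow_one, ← zpow_natCast, ← zpow_mul, mul_comm, zpow_mul, zpow_natCast, hτ, ← map_pow,
        show (⟨z', hz'L⟩ : ↥L') ^ 2 = 1 from Subtype.ext (by
          show z' ^ 2 = 1
          rw [sq, hz'2]), map_one, one_zpow]
    have hn : S' ≤ normalizer ((zpowers τ : Subgroup (MulAut ↥Spor.M22)) : Set _) := fun s hs => by
      refine centralizer_le_normalizer _ (mem_centralizer_iff.2 fun y hy => ?_)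
      obtain ⟨n, rfl⟩ := hy
      exact ((hτc s (hS'I hs)).zpow_left n).eq
    have hp := hS'p.to_sup_of_normal_right' hp2 hn
    obtain ⟨k, hk⟩ := IsPGroup.iff_card.1 hp
    have hd1 : 2 ^ k ∣ 72 := hk ▸ h72 ▸
      card_dvd_of_le ((sup_le hS'I (zpowers_le.2 hτI)).trans hIC)
    have h4 : k ≤ 3 := by
      by_contra hlt
      exact absurd ((pow_dvd_pow 2 (show 4 ≤ k by omega)).trans hd1) (by norm_num)
    have heq : S' = S' ⊔ zpowers τ := eq_of_le_of_card_ge le_sup_left (by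
      rw [hS'8, hk]
      exact le_trans (Nat.pow_le_pow_right (by norm_num) h4) (by norm_num))
    exact heq ▸ (le_sup_right : zpowers τ ≤ _) (mem_zpowers τ)
  have hder : τ ∈ (commutator ↥L').map f := by
    rw [_root_.commutator_def, map_commutator, ← MonoidHom.range_eq_map]
    exact commutator_mono hS'I hS'I
      (center_le_commutator hσ3 (hS'I.trans hIC) hS'8 hτS fun t ht => hτc t (hS'I ht))
  obtain ⟨m, hm, hme⟩ := hder
  refine ⟨m, hm, (hfN (m⁻¹ * ⟨z', hz'L⟩)).1 ?_⟩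
  rw [map_mul, map_inv, hme]
  exact inv_mul_cancel τ

/-- `z` lies in `C'`. -/
theorem z_mem_commutator (hF : Fusion z P) : z ∈ ⁅cC z P, cC z P⁆ := by
  by_contra hz
  obtain ⟨ψ, hψ, hker⟩ := F.exists_psi
  haveI := OrderM22.simple_m22
  haveI : Fact (Nat.Prime 2) := ⟨Nat.prime_two⟩
  obtain ⟨g, hx, hne, hQ, hQP⟩ := exists_fused F hR h27 hF
  set C' := ⁅cC z P, cC z P⁆ with hC'
  have hC'le : C' ≤ cC z P := commutator_le.2 fun a ha b hb =>
    mul_mem (mul_mem (mul_mem ha hb) (inv_mem ha)) (inv_mem hb)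
  set K := centralizer (P : Set G) with hK
  set M := oddCore P ⊔ C' with hM
  have hMK : M ≤ K := sup_le (oddCore_le P) (hC'le.trans inf_le_right)
  have hMmem : ∀ m ∈ M, ∃ o ∈ oddCore P, ∃ c ∈ C', m = o * c := by
    intro m hm
    have hn : C' ≤ normalizer ((oddCore P : Subgroup G) : Set G) := fun c hc =>
      mem_normalizer_fintype fun o ho => oddCore_conj P (hC'le hc).2 ho
    rw [hM, ← SetLike.mem_coe, coe_mul_of_right_le_normalizer_left _ _ hn] at hm
    obtain ⟨o, ho, c, hc, rfl⟩ := hm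
    exact ⟨o, ho, c, hc, rfl⟩
  have hzM : z ∉ M := by
    intro hm
    obtain ⟨o, ho, c, hc, e⟩ := hMmem z hm
    have hoC : o ∈ cC z P := by
      rw [show o = z * c⁻¹ by rw [e, mul_inv_cancel_right]]
      exact mul_mem (z_mem_cC F) (inv_mem (hC'le hc))
    exact hz (e ▸ mul_mem (F.hyp.2.2.2.2.2.2.2.2 (oddCore_inter F ho hoC)) hc)
  have hcase : ∀ c ∈ cC z P, c ∈ C' ∨ z * c ∈ C' := by
    intro c hc
    have htop : (commutator ↥(cC z P)).map ψ = ⊤ := by
      rw [_root_.commutator_def, map_commutator, ← MonoidHom.range_eq_map, MonoidHom.range_eq_top.2 hψ]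
      refine (commutator_normal (⊤ : Subgroup ↥Spor.M22) ⊤).eq_bot_or_eq_top.resolve_left fun e => ?_
      exact OrderM22.hyp_m22.not_comm ⟨⟨fun a b => (mem_center_iff.1
        ((commutator_eq_bot_iff_le_centralizer.1 e).trans (by rw [coe_top, centralizer_univ])
          (mem_top b)) a)⟩⟩
    obtain ⟨d, hd, hde⟩ : ψ ⟨c, hc⟩ ∈ (commutator ↥(cC z P)).map ψ := htop ▸ mem_top _
    have hdC : (d : G) ∈ C' := by
      rw [hC', ← map_subtype_commutator]
      exact mem_map_of_mem _ hd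
    set w := (d : G)⁻¹ * c with hw
    have hwC : w ∈ cC z P := mul_mem (inv_mem d.2) hc
    have hwN : w ∈ F.N := (hker (d⁻¹ * ⟨c, hc⟩)).1 (by rw [map_mul, map_inv, hde, inv_mul_cancel])
    have hcw : c = (d : G) * w := by rw [hw, mul_inv_cancel_left]
    obtain ⟨p, hp, e | e⟩ := F.N_inf_cC hwN hwC
    · exact Or.inl (hcw ▸ e ▸ mul_mem hdC (F.hyp.2.2.2.2.2.2.2.2 hp))
    · refine Or.inr ?_
      rw [hcw, e, show z * ((d : G) * (z * p)) = (z * d) * z * p by group,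
        ← (commute_z d.2.1).eq, mul_assoc (d : G) z z, z_sq F.hyp, mul_one]
      exact mul_mem hdC (F.hyp.2.2.2.2.2.2.2.2 hp)
  have hzi : z⁻¹ = z := inv_eq_of_mul_eq_one_right (z_sq F.hyp)
  have hM2 : (M.subgroupOf K).index = 2 := by
    refine index_eq_two_iff'.2 ⟨⟨z, (z_mem_cC F).2⟩, fun k => ?_⟩
    simp only [mem_subgroupOf, Subgroup.coe_mul]
    have hor : (k : G) ∈ M ∨ z * (k : G) ∈ M := by
      obtain ⟨o, ho, c, hc, e⟩ := centralizer_eq F.hyp k.2
      rcases hcase c hc with h1 | h1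
      · exact Or.inl (e ▸ mul_mem (mem_sup_left ho) (mem_sup_right h1))
      · refine Or.inr ?_
        rw [e, show z * (o * c) = z * o * z⁻¹ * (z * c) by group]
        exact mul_mem (mem_sup_left (oddCore_conj P (z_mem_cC F).2 ho)) (mem_sup_right h1)
    rcases hor with h1 | h1
    · exact Or.inr ⟨h1, fun h2 => hzM (by simpa using mul_mem h2 (inv_mem h1))⟩
    · exact Or.inl ⟨h1, fun h2 => hzM (by simpa using mul_mem h1 (inv_mem h2))⟩
  -- transport to the centraliser of `q`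
  obtain ⟨π, hπ, hπ3, hgen⟩ := exists_gen F.hyp
  have hπ1 : π ≠ 1 := fun e => by rw [e, orderOf_one] at hπ3; norm_num at hπ3
  set q := g⁻¹ * π * g with hqdef
  have hq : q ∈ R := hQ π hπ
  have hqP : q ∉ P := hQP π hπ hπ1
  have hqH : q ∈ cH z := (hR hq).1
  set A := centralizer ({q} : Set G) with hA
  have htr : ∀ a ∈ A, g * a * g⁻¹ ∈ K := by
    intro a ha
    refine mem_centralizer_iff.2 fun p hp => ?_
    rw [hgen] at hp
    obtain ⟨n, rfl⟩ := hp
    have h1 : Commute (g * a * g⁻¹) π := by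
      have h2 := congrArg (fun y => g * y * g⁻¹) (mem_centralizer_singleton_iff.1 ha)
      show g * a * g⁻¹ * π = π * (g * a * g⁻¹)
      simp only [hqdef] at h2
      calc g * a * g⁻¹ * π = g * (a * (g⁻¹ * π * g)) * g⁻¹ := by group
        _ = g * (g⁻¹ * π * g * a) * g⁻¹ := h2
        _ = π * (g * a * g⁻¹) := by group
    exact (h1.zpow_right n).eq.symm
  let χ : ↥A →* ↥K :=
    { toFun := fun a => ⟨g * a * g⁻¹, htr a a.2⟩
      map_one' := Subtype.ext (by simp)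
      map_mul' := fun a b => Subtype.ext (by simp [mul_assoc]) }
  set M' : Subgroup ↥A := (M.subgroupOf K).comap χ with hM'
  have hmem : ∀ a : ↥A, a ∈ M' ↔ g * (a : G) * g⁻¹ ∈ M := fun a => Iff.rfl
  have hmul : ∀ a b : ↥A, a * b ∈ M' ↔ (a ∈ M' ↔ b ∈ M') := fun a b => by
    rw [hM', mem_comap, mem_comap, mem_comap, map_mul, mul_mem_iff_of_index_two hM2]
  have hcomm : ∀ a b : ↥A, a * b * a⁻¹ * b⁻¹ ∈ M' := fun a b => by
    rw [hmul, hmul, hmul, inv_mem_iff, inv_mem_iff]; tauto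
  haveI := normal_of_index_eq_two hM2
  have hM'2 : M'.index = 2 := by
    rw [hM', index_comap, ← hM2]
    refine Nat.le_antisymm (Nat.le_of_dvd (by omega) ?_) ?_
    · exact relIndex_dvd_index_of_normal _ _
    · by_contra hlt
      have h1 : (M.subgroupOf K).relIndex χ.range = 1 := by
        have := Nat.pos_of_ne_zero (index_ne_zero_of_finite (H := (M.subgroupOf K).subgroupOf χ.range))
        rw [← relIndex] at this
        omega
      have hzA : g⁻¹ * z * g ∈ A := mem_centralizer_singleton_iff.2 (by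
        calc g⁻¹ * z * g * q = g⁻¹ * (z * π) * g := by rw [hqdef]; group
          _ = g⁻¹ * (π * z) * g := by rw [(commute_z (P_le_cH F.hyp hπ)).eq]
          _ = q * (g⁻¹ * z * g) := by rw [hqdef]; group)
      have h2 : χ ⟨_, hzA⟩ ∈ M.subgroupOf K := relIndex_eq_one.1 h1 ⟨_, rfl⟩
      refine hzM ?_
      have h3 : g * (g⁻¹ * z * g) * g⁻¹ = z := by group
      exact h3 ▸ (mem_subgroupOf.1 h2)
  have hNM := N_centralizer_le F hR h27 hq hqP M' hM'2
  -- the centraliser of `z' = g⁻¹ z g`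
  set x := g * z * g⁻¹ with hxdef
  set z' := g⁻¹ * z * g with hz'
  have hxx : x * x = 1 := by
    rw [hxdef, ← sq, conj_pow, sq, z_sq F.hyp, mul_one, mul_inv_cancel]
  have hx1 : x ≠ 1 := fun e => z_ne F.hyp (conj_eq_one_iff.1 e)
  set L : Subgroup ↥(cC z P) := centralizer ({⟨x, hx⟩} : Set ↥(cC z P)) with hL
  have hL4 : Nat.card L = 2304 := card_centralizer_invol F hR h27 hz hx hxx hx1 hne
  set L' : Subgroup G := L.map ((MulAut.conj g⁻¹).toMonoidHom.comp (cC z P).subtype) with hL'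
  have hL'mem : ∀ b ∈ L', b ∈ cH z ∧ b ∈ A ∧ Commute b z' := by
    rintro _ ⟨⟨c, hc⟩, hl, rfl⟩
    have hcx : c * x = x * c := congrArg Subtype.val (mem_centralizer_singleton_iff.1 hl)
    have hcz : c * z = z * c := (commute_z hc.1).eq
    have hcπ : π * c = c * π := mem_centralizer_iff.1 hc.2 π hπ
    show g⁻¹ * c * g⁻¹⁻¹ ∈ cH z ∧ g⁻¹ * c * g⁻¹⁻¹ ∈ A ∧ Commute (g⁻¹ * c * g⁻¹⁻¹) z'
    simp only [inv_inv]
    refine ⟨mem_centralizer_singleton_iff.2 ?_, mem_centralizer_singleton_iff.2 ?_, ?_⟩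
    · calc g⁻¹ * c * g * z = g⁻¹ * (c * x) * g := by rw [hxdef]; group
        _ = g⁻¹ * (x * c) * g := by rw [hcx]
        _ = z * (g⁻¹ * c * g) := by rw [hxdef]; group
    · calc g⁻¹ * c * g * q = g⁻¹ * (c * π) * g := by rw [hqdef]; group
        _ = g⁻¹ * (π * c) * g := by rw [hcπ]
        _ = q * (g⁻¹ * c * g) := by rw [hqdef]; group
    · show g⁻¹ * c * g * z' = z' * (g⁻¹ * c * g)
      calc g⁻¹ * c * g * z' = g⁻¹ * (c * z) * g := by rw [hz']; group
        _ = g⁻¹ * (z * c) * g := by rw [hcz]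
        _ = z' * (g⁻¹ * c * g) := by rw [hz']; group
  have hL'c : Nat.card L' = 2304 := by
    rw [hL', card_map_of_injective, hL4]
    exact (MulAut.conj g⁻¹).injective.comp (cC z P).subtype_injective
  have hz'L : z' ∈ L' := ⟨⟨z, z_mem_cC F⟩, mem_centralizer_singleton_iff.2
    (Subtype.ext (commute_z hx.1).eq.symm), by rw [hz']; simp [mul_assoc]⟩
  obtain ⟨m, hm, hmN⟩ := exists_commutator_mod F hR h27 hq hqP L'
    (fun b hb => ⟨(hL'mem b hb).1, (hL'mem b hb).2.1⟩) hL'c hz'L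
    (by rw [hz', show g⁻¹ * z * g * (g⁻¹ * z * g) = g⁻¹ * (z * z) * g by group, z_sq F.hyp]; group)
    fun b hb => (hL'mem b hb).2.2.symm
  let ι' : ↥L' →* ↥A := inclusion fun b hb => (hL'mem b hb).2.1
  have hmM : ι' m ∈ M' := by
    suffices (commutator ↥L').map ι' ≤ M' from this (mem_map_of_mem ι' hm)
    rw [map_le_iff_le_comap, _root_.commutator_def, commutator_le]
    intro a _ b _
    rw [mem_comap, map_commutatorElement, commutatorElement_def]
    exact hcomm _ _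
  have hrest : ι' (m⁻¹ * ⟨z', hz'L⟩) ∈ M' := by
    exact hNM _ (hL'mem _ (m⁻¹ * ⟨z', hz'L⟩ : ↥L').2).2.1 hmN
  have hfinal : (ι' ⟨z', hz'L⟩) ∈ M' := by
    rw [show (⟨z', hz'L⟩ : ↥L') = m * (m⁻¹ * ⟨z', hz'L⟩) by rw [mul_inv_cancel_left], map_mul]
    exact mul_mem hmM hrest
  rw [hmem] at hfinal
  refine hzM ?_
  have h1 : g * z' * g⁻¹ = z := by rw [hz']; group
  exact h1 ▸ hfinal

end Cfsg.Agent.J4Type.Three
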