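import Cfsg.Agent.Lib.J4Type.OrbitExcl
import Cfsg.Agent.Lib.J4Type.ThreeFused

/-!
The two classes in `Vo` under its normaliser, and fusion inside the centraliser of `P` (helper19).

* `Setting.Tz`, `ncard_Tz` : the 276 nontrivial elements of `Vo` not conjugate to `z`
* `Tz_trans`, `Oz_trans` : each kind is one class of the normaliser
* `natCard_normalizer_Vg`
* `exists_fusion` : `Three.Fusion z P`
-/

set_option autoImplicit false
set_option maxHeartbeats 1000000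
set_option linter.style.haveILetI false
set_option linter.unusedSectionVars false
open scoped Pointwise commutatorElement
open Cfsg Subgroup

namespace Cfsg.Agent.J4Type.Setting

open Cfsg.Agent.Golay

variable {G : Type*} [Group G] [Finite G] {z : G} {P : Subgroup G} (S : Setting z P)
  {o : Finset GolayPt} (ho : HexOct o)

/-- The nontrivial elements of `Vo` not conjugate to `z`. -/
def Tz : Set ↥(Cz z) := {x | x ∈ S.Vo ho ∧ x ≠ 1 ∧ ¬ IsConj z (x : G)}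

include S ho

theorem Tz_eq (hs : IsSimpleGroup G) (hG : ¬ IsMulCommutative G) (c : S.Coord o) :
    S.Tz ho = S.UhSet c ∪ (S.ShortSet ho \ S.Oz ho) := by
  obtain ⟨-, hU, hP, hL, -⟩ := S.ncard_Oz ho hs hG c
  ext x
  constructor
  · rintro ⟨hx, hx1, hxz⟩
    have hxO : x ∉ S.Oz ho := fun h => hxz h.2
    by_cases hk : S.κ x = 1
    · rcases S.U_cases ho (c := c) hx hk with h | h | h | h
      · exact absurd h hx1
      · exact absurd (h ▸ S.zH_mem_Oz ho) hxO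
      · exact Or.inl h
      · exact absurd (hP h) hxO
    · rcases S.coset_cases ho hx hk with h | h
      · exact Or.inr ⟨h, hxO⟩
      · exact absurd (hL h) hxO
  · rintro (h | ⟨h, hxO⟩)
    · obtain ⟨h1, -, h3, -⟩ := S.Uh_subset ho h
      exact ⟨h1, h3, fun hc => (Set.eq_empty_iff_forall_notMem.1 hU x) ⟨h, h1, hc⟩⟩
    · exact ⟨h.1, fun e => h.2.1 (e ▸ map_one S.κ), fun hc => hxO ⟨h.1, hc⟩⟩

theorem ncard_Tz (hs : IsSimpleGroup G) (hG : ¬ IsMulCommutative G) : (S.Tz ho).ncard = 276 := by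
  obtain ⟨c⟩ := S.exists_coord ho
  obtain ⟨-, -, -, -, hd⟩ := S.ncard_Oz ho hs hG c
  have h := Set.ncard_inter_add_ncard_sdiff_eq_ncard (S.ShortSet ho) (S.Oz ho) (Set.toFinite _)
  rw [hd, S.ncard_Short ho] at h
  rw [S.Tz_eq ho hs hG c, Set.ncard_union_eq (Set.disjoint_left.2 fun x hx h' =>
    h'.1.2.1 (S.Uh_subset ho hx).2.1), S.ncard_Uh ho]
  omega

theorem Oz_trans {x y : G} (hx : x ∈ S.Vg ho) (hxc : IsConj z x) (hy : y ∈ S.Vg ho) (hyc : IsConj z y) :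
    ∃ n ∈ Subgroup.normalizer (S.Vg ho : Set G), n * x * n⁻¹ = y := by
  obtain ⟨g, rfl⟩ := isConj_iff.1 hxc
  obtain ⟨k, rfl⟩ := isConj_iff.1 hyc
  obtain ⟨m, hm, hme⟩ := S.weakly_closed ho hx
  obtain ⟨n, hn, hne⟩ := S.weakly_closed ho hy
  exact ⟨n * m⁻¹, mul_mem hn (inv_mem hm), by rw [← hme, ← hne]; group⟩

theorem exists_normalizer_of_conjH {x y : ↥(Cz z)} (h : S.conjH o x y) :
    ∃ n ∈ Subgroup.normalizer (S.Vg ho : Set G), n * (x : G) * n⁻¹ = (y : G) := by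
  obtain ⟨n, hn, rfl⟩ := h
  exact ⟨n, (S.mem_normalizer_iff_κ ho n).2 hn, rfl⟩

theorem conj_mem_Tz {n : G} (hn : n ∈ Subgroup.normalizer (S.Vg ho : Set G)) {x : ↥(Cz z)} (hx : x ∈ S.Tz ho) :
    ∃ y ∈ S.Tz ho, (y : G) = n * (x : G) * n⁻¹ := by
  obtain ⟨hxV, hx1, hxz⟩ := hx
  obtain ⟨y, hy, he⟩ := S.exists_of_mem_Vg ho
    ((Subgroup.mem_normalizer_iff.1 hn _).1 ((S.mem_Vg_iff ho x).2 hxV))
  refine ⟨y, ⟨hy, fun e => hx1 (Subtype.ext ?_), fun hc => hxz ?_⟩, he⟩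
  · rw [e] at he
    exact conj_eq_one_iff.1 he.symm
  · rw [he] at hc
    exact hc.trans (isConj_iff.2 ⟨n⁻¹, by group⟩)

/-- The 276 are one class. -/
theorem Tz_trans (hs : IsSimpleGroup G) (hG : ¬ IsMulCommutative G) {x y : ↥(Cz z)} (hx : x ∈ S.Tz ho)
    (hy : y ∈ S.Tz ho) : ∃ n ∈ Subgroup.normalizer (S.Vg ho : Set G), n * (x : G) * n⁻¹ = (y : G) := by
  obtain ⟨c⟩ := S.exists_coord ho
  obtain ⟨-, -, -, hL, hd⟩ := S.ncard_Oz ho hs hG c
  have hsh : ∀ u ∈ S.ShortSet ho, u ∉ S.Oz ho → ∀ v ∈ S.ShortSet ho, v ∉ S.Oz ho → S.conjH o u v := by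
    rcases S.short_Oz_cases ho with h | h | ⟨-, h, -⟩
    · omega
    · omega
    · exact h
  set N := Subgroup.normalizer (S.Vg ho : Set G) with hN
  have hlink : ∃ u ∈ S.UhSet c, ∃ n ∈ N, ∃ v ∈ S.ShortSet ho \ S.Oz ho, n * (u : G) * n⁻¹ = (v : G) := by
    by_contra hh
    push Not at hh
    have hinv : ∀ n ∈ N, ∀ u ∈ S.UhSet c, ∃ w ∈ S.UhSet c, (w : G) = n * (u : G) * n⁻¹ := by
      intro n hn u hu
      obtain ⟨w, hw, he⟩ := S.conj_mem_Tz ho hn (x := u) (by rw [S.Tz_eq ho hs hG c]; exact Or.inl hu)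
      rw [S.Tz_eq ho hs hG c] at hw
      rcases hw with hw | hw
      · exact ⟨w, hw, he⟩
      · exact absurd he.symm (hh u hu n hn w hw)
    -- the subgroup generated by the 36 would be invariant and contain `z`
    set U := Subgroup.closure (((↑) : ↥(Cz z) → G) '' S.UhSet c) with hUdef
    have hz : z ∈ U := by
      obtain ⟨e, he⟩ := S.pr_surjective (c.h 0)
      have h1 : inE e ∈ S.UhSet c := ⟨e, rfl, 0, 1, one_ne_zero, by rw [he, one_smul]⟩
      have h2 : inE (e * ⟨z, S.z_mem_E⟩) ∈ S.UhSet c := ⟨_, rfl, 0, 1, one_ne_zero, by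
        rw [S.pr_mul, he, (S.pr_eq_zero ⟨z, S.z_mem_E⟩).2 (Or.inr rfl), add_zero, one_smul]⟩
      have h3 := mul_mem (inv_mem (Subgroup.subset_closure (Set.mem_image_of_mem ((↑) : ↥(Cz z) → G) h1)))
        (Subgroup.subset_closure (Set.mem_image_of_mem ((↑) : ↥(Cz z) → G) h2) : _ ∈ U)
      simpa using h3
    have hmap : ∀ n ∈ N, ∀ v ∈ U, n * v * n⁻¹ ∈ U := fun n hn v hv => by
      induction hv using Subgroup.closure_induction with
      | mem v hv =>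
        obtain ⟨u, hu, rfl⟩ := hv
        obtain ⟨w, hw, he⟩ := hinv n hn u hu
        exact he ▸ Subgroup.subset_closure ⟨w, hw, rfl⟩
      | one => simp
      | mul a b _ _ ha hb =>
        rw [show n * (a * b) * n⁻¹ = n * a * n⁻¹ * (n * b * n⁻¹) by group]; exact mul_mem ha hb
      | inv a _ ha => rw [show n * a⁻¹ * n⁻¹ = (n * a * n⁻¹)⁻¹ by group]; exact inv_mem ha
    have hker : ∀ v ∈ U, ∃ h : v ∈ Cz z, S.κ ⟨v, h⟩ = 1 := fun v hv => by
      have hle : U ≤ S.κ.ker.map (Cz z).subtype := (Subgroup.closure_le _).2 (by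
        rintro _ ⟨u, hu, rfl⟩
        exact ⟨u, (S.Uh_subset ho hu).2.1, rfl⟩)
      obtain ⟨h, hh, rfl⟩ := hle hv
      exact ⟨h.2, hh⟩
    obtain ⟨l, hl⟩ : (S.LongSet ho).Nonempty :=
      Set.nonempty_of_ncard_ne_zero (by rw [S.ncard_Long ho]; norm_num)
    obtain ⟨n, hn, hne⟩ := S.Oz_trans ho (S.z_mem_Vg ho) (IsConj.refl z)
      ((S.mem_Vg_iff ho l).2 hl.1) (hL hl).2
    obtain ⟨h, hh⟩ := hker _ (hmap n hn z hz)
    exact hl.2.1 (by rw [show l = ⟨n * z * n⁻¹, h⟩ from Subtype.ext hne.symm]; exact hh)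
  obtain ⟨u, hu, n, hn, v, hv, huv⟩ := hlink
  have hto : ∀ w ∈ S.Tz ho, ∃ m ∈ N, m * (u : G) * m⁻¹ = (w : G) := by
    intro w hw
    rw [S.Tz_eq ho hs hG c] at hw
    rcases hw with hw | hw
    · exact S.exists_normalizer_of_conjH ho (S.Uh_trans ho hu hw)
    · obtain ⟨m, hm, hme⟩ := S.exists_normalizer_of_conjH ho (hsh v hv.1 hv.2 w hw.1 hw.2)
      exact ⟨m * n, mul_mem hm hn, by rw [← hme, ← huv]; group⟩
  obtain ⟨a, ha, hax⟩ := hto x hx
  obtain ⟨b, hb, hby⟩ := hto y hy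
  exact ⟨b * a⁻¹, mul_mem hb (inv_mem ha), by rw [← hax, ← hby]; group⟩

theorem natCard_normalizer_Vg (hs : IsSimpleGroup G) (hG : ¬ IsMulCommutative G) :
    Nat.card ↥(Subgroup.normalizer (S.Vg ho : Set G)) = 2 ^ 11 * 244823040 := by
  obtain ⟨c⟩ := S.exists_coord ho
  rw [S.natCard_normalizer_eq ho, (S.ncard_Oz ho hs hG c).1]
  norm_num

omit ho in
/-- **Fusion in the centraliser of `P`.** -/
theorem exists_fusion (hs : IsSimpleGroup G) (hG : ¬ IsMulCommutative G) : Three.Fusion z P := by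
  obtain ⟨o, ho, -⟩ := S.exists_conj_mem_Vo hs hG
  obtain ⟨c⟩ := S.exists_coord ho
  obtain ⟨-, -, -, -, hd⟩ := S.ncard_Oz ho hs hG c
  rcases S.short_Oz_cases ho with h | h | ⟨-, -, y, hy, hg, hk⟩
  · omega
  · omega
  · obtain ⟨g, hgz⟩ := isConj_iff.1 hy.2
    refine ⟨g, ?_, fun e => hk ?_⟩
    · rw [hgz]
      refine Subgroup.mem_inf.2 ⟨y.2, Subgroup.mem_centralizer_iff.2 fun a ha => ?_⟩
      rw [SetLike.mem_coe, ← S.gen_zpowers] at ha
      obtain ⟨i, rfl⟩ := Subgroup.mem_zpowers_iff.1 ha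
      exact ((show Commute (y : G) S.gen from hg).zpow_right i).symm.eq
    · rw [show y = ⟨z, self_mem_Cz z⟩ from Subtype.ext (hgz.symm.trans e)]
      exact S.κ_z

end Cfsg.Agent.J4Type.Setting
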