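/-
The 3-local subgroups of a group of Janko-four type, given fusion of `z` inside `C`.

Main results (namespace `Cfsg.Agent.J4Type.Three`):
* `perfect`, `oddCore_eq`, `centralizer_P`, `normalizer_P_le`, `cover_m22` : the centraliser of `P`
* `sylow_three`, `card_normalizer_R` : the Sylow 3-normaliser
* `one_class` : one class of elements of order 3
-/
import Cfsg.Agent.EqLemmas
import Cfsg.Agent.Lib.J4Type.ThreeFused
import Cfsg.Agent.Lib.PGroup.Basic
import Mathlib.GroupTheory.FixedPointFree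

set_option autoImplicit false
set_option linter.unusedSectionVars false

open Cfsg Subgroup
open scoped commutatorElement

namespace Cfsg.Agent.J4Type.Three

/-- The action induced on the quotient by an invariant normal subgroup. -/
noncomputable def quotHom {C K : Type*} [Group C] [Group K] (N : Subgroup K) [N.Normal]
    (α : C →* MulAut K) (h : ∀ c, N.map (α c).toMonoidHom = N) : C →* MulAut (K ⧸ N) where
  toFun c := QuotientGroup.congr N N (α c) (h c)
  map_one' := MulEquiv.ext fun x => QuotientGroup.induction_on x fun k => by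
    show ((α 1 k : K) : K ⧸ N) = k
    rw [map_one]; rfl
  map_mul' a b := MulEquiv.ext fun x => QuotientGroup.induction_on x fun k => by
    show ((α (a * b) k : K) : K ⧸ N) = ((α a (α b k) : K) : K ⧸ N)
    rw [map_mul]; rfl

variable {G : Type*} [Group G] [Finite G] {z : G} {P : Subgroup G}
variable (F : Frame z P) {R : Subgroup G} (hR : R ≤ cC z P) (h27 : Nat.card R = 27)
  (hF : Fusion z P)
include F hR h27 hF

/-- `C` is perfect. -/
theorem perfect : ⁅cC z P, cC z P⁆ = cC z P := by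
  haveI := OrderM22.simple_m22
  obtain ⟨ψ, hψ, hker⟩ := F.exists_psi
  refine le_antisymm (commutator_le.2 fun a ha b hb =>
    mul_mem (mul_mem (mul_mem ha hb) (inv_mem ha)) (inv_mem hb)) fun c hc => ?_
  have htop : (commutator ↥(cC z P)).map ψ = ⊤ := by
    rw [_root_.commutator_def, map_commutator, ← MonoidHom.range_eq_map,
      MonoidHom.range_eq_top.2 hψ]
    refine (commutator_normal (⊤ : Subgroup ↥Spor.M22) ⊤).eq_bot_or_eq_top.resolve_left fun e => ?_
    exact OrderM22.hyp_m22.not_comm ⟨⟨fun a b => (mem_center_iff.1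
      ((commutator_eq_bot_iff_le_centralizer.1 e).trans (by rw [coe_top, centralizer_univ])
        (mem_top b)) a)⟩⟩
  obtain ⟨d, hd, hde⟩ : ψ ⟨c, hc⟩ ∈ (commutator ↥(cC z P)).map ψ := htop ▸ mem_top _
  have hdC : (d : G) ∈ ⁅cC z P, cC z P⁆ := by
    rw [← map_subtype_commutator]
    exact mem_map_of_mem _ hd
  have hwC : (d : G)⁻¹ * c ∈ cC z P := mul_mem (inv_mem d.2) hc
  have hwN : (d : G)⁻¹ * c ∈ F.N := (hker (d⁻¹ * ⟨c, hc⟩)).1 (by
    rw [map_mul, map_inv, hde, inv_mul_cancel])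
  rw [show c = (d : G) * ((d : G)⁻¹ * c) by rw [mul_inv_cancel_left]]
  refine mul_mem hdC ?_
  obtain ⟨p, hp, e | e⟩ := F.N_inf_cC hwN hwC <;> rw [e]
  · exact F.hyp.2.2.2.2.2.2.2.2 hp
  · exact mul_mem (z_mem_commutator F hR h27 hF) (F.hyp.2.2.2.2.2.2.2.2 hp)

theorem commutator_cC : commutator ↥(cC z P) = ⊤ := by
  refine map_injective (cC z P).subtype_injective ?_
  rw [map_subtype_commutator, perfect F hR h27 hF, ← MonoidHom.range_eq_map, range_subtype]

theorem card_inter {g : G} (hx : g * z * g⁻¹ ∈ cC z P) (hQ : ∀ p ∈ P, g⁻¹ * p * g ∈ R)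
    (hQP : ∀ p ∈ P, p ≠ 1 → g⁻¹ * p * g ∉ P) :
    Nat.card ↥(oddCore P ⊓ centralizer ({g * z * g⁻¹} : Set G)) ∣ 9 := by
  haveI : Fact (Nat.Prime 3) := ⟨by norm_num⟩
  obtain ⟨π, hπ, hπ3, -⟩ := exists_gen F.hyp
  have hπ1 : π ≠ 1 := fun e => by rw [e, orderOf_one] at hπ3; norm_num at hπ3
  set q := g⁻¹ * π * g with hqdef
  have hq : q ∈ R := hQ π hπ
  have hqP : q ∉ P := hQP π hπ hπ1
  have hqH : q ∈ cH z := (hR hq).1
  set x := g * z * g⁻¹ with hxdef
  set D := oddCore P ⊓ centralizer ({x} : Set G) with hD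
  set D' := D.map (MulAut.conj g⁻¹).toMonoidHom with hD'
  have hmem : ∀ d ∈ D', d ∈ cH z ∧ d * q = q * d := by
    rintro _ ⟨d, ⟨hdO, hdx⟩, rfl⟩
    have h1 : d * x = x * d := mem_centralizer_singleton_iff.1 hdx
    have h2 : π * d = d * π := mem_centralizer_iff.1 (oddCore_le P hdO) π hπ
    show g⁻¹ * d * g⁻¹⁻¹ ∈ cH z ∧ g⁻¹ * d * g⁻¹⁻¹ * q = q * (g⁻¹ * d * g⁻¹⁻¹)
    rw [inv_inv]
    refine ⟨mem_centralizer_singleton_iff.2 ?_, ?_⟩
    · calc g⁻¹ * d * g * z = g⁻¹ * (d * x) * g := by rw [hxdef]; group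
        _ = g⁻¹ * (x * d) * g := by rw [h1]
        _ = z * (g⁻¹ * d * g) := by rw [hxdef]; group
    · calc g⁻¹ * d * g * q = g⁻¹ * (d * π) * g := by rw [hqdef]; group
        _ = g⁻¹ * (π * d) * g := by rw [h2]
        _ = q * (g⁻¹ * d * g) := by rw [hqdef]; group
  have hcard : Nat.card D' = Nat.card D := by
    rw [hD', card_map_of_injective (MulAut.conj g⁻¹).injective]
  have hodd : Odd (Nat.card D') := by
    rw [hcard]
    exact (oddCore_odd P).of_dvd_nat (card_dvd_of_le inf_le_left)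
  set f : ↥D' →* MulAut ↥Spor.M22 := F.φ.comp (inclusion fun d hd => (hmem d hd).1) with hf
  set σ := F.φ ⟨q, hqH⟩ with hσ
  have hσ3 : orderOf σ = 3 := by
    refine orderOf_eq_prime ?_ fun e => hqP (inter_N F hR h27 hq ((F.ker _).1 e))
    rw [hσ, ← map_pow, show (⟨q, hqH⟩ : ↥(cH z)) ^ 3 = 1 from
      Subtype.ext (cube_R F hR h27 hq), map_one]
  have h9 : Nat.card f.range ∣ 9 := by
    have hle : f.range ≤ centralizer ({σ} : Set (MulAut ↥Spor.M22)) := by
      rintro _ ⟨d, rfl⟩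
      refine mem_centralizer_singleton_iff.2 ?_
      show F.φ _ * σ = σ * F.φ _
      rw [hσ, ← map_mul, ← map_mul]
      exact congrArg _ (Subtype.ext (hmem d d.2).2)
    have h1 : Nat.card f.range ∣ 9 * 8 :=
      (card_dvd_of_le hle).trans (dvd_of_eq (card_aut_centralizer_three hσ3))
    refine Nat.Coprime.dvd_of_dvd_mul_right ?_ h1
    rw [show (8 : ℕ) = 2 ^ 3 from rfl]
    exact ((hodd.of_dvd_nat (card_range_dvd f)).coprime_two_right).pow_right 3
  have h3 : Nat.card f.ker ∣ 3 := by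
    let j : ↥f.ker →* ↥F.N :=
      { toFun := fun b => ⟨((b : ↥D') : G), (F.ker _).1 b.2⟩
        map_one' := rfl
        map_mul' := fun a b => rfl }
    have h1 : Nat.card f.ker ∣ 3 * 2 ^ 13 := F.card_N ▸ card_dvd_of_injective j fun a b (e : j a = j b) =>
      Subtype.ext (Subtype.ext (congrArg (fun d : ↥F.N => (d : G)) e))
    refine Nat.Coprime.dvd_of_dvd_mul_right ?_ h1
    exact ((hodd.of_dvd_nat (card_subgroup_dvd_card f.ker)).coprime_two_right).pow_right 13
  have h27' : Nat.card D' ∣ 3 ^ 3 := by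
    rw [← f.ker.card_mul_index, index_ker]
    exact (mul_dvd_mul h3 h9).trans (by norm_num)
  rw [← hcard]
  obtain ⟨k, hk, hk'⟩ := (Nat.dvd_prime_pow Nat.prime_three).1 h27'
  by_cases hk3 : k = 3
  swap
  · rw [hk']
    exact (pow_dvd_pow 3 (show k ≤ 2 by omega)).trans (by norm_num)
  exfalso
  subst hk3
  -- then a conjugate of `q` would be central in `R`
  set Y := D' ⊔ zpowers q with hY
  have hYH : Y ≤ cH z := sup_le (fun d hd => (hmem d hd).1) (zpowers_le.2 hqH)
  have hYp : IsPGroup 3 Y := by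
    refine (IsPGroup.of_card (n := 3) hk').to_sup_of_normal_right' ?_ fun d hd => ?_
    · exact IsPGroup.of_card (n := 1) (by
        rw [Nat.card_zpowers, orderOf_eq_prime (cube_R F hR h27 hq) fun e => hqP (e ▸ one_mem P),
          pow_one])
    · refine centralizer_le_normalizer _ (mem_centralizer_iff.2 fun y hy => ?_)
      obtain ⟨n, rfl⟩ := hy
      exact ((show Commute q d from (hmem d hd).2.symm).zpow_left n).eq
  obtain ⟨S, hS⟩ := sylow_H F hR h27
  obtain ⟨T, hT⟩ := (hYp.comap_subtype (K := cH z)).exists_le_sylow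
  obtain ⟨h, hh⟩ := MulAction.exists_smul_eq ↥(cH z) T S
  have hin : ∀ y ∈ Y, (h : G) * y * (h : G)⁻¹ ∈ R := fun y hy => (hS (h * ⟨y, hYH hy⟩ * h⁻¹)).1 (by
    show _ ∈ (S : Subgroup ↥(cH z))
    rw [← hh, Sylow.coe_subgroup_smul]
    exact smul_mem_pointwise_smul _ (MulAut.conj h) _ (hT (mem_subgroupOf.2 hy)))
  have hall : D'.map (MulAut.conj (h : G)).toMonoidHom = R := by
    refine eq_of_le_of_card_ge ?_ ?_
    · rintro _ ⟨d, hd, rfl⟩
      exact hin d (mem_sup_left hd)
    · rw [card_map_of_injective (MulAut.conj (h : G)).injective, hk', h27]; norm_num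
  have hqc : (h : G) * q * (h : G)⁻¹ ∈ P := by
    refine center_R F hR h27 (hin q (mem_sup_right (mem_zpowers q))) fun r hr => ?_
    rw [← hall] at hr
    obtain ⟨d, hd, rfl⟩ := hr
    exact Commute.map (show Commute q d from (hmem d hd).2.symm) (MulAut.conj (h : G)).toMonoidHom
  refine hqP (inter_N F hR h27 hq ?_)
  have := F.normal_N (inv_mem h.2) (F.P_le hqc)
  simpa [mul_assoc] using this

/-- `O(C(P)) = P`. -/
theorem oddCore_eq : oddCore P = P := by
  haveI := OrderM22.simple_m22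
  obtain ⟨g, hx, hne, hQ, hQP⟩ := exists_fused F hR h27 hF
  obtain ⟨ψ, hψ, hker⟩ := F.exists_psi
  set x := g * z * g⁻¹ with hxdef
  have hxx : x * x = 1 := by
    rw [hxdef, ← sq, conj_pow, sq, z_sq F.hyp, mul_one, mul_inv_cancel]
  have hPK : P ≤ centralizer (P : Set G) := (P_le_cC F).trans inf_le_right
  have hPO : P ≤ oddCore P := by
    intro p hp
    refine ⟨⟨p, hPK hp⟩, ?_, rfl⟩
    have hn : (P.subgroupOf (centralizer (P : Set G))).Normal := ⟨fun n hn k => by
      rw [mem_subgroupOf] at hn ⊢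
      show (k : G) * n * (k : G)⁻¹ ∈ P
      rw [(show (k : G) * n = n * k from (mem_centralizer_iff.1 k.2 _ hn).symm), mul_inv_cancel_right]
      exact hn⟩
    refine Cores.le_pPrimeCore hn ?_ (mem_subgroupOf.2 hp)
    rw [Nat.card_congr (subgroupOfEquivOfLe hPK).toEquiv, card_P F.hyp]
    norm_num
  refine le_antisymm ?_ hPO
  set O := oddCore P with hO
  set P' := P.subgroupOf O with hP'
  have hcentral : ∀ k ∈ centralizer (P : Set G), ∀ p ∈ P, k * p * k⁻¹ = p := fun k hk p hp => by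
    rw [(mem_centralizer_iff.1 hk p hp).symm, mul_inv_cancel_right]
  haveI : P'.Normal := ⟨fun n hn k => by
    rw [hP', mem_subgroupOf] at hn ⊢
    show (k : G) * n * (k : G)⁻¹ ∈ P
    rw [hcentral _ (oddCore_le P k.2) _ hn]
    exact hn⟩
  let α : ↥(cC z P) →* MulAut ↥O :=
    { toFun := fun c =>
        { toFun := fun o => ⟨c * o * (c : G)⁻¹, oddCore_conj P c.2.2 o.2⟩
          invFun := fun o => ⟨(c : G)⁻¹ * o * c, by
            simpa using oddCore_conj P (inv_mem c.2.2 : (c : G)⁻¹ ∈ centralizer (P : Set G)) o.2⟩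
          left_inv := fun o => Subtype.ext (by simp [mul_assoc])
          right_inv := fun o => Subtype.ext (by simp [mul_assoc])
          map_mul' := fun a b => Subtype.ext (by simp [mul_assoc]) }
      map_one' := MulEquiv.ext fun o => Subtype.ext (by simp)
      map_mul' := fun a b => MulEquiv.ext fun o => Subtype.ext (by simp [mul_assoc]) }
  have hα : ∀ c, P'.map (α c).toMonoidHom = P' := by
    intro c
    have hfix : ∀ o ∈ P', (α c).toMonoidHom o = o := fun o ho => Subtype.ext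
      (show (c : G) * o * (c : G)⁻¹ = o from hcentral _ c.2.2 _ (mem_subgroupOf.1 ho))
    ext o
    constructor
    · rintro ⟨o', ho', rfl⟩; rw [hfix o' ho']; exact ho'
    · intro ho; exact ⟨o, ho, hfix o ho⟩
  let f := quotHom P' α hα
  have hf : ∀ (c : ↥(cC z P)) (o : ↥O), f c (o : ↥O ⧸ P') =
      ((⟨(c : G) * o * (c : G)⁻¹, oddCore_conj P c.2.2 o.2⟩ : ↥O) : ↥O ⧸ P') := fun c o => rfl
  -- fixed points lift
  have hfixc : ∀ c : ↥(cC z P), (c : G) * c = 1 →
      3 * Nat.card (fix (f c)) = Nat.card ↥(O ⊓ centralizer ({(c : G)} : Set G)) := by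
    intro c hc
    set A : Subgroup ↥O := (centralizer ({(c : G)} : Set G)).subgroupOf O
    set m : ↥A →* ↥O ⧸ P' := (QuotientGroup.mk' P').comp A.subtype
    have hrange : m.range = fix (f c) := by
      ext w
      constructor
      · rintro ⟨⟨a, ha⟩, rfl⟩
        show f c (a : ↥O ⧸ P') = a
        rw [hf]
        congr 1
        exact Subtype.ext (by
          show (c : G) * a * (c : G)⁻¹ = a
          rw [← mem_centralizer_singleton_iff.1 (mem_subgroupOf.1 ha), mul_inv_cancel_right])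
      · refine QuotientGroup.induction_on w fun o ho => ?_
        have ho' : f c (o : ↥O ⧸ P') = o := ho
        rw [hf, eq_comm, QuotientGroup.eq, hP', mem_subgroupOf] at ho'
        set p : G := ((o : ↥O) : G)⁻¹ * ((c : G) * o * (c : G)⁻¹) with hp
        have hpP : p ∈ P := ho'
        have h1 : (c : G) * o * (c : G)⁻¹ = o * p := by rw [hp, mul_inv_cancel_left]
        have hci : (c : G)⁻¹ = c := inv_eq_of_mul_eq_one_right hc
        have h2 : (o : G) = o * (p * p) := by
          calc (o : G) = ((c : G) * c) * o * (((c : G) * c))⁻¹ := by rw [hc]; group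
            _ = (c : G) * ((c : G) * o * (c : G)⁻¹) * (c : G)⁻¹ := by group
            _ = (c : G) * (o * p) * (c : G)⁻¹ := by rw [h1]
            _ = ((c : G) * o * (c : G)⁻¹) * ((c : G) * p * (c : G)⁻¹) := by group
            _ = o * (p * p) := by rw [hcentral _ c.2.2 _ hpP, h1, mul_assoc]
        have hp2 : p * p = 1 := mul_left_cancel (h2.symm.trans (mul_one _).symm)
        have hp1 : p = 1 := by
          have h3 := pow_three_P F.hyp hpP
          rwa [pow_three, hp2, mul_one] at h3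
        rw [hp1, mul_one] at h1
        exact ⟨⟨o, mem_subgroupOf.2 (mem_centralizer_singleton_iff.2
          (mul_inv_eq_iff_eq_mul.1 h1).symm)⟩, rfl⟩
    have hk : Nat.card m.ker = 3 := by
      rw [← card_P F.hyp]
      exact Nat.card_congr
        { toFun := fun a => ⟨(((a : ↥A) : ↥O) : G), mem_subgroupOf.1 ((QuotientGroup.eq_one_iff _).1 a.2)⟩
          invFun := fun p => ⟨⟨⟨p, hPO p.2⟩, mem_subgroupOf.2 (mem_centralizer_singleton_iff.2
            (mem_centralizer_iff.1 c.2.2 _ p.2))⟩, (QuotientGroup.eq_one_iff _).2 p.2⟩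
          left_inv := fun a => rfl
          right_inv := fun p => rfl }
    have h1 := m.ker.card_mul_index
    rw [index_ker, hrange, hk] at h1
    rw [h1, ← Nat.card_congr (subgroupOfEquivOfLe (inf_le_left : O ⊓ centralizer ({(c : G)} : Set G) ≤ O)).toEquiv,
      inf_subgroupOf_left]
  set zC : ↥(cC z P) := ⟨z, z_mem_cC F⟩ with hzC
  have hzfix : Nat.card (fix (f zC)) = 1 := by
    have h1 := hfixc zC (z_sq F.hyp)
    have h2 : O ⊓ centralizer ({z} : Set G) = P := le_antisymm
      (fun o ho => oddCore_inter F ho.1 ⟨ho.2, oddCore_le P ho.1⟩)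
      (le_inf hPO ((P_le_cC F).trans inf_le_left))
    change 3 * Nat.card (fix (f zC)) = Nat.card ↥(O ⊓ centralizer ({z} : Set G)) at h1
    rw [h2, card_P F.hyp] at h1
    omega
  have hfpf : ∀ w, f zC w = w → w = 1 := fun w hw => by
    have h1 : fix (f zC) = ⊥ := eq_bot_of_card_eq _ hzfix
    exact mem_bot.1 (h1 ▸ (show w ∈ fix (f zC) from hw))
  have hz2 : Function.Involutive (f zC).toMonoidHom := fun w => by
    show f zC (f zC w) = w
    rw [← MulAut.mul_apply, ← map_mul, show zC * zC = 1 from Subtype.ext (z_sq F.hyp), map_one]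
    rfl
  have hfp : MonoidHom.FixedPointFree (f zC).toMonoidHom := hfpf
  have hcomm := hfp.commute_all_of_involutive hz2
  have hinv : ∀ w, f zC w = w⁻¹ := fun w =>
    congrFun (hfp.coe_eq_inv_of_involutive hz2) w
  letI : CommGroup (↥O ⧸ P') :=
    { (inferInstance : Group (↥O ⧸ P')) with mul_comm := fun a b => (hcomm a b).eq }
  have hoddW : Odd (Nat.card (↥O ⧸ P')) :=
    (oddCore_odd P).of_dvd_nat (card_quotient_dvd_card P')
  set xC : ↥(cC z P) := ⟨x, hx⟩ with hxC
  have hxfix : Nat.card (fix (f xC)) = 1 ∨ Nat.card (fix (f xC)) = 3 := by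
    have h1 := hfixc xC hxx
    have h2 := card_inter F hR h27 hF hx hQ hQP
    rw [← h1, show 9 = 3 * 3 from rfl, Nat.mul_dvd_mul_iff_left (by norm_num)] at h2
    exact (Nat.dvd_prime Nat.prime_three).1 h2
  set t := xC * zC with ht
  have hft : ∀ w, f t w = (f xC w)⁻¹ := fun w => by
    rw [ht, map_mul, MulAut.mul_apply, hinv, map_inv]
  set m : ↥O ⧸ P' →* ↥O ⧸ P' := MonoidHom.id _ * (f xC).toMonoidHom with hm
  have hma : ∀ w, m w = w * f xC w := fun w => rfl
  have hx2 : ∀ w, f xC (f xC w) = w := fun w => by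
    rw [← MulAut.mul_apply, ← map_mul, show xC * xC = 1 from Subtype.ext hxx, map_one]
    rfl
  have hmr : m.range = fix (f xC) := by
    ext v
    constructor
    · rintro ⟨w, rfl⟩
      show f xC (m w) = m w
      rw [hma, map_mul, hx2, mul_comm]
    · intro hv
      obtain ⟨n, hn⟩ := hoddW
      refine ⟨v ^ (n + 1), ?_⟩
      rw [hma, map_pow, show f xC v = v from hv, ← pow_add,
        show n + 1 + (n + 1) = (2 * n + 1) + 1 by ring, pow_succ, ← hn, pow_card_eq_one', one_mul]
  have hmk : m.ker = fix (f t) := by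
    ext w
    rw [MonoidHom.mem_ker, hma, mem_fix, hft, mul_eq_one_iff_eq_inv, eq_comm]
  have hW := m.ker.card_mul_index
  rw [index_ker, hmr, hmk] at hW
  have htt : f t * f t = 1 := MulEquiv.ext fun w => by
    rw [MulAut.mul_apply, hft, hft, map_inv, inv_inv, hx2]
    rfl
  rcases hxfix with h1 | h3
  swap
  · exact absurd (by rw [← hW, h3, mul_comm])
      (index_ne_three (commutator_cC F hR h27 hF) f hoddW htt)
  rw [h1, mul_one] at hW
  have hft1 : f t = 1 := MulEquiv.ext fun w => by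
    have h2 : fix (f t) = ⊤ := eq_top_of_card_eq _ hW
    exact (show w ∈ fix (f t) from h2 ▸ mem_top w)
  haveI : (f.ker.map ψ).Normal := Subgroup.Normal.map inferInstance ψ hψ
  have htop : f.ker.map ψ = ⊤ := by
    refine (‹(f.ker.map ψ).Normal›.eq_bot_or_eq_top).resolve_left fun e => ?_
    have h2 : ψ t = 1 := mem_bot.1 (e ▸ mem_map_of_mem ψ (show t ∈ f.ker from hft1))
    have hxz : Commute x z := (commute_z hx.1)
    have htN : x * z ∈ F.N := (hker t).1 h2
    rcases mem_one_or_z_of_sq F htN (mul_mem hx (z_mem_cC F)) (by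
      rw [← sq, hxz.mul_pow, sq, sq, hxx, z_sq F.hyp, mul_one]) with e' | e'
    · refine hne ?_
      rw [mul_eq_one_iff_eq_inv, inv_eq_of_mul_eq_one_right (z_sq F.hyp)] at e'
      exact e'
    · exact z_ne F.hyp (conj_eq_one_iff.1 (mul_eq_right.1 e'))
  have hrep : ∀ c : ↥(cC z P), ∃ w : ↥(cC z P), (w : G) ∈ F.N ∧ f c = f w := by
    intro c
    obtain ⟨k, hk, hke⟩ : ψ c ∈ f.ker.map ψ := htop ▸ mem_top _
    refine ⟨k⁻¹ * c, (hker _).1 (by rw [map_mul, map_inv, hke, inv_mul_cancel]), ?_⟩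
    rw [map_mul, map_inv, show f k = 1 from hk, inv_one, one_mul]
  have hKtop : f.ker = ⊤ := by
    rw [eq_top_iff, ← commutator_cC F hR h27 hF, _root_.commutator_def, commutator_le]
    intro a _ b _
    obtain ⟨u, hu, hua⟩ := hrep a
    obtain ⟨v, hv, hvb⟩ := hrep b
    rw [MonoidHom.mem_ker, map_commutatorElement, commutatorElement_eq_one_iff_commute, hua, hvb]
    exact Commute.map (show Commute u v from Subtype.ext (central_cC F hu u.2 v.2).eq) f
  intro o ho
  have h1 : f zC = 1 := MonoidHom.mem_ker.1 (hKtop ▸ mem_top zC)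
  have h2 := hfpf (QuotientGroup.mk' P' ⟨o, ho⟩) (by rw [h1]; rfl)
  exact mem_subgroupOf.1 ((QuotientGroup.eq_one_iff _).1 h2)

/-- `C(P) = C`. -/
theorem centralizer_P : centralizer (P : Set G) = cC z P := by
  refine le_antisymm (fun g hg => ?_) inf_le_right
  obtain ⟨o, ho, c, hc, rfl⟩ := centralizer_eq F.hyp hg
  exact mul_mem (P_le_cC F (oddCore_eq F hR h27 hF ▸ ho)) hc

theorem normalizer_P_le : normalizer (P : Set G) ≤ cH z := by
  intro g hg
  obtain ⟨π, hπ, hπ3, hgen⟩ := exists_gen F.hyp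
  obtain ⟨s, hs, hsi⟩ := exists_inverting F.hyp
  have hπ1 : π ≠ 1 := fun e => by rw [e, orderOf_one] at hπ3; norm_num at hπ3
  have hcent : ∀ k : G, k * π * k⁻¹ = π → k ∈ cH z := fun k e => by
    have h1 : k ∈ centralizer (P : Set G) := mem_centralizer_iff.2 fun p hp => by
      rw [hgen] at hp
      obtain ⟨n, rfl⟩ := hp
      exact ((show Commute k π from mul_inv_eq_iff_eq_mul.1 e).zpow_right n).eq.symm
    rw [centralizer_P F hR h27 hF] at h1
    exact h1.1
  have h1 : g * π * g⁻¹ ∈ P := (mem_normalizer_iff.1 hg π).1 hπ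
  rw [hgen] at h1
  obtain ⟨n, hn⟩ := (isOfFinOrder_of_finite π).mem_powers_iff_mem_zpowers.2 h1
  have hmod : π ^ (n % 3) = g * π * g⁻¹ := by
    rw [← hn, ← hπ3]; exact pow_mod_orderOf π n
  rcases (show n % 3 = 0 ∨ n % 3 = 1 ∨ n % 3 = 2 by omega) with e | e | e <;> rw [e] at hmod
  · rw [pow_zero, eq_comm, conj_eq_one_iff] at hmod
    exact absurd hmod hπ1
  · rw [pow_one] at hmod
    exact hcent g hmod.symm
  · have hgs : g * s ∈ cH z := by
      refine hcent _ ?_
      have h2 : π ^ 2 = π⁻¹ := by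
        rw [eq_inv_iff_mul_eq_one, ← pow_succ, pow_three_P F.hyp hπ]
      rw [h2] at hmod
      rw [mul_inv_rev, show g * s * π * (s⁻¹ * g⁻¹) = g * (s * π * s⁻¹) * g⁻¹ by group, hsi π hπ,
        ← conj_inv, ← hmod, inv_inv]
    simpa using mul_mem hgs (inv_mem hs)

/-- `C` is the sixfold cover of M22. -/
theorem cover_m22 :
    IsCyclic ↥(center ↥(cC z P)) ∧ Nat.card ↥(center ↥(cC z P)) = 6 ∧
      Spor.IsoM22 (↥(cC z P) ⧸ center ↥(cC z P)) := by
  obtain ⟨ψ, hψ, hker⟩ := F.exists_psi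
  have hZ : center ↥(cC z P) = ψ.ker := by
    refine le_antisymm (fun c hc => ?_) fun c hc => mem_center_iff.2 fun d =>
      Subtype.ext (central_cC F ((hker c).1 hc) c.2 d.2).eq.symm
    have h1 : ψ c ∈ center ↥Spor.M22 := mem_center_iff.2 fun u => by
      obtain ⟨d, rfl⟩ := hψ u
      rw [← map_mul, ← map_mul, mem_center_iff.1 hc d]
    rw [center_m22, mem_bot] at h1
    exact h1
  have h6 : Nat.card ↥(center ↥(cC z P)) = 6 := by
    have h1 := (center ↥(cC z P)).card_mul_index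
    rw [hZ, index_ker, MonoidHom.range_eq_top.2 hψ, card_top, OrderM22.hyp_m22.card, card_C F] at h1
    rw [hZ]
    omega
  refine ⟨?_, h6, ⟨(QuotientGroup.quotientMulEquivOfEq hZ).trans
    (QuotientGroup.quotientKerEquivOfSurjective ψ hψ)⟩⟩
  obtain ⟨π, hπ, hπ3, -⟩ := exists_gen F.hyp
  have hc : z * π ∈ cC z P := mul_mem (z_mem_cC F) (P_le_cC F hπ)
  have hmem : (⟨z * π, hc⟩ : ↥(cC z P)) ∈ center ↥(cC z P) := by
    rw [hZ]
    exact (hker _).2 (mul_mem (z_mem_N F) (F.P_le hπ))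
  refine isCyclic_of_orderOf_eq_card ⟨_, hmem⟩ ?_
  rw [h6, orderOf_mk, orderOf_mk,
    (commute_z (P_le_cH F.hyp hπ)).symm.orderOf_mul_eq_mul_orderOf_of_coprime
      (by rw [two F.hyp, hπ3]; norm_num), two F.hyp, hπ3]

/-- `R` is a Sylow 3-subgroup of `G`. -/
theorem three_group_eq {S : Subgroup G} (hS : IsPGroup 3 S) (hRS : R ≤ S) : S = R := by
  haveI : Fact (Nat.Prime 3) := ⟨by norm_num⟩
  have hdiv : ∀ T : Subgroup G, IsPGroup 3 T → T ≤ cC z P → Nat.card T ≤ 27 := by
    intro T hT hTC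
    obtain ⟨k, hk⟩ := IsPGroup.iff_card.1 hT
    have hd : 3 ^ k ∣ 2661120 := hk ▸ card_C F ▸ card_dvd_of_le hTC
    rw [hk]
    by_contra hlt
    have h4 : 4 ≤ k := by
      by_contra h'
      exact hlt ((Nat.pow_le_pow_right (by norm_num) (show k ≤ 3 by omega)).trans (by norm_num))
    have := (pow_dvd_pow 3 h4).trans hd
    norm_num at this
  haveI : Nontrivial ↥S := by
    obtain ⟨π, hπ, hπ3, -⟩ := exists_gen F.hyp
    refine ⟨⟨⟨π, hRS (P_le_R F hR h27 hπ)⟩, 1, fun e => ?_⟩⟩
    rw [show π = 1 from congrArg Subtype.val e, orderOf_one] at hπ3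
    norm_num at hπ3
  haveI := hS.center_nontrivial
  obtain ⟨⟨⟨c, hcS⟩, hcc⟩, hc1⟩ := exists_ne (1 : ↥(center ↥S))
  have hcomm : ∀ y ∈ S, Commute c y := fun y hy =>
    (congrArg Subtype.val (mem_center_iff.1 hcc ⟨y, hy⟩)).symm
  have hcC : c ∈ cC z P := by
    rw [← centralizer_P F hR h27 hF]
    exact mem_centralizer_iff.2 fun p hp => (hcomm p (hRS (P_le_R F hR h27 hp))).eq.symm
  have hcR : c ∈ R := by
    have heq : R = R ⊔ zpowers c := eq_of_le_of_card_ge le_sup_left (by
      rw [h27]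
      exact hdiv _ (hS.to_le (sup_le hRS (zpowers_le.2 hcS))) (sup_le hR (zpowers_le.2 hcC)))
    exact heq ▸ (le_sup_right : zpowers c ≤ _) (mem_zpowers c)
  have hcP : c ∈ P := center_R F hR h27 hcR fun y hy => hcomm y (hRS hy)
  have hgen : zpowers c = P := by
    refine eq_of_le_of_card_ge (zpowers_le.2 hcP) ?_
    rw [Nat.card_zpowers, orderOf_eq_prime (pow_three_P F.hyp hcP)
      (fun e => hc1 (Subtype.ext (Subtype.ext e))), card_P F.hyp]
  have hSC : S ≤ cC z P := by
    rw [← centralizer_P F hR h27 hF]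
    refine fun y hy => mem_centralizer_iff.2 fun p hp => ?_
    rw [← hgen] at hp
    obtain ⟨n, rfl⟩ := hp
    exact ((hcomm y hy).zpow_left n).eq
  exact (eq_of_le_of_card_ge hRS (by rw [h27]; exact hdiv S hS hSC)).symm

theorem normalizer_R_le_P : normalizer (R : Set G) ≤ normalizer (P : Set G) := by
  intro g hg
  refine mem_normalizer_fintype fun p hp => ?_
  refine center_R F hR h27 ((mem_normalizer_iff.1 hg p).1 (P_le_R F hR h27 hp)) fun y hy => ?_
  have h1 : g⁻¹ * y * g ∈ R := (mem_normalizer_iff''.1 hg y).1 hy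
  have h2 : Commute p (g⁻¹ * y * g) := central_cC F (F.P_le hp) (P_le_cC F hp) (hR h1)
  have h3 := h2.map (MulAut.conj g).toMonoidHom
  change Commute (g * p * g⁻¹) (g * (g⁻¹ * y * g) * g⁻¹) at h3
  rwa [show g * (g⁻¹ * y * g) * g⁻¹ = y by group] at h3

theorem normalizer_R_le : normalizer (R : Set G) ≤ cH z :=
  (normalizer_R_le_P F hR h27 hF).trans (normalizer_P_le F hR h27 hF)

theorem card_normalizer_R : Nat.card ↥(normalizer (R : Set G)) = 864 := by
  haveI : Fact (Nat.Prime 3) := ⟨by norm_num⟩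
  obtain ⟨ψ, hψ, hker⟩ := F.exists_psi
  set Nr := normalizer (R : Set G) with hNr
  have hNH : Nr ≤ cH z := normalizer_R_le F hR h27 hF
  have hRH : R ≤ cH z := hR.trans inf_le_left
  set Rb := (R.subgroupOf (cH z)).map F.φ with hRb
  have h9 : Nat.card Rb = 9 := by
    have hk : Nat.card (F.φ.comp (R.subgroupOf (cH z)).subtype).ker = 3 := by
      rw [← card_P F.hyp]
      exact Nat.card_congr
        { toFun := fun a => ⟨((a : ↥(R.subgroupOf (cH z))) : ↥(cH z)),
            inter_N F hR h27 (mem_subgroupOf.1 a.1.2) ((F.ker _).1 a.2)⟩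
          invFun := fun p => ⟨⟨⟨p, P_le_cH F.hyp p.2⟩, mem_subgroupOf.2 (P_le_R F hR h27 p.2)⟩,
            (F.ker _).2 (F.P_le p.2)⟩
          left_inv := fun a => rfl
          right_inv := fun p => rfl }
    have h1 := (F.φ.comp (R.subgroupOf (cH z)).subtype).ker.card_mul_index
    rw [index_ker, hk, Nat.card_congr (subgroupOfEquivOfLe hRH).toEquiv, h27, MonoidHom.range_comp,
      range_subtype, ← hRb] at h1
    omega
  set f : ↥Nr →* MulAut ↥Spor.M22 := F.φ.comp (inclusion hNH) with hf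
  have hfr : f.range = normalizer (Rb : Set (MulAut ↥Spor.M22)) := by
    ext α
    constructor
    · rintro ⟨⟨y, hy⟩, rfl⟩
      refine mem_normalizer_fintype fun a ha => ?_
      obtain ⟨r, hr, rfl⟩ := ha
      refine ⟨⟨y, hNH hy⟩ * r * ⟨y, hNH hy⟩⁻¹, mem_subgroupOf.2 ?_, ?_⟩
      · exact (mem_normalizer_iff.1 hy r).1 (mem_subgroupOf.1 hr)
      · rw [map_mul, map_mul, map_inv]; rfl
    · intro hα
      obtain ⟨⟨h, hh⟩, rfl⟩ := F.surj α
      obtain ⟨n, hn, hnor⟩ := F.exists_mul_normalizer hh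
      set y := n * h with hy
      have hyH : y ∈ cH z := mul_mem (F.N_le hn) hh
      have hφy : F.φ ⟨y, hyH⟩ = F.φ ⟨h, hh⟩ := by
        rw [show (⟨y, hyH⟩ : ↥(cH z)) = ⟨n, F.N_le hn⟩ * ⟨h, hh⟩ from rfl, map_mul,
          (F.ker ⟨n, F.N_le hn⟩).2 hn, one_mul]
      have hyn : y ∈ Nr := by
        refine mem_normalizer_fintype fun r hr => ?_
        set v := y * r * y⁻¹ with hv
        have hvC : v ∈ cC z P := by
          refine ⟨(cH z).mul_mem ((cH z).mul_mem hyH (hRH hr)) ((cH z).inv_mem hyH),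
            mem_centralizer_iff.2 fun p hp => ?_⟩
          have hp' : y⁻¹ * p * y ∈ P :=
            (mem_normalizer_iff''.1 (mem_normalizer_fintype hnor) p).1 hp
          have h1 : y⁻¹ * p * y * r = r * (y⁻¹ * p * y) :=
            (central_cC F (F.P_le hp') (P_le_cC F hp') (hR hr)).eq
          calc p * v = y * (y⁻¹ * p * y * r) * y⁻¹ := by rw [hv]; group
            _ = y * (r * (y⁻¹ * p * y)) * y⁻¹ := by rw [h1]
            _ = v * p := by rw [hv]; group
        have hmem : F.φ ⟨v, hvC.1⟩ ∈ Rb := by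
          rw [show (⟨v, hvC.1⟩ : ↥(cH z)) = ⟨y, hyH⟩ * ⟨r, hRH hr⟩ * ⟨y, hyH⟩⁻¹ from rfl,
            map_mul, map_mul, map_inv, hφy]
          exact (mem_normalizer_iff.1 hα _).1 (mem_map_of_mem _ (mem_subgroupOf.2 hr))
        obtain ⟨⟨r', hr'H⟩, hr', hre⟩ := hmem
        have hr'R : r' ∈ R := mem_subgroupOf.1 hr'
        have hwN : r'⁻¹ * v ∈ F.N := (F.ker ((⟨r', hr'H⟩ : ↥(cH z))⁻¹ * ⟨v, hvC.1⟩)).1 (by
          rw [map_mul, map_inv, hre, inv_mul_cancel])
        have hwC : r'⁻¹ * v ∈ cC z P := mul_mem (inv_mem (hR hr'R)) hvC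
        have hcm : Commute r' (r'⁻¹ * v) := (central_cC F hwN hwC (hR hr'R)).symm
        have hwP : r'⁻¹ * v ∈ P := by
          refine mem_P_of_odd F hwN hwC (k := 1) ?_
          have h1 : (r' * (r'⁻¹ * v)) ^ 3 = 1 := by
            rw [mul_inv_cancel_left, hv, conj_pow, cube_R F hR h27 hr, mul_one, mul_inv_cancel]
          rw [hcm.mul_pow, cube_R F hR h27 hr'R, one_mul] at h1
          rw [pow_one]; exact h1
        have := mul_mem hr'R (P_le_R F hR h27 hwP)
        rwa [mul_inv_cancel_left] at this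
      exact ⟨⟨y, hyn⟩, hφy⟩
  have hψ6 : Nat.card ψ.ker = 6 := by
    have h1 := ψ.ker.card_mul_index
    rw [index_ker, MonoidHom.range_eq_top.2 hψ, card_top, OrderM22.hyp_m22.card, card_C F] at h1
    omega
  have hk6 : Nat.card f.ker = 6 := by
    rw [← hψ6]
    have hin : ∀ w : ↥Nr, (w : G) ∈ F.N → (w : G) ∈ cC z P := fun w hw => by
      obtain ⟨p, hp, e | e⟩ := F.N_normalizer hw fun p hp =>
        (mem_normalizer_iff.1 (normalizer_R_le_P F hR h27 hF w.2) p).1 hp
      · rw [e]; exact P_le_cC F hp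
      · rw [e]; exact mul_mem (z_mem_cC F) (P_le_cC F hp)
    have hout : ∀ w : ↥(cC z P), (w : G) ∈ F.N → (w : G) ∈ Nr := fun w hw =>
      centralizer_le_normalizer _ (mem_centralizer_iff.2 fun r hr =>
        (central_cC F hw w.2 (hR hr)).eq.symm)
    exact Nat.card_congr
      { toFun := fun w => ⟨⟨((w : ↥Nr) : G), hin _ ((F.ker _).1 w.2)⟩,
          (hker _).2 ((F.ker (inclusion hNH w)).1 w.2)⟩
        invFun := fun w => ⟨⟨((w : ↥(cC z P)) : G), hout _ ((hker _).1 w.2)⟩,
          (F.ker _).2 ((hker _).1 w.2)⟩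
        left_inv := fun w => rfl
        right_inv := fun w => rfl }
  rw [← f.ker.card_mul_index, index_ker, hfr, hk6, card_aut_normalizer_nine h9]

theorem extraspecial_R : IsExtraspecial 3 ↥R ∧ Monoid.exponent ↥R = 3 := by
  haveI : Fact (Nat.Prime 3) := ⟨by norm_num⟩
  have hZ : ∀ r : ↥R, r ∈ center ↥R ↔ (r : G) ∈ P := fun r => by
    constructor
    · intro hr
      exact center_R F hR h27 r.2 fun y hy =>
        (congrArg Subtype.val (mem_center_iff.1 hr ⟨y, hy⟩)).symm
    · intro hr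
      exact mem_center_iff.2 fun y =>
        Subtype.ext (central_cC F (F.P_le hr) (P_le_cC F hr) (hR y.2)).eq.symm
  have hP : IsPGroup 3 ↥R := IsPGroup.of_card (n := 3) (by rw [h27]; norm_num)
  have h3 : Nat.card (center ↥R) = 3 := by
    rw [← card_P F.hyp]
    exact Nat.card_congr
      { toFun := fun r => ⟨((r : ↥R) : G), (hZ _).1 r.2⟩
        invFun := fun p => ⟨⟨p, P_le_R F hR h27 p.2⟩, (hZ _).2 p.2⟩
        left_inv := fun r => rfl
        right_inv := fun p => rfl }
  have hc : commutator ↥R = center ↥R := by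
    obtain ⟨a, ha, b, hb, hab⟩ := exists_noncomm F hR h27
    have hle : commutator ↥R ≤ center ↥R := by
      rw [_root_.commutator_def, commutator_le]
      intro u _ v _
      rw [hZ, commutatorElement_def]
      exact commutator_R F hR h27 u.2 v.2
    refine eq_of_le_of_card_ge hle ?_
    rw [h3]
    rcases (Nat.dvd_prime Nat.prime_three).1 (h3 ▸ card_dvd_of_le hle) with e | e
    · exfalso
      have hbot := eq_bot_of_card_eq _ e
      have hm : ⁅(⟨a, ha⟩ : ↥R), ⟨b, hb⟩⁆ ∈ commutator ↥R :=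
        commutator_mem_commutator (mem_top _) (mem_top _)
      rw [hbot, mem_bot, commutatorElement_eq_one_iff_commute] at hm
      exact hab (congrArg Subtype.val hm.eq)
    · exact e.ge
  have hcube : ∀ r : ↥R, r ^ 3 = 1 := fun r => Subtype.ext (cube_R F hR h27 r.2)
  refine ⟨⟨⟨hP, ?_, hc⟩, h3⟩, ?_⟩
  · refine le_antisymm (PGroup.frattini_le_of_quotient_elementary (p := 3) hc.le fun w => ?_) ?_
    · rw [hcube]; exact one_mem _
    · exact hc ▸ PGroup.commutator_le_frattini hP
  · refine ((Nat.dvd_prime Nat.prime_three).1 (Monoid.exponent_dvd_of_forall_pow_eq_one hcube)).resolve_left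
      fun e => ?_
    have h1 : Subsingleton ↥R := Monoid.exp_eq_one_iff.1 e
    have h2 := Nat.card_of_subsingleton (1 : ↥R)
    omega

/-- One class of elements of order 3. -/
theorem one_class {a b : G} (ha : orderOf a = 3) (hb : orderOf b = 3) : IsConj a b := by
  haveI : Fact (Nat.Prime 3) := ⟨by norm_num⟩
  obtain ⟨g, -, -, hQ, hQP⟩ := exists_fused F hR h27 hF
  obtain ⟨π, hπ, hπ3, hgen⟩ := exists_gen F.hyp
  obtain ⟨s, hs, hsi⟩ := exists_inverting F.hyp
  have hπ1 : π ≠ 1 := fun e => by rw [e, orderOf_one] at hπ3; norm_num at hπ3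
  set q := g⁻¹ * π * g with hqdef
  have hq : q ∈ R := hQ π hπ
  have hqP : q ∉ P := hQP π hπ hπ1
  have hπq : IsConj π q := isConj_iff.2 ⟨g⁻¹, by rw [inv_inv]⟩
  suffices key : ∀ a : G, orderOf a = 3 → IsConj a q from (key a ha).trans (key b hb).symm
  intro a ha
  have ha3 : a ^ 3 = 1 := by rw [← ha, pow_orderOf_eq_one]
  have hp : IsPGroup 3 (zpowers a) := IsPGroup.of_card (n := 1) (by
    rw [Nat.card_zpowers, ha, pow_one])
  obtain ⟨T, hT⟩ := hp.exists_le_sylow
  have hp' : IsPGroup 3 R := IsPGroup.of_card (n := 3) (by rw [h27]; norm_num)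
  obtain ⟨S, hS⟩ := hp'.exists_le_sylow
  have hSR : (S : Subgroup G) = R := three_group_eq F hR h27 hF S.2 hS
  obtain ⟨k, hk⟩ := MulAction.exists_smul_eq G T S
  have hr : k * a * k⁻¹ ∈ R := by
    rw [← hSR, ← hk, Sylow.coe_subgroup_smul]
    exact smul_mem_pointwise_smul _ (MulAut.conj k) _ (hT (mem_zpowers _))
  refine (isConj_iff.2 ⟨k, rfl⟩ : IsConj a (k * a * k⁻¹)).trans ?_
  set r := k * a * k⁻¹ with hrdef
  by_cases hrP : r ∈ P
  · have hr1 : r ≠ 1 := fun e => by
      rw [conj_eq_one_iff.1 e, orderOf_one] at ha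
      norm_num at ha
    rw [hgen] at hrP
    obtain ⟨n, hn⟩ := (isOfFinOrder_of_finite π).mem_powers_iff_mem_zpowers.2 hrP
    have hmod : π ^ (n % 3) = r := by rw [← hn, ← hπ3]; exact pow_mod_orderOf π n
    rcases (show n % 3 = 0 ∨ n % 3 = 1 ∨ n % 3 = 2 by omega) with e | e | e <;> rw [e] at hmod
    · rw [pow_zero] at hmod
      exact absurd hmod.symm hr1
    · rw [← hmod, pow_one]; exact hπq
    · refine IsConj.trans ?_ hπq
      rw [← hmod]
      refine (isConj_iff.2 ⟨s, ?_⟩ : IsConj π (π ^ 2)).symm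
      rw [hsi π hπ, eq_comm, eq_inv_iff_mul_eq_one, ← pow_succ, pow_three_P F.hyp hπ]
  · obtain ⟨c, -, hc⟩ := conj_three F hR h27 (hR hr) (cube_R F hR h27 hr) hrP hq hqP
    exact isConj_iff.2 ⟨c, hc⟩

end Cfsg.Agent.J4Type.Three
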