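/-
The statements on the 3-local structure of a group of Janko-four type, given fusion of `z` inside `C`.

Main results (namespace `Cfsg.Agent.J4Type.Three`):
* `cover_and_normalizer` : the content of S5563
* `one_class_of_fusion` : the content of S5564
* `sylow_structure` : the content of S5565
-/
import Cfsg.Agent.EqLemmas
import Cfsg.Agent.Lib.J4Type.ThreeLocal
import Cfsg.Agent.Lib.LargeExtraspecial.Simple

set_option autoImplicit false
set_option linter.unusedSectionVars false

open Cfsg Subgroup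

namespace Cfsg.Agent.J4Type.Three

variable {G : Type*} [Group G] [Finite G] {z : G} {P : Subgroup G}

theorem cover_and_normalizer (h : IsOfJankoFourTypeWith z P) (hF : Fusion z P) :
    ⁅cC z P, cC z P⁆ = cC z P ∧ IsCyclic ↥(center ↥(cC z P)) ∧
      Nat.card ↥(center ↥(cC z P)) = 6 ∧ Spor.IsoM22 (↥(cC z P) ⧸ center ↥(cC z P)) ∧
      normalizer (P : Set G) ≤ cH z := by
  obtain ⟨F⟩ := exists_frame h
  obtain ⟨R, hR, h27⟩ := exists_sylow F
  obtain ⟨h1, h2, h3⟩ := cover_m22 F hR h27 hF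
  exact ⟨perfect F hR h27 hF, h1, h2, h3, normalizer_P_le F hR h27 hF⟩

theorem one_class_of_fusion (h : IsOfJankoFourTypeWith z P) (hF : Fusion z P) (a b : G)
    (ha : orderOf a = 3) (hb : orderOf b = 3) : IsConj a b := by
  obtain ⟨F⟩ := exists_frame h
  obtain ⟨R, hR, h27⟩ := exists_sylow F
  exact one_class F hR h27 hF ha hb

theorem sylow_structure (h : IsOfJankoFourTypeWith z P) (hF : Fusion z P) (R : Sylow 3 G)
    (hR : (R : Subgroup G) ≤ cH z) :
    IsExtraspecial 3 ↥(R : Subgroup G) ∧ Nat.card ↥(R : Subgroup G) = 27 ∧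
      Monoid.exponent ↥(R : Subgroup G) = 3 ∧
      normalizer ((R : Subgroup G) : Set G) ≤ cH z ∧
      Nat.card ↥(normalizer ((R : Subgroup G) : Set G)) = 864 := by
  haveI : Fact (Nat.Prime 3) := ⟨by norm_num⟩
  obtain ⟨F⟩ := exists_frame h
  obtain ⟨R₀, hR₀, h27⟩ := exists_sylow F
  obtain ⟨S, hS⟩ := sylow_H F hR₀ h27
  obtain ⟨T, hT⟩ := (R.2.comap_subtype (K := cH z)).exists_le_sylow
  obtain ⟨k, hk⟩ := MulAction.exists_smul_eq ↥(cH z) T S
  have hle : (R : Subgroup G).map (MulAut.conj (k : G)).toMonoidHom ≤ R₀ := by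
    rintro _ ⟨r, hr, rfl⟩
    refine (hS (k * ⟨r, hR hr⟩ * k⁻¹)).1 ?_
    show _ ∈ (S : Subgroup ↥(cH z))
    rw [← hk, Sylow.coe_subgroup_smul]
    exact smul_mem_pointwise_smul _ (MulAut.conj k) _ (hT (mem_subgroupOf.2 hr))
  have hR₀p : IsPGroup 3 R₀ := IsPGroup.of_card (n := 3) (by rw [h27]; norm_num)
  have hRk : (R : Subgroup G).map (MulAut.conj (k : G)).toMonoidHom = R₀ := by
    have hcard : Nat.card R₀ ≤ Nat.card (R : Subgroup G) := by
      obtain ⟨S', hS'⟩ := hR₀p.exists_le_sylow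
      have h1 := card_le_of_le hS'
      rwa [S'.card_eq_multiplicity, ← R.card_eq_multiplicity] at h1
    refine eq_of_le_of_card_ge hle ?_
    rwa [card_map_of_injective (MulAut.conj (k : G)).injective]
  let e : ↥(R : Subgroup G) ≃* ↥R₀ :=
    ((MulAut.conj (k : G)).subgroupMap (R : Subgroup G)).trans (MulEquiv.subgroupCongr hRk)
  obtain ⟨h1, h2⟩ := extraspecial_R F hR₀ h27 hF
  have hN : (normalizer ((R : Subgroup G) : Set G)).map (MulAut.conj (k : G)).toMonoidHom =
      normalizer (R₀ : Set G) := by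
    rw [map_equiv_normalizer_eq, hRk]
  refine ⟨LargeExtraspecial.isExtraspecial_congr e.symm h1, ?_, ?_, ?_, ?_⟩
  · rw [Nat.card_congr e.toEquiv, h27]
  · rw [Monoid.exponent_eq_of_mulEquiv e, h2]
  · intro y hy
    have h3 : (k : G) * y * (k : G)⁻¹ ∈ cH z := normalizer_R_le F hR₀ h27 hF
      (hN ▸ mem_map_of_mem _ hy)
    have h4 := (cH z).mul_mem ((cH z).mul_mem ((cH z).inv_mem k.2) h3) k.2
    simpa [mul_assoc] using h4
  · rw [← card_normalizer_R F hR₀ h27 hF, ← hN,
      card_map_of_injective (MulAut.conj (k : G)).injective]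

end Cfsg.Agent.J4Type.Three
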