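import Cfsg.Agent.Lib.J4Type.SplitOuter
import Cfsg.Agent.Lib.Solvable.Gaschutz

/-!
The elementary subgroup of order 2^11 has a complement in its normaliser (helper26).

* `exists_same_class` : of three involutions of M24 the two with the same fixed-space size are conjugate
* `Setting.exists_complement` : the complement, from a normaliser quotient isomorphic to M24
-/

set_option autoImplicit false
set_option maxHeartbeats 800000
set_option linter.style.haveILetI false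
set_option linter.unusedSectionVars false
open scoped Pointwise commutatorElement
open Cfsg Subgroup

namespace Cfsg.Agent.J4Type

open Cfsg.Agent.Golay

section classes

variable {G : Type*} [Group G] [Finite G] {V : Subgroup G}

/-- The number of elements of `V` centralised by `w`. -/
noncomputable def centCard (V : Subgroup G) (w : G) : ℕ :=
  Nat.card ↥(V ⊓ Subgroup.centralizer ({w} : Set G))

theorem centCard_mul_right (hV : ∀ a ∈ V, ∀ b ∈ V, a * b = b * a) (w : G) {v : G} (hv : v ∈ V) :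
    centCard V (w * v) = centCard V w := by
  have e : V ⊓ Subgroup.centralizer ({w * v} : Set G) = V ⊓ Subgroup.centralizer ({w} : Set G) := by
    refine SetLike.ext fun x => ?_
    simp only [Subgroup.mem_inf, Subgroup.mem_centralizer_singleton_iff]
    refine and_congr_right fun hx => ?_
    rw [← mul_assoc, mul_assoc w v x, hV v hv x hx, ← mul_assoc w x v]
    exact ⟨fun h => mul_right_cancel h, fun h => by rw [h]⟩
  unfold centCard
  rw [e]

theorem centCard_conj {n : G} (hn : n ∈ Subgroup.normalizer (V : Set G)) (w : G) :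
    centCard V (n * w * n⁻¹) = centCard V w := by
  have e : V ⊓ Subgroup.centralizer ({n * w * n⁻¹} : Set G) =
      (V ⊓ Subgroup.centralizer ({w} : Set G)).map (MulAut.conj n).toMonoidHom := by
    refine SetLike.ext fun x => ⟨fun hx => Subgroup.mem_map.2 ⟨n⁻¹ * x * n, Subgroup.mem_inf.2 ⟨?_, ?_⟩, ?_⟩, ?_⟩
    · have h := (Subgroup.mem_normalizer_iff.1 (inv_mem hn) x).1 (Subgroup.mem_inf.1 hx).1
      rwa [inv_inv] at h
    · refine Subgroup.mem_centralizer_singleton_iff.2 ?_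
      have h := Subgroup.mem_centralizer_singleton_iff.1 (Subgroup.mem_inf.1 hx).2
      calc n⁻¹ * x * n * w = n⁻¹ * (x * (n * w * n⁻¹)) * n := by group
        _ = n⁻¹ * (n * w * n⁻¹ * x) * n := by rw [h]
        _ = _ := by group
    · show n * (n⁻¹ * x * n) * n⁻¹ = x
      group
    · rintro ⟨y, hy, rfl⟩
      refine Subgroup.mem_inf.2 ⟨(Subgroup.mem_normalizer_iff.1 hn y).1 (Subgroup.mem_inf.1 hy).1,
        Subgroup.mem_centralizer_singleton_iff.2 ?_⟩
      have h := Subgroup.mem_centralizer_singleton_iff.1 (Subgroup.mem_inf.1 hy).2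
      show n * y * n⁻¹ * (n * w * n⁻¹) = n * w * n⁻¹ * (n * y * n⁻¹)
      calc n * y * n⁻¹ * (n * w * n⁻¹) = n * (y * w) * n⁻¹ := by group
        _ = n * (w * y) * n⁻¹ := by rw [h]
        _ = _ := by group
  unfold centCard
  rw [e, ← Nat.card_congr (Subgroup.equivMapOfInjective _ _ (MulAut.conj n).injective).toEquiv]

/-- Of three elements over involutions of M24 the two centralising few elements are conjugate modulo `V`. -/
theorem exists_same_class (hV : ∀ a ∈ V, ∀ b ∈ V, a * b = b * a)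
    (θ : ↥(Subgroup.normalizer (V : Set G)) →* ↥M24) (hθ : Function.Surjective θ)
    (hker : ∀ n, θ n = 1 ↔ (n : G) ∈ V) {w f f' : ↥(Subgroup.normalizer (V : Set G))}
    (hw : (w : G) ∉ V) (hw2 : (w : G) * w ∈ V) (hf : (f : G) ∉ V) (hf2 : (f : G) * f ∈ V)
    (hf' : (f' : G) ∉ V) (hf'2 : (f' : G) * f' ∈ V) (h1 : centCard V w < centCard V f')
    (h2 : centCard V f < centCard V f') :
    ∃ n v : G, v ∈ V ∧ (w : G) * v = n * f * n⁻¹ := by
  haveI : Fact (Nat.Prime 2) := ⟨Nat.prime_two⟩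
  have hstep : ∀ {a b : ↥(Subgroup.normalizer (V : Set G))}, IsConj (θ a) (θ b) →
      ∃ n ∈ Subgroup.normalizer (V : Set G), ∃ v ∈ V, (b : G) * v = n * a * n⁻¹ := by
    intro a b hab
    obtain ⟨d, hd⟩ := isConj_iff.1 hab
    obtain ⟨n, rfl⟩ := hθ d
    refine ⟨n, n.2, (b : G)⁻¹ * ((n : G) * a * (n : G)⁻¹), ?_, mul_inv_cancel_left _ _⟩
    have h : θ (b⁻¹ * (n * a * n⁻¹)) = 1 := by
      rw [map_mul, map_mul, map_mul, map_inv, map_inv, hd, inv_mul_cancel]
    exact (hker _).1 h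
  have hcard : ∀ {a b : ↥(Subgroup.normalizer (V : Set G))}, IsConj (θ a) (θ b) →
      centCard V a = centCard V b := by
    intro a b hab
    obtain ⟨n, hn, v, hv, e⟩ := hstep hab
    rw [← centCard_mul_right hV (b : G) hv, e, centCard_conj hn]
  have hcls : ∀ a : ↥(Subgroup.normalizer (V : Set G)), (a : G) ∉ V → (a : G) * a ∈ V →
      IsConj (⟨GolayInvol.repFix, GolayInvol.repFix_mem⟩ : ↥M24) (θ a) ∨
        IsConj (⟨GolayInvol.repFree, GolayInvol.repFree_mem⟩ : ↥M24) (θ a) := by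
    intro a ha ha2
    have hord : orderOf ((θ a : ↥M24) : Equiv.Perm GolayPt) = 2 := by
      rw [Subgroup.orderOf_coe]
      refine orderOf_eq_prime ?_ fun e => ha ((hker a).1 e)
      rw [pow_two, ← map_mul]
      exact (hker _).2 ha2
    obtain ⟨k, hk, h | h⟩ := GolayInvol.involution_cases (θ a).2 hord
    · exact Or.inl (isConj_iff.2 ⟨⟨k, hk⟩, Subtype.ext h⟩)
    · exact Or.inr (isConj_iff.2 ⟨⟨k, hk⟩, Subtype.ext h⟩)
  suffices h : IsConj (θ f) (θ w) by
    obtain ⟨n, -, v, hv, e⟩ := hstep h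
    exact ⟨n, v, hv, e⟩
  rcases hcls w hw hw2 with cw | cw <;> rcases hcls f hf hf2 with cf | cf <;>
    rcases hcls f' hf' hf'2 with cf' | cf' <;>
    first
      | exact cf.symm.trans cw
      | exact absurd (hcard (cw.symm.trans cf')) h1.ne
      | exact absurd (hcard (cf.symm.trans cf')) h2.ne

end classes

/-- **A complement of `V` in its normaliser.** -/
theorem Setting.exists_complement {G : Type*} [Group G] [Finite G] {z : G} {P : Subgroup G} (S : Setting z P)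
    {o : Finset GolayPt} (ho : HexOct o)
    (hM : Spor.IsoM24 (↥(Subgroup.normalizer (((S.Vo ho).map (Cz z).subtype : Subgroup G) : Set G)) ⧸
      ((S.Vo ho).map (Cz z).subtype).subgroupOf
        (Subgroup.normalizer (((S.Vo ho).map (Cz z).subtype : Subgroup G) : Set G)))) :
    ∃ K : Subgroup G, K ≤ Subgroup.normalizer (((S.Vo ho).map (Cz z).subtype : Subgroup G) : Set G) ∧
      K ⊓ (S.Vo ho).map (Cz z).subtype = ⊥ ∧
      K ⊔ (S.Vo ho).map (Cz z).subtype =
        Subgroup.normalizer (((S.Vo ho).map (Cz z).subtype : Subgroup G) : Set G) := by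
  classical
  haveI : Fact (Nat.Prime 2) := ⟨Nat.prime_two⟩
  obtain ⟨⟨hVc, hVsq⟩, hVcard⟩ := S.isElementary_Vo ho
  set V := (S.Vo ho).map (Cz z).subtype with hVdef
  have hVcomm : ∀ a ∈ V, ∀ b ∈ V, a * b = b * a := fun a ha b hb =>
    congrArg Subtype.val (hVc.is_comm.comm (⟨a, ha⟩ : ↥V) ⟨b, hb⟩)
  set Nv := Subgroup.normalizer (V : Set G)
  have hmemV : ∀ {x : ↥(Cz z)}, (x : G) ∈ V ↔ x ∈ S.Vo ho := fun {x} =>
    ⟨fun ⟨y, hy, e⟩ => (Subtype.ext e : y = x) ▸ hy, fun hx => ⟨x, hx, rfl⟩⟩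
  have hN : ∀ {x : ↥(Cz z)}, S.κ x ∈ stabO o → (x : G) ∈ Nv := fun {x} hx => by
    refine Subgroup.mem_normalizer_fintype fun q hq => ?_
    obtain ⟨y, hy, rfl⟩ := hq
    exact ⟨x * y * x⁻¹, S.conj_mem_Vo ho hx hy, rfl⟩
  have hcc : ∀ x : ↥(Cz z), centCard V x = Nat.card ↥(S.centV ho x) := by
    intro x
    refine (Nat.card_congr
      { toFun := fun y => ⟨((y : ↥(Cz z)) : G), hmemV.2 ((S.mem_centV ho).1 y.2).1,
          Subgroup.mem_centralizer_singleton_iff.2 (congrArg Subtype.val ((S.mem_centV ho).1 y.2).2).symm⟩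
        invFun := fun y => ⟨⟨(y : G), Subgroup.map_subtype_le _ (mem_inf.1 y.2).1⟩, (S.mem_centV ho).2
          ⟨hmemV.1 (mem_inf.1 y.2).1,
            Subtype.ext (Subgroup.mem_centralizer_singleton_iff.1 (mem_inf.1 y.2).2).symm⟩⟩ }).symm
  obtain ⟨e⟩ := hM
  let θ : ↥Nv →* ↥M24 := e.toMonoidHom.comp (QuotientGroup.mk' (V.subgroupOf Nv))
  have hθ : Function.Surjective θ := e.surjective.comp (QuotientGroup.mk'_surjective _)
  have hker : ∀ n, θ n = 1 ↔ (n : G) ∈ V := fun n => by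
    show e (QuotientGroup.mk n) = 1 ↔ _
    rw [EmbeddingLike.map_eq_one_iff, QuotientGroup.eq_one_iff, Subgroup.mem_subgroupOf]
  -- the data of the two octads
  obtain ⟨o', g, h, hgo, hgo', hgA, hgg, hg4⟩ := exists_pairOct ho
  obtain ⟨k, hkn, hkκ⟩ := S.frattini' hgo.1
  have hkout : k ∉ S.innerH := fun hh => pA_ne_pB (by
    rw [← hgA, ← hkκ]; exact ((S.mem_innerH k).1 hh).symm)
  have hko : S.κ k ∈ stabO o := hkκ ▸ hgo
  have hko' : S.κ k ∈ stabO o' := hkκ ▸ ⟨hgo.1, hgo'⟩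
  have hkinv : k * S.genH * k⁻¹ = S.genH⁻¹ :=
    Subtype.ext ((S.inner k hkn).2 (by rw [hkκ, hgA]; exact pA_ne_pB.symm))
  have hkk : k * k = 1 ∨ k * k = S.zH := by
    have hk1 : S.κ (k * k) = 1 := by rw [map_mul, hkκ, hgg]
    have hk2 : (k * k) * S.genH = S.genH * (k * k) := by
      have h2 : k * (k * S.genH * k⁻¹) * k⁻¹ = S.genH := by
        calc k * (k * S.genH * k⁻¹) * k⁻¹ = k * S.genH⁻¹ * k⁻¹ := by rw [hkinv]
          _ = (k * S.genH * k⁻¹)⁻¹ := by group
          _ = _ := by rw [hkinv, inv_inv]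
      calc (k * k) * S.genH = k * (k * S.genH * k⁻¹) * k⁻¹ * (k * k) := by group
        _ = _ := by rw [h2]
    obtain ⟨n, hn⟩ := S.κ_one_comm hk1 hk2
    have hgn : S.genH ^ n = 1 := by
      have h1 : k * (k * k) * k⁻¹ = k * k := by group
      have h2 : k * S.genH ^ n * k⁻¹ = S.genH ^ n := by
        rcases hn with e | e <;> rw [e] at h1
        · exact h1
        · rw [← mul_assoc, S.zH_comm k, mul_assoc S.zH, mul_assoc] at h1
          exact mul_left_cancel h1
      rw [← conj_pow, hkinv, inv_pow, inv_eq_iff_mul_eq_one, ← pow_add] at h2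
      calc S.genH ^ n = S.genH ^ n * (S.genH ^ (n + n)) := by rw [h2, mul_one]
        _ = (S.genH ^ 3) ^ n := by rw [← pow_add, ← pow_mul]; congr 1; omega
        _ = 1 := by rw [S.genH_cube, one_pow]
    rcases hn with e | e <;> rw [e, hgn]
    · exact Or.inl rfl
    · exact Or.inr (mul_one _)
  have hg4' : Nat.card {a : ↥(octadFix o) // S.κ k * a = a * S.κ k} ≤ 4 := by rw [hkκ]; exact hg4
  -- the class of the outer element contains an involution
  obtain ⟨f, f', hfC', hfC, hff, hfcard, hf'C, hf'card⟩ := S.exists_elements ho h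
  have hEN : ∀ e : ↥(Ez z), ((inE e : ↥(Cz z)) : G) ∈ Nv := fun e => hN (by
    rw [show S.κ (inE e) = 1 from S.κ_E e.2]; exact one_mem _)
  have hzV : z ∈ V := hmemV.2 (S.z_mem_Vo ho)
  have hEnot : ∀ e : ↥(Ez z), S.pr e ∉ S.Cfix o → ((inE e : ↥(Cz z)) : G) ∉ V := fun e he hh =>
    he ((S.inE_mem_Vo_iff ho e).1 (hmemV.1 hh))
  have hk2 : k * k = 1 := by
    have hkV : (k : G) ∉ V := fun hh => hkout (by
      have := ((S.mem_Vo ho).1 (hmemV.1 hh)).1.1
      exact ho.fix_le_M22 this)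
    have hkk' : (k : G) * k ∈ V := by
      rcases hkk with e | e <;> rw [show (k : G) * k = ((k * k : ↥(Cz z)) : G) from rfl, e]
      · exact one_mem _
      · exact hzV
    have hfsq : ((inE f : ↥(Cz z)) : G) * inE f ∈ V := by
      rw [show ((inE f : ↥(Cz z)) : G) * inE f = 1 from hff]; exact one_mem _
    have hf'sq : ((inE f' : ↥(Cz z)) : G) * inE f' ∈ V := by
      rcases S.data.sq f'.2 with e | e <;>
        rw [show ((inE f' : ↥(Cz z)) : G) * inE f' = (f' : G) * f' from rfl, e]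
      · exact one_mem _
      · exact hzV
    obtain ⟨n, v, hv, hnv⟩ := exists_same_class hVcomm θ hθ hker (w := ⟨k, hN hko⟩)
      (f := ⟨_, hEN f⟩) (f' := ⟨_, hEN f'⟩) hkV hkk' (hEnot f hfC) hfsq (hEnot f' hf'C) hf'sq
      (by
        show centCard V (k : G) < centCard V ((inE f' : ↥(Cz z)) : G)
        rw [hcc, hcc]
        have := S.natCard_cent_outer ho hkout hko hkk hg4'
        omega)
      (by
        show centCard V ((inE f : ↥(Cz z)) : G) < centCard V ((inE f' : ↥(Cz z)) : G)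
        rw [hcc, hcc]
        omega)
    obtain ⟨x, hx, rfl⟩ := hv
    have hsq : (k * x) * (k * x) = 1 := Subtype.ext (by
      show ((k : G) * x) * ((k : G) * x) = 1
      have e1 : (k : G) * x = n * (f : G) * n⁻¹ := hnv
      rw [e1]
      calc n * (f : G) * n⁻¹ * (n * (f : G) * n⁻¹) = n * ((f : G) * f) * n⁻¹ := by group
        _ = 1 := by rw [hff]; group)
    have hx2 := S.Vo_sq ho hx
    have hkx : k * x * k⁻¹ = x * (k * k)⁻¹ := by
      calc k * x * k⁻¹ = (k * x) * (k * x) * x⁻¹ * (k * k)⁻¹ := by group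
        _ = _ := by rw [hsq, one_mul, inv_eq_of_mul_eq_one_right hx2]
    have hcm := S.dbl_fix ho hkout hko hkk hg4' hx (by
      rcases hkk with e | e <;> rw [hkx, e]
      · exact Or.inl (by rw [inv_one, mul_one])
      · exact Or.inr (by rw [inv_eq_of_mul_eq_one_right S.zH_sq]))
    calc k * k = (k * x) * (k * x) := by
          rw [← mul_assoc, mul_assoc k x k, ← hcm, ← mul_assoc, mul_assoc (k * k), hx2, mul_one]
      _ = 1 := hsq
  -- the complement to the preimage of the fixed space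
  let U' : Subgroup ↥(Cz z) := S.Vo h.snd ⊓ S.κ.ker
  have hU'E : ∀ {x : ↥(Cz z)}, x ∈ U' → ∃ hx : (x : G) ∈ Ez z, S.pr ⟨x, hx⟩ ∈ S.Cfix o' := fun {x} hx => by
    have hE := S.mem_E_of_mem_Vo h.snd hx.1 (MonoidHom.mem_ker.1 hx.2)
    exact ⟨hE, (S.inE_mem_Vo_iff h.snd ⟨_, hE⟩).1 hx.1⟩
  have hgenU : ∀ {x : ↥(Cz z)}, x ∈ U' → S.genH * x * S.genH⁻¹ ∈ U' := fun {x} hx => by
    refine ⟨S.conj_mem_Vo h.snd ?_ hx.1, MonoidHom.mem_ker.2 ?_⟩
    · rw [show S.κ S.genH = 1 from S.κ_gen]; exact one_mem _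
    · rw [map_mul, map_mul, map_inv, MonoidHom.mem_ker.1 hx.2, mul_one, mul_inv_cancel]
  have hU'c : ∀ {x y : ↥(Cz z)}, x ∈ U' → y ∈ U' → x * y = y * x := fun {x y} hx hy =>
    S.Vo_comm h.snd hx.1 hy.1
  let φ : ↥U' →* ↥(Cz z) := MonoidHom.mk' (fun x => (x : ↥(Cz z)) * (S.genH * x * S.genH⁻¹)) fun x y => by
    show (x : ↥(Cz z)) * y * (S.genH * ((x : ↥(Cz z)) * y) * S.genH⁻¹) = _
    calc (x : ↥(Cz z)) * y * (S.genH * ((x : ↥(Cz z)) * y) * S.genH⁻¹)
        = (x : ↥(Cz z)) * ((y : ↥(Cz z)) * (S.genH * x * S.genH⁻¹)) * (S.genH * y * S.genH⁻¹) := by group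
      _ = _ := by rw [hU'c y.2 (hgenU x.2)]; group
  set F := φ.range
  have hFU : F ≤ U' := by
    rintro _ ⟨x, rfl⟩
    exact mul_mem x.2 (hgenU x.2)
  have hφker : ∀ x : ↥U', (φ x = 1 ∨ φ x = S.zH) → φ x = 1 ∧ ((x : ↥(Cz z)) = 1 ∨ (x : ↥(Cz z)) = S.zH) := by
    intro x hx
    obtain ⟨hE, hC⟩ := hU'E x.2
    have hadd : S.pr ⟨(x : G), hE⟩ + S.omega (S.pr ⟨(x : G), hE⟩) = 0 := by
      rw [omega_apply, S.rho_pr, ← S.pr_mul, S.pr_eq_zero]
      rcases hx with e | e
      · exact Or.inl (congrArg Subtype.val e)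
      · exact Or.inr (congrArg Subtype.val e)
    rw [← ZModModule.sub_eq_add, sub_eq_zero] at hadd
    rcases (S.pr_eq_zero ⟨(x : G), hE⟩).1 (S.omega_fix hadd.symm) with e | e
    · have e' : (x : ↥(Cz z)) = 1 := Subtype.ext e
      refine ⟨?_, Or.inl e'⟩
      show (x : ↥(Cz z)) * (S.genH * x * S.genH⁻¹) = 1
      rw [e']; group
    · have e' : (x : ↥(Cz z)) = S.zH := Subtype.ext e
      refine ⟨?_, Or.inr e'⟩
      show (x : ↥(Cz z)) * (S.genH * x * S.genH⁻¹) = 1
      rw [e', S.zH_comm S.genH, mul_inv_cancel_right, S.zH_sq]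
  have hzF : S.zH ∉ F := by
    rintro ⟨x, hx⟩
    have := (hφker x (Or.inr hx)).1
    rw [hx] at this
    exact S.zH_ne this
  have hFcard : 64 ≤ Nat.card ↥F := by
    have hU'card : Nat.card ↥U' = 128 := by
      rw [← S.natCard_U h.snd]
      refine (Nat.card_congr (Equiv.ofBijective
        (fun e : {e : ↥(Ez z) // S.pr e ∈ S.Cfix o'} => (⟨inE e.1, (S.inE_mem_Vo_iff h.snd e.1).2 e.2,
          MonoidHom.mem_ker.2 (S.κ_E e.1.2)⟩ : ↥U')) ⟨?_, ?_⟩)).symm
      · intro a b e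
        have e1 : inE a.1 = inE b.1 := congrArg (fun q : ↥U' => (q : ↥(Cz z))) e
        exact Subtype.ext (Subtype.ext (congrArg Subtype.val e1 :))
      · rintro ⟨x, hx⟩
        obtain ⟨hE, hC⟩ := hU'E hx
        exact ⟨⟨⟨_, hE⟩, hC⟩, rfl⟩
    have hk : Nat.card φ.ker ≤ 2 := by
      have hval : ∀ x : φ.ker, ∃ b : Bool, ((x : ↥U') : ↥(Cz z)) = bif b then S.zH else 1 := fun x => by
        rcases (hφker x (Or.inl (MonoidHom.mem_ker.1 x.2))).2 with e | e
        · exact ⟨false, e⟩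
        · exact ⟨true, e⟩
      choose c hc using hval
      have hinj : Function.Injective c := fun a b e => Subtype.ext (Subtype.ext (by rw [hc a, hc b, e]))
      have := Nat.card_le_card_of_injective c hinj
      rwa [Nat.card_eq_fintype_card (α := Bool), Fintype.card_bool] at this
    have h1 := φ.ker.index_mul_card
    rw [Subgroup.index_ker, hU'card] at h1
    show 64 ≤ Nat.card ↥φ.range
    nlinarith
  -- the two-group over the stabiliser
  set L := S.Linn o o'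
  set S0 := ⁅L, L⁆
  have hS0κ : S0.map S.κ = R0 o o' := by rw [Subgroup.map_commutator, S.map_Linn h, h.R0_perfect]
  have hS0L : S0 ≤ L := Subgroup.commutator_le_self L
  have hS03 : ∀ x ∈ S0, S.κ x = 1 → x ^ 3 = 1 := by
    intro x hx hx1
    obtain ⟨n, e | e⟩ := S.κ_one_comm hx1 (S.mem_Linn.1 (hS0L hx)).2
    · rw [e, ← pow_mul, mul_comm, pow_mul, S.genH_cube, one_pow]
    · exfalso
      apply S.zH_not_mem_commutator h
      have h3 : x ^ 3 = S.zH := by
        rw [e, (show Commute S.zH (S.genH ^ n) from (S.zH_comm _).symm).mul_pow, ← pow_mul, mul_comm n,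
          pow_mul, S.genH_cube, one_pow, mul_one, pow_succ, pow_two, S.zH_sq, one_mul]
      exact h3 ▸ pow_mem hx 3
  have hkL : ∀ x ∈ L, k * x * k⁻¹ ∈ L := by
    intro x hx
    obtain ⟨hxR, hxg⟩ := S.mem_Linn.1 hx
    refine S.mem_Linn.2 ⟨?_, ?_⟩
    · rw [map_mul, map_mul, map_inv, hkκ]
      refine ⟨⟨conj_mem_M22 hgo.1 hxR.1.1, ?_⟩, ?_⟩
      · show (g * S.κ x * g⁻¹) • o = o
        rw [mul_smul, mul_smul, inv_smul_eq_iff.2 hgo.2.symm, hxR.1.2, hgo.2]
      · show (g * S.κ x * g⁻¹) • o' = o'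
        rw [mul_smul, mul_smul, inv_smul_eq_iff.2 hgo'.symm, hxR.2, hgo']
    · have hkinv' : k⁻¹ * S.genH * k = S.genH⁻¹ := by
        calc k⁻¹ * S.genH * k = (k⁻¹ * (k * S.genH * k⁻¹) * k)⁻¹ := by rw [hkinv]; group
          _ = _ := by group
      have hxgi : x * S.genH⁻¹ = S.genH⁻¹ * x := (show Commute x S.genH from hxg).inv_right.eq
      calc k * x * k⁻¹ * S.genH = k * (x * (k⁻¹ * S.genH * k)) * k⁻¹ := by group
        _ = k * (S.genH⁻¹ * x) * k⁻¹ := by rw [hkinv', hxgi]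
        _ = (k * S.genH * k⁻¹)⁻¹ * (k * x * k⁻¹) := by group
        _ = _ := by rw [hkinv, inv_inv]
  have hkS0 : Subgroup.zpowers k ≤ Subgroup.normalizer (S0 : Set ↥(Cz z)) := by
    refine zpowers_le.2 (Subgroup.mem_normalizer_fintype fun q hq => ?_)
    have hle : S0.map (MulAut.conj k).toMonoidHom ≤ S0 := by
      rw [Subgroup.map_commutator]
      refine Subgroup.commutator_mono ?_ ?_ <;> · rintro _ ⟨x, hx, rfl⟩; exact hkL x hx
    exact hle ⟨q, hq, rfl⟩
  set M := S0 ⊔ Subgroup.zpowers k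
  have hMmem : ∀ x ∈ M, ∃ s ∈ S0, x = s ∨ x = s * k := by
    intro x hx
    rw [← SetLike.mem_coe, Subgroup.coe_mul_of_right_le_normalizer_left S0 _ hkS0] at hx
    obtain ⟨s, hs, v, hv, rfl⟩ := Set.mem_mul.1 hx
    rcases LargeExtraspecial.mem_zpowers_two hk2 hv with rfl | rfl
    · exact ⟨s, hs, Or.inl (mul_one _)⟩
    · exact ⟨s, hs, Or.inr rfl⟩
  have hMker : ∀ x ∈ M, S.κ x = 1 → x ^ 3 = 1 := by
    intro x hx hx1
    obtain ⟨s, hs, rfl | rfl⟩ := hMmem x hx
    · exact hS03 _ hs hx1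
    · exfalso
      rw [map_mul, hkκ] at hx1
      have hsA : S.κ s pA = pA := (S.mem_Linn.1 (hS0L hs)).1.1.1.1.2
      have hsB : S.κ s pB = pB := (S.mem_Linn.1 (hS0L hs)).1.1.1.2
      have := Equiv.ext_iff.1 hx1 pA
      rw [Equiv.Perm.mul_apply, hgA, hsB, Equiv.Perm.one_apply] at this
      exact pA_ne_pB this.symm
  have h16 : 2 ^ 4 ∣ Nat.card ↥M := by
    have hmap : Nat.card ↥(M.map S.κ) = 720 := by
      have hst := natCard_step (M.map S.κ) pA {pA, pB} (fun q hq => by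
        obtain ⟨x, -, rfl⟩ := hq
        rcases (mem_pairStab.1 (S.κ_mem x)).2 with ⟨e, -⟩ | ⟨e, -⟩ <;> simp [e]) (fun y hy => by
        simp only [Finset.mem_insert, Finset.mem_singleton] at hy
        rcases hy with rfl | rfl
        · exact ⟨1, one_mem _, rfl⟩
        · exact ⟨g, ⟨k, Subgroup.mem_sup_right (mem_zpowers k), hkκ⟩, hgA⟩)
      have heq : M.map S.κ ⊓ MulAction.stabilizer (Equiv.Perm GolayPt) pA = R0 o o' := by
        refine le_antisymm ?_ (le_inf ?_ fun q hq => hq.1.1.1.2)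
        · rintro q ⟨⟨x, hx, rfl⟩, hqA⟩
          obtain ⟨s, hs, rfl | rfl⟩ := hMmem x hx
          · exact hS0κ ▸ ⟨_, hs, rfl⟩
          · exfalso
            have hqA' : S.κ (s * k) pA = pA := hqA
            rw [map_mul, hkκ, Equiv.Perm.mul_apply, hgA,
              show S.κ s pB = pB from (S.mem_Linn.1 (hS0L hs)).1.1.1.2] at hqA'
            exact pA_ne_pB hqA'.symm
        · rw [← hS0κ]
          exact Subgroup.map_mono le_sup_left
      rw [heq, h.natCard_R0, Finset.card_pair pA_ne_pB] at hst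
      exact hst
    refine dvd_trans ?_ (Subgroup.card_map_dvd M S.κ)
    rw [hmap]; norm_num
  obtain ⟨T0, hT0⟩ := Sylow.exists_subgroup_card_pow_prime 2 h16
  set T := T0.map M.subtype
  have hT : Nat.card ↥T = 16 := by
    rw [← Nat.card_congr (Subgroup.equivMapOfInjective _ _ (Subgroup.subtype_injective M)).toEquiv, hT0]
    norm_num
  have hTM : T ≤ M := Subgroup.map_subtype_le _
  have hTker : ∀ t ∈ T, S.κ t = 1 → t = 1 := by
    intro t ht ht1
    have h3 := hMker t (hTM ht) ht1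
    have h16' : t ^ 16 = 1 := by
      have := pow_card_eq_one' (G := ↥T) (x := ⟨t, ht⟩)
      rw [hT] at this
      exact congrArg Subtype.val this
    calc t = t ^ 16 * ((t ^ 3) ^ 5)⁻¹ := by rw [← pow_mul]; group
      _ = 1 := by rw [h16', h3]; simp
  have hMstab : ∀ x ∈ M, S.κ x ∈ stabO o ∧ S.κ x • o' = o' := by
    intro x hx
    obtain ⟨s, hs, rfl | rfl⟩ := hMmem x hx
    · exact ⟨stab0_le_stabO o (S.mem_Linn.1 (hS0L hs)).1.1, (S.mem_Linn.1 (hS0L hs)).1.2⟩
    · rw [map_mul, hkκ]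
      refine ⟨mul_mem (stab0_le_stabO o (S.mem_Linn.1 (hS0L hs)).1.1) hgo, ?_⟩
      rw [mul_smul, hgo', (S.mem_Linn.1 (hS0L hs)).1.2]
  have hTF : T ≤ Subgroup.normalizer (F : Set ↥(Cz z)) := by
    intro t ht
    refine Subgroup.mem_normalizer_fintype fun q hq => ?_
    obtain ⟨x, rfl⟩ := hq
    have hxU : t * x * t⁻¹ ∈ U' := ⟨S.conj_mem_Vo h.snd
      ⟨(hMstab t (hTM ht)).1.1, (hMstab t (hTM ht)).2⟩ x.2.1, MonoidHom.mem_ker.2 (by
        rw [map_mul, map_mul, map_inv, MonoidHom.mem_ker.1 x.2.2, mul_one, mul_inv_cancel])⟩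
    have hgenT : t * S.genH * t⁻¹ = S.genH ∨ t * S.genH * t⁻¹ = S.genH⁻¹ := by
      obtain ⟨s, hs, rfl | rfl⟩ := hMmem t (hTM ht)
      · exact Or.inl (mul_inv_eq_iff_eq_mul.2 (S.mem_Linn.1 (hS0L hs)).2)
      · refine Or.inr ?_
        calc s * k * S.genH * (s * k)⁻¹ = s * (k * S.genH * k⁻¹) * s⁻¹ := by group
          _ = (s * S.genH * s⁻¹)⁻¹ := by rw [hkinv]; group
          _ = _ := by rw [mul_inv_eq_iff_eq_mul.2 (S.mem_Linn.1 (hS0L hs)).2]
    set w := t * (x : ↥(Cz z)) * t⁻¹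
    have e : t * φ x * t⁻¹ = w * ((t * S.genH * t⁻¹) * w * (t * S.genH * t⁻¹)⁻¹) := by
      show t * ((x : ↥(Cz z)) * (S.genH * x * S.genH⁻¹)) * t⁻¹ = _
      simp only [w]
      group
    rw [SetLike.mem_coe, e]
    rcases hgenT with e1 | e1 <;> rw [e1]
    · exact ⟨⟨w, hxU⟩, rfl⟩
    · have hw' : S.genH⁻¹ * w * S.genH ∈ U' := by
        have h2 := hgenU (hgenU hxU)
        have e2 : S.genH⁻¹ = S.genH * S.genH := inv_eq_of_mul_eq_one_right (by
          rw [← mul_assoc]; simpa [pow_succ] using S.genH_cube)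
        convert h2 using 1
        calc S.genH⁻¹ * w * S.genH = S.genH⁻¹ * w * S.genH⁻¹⁻¹ := by rw [inv_inv]
          _ = S.genH * S.genH * w * (S.genH * S.genH)⁻¹ := by rw [e2]
          _ = _ := by group
      refine ⟨⟨_, hw'⟩, ?_⟩
      show (S.genH⁻¹ * w * S.genH) * (S.genH * (S.genH⁻¹ * w * S.genH) * S.genH⁻¹) = _
      rw [show S.genH * (S.genH⁻¹ * w * S.genH) * S.genH⁻¹ = w by group, inv_inv]
      exact hU'c hw' hxU
  set D := F ⊔ T
  have hDmem : ∀ d ∈ D, ∃ q ∈ F, ∃ t ∈ T, d = q * t := by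
    intro d hd
    rw [← SetLike.mem_coe, Subgroup.coe_mul_of_right_le_normalizer_left F T hTF] at hd
    obtain ⟨q, hq, t, ht, e⟩ := Set.mem_mul.1 hd
    exact ⟨q, hq, t, ht, e.symm⟩
  have hFk : ∀ q ∈ F, S.κ q = 1 := fun q hq => MonoidHom.mem_ker.1 (hFU hq).2
  have hDV : ∀ d ∈ D, d ∈ S.Vo ho → d = 1 := by
    intro d hd hdV
    obtain ⟨q, hq, t, ht, rfl⟩ := hDmem d hd
    have hA := ((S.mem_Vo ho).1 hdV).1.1
    rw [map_mul, hFk q hq, one_mul] at hA
    have ht1 := hTker t ht (h.fix_trivial hA (hMstab t (hTM ht)).2)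
    subst ht1
    rw [mul_one] at hdV ⊢
    obtain ⟨hE, hC⟩ := hU'E (hFU hq)
    have hC0 : S.pr ⟨(q : G), hE⟩ ∈ S.Cfix o ⊓ S.Cfix o' :=
      ⟨(S.inE_mem_Vo_iff ho ⟨_, hE⟩).1 hdV, hC⟩
    rw [S.Cfix_disjoint h, Submodule.mem_bot, S.pr_eq_zero] at hC0
    rcases hC0 with e | e
    · exact Subtype.ext e
    · exact absurd (show q = S.zH from Subtype.ext (e : (q : G) = z)) fun e' => hzF (e' ▸ hq)
  have hDcard : 2 ^ 10 ≤ Nat.card ↥D := by
    have hinj : Function.Injective fun p : ↥F × ↥T =>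
        (⟨(p.1 : ↥(Cz z)) * p.2, mul_mem (Subgroup.mem_sup_left p.1.2) (Subgroup.mem_sup_right p.2.2)⟩ : ↥D) := by
      rintro ⟨a, b⟩ ⟨c, d⟩ e
      have e' : (a : ↥(Cz z)) * b = c * d := congrArg Subtype.val e
      have e1 : S.κ ((b : ↥(Cz z)) * (d : ↥(Cz z))⁻¹) = 1 := by
        rw [show (b : ↥(Cz z)) * (d : ↥(Cz z))⁻¹ = (a : ↥(Cz z))⁻¹ * c by
          rw [eq_inv_mul_iff_mul_eq, ← mul_assoc, e', mul_inv_cancel_right]]
        rw [map_mul, map_inv, hFk _ a.2, hFk _ c.2, inv_one, one_mul]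
      have hbd : b = d := Subtype.ext (mul_inv_eq_one.1 (hTker _ (mul_mem b.2 (inv_mem d.2)) e1))
      subst hbd
      exact Prod.ext (Subtype.ext (mul_right_cancel e')) rfl
    have := Nat.card_le_card_of_injective _ hinj
    rw [Nat.card_prod, hT] at this
    omega
  have hFp : IsPGroup 2 ↥F :=
    (IsPGroup.of_card (G := ↥(S.Vo h.snd)) (S.natCard_Vo h.snd)).to_le (hFU.trans inf_le_left)
  have hTp : IsPGroup 2 ↥T := IsPGroup.of_card (n := 4) (by rw [hT]; norm_num)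
  have hDp : IsPGroup 2 ↥D := IsPGroup.to_sup_of_normal_left' hFp hTp hTF
  -- in the normaliser
  set DG := D.map (Cz z).subtype
  have hDN : DG ≤ Nv := by
    rintro _ ⟨d, hd, rfl⟩
    obtain ⟨q, hq, t, ht, rfl⟩ := hDmem d hd
    show ((q * t : ↥(Cz z)) : G) ∈ Nv
    refine hN ?_
    rw [map_mul, hFk q hq, one_mul]
    exact (hMstab t (hTM ht)).1
  set KV := V.subgroupOf Nv
  set A := DG.subgroupOf Nv
  haveI : KV.Normal := inferInstance
  haveI : IsMulCommutative ↥KV := ⟨⟨fun a b => Subtype.ext (Subtype.ext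
    (hVcomm _ (Subgroup.mem_subgroupOf.1 a.2) _ (Subgroup.mem_subgroupOf.1 b.2)))⟩⟩
  have hAK : A ⊓ KV = ⊥ := by
    refine (Subgroup.eq_bot_iff_forall _).2 fun x hx => Subtype.ext ?_
    obtain ⟨d, hd, hde⟩ := Subgroup.mem_subgroupOf.1 hx.1
    have hdV : d ∈ S.Vo ho := hmemV.1 (by
      rw [show (d : G) = (x : G) from hde]; exact Subgroup.mem_subgroupOf.1 hx.2)
    rw [← hde, hDV d hd hdV]
    rfl
  have hKVcard : Nat.card ↥KV = 2 ^ 11 := by
    rw [Nat.card_congr (Subgroup.subgroupOfEquivOfLe (Subgroup.le_normalizer (H := V))).toEquiv, hVcard]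
  have hAcard : 2 ^ 10 ≤ Nat.card ↥A := by
    rw [Nat.card_congr (Subgroup.subgroupOfEquivOfLe hDN).toEquiv,
      ← Nat.card_congr (Subgroup.equivMapOfInjective _ _ (Subgroup.subtype_injective (Cz z))).toEquiv]
    exact hDcard
  have hNcard : Nat.card ↥Nv = 2 ^ 11 * 244823040 := by
    have h1 := KV.index_mul_card
    rw [hKVcard, Subgroup.index_eq_card,
      Nat.card_congr (show (↥Nv ⧸ KV) ≃ ↥M24 from e.toEquiv), natCard_M24] at h1
    omega
  set U := KV ⊔ A
  have hUp : IsPGroup 2 ↥U := IsPGroup.to_sup_of_normal_left (IsPGroup.of_card hKVcard)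
    ((hDp.map (Cz z).subtype).of_equiv (Subgroup.subgroupOfEquivOfLe hDN).symm)
  have hUcard : 2 ^ 21 ≤ Nat.card ↥U := by
    have hinj : Function.Injective fun p : ↥KV × ↥A =>
        (⟨(p.1 : ↥Nv) * p.2, mul_mem (Subgroup.mem_sup_left p.1.2) (Subgroup.mem_sup_right p.2.2)⟩ : ↥U) := by
      rintro ⟨a, b⟩ ⟨c, d⟩ e
      have e' : (a : ↥Nv) * b = c * d := congrArg Subtype.val e
      have h1 : (c : ↥Nv)⁻¹ * a = d * (b : ↥Nv)⁻¹ := by
        rw [inv_mul_eq_iff_eq_mul, ← mul_assoc, ← e', mul_inv_cancel_right]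
      have h2 : (c : ↥Nv)⁻¹ * a ∈ A ⊓ KV := Subgroup.mem_inf.2
        ⟨h1 ▸ A.mul_mem d.2 (A.inv_mem b.2), KV.mul_mem (KV.inv_mem c.2) a.2⟩
      rw [hAK, Subgroup.mem_bot, inv_mul_eq_one] at h2
      refine Prod.ext (Subtype.ext h2.symm) (Subtype.ext ?_)
      rw [← h2] at e'
      exact mul_left_cancel e'
    have := Nat.card_le_card_of_injective _ hinj
    rw [Nat.card_prod, hKVcard] at this
    calc 2 ^ 21 = 2 ^ 11 * 2 ^ 10 := by norm_num
      _ ≤ 2 ^ 11 * Nat.card ↥A := Nat.mul_le_mul_left _ hAcard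
      _ ≤ _ := this
  have hcop : (Nat.card ↥KV).Coprime U.index := by
    obtain ⟨i, hi⟩ := IsPGroup.iff_card.1 hUp
    have h1 := U.index_mul_card
    rw [hi, hNcard] at h1
    have hi21 : 21 ≤ i := (Nat.pow_le_pow_iff_right (by norm_num)).1 (hi ▸ hUcard)
    have hdvd : U.index ∣ 239085 := by
      have h2 : U.index * 2 ^ (i - 21) * 2 ^ 21 = 239085 * 2 ^ 21 := by
        rw [mul_assoc, ← pow_add, show i - 21 + 21 = i by omega, h1]; norm_num
      exact ⟨_, (Nat.eq_of_mul_eq_mul_right (by norm_num) h2).symm⟩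
    rw [hKVcard]
    refine Nat.Coprime.pow_left _ (Nat.coprime_two_left.2 ?_)
    exact Odd.of_dvd_nat (by decide) hdvd
  obtain ⟨H, hH⟩ := Solvable.gaschutz_exists (K := KV) (U := U) le_sup_left hcop hAK rfl
  refine ⟨H.map Nv.subtype, Subgroup.map_subtype_le _, ?_, ?_⟩
  · have hVeq : V = KV.map Nv.subtype := by
      rw [Subgroup.map_subgroupOf_eq_of_le Subgroup.le_normalizer]
    rw [hVeq, ← Subgroup.map_inf _ _ _ (Subgroup.subtype_injective _), inf_comm, hH.disjoint.eq_bot,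
      Subgroup.map_bot]
  · have hVeq : V = KV.map Nv.subtype := by
      rw [Subgroup.map_subgroupOf_eq_of_le Subgroup.le_normalizer]
    conv_lhs => rw [hVeq]
    rw [← Subgroup.map_sup, sup_comm, hH.sup_eq_top, ← MonoidHom.range_eq_map, Subgroup.range_subtype]

end Cfsg.Agent.J4Type
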