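import Cfsg.Agent.Lib.J4Type.QuotM24
import Cfsg.Agent.Lib.J4Type.SplitTwo

/-!
Elementary subgroups of order 2^11 and their normalisers (helper19).

* `Setting.split_M24` : self-centralising, with a complement isomorphic to M24 in the normaliser
-/

set_option autoImplicit false
set_option maxHeartbeats 1000000
set_option linter.style.haveILetI false
set_option linter.unusedSectionVars false
open scoped Pointwise
open Cfsg Subgroup

namespace Cfsg.Agent.J4Type.Setting

open Cfsg.Agent.Golay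

variable {G : Type*} [Group G] [Finite G] {z : G} {P : Subgroup G} (S : Setting z P)

/-- A complement of a normal subgroup is the quotient. -/
theorem iso_of_complement {G : Type*} [Group G] {V K N : Subgroup G} (hV : V ≤ N)
    [(V.subgroupOf N).Normal] (hK : K ≤ N) (hinf : K ⊓ V = ⊥) (hsup : K ⊔ V = N) :
    Nonempty (↥K ≃* ↥N ⧸ V.subgroupOf N) := by
  let f : ↥K →* ↥N ⧸ V.subgroupOf N := (QuotientGroup.mk' (V.subgroupOf N)).comp (Subgroup.inclusion hK)
  refine ⟨MulEquiv.ofBijective f ⟨?_, ?_⟩⟩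
  · refine (MonoidHom.ker_eq_bot_iff f).1 ((Subgroup.eq_bot_iff_forall _).2 fun k hk => ?_)
    have h1 : (Subgroup.inclusion hK k) ∈ V.subgroupOf N := (QuotientGroup.eq_one_iff _).1 hk
    have h2 : (k : G) ∈ K ⊓ V := Subgroup.mem_inf.2 ⟨k.2, Subgroup.mem_subgroupOf.1 h1⟩
    rw [hinf, Subgroup.mem_bot] at h2
    exact Subtype.ext h2
  · intro q
    obtain ⟨n, rfl⟩ := QuotientGroup.mk'_surjective _ q
    have hn : n ∈ K.subgroupOf N ⊔ V.subgroupOf N := by
      rw [← Subgroup.subgroupOf_sup hK hV, hsup, Subgroup.subgroupOf_self]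
      exact Subgroup.mem_top _
    obtain ⟨k, hk, v, hv, rfl⟩ := Subgroup.mem_sup_of_normal_right.1 hn
    refine ⟨⟨(k : G), Subgroup.mem_subgroupOf.1 hk⟩, ?_⟩
    show QuotientGroup.mk' (V.subgroupOf N) k = _
    rw [map_mul, (QuotientGroup.eq_one_iff v).2 hv |> (fun h => (h : QuotientGroup.mk' (V.subgroupOf N) v = 1)),
      mul_one]

include S

/-- **Structure of the normaliser.** -/
theorem split_M24 (hs : IsSimpleGroup G) (hG : ¬ IsMulCommutative G) {V : Subgroup G}
    (hV : IsElementaryAbelian 2 V) (hVc : Nat.card ↥V = 2 ^ 11) :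
    Subgroup.centralizer (V : Set G) ≤ V ∧ ∃ K : Subgroup G, K ≤ Subgroup.normalizer (V : Set G) ∧
      K ⊓ V = ⊥ ∧ K ⊔ V = Subgroup.normalizer (V : Set G) ∧ Spor.IsoM24 ↥K := by
  obtain ⟨o, ho, -⟩ := S.exists_conj_mem_Vo hs hG
  obtain ⟨g, hg⟩ := S.exists_conj_Vg ho hV hVc
  have hM := S.isoM24_quotient ho hs hG
  obtain ⟨K, hK, hinf, hsup⟩ := S.exists_complement ho hM
  set c := (MulAut.conj g⁻¹).toMonoidHom with hc
  have hcinj : Function.Injective c := (MulAut.conj g⁻¹).injective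
  have hVeq : (S.Vg ho).map c = V := by
    rw [← hg, Subgroup.map_map]
    convert Subgroup.map_id V using 2
    ext x
    simp [hc, MulAut.conj_apply, mul_assoc]
  have hNeq : (Subgroup.normalizer (S.Vg ho : Set G)).map c = Subgroup.normalizer (V : Set G) := by
    rw [← hVeq]
    exact Subgroup.map_equiv_normalizer_eq (S.Vg ho) (MulAut.conj g⁻¹)
  refine ⟨fun x hx => ?_, K.map c, hNeq ▸ Subgroup.map_mono hK, ?_, ?_, ?_⟩
  · have h1 : g * x * g⁻¹ ∈ S.Vg ho := S.mem_Vg_of_comm ho fun w hw => by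
      rw [← hg] at hw
      obtain ⟨v, hv, rfl⟩ := hw
      show g * v * g⁻¹ * (g * x * g⁻¹) = g * x * g⁻¹ * (g * v * g⁻¹)
      calc g * v * g⁻¹ * (g * x * g⁻¹) = g * (v * x) * g⁻¹ := by group
        _ = g * (x * v) * g⁻¹ := by rw [Subgroup.mem_centralizer_iff.1 hx v hv]
        _ = _ := by group
    rw [← hg] at h1
    obtain ⟨v, hv, he⟩ := h1
    rwa [show x = v from ((MulAut.conj g).injective he).symm]
  · rw [← hVeq, ← Subgroup.map_inf _ _ _ hcinj, hinf, Subgroup.map_bot]
  · rw [← hVeq, ← Subgroup.map_sup, hsup]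
    exact hNeq.trans (by rw [hVeq])
  · obtain ⟨e⟩ := hM
    haveI : ((S.Vg ho).subgroupOf (Subgroup.normalizer (S.Vg ho : Set G))).Normal :=
      Subgroup.normal_in_normalizer
    obtain ⟨e'⟩ := iso_of_complement Subgroup.le_normalizer hK hinf hsup
    exact ⟨((Subgroup.equivMapOfInjective K c hcinj).symm.trans e').trans e⟩

end Cfsg.Agent.J4Type.Setting
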