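import Cfsg.Agent.Lib.J4Type.VSplit
import Cfsg.Agent.Lib.J4Type.CentT

/-!
The two orbits of the normaliser on an elementary subgroup of order 2^11 (helper19).

* `Setting.orbits_Vg` : lengths 1771 and 276, and the centraliser of a member of the short one
* `Setting.orbits_of_elem` : the same for an arbitrary such subgroup
-/

set_option autoImplicit false
set_option maxHeartbeats 1000000
set_option linter.style.haveILetI false
set_option linter.unusedSectionVars false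
open scoped Pointwise
open Cfsg Subgroup

namespace Cfsg.Agent.J4Type.Setting

open Cfsg.Agent.Golay

variable {G : Type*} [Group G] [Finite G] {z : G} {P : Subgroup G} (S : Setting z P)
  {o : Finset GolayPt}

include S

theorem orbits_Vg (ho : HexOct o) (hs : IsSimpleGroup G) (hG : ¬ IsMulCommutative G) :
    ∃ t : G, t ∈ S.Vg ho ∧ t ≠ 1 ∧ ¬ IsConj z t ∧
      Set.ncard {v : G | ∃ n ∈ Subgroup.normalizer (S.Vg ho : Set G), n * z * n⁻¹ = v} = 1771 ∧
      Set.ncard {v : G | ∃ n ∈ Subgroup.normalizer (S.Vg ho : Set G), n * t * n⁻¹ = v} = 276 ∧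
      Subgroup.centralizer ({t} : Set G) ≤ Subgroup.normalizer (S.Vg ho : Set G) := by
  obtain ⟨c⟩ := S.exists_coord ho
  have hO := (S.ncard_Oz ho hs hG c).1
  have hT := S.ncard_Tz ho hs hG
  obtain ⟨x, hx⟩ : (S.Tz ho).Nonempty := Set.nonempty_of_ncard_ne_zero (by rw [hT]; norm_num)
  have hxV : (x : G) ∈ S.Vg ho := (S.mem_Vg_iff ho x).2 hx.1
  have hx1 : (x : G) ≠ 1 := fun e => hx.2.1 (Subtype.ext e)
  have h1771 : Set.ncard {v : G | ∃ n ∈ Subgroup.normalizer (S.Vg ho : Set G), n * z * n⁻¹ = v} = 1771 := by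
    rw [← S.Oz_image_eq_orbit ho, S.ncard_Oz_image ho, hO]
  have h276 : Set.ncard {v : G | ∃ n ∈ Subgroup.normalizer (S.Vg ho : Set G), n * (x : G) * n⁻¹ = v} = 276 := by
    rw [← hT, ← Set.ncard_image_of_injective (S.Tz ho) Subtype.val_injective]
    refine congrArg Set.ncard (Set.ext fun v => ⟨?_, ?_⟩)
    · rintro ⟨n, hn, rfl⟩
      obtain ⟨y, hy, he⟩ := S.conj_mem_Tz ho hn hx
      exact ⟨y, hy, he⟩
    · rintro ⟨y, hy, rfl⟩
      exact S.Tz_trans ho hs hG hx hy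
  obtain ⟨hel, hcard⟩ := S.isElementary_Vo ho
  obtain ⟨hcent, K, hK, hinf, hsup, ⟨e⟩⟩ := S.split_M24 hs hG hel hcard
  let D : SplitData G :=
    { V := S.Vg ho
      K := K
      e := e
      t := (x : G)
      s := z
      elem := hel
      card := hcard
      cent := hcent
      K_le := hK
      inf := hinf
      sup := hsup
      t_mem := hxV
      s_mem := S.z_mem_Vg ho
      t_orbit := h276
      s_orbit := h1771
      not_conj := fun n _ h => hx.2.2 (isConj_iff.2 ⟨n⁻¹, (congrArg (fun w => n⁻¹ * w * n⁻¹⁻¹) h.symm).trans (by group)⟩) }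
  exact ⟨x, hxV, hx1, hx.2.2, h1771, h276,
    S.centralizer_le ho hs hG hO D rfl (IsConj.refl z) hx.2.2 hxV hx1 hx.2.2⟩

/-- **The orbits on any such subgroup.** -/
theorem orbits_of_elem (hs : IsSimpleGroup G) (hG : ¬ IsMulCommutative G) {V : Subgroup G}
    (hV : IsElementaryAbelian 2 V) (hVc : Nat.card ↥V = 2 ^ 11) :
    ∃ z' t : G, z' ∈ V ∧ t ∈ V ∧ t ≠ 1 ∧ IsConj z z' ∧ ¬ IsConj z t ∧
      Set.ncard {v : G | ∃ n ∈ Subgroup.normalizer (V : Set G), n * z' * n⁻¹ = v} = 1771 ∧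
      Set.ncard {v : G | ∃ n ∈ Subgroup.normalizer (V : Set G), n * t * n⁻¹ = v} = 276 ∧
      Subgroup.centralizer ({t} : Set G) ≤ Subgroup.normalizer (V : Set G) := by
  obtain ⟨o, ho, -⟩ := S.exists_conj_mem_Vo hs hG
  obtain ⟨g, hg⟩ := S.exists_conj_Vg ho hV hVc
  obtain ⟨t, ht, ht1, htz, h1, h2, h3⟩ := S.orbits_Vg ho hs hG
  have hmem : ∀ v : G, v ∈ V ↔ g * v * g⁻¹ ∈ S.Vg ho := fun v => by
    rw [← hg]
    exact (Subgroup.mem_map_iff_mem (K := V) (f := (MulAut.conj g).toMonoidHom) (MulAut.conj g).injective).symm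
  have hnorm : ∀ n : G, n ∈ Subgroup.normalizer (V : Set G) ↔
      g * n * g⁻¹ ∈ Subgroup.normalizer (S.Vg ho : Set G) := fun n => by
    simp only [Subgroup.mem_normalizer_iff]
    constructor
    · intro h v
      have h' := h (g⁻¹ * v * g)
      rw [hmem, hmem, show g * (g⁻¹ * v * g) * g⁻¹ = v by group,
        show g * (n * (g⁻¹ * v * g) * n⁻¹) * g⁻¹ = g * n * g⁻¹ * v * (g * n * g⁻¹)⁻¹ by group] at h'
      exact h'
    · intro h v
      rw [hmem v, hmem (n * v * n⁻¹), h (g * v * g⁻¹),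
        show g * n * g⁻¹ * (g * v * g⁻¹) * (g * n * g⁻¹)⁻¹ = g * (n * v * n⁻¹) * g⁻¹ by group]
  have horb : ∀ a : G, Set.ncard {v : G | ∃ n ∈ Subgroup.normalizer (V : Set G), n * (g⁻¹ * a * g) * n⁻¹ = v} =
      Set.ncard {v : G | ∃ n ∈ Subgroup.normalizer (S.Vg ho : Set G), n * a * n⁻¹ = v} := by
    intro a
    rw [← Set.ncard_image_of_injective {v : G | ∃ n ∈ Subgroup.normalizer (S.Vg ho : Set G), n * a * n⁻¹ = v}
      (MulAut.conj g⁻¹).injective]
    refine congrArg Set.ncard (Set.ext fun v => ⟨?_, ?_⟩)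
    · rintro ⟨n, hn, rfl⟩
      refine ⟨g * n * g⁻¹ * a * (g * n * g⁻¹)⁻¹, ⟨_, (hnorm n).1 hn, rfl⟩, ?_⟩
      simp only [MulAut.conj_apply]
      group
    · rintro ⟨_, ⟨n, hn, rfl⟩, rfl⟩
      refine ⟨g⁻¹ * n * g, (hnorm _).2 (by rwa [show g * (g⁻¹ * n * g) * g⁻¹ = n by group]), ?_⟩
      simp only [MulAut.conj_apply]
      group
  have hback : ∀ a : G, g * (g⁻¹ * a * g) * g⁻¹ = a := fun a => by group
  refine ⟨g⁻¹ * z * g, g⁻¹ * t * g, (hmem _).2 (by rw [hback]; exact S.z_mem_Vg ho),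
    (hmem _).2 (by rw [hback]; exact ht), fun e => ht1 (by rw [← hback t, e, mul_one, mul_inv_cancel]),
    isConj_iff.2 ⟨g⁻¹, by rw [inv_inv]⟩, fun h => htz (h.trans (isConj_iff.2 ⟨g, hback t⟩)), ?_, ?_, ?_⟩
  · rw [horb, h1]
  · rw [horb, h2]
  · intro m hm
    rw [hnorm]
    apply h3
    rw [Subgroup.mem_centralizer_singleton_iff] at hm ⊢
    calc g * m * g⁻¹ * t = g * (m * (g⁻¹ * t * g)) * g⁻¹ := by group
      _ = g * ((g⁻¹ * t * g) * m) * g⁻¹ := by rw [hm]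
      _ = t * (g * m * g⁻¹) := by group

end Cfsg.Agent.J4Type.Setting
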