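import Cfsg.Agent.Lib.J4Type.ElevenLocalX
import Cfsg.Agent.Lib.J4Type.ElevenBase
import Cfsg.Agent.Lib.J4Type.Order.Wiring

/-!
Supplier of `ElevenBase`: the local facts on elements of order 11 in Janko-four type of the order of J4 (helper8).

* `XCtx.norm_eq` : `N(U) = N(⟨x⟩)`
* `XCtx.trans` : the nontrivial cosets of `⟨x⟩` in `U` form one orbit
* `exists_base` : the structure, from the hypotheses and the order
-/

set_option autoImplicit false
set_option linter.unusedSectionVars false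
set_option linter.style.haveILetI false

namespace Cfsg.Agent.J4Type.ElevenLocal

open Cfsg Cfsg.Agent.Golay Subgroup
open Cfsg.Agent.J4Type.Pentad (PCtx centralizer_zpowers)

variable {G : Type*} [Group G] [Finite G] {z : G} {P : Subgroup G}

theorem sylow_search : ∀ m ≤ 55, 86775571046077562880 % (31944 * (10 + 24 * m)) = 0 →
    86775571046077562880 / (31944 * (10 + 24 * m)) % 11 = 1 → m = 0 := by
  decide +kernel

namespace XCtx

variable {C : PCtx z P} {x : G} (H : XCtx C x)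
  {U : Subgroup G} (hU : U ≤ centralizer ({x} : Set G)) (hUc : Nat.card ↥U = 1331) (hxU : x ∈ U)
  (hUn : ∀ g ∈ centralizer ({x} : Set G), ∀ a ∈ U, g * a * g⁻¹ ∈ U)

include H

theorem x_ne : x ≠ 1 := fun e => by
  have := H.order_x
  rw [e, orderOf_one] at this
  norm_num at this

theorem mem_norm_of_conj {g : G} {k : ℕ} (h : g * x * g⁻¹ = x ^ k) : g ∈ normalizer (zpowers x : Set G) := by
  refine Subgroup.mem_normalizer_fintype fun a ha => ?_
  obtain ⟨m, rfl⟩ := mem_zpowers_iff.1 ha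
  rw [SetLike.mem_coe, ← conj_zpow, h]
  exact zpow_mem (pow_mem (mem_zpowers x) k) m

theorem cent_le_norm : centralizer ({x} : Set G) ≤ normalizer (zpowers x : Set G) := by
  rw [← centralizer_zpowers]
  exact centralizer_le_normalizer _

/-- All nontrivial powers are the conjugates of `x` in `⟨x⟩`. -/
theorem conj_pow_of_mem {b : G} (hb : b ∈ zpowers x) (hb1 : b ≠ 1) :
    ∃ g ∈ normalizer (zpowers x : Set G), g * x * g⁻¹ = b := by
  classical
  rw [mem_zpowers_iff_mem_range_orderOf] at hb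
  simp only [Finset.mem_image, Finset.mem_range] at hb
  obtain ⟨k, -, rfl⟩ := hb
  have hk : ¬ 11 ∣ k := fun ⟨j, hj⟩ => hb1 (by
    rw [hj, pow_mul, show x ^ 11 = 1 from H.order_x ▸ pow_orderOf_eq_one x, one_pow])
  obtain ⟨g, -, hg⟩ := conj_pow_z C.S H.order_x H.comm_z H.comm_gen hk
  exact ⟨g, H.mem_norm_of_conj hg, hg⟩

theorem ncard_orbit : {b : G | ∃ g ∈ normalizer (zpowers x : Set G), g * x * g⁻¹ = b}.ncard = 10 := by
  classical
  have e : {b : G | ∃ g ∈ normalizer (zpowers x : Set G), g * x * g⁻¹ = b} = ((zpowers x : Subgroup G) : Set G) \ {1} := by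
    ext b
    constructor
    · rintro ⟨g, hg, rfl⟩
      exact ⟨(mem_normalizer_iff.1 hg x).1 (mem_zpowers x), fun h => H.x_ne (conj_eq_one_iff.1 h)⟩
    · rintro ⟨hb, hb1⟩
      exact H.conj_pow_of_mem hb hb1
  rw [e, Set.ncard_sdiff_singleton_of_mem (one_mem (zpowers x)), ← Nat.card_coe_set_eq]
  show Nat.card ↥(zpowers x) - 1 = 10
  rw [Nat.card_zpowers, H.order_x]

include hU hUc hxU hUn

theorem norm_le : normalizer (zpowers x : Set G) ≤ normalizer (U : Set G) := by
  intro g hg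
  refine Subgroup.mem_normalizer_fintype fun a ha => ?_
  refine H.mem_U_of_pow hU hUc hxU hUn (mem_centralizer_singleton_iff.2 ?_) ?_
  · obtain ⟨m, hm⟩ := mem_zpowers_iff.1 ((mem_normalizer_iff''.1 hg x).1 (mem_zpowers x))
    have hc : Commute a (g⁻¹ * x * g) := by rw [← hm]; exact (H.comm_x hU ha).zpow_right m
    calc g * a * g⁻¹ * x = g * (a * (g⁻¹ * x * g)) * g⁻¹ := by group
      _ = g * (g⁻¹ * x * g * a) * g⁻¹ := by rw [hc.eq]
      _ = _ := by group
  · rw [conj_pow, ← hUc, show a ^ Nat.card ↥U = 1 from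
      congrArg Subtype.val (pow_card_eq_one' (x := (⟨a, ha⟩ : ↥U))), mul_one, mul_inv_cancel]

theorem card_norm : Nat.card ↥(normalizer (zpowers x : Set G)) = 319440 := by
  classical
  have h := ((centralizer ({x} : Set G)).subgroupOf (normalizer (zpowers x : Set G))).index_mul_card
  rw [← TwoTen.ncard_conj_orbit, H.ncard_orbit, Nat.card_congr (subgroupOfEquivOfLe H.cent_le_norm).toEquiv,
    H.card_cent hU hUc hxU hUn] at h
  omega

/-- An element outside `⟨x⟩` central in `U` makes `U` commutative. -/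
theorem comm_of_central {a : G} (ha : a ∈ U) (haX : a ∉ zpowers x) (hac : ∀ b ∈ U, Commute a b) :
    ∀ b ∈ U, ∀ c ∈ U, b * c = c * b := by
  classical
  haveI : Fact (Nat.Prime 11) := ⟨by norm_num⟩
  intro b hb c hc
  set Z := U ⊓ centralizer (U : Set G) with hZ
  have h3 : ∀ K : Subgroup G, K ≤ U → ∃ j ≤ 3, Nat.card ↥K = 11 ^ j := fun K hK =>
    (Nat.dvd_prime_pow (by norm_num : Nat.Prime 11)).1 ((card_dvd_of_le hK).trans (by rw [hUc]; norm_num))
  have hcU : ∀ d ∈ U, (∀ u ∈ U, Commute d u) → d ∈ Z := fun d hd hdc =>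
    Subgroup.mem_inf.2 ⟨hd, mem_centralizer_iff.2 fun u hu => (hdc u hu).symm.eq⟩
  have hxZ : zpowers x ≤ Z := zpowers_le.2 (hcU x hxU fun u hu => (H.comm_x hU hu).symm)
  obtain ⟨i, hi, hic⟩ := h3 Z inf_le_left
  have hi2 : 2 ≤ i := by
    by_contra hlt
    refine haX ?_
    rw [eq_of_le_of_card_ge hxZ (by
      rw [Nat.card_zpowers, H.order_x, hic]
      exact (Nat.pow_le_pow_right (by norm_num) (show i ≤ 1 by omega)).trans (pow_one 11).le)]
    exact hcU a ha hac
  by_cases hbZ : b ∈ Z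
  · exact (mem_centralizer_iff.1 (Subgroup.mem_inf.1 hbZ).2 c hc).symm
  set K := U ⊓ centralizer ({b} : Set G) with hK
  have hZK : Z ≤ K := fun d hd => Subgroup.mem_inf.2 ⟨(Subgroup.mem_inf.1 hd).1,
    mem_centralizer_singleton_iff.2 (mem_centralizer_iff.1 (Subgroup.mem_inf.1 hd).2 b hb).symm⟩
  have hbK : b ∈ K := Subgroup.mem_inf.2 ⟨hb, mem_centralizer_singleton_iff.2 rfl⟩
  obtain ⟨j, hj, hjc⟩ := h3 K inf_le_left
  have hj3 : j = 3 := by
    by_contra hne
    refine hbZ ?_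
    rw [eq_of_le_of_card_ge hZK (by rw [hic, hjc]; exact Nat.pow_le_pow_right (by norm_num) (by omega))]
    exact hbK
  have hKU : K = U := eq_of_le_of_card_ge inf_le_left (by rw [hjc, hj3, hUc]; norm_num)
  have hcK : c ∈ K := hKU.symm ▸ hc
  exact (mem_centralizer_singleton_iff.1 (Subgroup.mem_inf.1 hcK).2).symm

/-- The normalisers agree. -/
theorem norm_eq : normalizer (U : Set G) = normalizer (zpowers x : Set G) := by
  classical
  haveI : Fact (Nat.Prime 11) := ⟨by norm_num⟩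
  set M := normalizer (zpowers x : Set G) with hM
  set N := normalizer (U : Set G) with hN
  have hMN : M ≤ N := H.norm_le hU hUc hxU hUn
  by_cases hcomm : ∀ b ∈ U, ∀ c ∈ U, b * c = c * b
  swap
  · refine le_antisymm (fun g hg => ?_) hMN
    have hb : g * x * g⁻¹ ∈ U := (mem_normalizer_iff.1 hg x).1 hxU
    have hbX : g * x * g⁻¹ ∈ zpowers x := by
      by_contra hbX
      refine hcomm (H.comm_of_central hU hUc hxU hUn hb hbX fun c hc => ?_)
      have hc' : g⁻¹ * c * g ∈ U := (mem_normalizer_iff''.1 hg c).1 hc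
      calc g * x * g⁻¹ * c = g * (x * (g⁻¹ * c * g)) * g⁻¹ := by group
        _ = g * (g⁻¹ * c * g * x) * g⁻¹ := by rw [(H.comm_x hU hc').symm.eq]
        _ = _ := by group
    rw [mem_zpowers_iff_mem_range_orderOf] at hbX
    simp only [Finset.mem_image, Finset.mem_range] at hbX
    obtain ⟨k, -, hk⟩ := hbX
    exact H.mem_norm_of_conj hk.symm
  set Cx := centralizer ({x} : Set G) with hCx
  set O := {b : G | ∃ n ∈ N, n * x * n⁻¹ = b} with hO
  have hCN : Cx ≤ N := H.cent_le_norm.trans hMN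
  have hcardN : Nat.card ↥N = O.ncard * 31944 := by
    have h := (Cx.subgroupOf N).index_mul_card
    rw [← TwoTen.ncard_conj_orbit, Nat.card_congr (subgroupOfEquivOfLe hCN).toEquiv, H.card_cent hU hUc hxU hUn] at h
    exact h.symm
  have hOU : O ⊆ (U : Set G) \ {1} := by
    rintro b ⟨n, hn, rfl⟩
    exact ⟨(mem_normalizer_iff.1 hn x).1 hxU, fun h => H.x_ne (conj_eq_one_iff.1 h)⟩
  have hOX : O ∩ (zpowers x : Set G) = {b : G | ∃ g ∈ M, g * x * g⁻¹ = b} := by
    ext b
    constructor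
    · rintro ⟨hb, hbX⟩
      exact H.conj_pow_of_mem hbX (hOU hb).2
    · rintro ⟨g, hg, rfl⟩
      exact ⟨⟨g, hMN hg, rfl⟩, (mem_normalizer_iff.1 hg x).1 (mem_zpowers x)⟩
  -- the orbits of the centraliser outside `⟨x⟩` are regular modulo `U`
  set S := O \ (zpowers x : Set G) with hS
  have hSc : ∀ g ∈ Cx, ∀ b ∈ S, g * b * g⁻¹ ∈ S := by
    rintro g hg b ⟨⟨n, hn, rfl⟩, hbX⟩
    refine ⟨⟨g * n, mul_mem (hCN hg) hn, by group⟩, fun h => hbX ?_⟩
    obtain ⟨m, hm⟩ := mem_zpowers_iff.1 h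
    have hc : Commute g (x ^ m) := (show Commute g x from mem_centralizer_singleton_iff.1 hg).zpow_right m
    exact mem_zpowers_iff.2 ⟨m, by
      calc x ^ m = g⁻¹ * (g * x ^ m) := by group
        _ = g⁻¹ * (x ^ m * g) := by rw [hc.eq]
        _ = _ := by rw [hm]; group⟩
  letI : MulAction ↥Cx ↥S :=
    { smul := fun g b => ⟨(g : G) * b.1 * (g : G)⁻¹, hSc g g.2 b.1 b.2⟩
      one_smul := fun b => Subtype.ext (show (1 : G) * b.1 * (1 : G)⁻¹ = b.1 by group)
      mul_smul := fun g h b => Subtype.ext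
        (show (g : G) * h * b.1 * ((g : G) * h)⁻¹ = g * ((h : G) * b.1 * (h : G)⁻¹) * (g : G)⁻¹ by group) }
  have hstab : ∀ b : ↥S, MulAction.stabilizer ↥Cx b = U.subgroupOf Cx := by
    intro b
    have hbU : b.1 ∈ U := (hOU b.2.1).1
    ext g
    rw [MulAction.mem_stabilizer_iff, mem_subgroupOf]
    constructor
    · intro hg
      by_contra hgU
      refine b.2.2 (H.fix hU hUc hxU hUn g.2 hgU hbU ?_)
      rw [show (g : G) * b.1 * (g : G)⁻¹ = b.1 from congrArg Subtype.val hg, mul_inv_cancel]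
      exact one_mem _
    · intro hg
      refine Subtype.ext ?_
      show (g : G) * b.1 * (g : G)⁻¹ = b.1
      rw [hcomm _ hg _ hbU, mul_inv_cancel_right]
  have hidx : (U.subgroupOf Cx).index = 24 := by
    have := (U.subgroupOf Cx).index_mul_card
    rw [Nat.card_congr (subgroupOfEquivOfLe hU).toEquiv, hUc, H.card_cent hU hUc hxU hUn] at this
    omega
  have h24 : 24 ∣ S.ncard := by
    haveI : Fintype (Quotient (MulAction.orbitRel ↥Cx ↥S)) := Fintype.ofFinite _
    rw [← Nat.card_coe_set_eq, Nat.card_congr (MulAction.selfEquivSigmaOrbitsQuotientStabilizer ↥Cx ↥S), Nat.card_sigma]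
    refine Finset.dvd_sum fun ω _ => ?_
    rw [← index_eq_card, hstab, hidx]
  obtain ⟨m, hm⟩ := h24
  have hsum : O.ncard = 10 + 24 * m := by
    rw [← Set.ncard_inter_add_ncard_sdiff_eq_ncard O (zpowers x : Set G) (Set.toFinite _), hOX, H.ncard_orbit,
      ← hS, hm]
  have hle : O.ncard ≤ 1330 := by
    refine (Set.ncard_le_ncard hOU (Set.toFinite _)).trans ?_
    rw [Set.ncard_sdiff_singleton_of_mem (one_mem U), ← Nat.card_coe_set_eq]
    show Nat.card ↥U - 1 ≤ 1330
    rw [hUc]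
  let T : Sylow 11 G := Sylow.ofCard U (by
    rw [hUc, H.card, show (86775571046077562880 : ℕ) = 11 ^ 3 * 65195770883604480 by norm_num,
      Nat.factorization_mul (by norm_num) (by norm_num), Finsupp.add_apply,
      Nat.Prime.factorization_pow (by norm_num), Nat.factorization_eq_zero_of_not_dvd
        (show ¬ 11 ∣ 65195770883604480 by norm_num)]
    simp)
  have hq := card_sylow_modEq_one 11 G
  unfold Nat.ModEq at hq
  have hGq : Nat.card (Sylow 11 G) * Nat.card ↥N = Nat.card G := by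
    rw [T.card_eq_index_normalizer]
    exact index_mul_card _
  rw [hcardN, hsum, H.card] at hGq
  have hm0 : m = 0 := sylow_search m (by omega)
    (by rw [← hGq, show Nat.card (Sylow 11 G) * ((10 + 24 * m) * 31944) =
      31944 * (10 + 24 * m) * Nat.card (Sylow 11 G) by ring]; exact Nat.mul_mod_right _ _)
    (by rw [← hGq, show Nat.card (Sylow 11 G) * ((10 + 24 * m) * 31944) =
      31944 * (10 + 24 * m) * Nat.card (Sylow 11 G) by ring, Nat.mul_div_cancel_left _ (by omega)]; exact hq)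
  refine (eq_of_le_of_card_ge hMN ?_).symm
  rw [hcardN, hsum, hm0, H.card_norm hU hUc hxU hUn]

/-- No element of order 5 commutes with one of order a multiple of 11. -/
theorem no_five {h : G} (hh : orderOf h = 5) {c : G} (hc : c ∈ U) (hc1 : c ≠ 1) (hch : Commute c h) : False := by
  classical
  have hd : orderOf c ∣ 11 ^ 3 := by
    rw [show (11 : ℕ) ^ 3 = Nat.card ↥U by rw [hUc]; norm_num, ← Subgroup.orderOf_mk c hc]
    exact orderOf_dvd_natCard _
  obtain ⟨j, -, hj⟩ := (Nat.dvd_prime_pow (by norm_num : Nat.Prime 11)).1 hd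
  have hj0 : j ≠ 0 := by
    rintro rfl
    rw [pow_zero, orderOf_eq_one_iff] at hj
    exact hc1 hj
  set d := c ^ 11 ^ (j - 1) with hdd
  have hdo : orderOf d = 11 := by
    rw [hdd, orderOf_pow_of_dvd (by positivity) (by rw [hj]; exact pow_dvd_pow 11 (by omega)), hj,
      Nat.pow_div (by omega) (by norm_num), show j - (j - 1) = 1 by omega, pow_one]
  have h5 : 5 ∣ Nat.card ↥(centralizer ({d} : Set G)) := by
    rw [← hh, ← Subgroup.orderOf_mk h (mem_centralizer_singleton_iff.2 (hch.pow_left _).symm.eq)]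
    exact orderOf_dvd_natCard _
  have := h5.trans (H.dvd d hdo)
  norm_num at this

/-- The nontrivial cosets form one orbit. -/
theorem trans {a : G} (ha : a ∈ U) (haX : a ∉ zpowers x) {b : G} (hb : b ∈ U) (hbX : b ∉ zpowers x) :
    ∃ n ∈ normalizer (zpowers x : Set G), n * a * n⁻¹ * b⁻¹ ∈ zpowers x := by
  classical
  haveI : Fact (Nat.Prime 5) := ⟨by norm_num⟩
  set M := normalizer (zpowers x : Set G) with hM
  have hMN : M ≤ normalizer (U : Set G) := H.norm_le hU hUc hxU hUn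
  have hX : ∀ n ∈ M, ∀ i ∈ zpowers x, n * i * n⁻¹ ∈ zpowers x := fun n hn i hi => (mem_normalizer_iff.1 hn i).1 hi
  have hsplit : ∀ m n : G, m * n * a * (m * n)⁻¹ * a⁻¹ =
      m * (n * a * n⁻¹ * a⁻¹) * m⁻¹ * (m * a * m⁻¹ * a⁻¹) := fun m n => by group
  let St : Subgroup ↥M :=
    { carrier := {n | (n : G) * a * (n : G)⁻¹ * a⁻¹ ∈ zpowers x}
      one_mem' := by simp
      mul_mem' := fun {m n} hm hn => by
        show (m : G) * n * a * ((m : G) * n)⁻¹ * a⁻¹ ∈ zpowers x
        rw [hsplit]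
        exact mul_mem (hX _ m.2 _ hn) hm
      inv_mem' := fun {m} hm => by
        show (m : G)⁻¹ * a * (m : G)⁻¹⁻¹ * a⁻¹ ∈ zpowers x
        have e : (m : G)⁻¹ * a * (m : G)⁻¹⁻¹ * a⁻¹ = (m : G)⁻¹ * ((m : G) * a * (m : G)⁻¹ * a⁻¹)⁻¹ * (m : G) := by
          group
        rw [e]
        have h := hX _ (inv_mem m.2) _ (inv_mem (show (m : G) * a * (m : G)⁻¹ * a⁻¹ ∈ zpowers x from hm))
        rwa [inv_inv] at h }
  have hSt : ∀ n : ↥M, n ∈ St ↔ (n : G) * a * (n : G)⁻¹ * a⁻¹ ∈ zpowers x := fun n => Iff.rfl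
  set f : ↥St →* MulAut ↥(zpowers x) := (normalizerMonoidHom (zpowers x)).comp St.subtype with hf
  have hker : ∀ n : ↥St, n ∈ f.ker ↔ ((n : ↥M) : G) ∈ U := by
    intro n
    have e : n ∈ f.ker ↔ (n : ↥M) ∈ (normalizerMonoidHom (zpowers x)).ker := Iff.rfl
    rw [e, normalizerMonoidHom_ker, mem_subgroupOf, centralizer_zpowers]
    constructor
    · intro h
      by_contra hnU
      exact haX (H.fix hU hUc hxU hUn h hnU ha ((hSt _).1 n.2))
    · intro h
      exact hU h
  have hkerc : Nat.card f.ker ≤ 1331 := by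
    rw [← hUc]
    refine Nat.card_le_card_of_injective (fun n => (⟨((n : ↥St) : ↥M), (hker n.1).1 n.2⟩ : ↥U)) fun p q h => ?_
    exact Subtype.ext (Subtype.ext (Subtype.ext (congrArg (fun v : ↥U => (v : G)) h)))
  have h10 : Nat.card f.range ∣ 10 := by
    refine (card_subgroup_dvd_card f.range).trans ?_
    haveI : IsCyclic ↥(zpowers x) := isCyclic_of_prime_card (p := 11) (hp := ⟨by norm_num⟩)
      (by rw [Nat.card_zpowers, H.order_x])
    rw [IsCyclic.card_mulAut, Nat.card_zpowers, H.order_x, Nat.totient_prime (by norm_num)]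
  have h5 : ¬ 5 ∣ Nat.card f.range := by
    intro h5
    have hd : 5 ∣ Nat.card ↥St := by
      rw [← f.ker.card_mul_index, index_ker]
      exact h5.mul_left _
    obtain ⟨n, hn⟩ := exists_prime_orderOf_dvd_card' 5 hd
    rw [← orderOf_coe, ← orderOf_coe] at hn
    set h := ((n : ↥M) : G)
    have hfix := fix_mod (p := 5) {c : G | ∃ i ∈ zpowers x, c = i * a} hn (by
      rintro c ⟨i, hi, rfl⟩
      refine ⟨h * i * h⁻¹ * (h * a * h⁻¹ * a⁻¹), mul_mem (hX _ (n : ↥M).2 i hi) ((hSt _).1 n.2), by group⟩)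
    have hc : Nat.card ↥({c : G | ∃ i ∈ zpowers x, c = i * a}) = 11 := by
      rw [← H.order_x, ← Nat.card_zpowers]
      exact Nat.card_congr
        { toFun := fun c => ⟨c.1 * a⁻¹, by obtain ⟨i, hi, e⟩ := c.2; rw [e, mul_inv_cancel_right]; exact hi⟩
          invFun := fun i => ⟨i.1 * a, i.1, i.2, rfl⟩
          left_inv := fun c => Subtype.ext (inv_mul_cancel_right c.1 a)
          right_inv := fun i => Subtype.ext (mul_inv_cancel_right i.1 a) }
    rw [hc] at hfix
    obtain ⟨⟨⟨c, i, hi, rfl⟩, hcc⟩⟩ := (Nat.card_pos_iff.1 (show 0 < Nat.card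
        {s : ↥({c : G | ∃ i ∈ zpowers x, c = i * a}) // Commute (s : G) h} from Nat.pos_of_ne_zero fun e => by
      rw [e] at hfix; norm_num at hfix)).1
    refine H.no_five hU hUc hxU hUn hn (mul_mem ((zpowers_le.2 hxU : zpowers x ≤ U) hi) ha) (fun e => haX ?_) hcc
    rw [eq_inv_of_mul_eq_one_right e]
    exact inv_mem hi
  have hStc : Nat.card ↥St ≤ 2662 := by
    rw [← f.ker.card_mul_index, index_ker]
    obtain ⟨e, he⟩ : ∃ e, Nat.card f.range = e := ⟨_, rfl⟩
    rw [he] at h10 h5 ⊢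
    have he10 : e ≤ 10 := Nat.le_of_dvd (by norm_num) h10
    have : e ≤ 2 := by
      interval_cases e <;> revert h10 h5 <;> norm_num
    exact (Nat.mul_le_mul hkerc this).trans (by norm_num)
  -- count the orbit
  let φ : (↥M ⧸ St) × ↥(zpowers x) → ↥((U : Set G) \ (zpowers x : Set G)) := fun qi =>
    ⟨(qi.2 : G) * ((qi.1.out : G) * a * (qi.1.out : G)⁻¹),
      mul_mem ((zpowers_le.2 hxU : zpowers x ≤ U) qi.2.2) ((mem_normalizer_iff.1 (hMN qi.1.out.2) a).1 ha),
      fun h => haX ((mem_normalizer_iff.1 qi.1.out.2 a).2 (by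
        have h2 := mul_mem (inv_mem qi.2.2) (show (qi.2 : G) * ((qi.1.out : G) * a * (qi.1.out : G)⁻¹) ∈ zpowers x from h)
        rwa [inv_mul_cancel_left] at h2))⟩
  have hφ : Function.Injective φ := by
    rintro ⟨q, i⟩ ⟨q', i'⟩ h
    have h' : (i : G) * ((q.out : G) * a * (q.out : G)⁻¹) = (i' : G) * ((q'.out : G) * a * (q'.out : G)⁻¹) :=
      congrArg Subtype.val h
    have hq : q = q' := by
      rw [← q.out_eq', ← q'.out_eq', QuotientGroup.eq, hSt, Subgroup.coe_mul, Subgroup.coe_inv]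
      set m : G := (q.out : G)
      set m' : G := (q'.out : G)
      have e : m' * a * m'⁻¹ = (i' : G)⁻¹ * i * (m * a * m⁻¹) := by rw [mul_assoc (i' : G)⁻¹, h']; group
      have e2 : m⁻¹ * m' * a * (m⁻¹ * m')⁻¹ * a⁻¹ = m⁻¹ * ((i' : G)⁻¹ * i) * m := by
        calc m⁻¹ * m' * a * (m⁻¹ * m')⁻¹ * a⁻¹ = m⁻¹ * (m' * a * m'⁻¹) * (m * a⁻¹) := by group
          _ = _ := by rw [e]; group
      rw [e2]
      have h2 := hX _ (inv_mem q.out.2) _ (mul_mem (inv_mem i'.2) i.2)
      rwa [inv_inv] at h2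
    subst hq
    exact Prod.ext rfl (Subtype.ext (mul_right_cancel h'))
  have hcard : Nat.card ↥((U : Set G) \ (zpowers x : Set G)) ≤ Nat.card ((↥M ⧸ St) × ↥(zpowers x)) := by
    rw [Nat.card_prod, Nat.card_zpowers, H.order_x, ← index_eq_card, Nat.card_coe_set_eq,
      Set.ncard_sdiff (show (zpowers x : Set G) ⊆ (U : Set G) from zpowers_le.2 hxU) (Set.toFinite _),
      ← Nat.card_coe_set_eq, ← Nat.card_coe_set_eq]
    show Nat.card ↥U - Nat.card ↥(zpowers x) ≤ _
    rw [hUc, Nat.card_zpowers, H.order_x]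
    have h := St.index_mul_card
    rw [H.card_norm hU hUc hxU hUn] at h
    have : 120 ≤ St.index := by nlinarith
    omega
  obtain ⟨⟨q, i⟩, hqi⟩ := (hφ.bijective_of_nat_card_le hcard).2 ⟨b, hb, hbX⟩
  refine ⟨q.out, q.out.2, ?_⟩
  have hb' : (i : G) * ((q.out : G) * a * (q.out : G)⁻¹) = b := congrArg Subtype.val hqi
  rw [← hb', mul_inv_rev, ← mul_assoc, mul_inv_cancel, one_mul]
  exact inv_mem i.2

end XCtx

theorem orderOf_cj (g a : G) : orderOf (g * a * g⁻¹) = orderOf a :=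
  orderOf_injective (MulAut.conj g).toMonoidHom (MulAut.conj g).injective a

/-- The structure, given the local data. -/
theorem exists_base_of {C : PCtx z P} {x : G} (H : XCtx C x) : ∃ U : Subgroup G, ∃ t y : G, ElevenBase U z t x y := by
  classical
  haveI : Fact (Nat.Prime 11) := ⟨by norm_num⟩
  obtain ⟨U, hU, hUc, hxU, hUn, -⟩ := H.exists_U
  obtain ⟨y0, hy0, hy0t⟩ := exists_y C
  -- move `y0` into `U`
  have hUp : Nat.card ↥U = 11 ^ (Nat.card G).factorization 11 := by
    rw [hUc, H.card, show (86775571046077562880 : ℕ) = 11 ^ 3 * 65195770883604480 by norm_num,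
      Nat.factorization_mul (by norm_num) (by norm_num), Finsupp.add_apply,
      Nat.Prime.factorization_pow (by norm_num), Nat.factorization_eq_zero_of_not_dvd
        (show ¬ 11 ∣ 65195770883604480 by norm_num)]
    simp
  let T : Sylow 11 G := Sylow.ofCard U hUp
  obtain ⟨T0, hT0⟩ := (IsPGroup.of_card (G := ↥(zpowers y0)) (n := 1) (by
    rw [Nat.card_zpowers, hy0, pow_one]) : IsPGroup 11 ↥(zpowers y0)).exists_le_sylow
  obtain ⟨g, hg⟩ := MulAction.exists_smul_eq G T0 T
  have hy : g * y0 * g⁻¹ ∈ U := by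
    have h : g * y0 * g⁻¹ ∈ ((g • T0 : Sylow 11 G) : Subgroup G) := by
      rw [Sylow.coe_subgroup_smul]
      exact ⟨y0, hT0 (mem_zpowers y0), rfl⟩
    rw [hg] at h
    exact h
  set y := g * y0 * g⁻¹ with hydef
  set t := g * C.D.t * g⁻¹ with htdef
  have hyo : orderOf y = 11 := (orderOf_cj g y0).trans hy0
  have hto : orderOf t = 2 := by
    haveI : Fact (Nat.Prime 2) := ⟨Nat.prime_two⟩
    refine (orderOf_cj g C.D.t).trans (orderOf_eq_prime (by rw [pow_two]; exact C.D.sq_one C.D.t_mem) fun e => ?_)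
    have h1 := LargePrimes.card_cent_t C
    rw [e, show centralizer ({(1 : G)} : Set G) = ⊤ from eq_top_iff.2 fun u _ =>
      mem_centralizer_singleton_iff.2 (by simp), card_top, H.card] at h1
    norm_num at h1
  have hconjt : IsConj C.D.t t := isConj_iff.2 ⟨g, rfl⟩
  have hyt : Commute y t := by
    show g * y0 * g⁻¹ * (g * C.D.t * g⁻¹) = g * C.D.t * g⁻¹ * (g * y0 * g⁻¹)
    calc g * y0 * g⁻¹ * (g * C.D.t * g⁻¹) = g * (y0 * C.D.t) * g⁻¹ := by group
      _ = _ := by rw [hy0t.eq]; group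
  have hzt : ¬ IsConj z t := fun h => C.not_conj_t (h.trans hconjt.symm)
  have xz : ∀ a i : G, orderOf a = 11 → IsConj z i → Commute a i → IsConj x a := fun a i ha hi hai =>
    x_of_z C H.order_x H.comm_z H.comm_gen ha hi hai
  have hxy : ¬ IsConj x y := by
    intro h
    obtain ⟨u, hu⟩ := isConj_iff.1 h
    have hi : u⁻¹ * t * u ∈ centralizer ({x} : Set G) := by
      refine mem_centralizer_singleton_iff.2 ?_
      calc u⁻¹ * t * u * x = u⁻¹ * (t * (u * x * u⁻¹)) * u := by group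
        _ = _ := by rw [hu, ← hyt.eq, ← hu]; group
    have hio : orderOf (u⁻¹ * t * u) = 2 := by
      have := orderOf_cj u⁻¹ t
      rw [inv_inv] at this
      rw [this, hto]
    obtain ⟨a, -, ha⟩ := H.invol hU hUc hxU hUn hi hio
    exact hzt ((isConj_iff.2 ⟨a, ha⟩ : IsConj z (u⁻¹ * t * u)).trans (isConj_iff.2 ⟨u, by group⟩))
  have hyX : y ∉ zpowers x := fun h => by
    obtain ⟨n, -, hn⟩ := H.conj_pow_of_mem h (fun e => by rw [e, orderOf_one] at hyo; norm_num at hyo)
    exact hxy (isConj_iff.2 ⟨n, hn⟩)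
  -- the Sylow subgroup of the centraliser of `y` is normal
  set Cy := centralizer ({y} : Set G) with hCy
  have hd := H.dvd y hyo
  have h3 : ¬ 3 ∣ Nat.card ↥Cy := by
    intro h
    haveI : Fact (Nat.Prime 3) := ⟨Nat.prime_three⟩
    obtain ⟨w, hw⟩ := exists_prime_orderOf_dvd_card' (G := ↥Cy) 3 h
    rw [← orderOf_coe] at hw
    obtain ⟨u, hu⟩ := isConj_iff.1 (C.three C.S.gen (w : G) C.S.gen_ord hw)
    have hz' : Commute y (u * z * u⁻¹) := by
      have hyw : Commute (u⁻¹ * y * u) C.S.gen := by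
        show u⁻¹ * y * u * C.S.gen = C.S.gen * (u⁻¹ * y * u)
        have hwy : y * (w : G) = (w : G) * y := (mem_centralizer_singleton_iff.1 w.2).symm
        calc u⁻¹ * y * u * C.S.gen = u⁻¹ * (y * (u * C.S.gen * u⁻¹)) * u := by group
          _ = u⁻¹ * ((w : G) * y) * u := by rw [hu, hwy]
          _ = _ := by rw [← hu]; group
      have hm : u⁻¹ * y * u * z = z * (u⁻¹ * y * u) := mem_Cz.1 (LargePrimes.mem_Cz_of_comm C hyw.eq)
      show y * (u * z * u⁻¹) = u * z * u⁻¹ * y
      calc y * (u * z * u⁻¹) = u * (u⁻¹ * y * u * z) * u⁻¹ := by group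
        _ = _ := by rw [hm]; group
    exact hxy (xz y _ hyo (isConj_iff.2 ⟨u, rfl⟩) hz')
  obtain ⟨A⟩ := (Sylow.nonempty : Nonempty (Sylow 11 ↥Cy))
  have hn1 : Nat.card (Sylow 11 ↥Cy) = 1 := by
    have hidx : (A : Subgroup ↥Cy).index ∣ 2 ^ 4 := by
      have h1 : (A : Subgroup ↥Cy).index ∣ Nat.card ↥Cy := index_dvd_card _
      have h2 : Nat.Coprime (A : Subgroup ↥Cy).index 3 :=
        ((Nat.Prime.coprime_iff_not_dvd Nat.prime_three).2 fun h => h3 (h.trans h1)).symm
      have h3' : Nat.Coprime (A : Subgroup ↥Cy).index (11 ^ 3) :=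
        (((Nat.Prime.coprime_iff_not_dvd (by norm_num)).2 A.not_dvd_index).symm).pow_right 3
      exact h2.dvd_of_dvd_mul_right (h3'.dvd_of_dvd_mul_right (h1.trans hd))
    have h1 := A.card_dvd_index.trans hidx
    have h2 := card_sylow_modEq_one 11 ↥Cy
    obtain ⟨j, hj, hj'⟩ := (Nat.dvd_prime_pow Nat.prime_two).1 h1
    unfold Nat.ModEq at h2
    rw [hj'] at h2 ⊢
    revert h2
    interval_cases j <;> decide
  haveI : Subsingleton (Sylow 11 ↥Cy) := (Nat.card_eq_one_iff_unique.1 hn1).1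
  have hmemA : ∀ {c : G} (hc : c ∈ Cy), c ^ 1331 = 1 → (⟨c, hc⟩ : ↥Cy) ∈ (A : Subgroup ↥Cy) := by
    intro c hc h
    obtain ⟨j, -, hj⟩ := (Nat.dvd_prime_pow (by norm_num : Nat.Prime 11)).1
      (show orderOf (⟨c, hc⟩ : ↥Cy) ∣ 11 ^ 3 from orderOf_dvd_of_pow_eq_one (Subtype.ext (by
        rw [SubmonoidClass.coe_pow, show (11 : ℕ) ^ 3 = 1331 by norm_num]; exact h)))
    obtain ⟨B, hB⟩ := (IsPGroup.of_card (G := ↥(zpowers (⟨c, hc⟩ : ↥Cy))) (n := j) (by
      rw [Nat.card_zpowers, hj]) : IsPGroup 11 ↥(zpowers (⟨c, hc⟩ : ↥Cy))).exists_le_sylow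
    rw [Subsingleton.elim A B]
    exact hB (mem_zpowers _)
  have hx11 : x ^ 1331 = 1 := by
    rw [show 1331 = 11 * 121 by norm_num, pow_mul, ← H.order_x, pow_orderOf_eq_one, one_pow]
  have hy11 : y ^ 1331 = 1 := by
    rw [show 1331 = 11 * 121 by norm_num, pow_mul, ← hyo, pow_orderOf_eq_one, one_pow]
  have hxCy : x ∈ Cy := mem_centralizer_singleton_iff.2 (H.comm_x hU hy).symm.eq
  have htCy : t ∈ Cy := mem_centralizer_singleton_iff.2 hyt.symm.eq
  -- it lies in `U`
  set A' := (A : Subgroup ↥Cy).map Cy.subtype with hA'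
  have hxA : x ∈ A' := ⟨⟨x, hxCy⟩, hmemA hxCy hx11, rfl⟩
  have hyA : y ∈ A' := ⟨⟨y, mem_centralizer_singleton_iff.2 rfl⟩, hmemA _ hy11, rfl⟩
  obtain ⟨j, hj⟩ := IsPGroup.iff_card.1 A.2
  have hA'c : Nat.card ↥A' = 11 ^ j := by rw [hA', card_map_of_injective (subtype_injective Cy), hj]
  have hA'p : IsPGroup 11 ↥A' := IsPGroup.of_card hA'c
  have hA'U : A' ≤ U := by
    have hcomm : ∀ a ∈ A', Commute a x := by
      obtain ⟨T1, hT1⟩ := hA'p.exists_le_sylow
      obtain ⟨u, hu⟩ := MulAction.exists_smul_eq G T1 T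
      have hconj : ∀ a ∈ A', u * a * u⁻¹ ∈ U := fun a ha => by
        have h : u * a * u⁻¹ ∈ ((u • T1 : Sylow 11 G) : Subgroup G) := by
          rw [Sylow.coe_subgroup_smul]
          exact ⟨a, hT1 ha, rfl⟩
        rw [hu] at h
        exact h
      have hycent : ∀ a ∈ A', Commute y a := by
        rintro _ ⟨a, -, rfl⟩
        exact (mem_centralizer_singleton_iff.1 a.2).symm
      by_cases hc : ∀ b ∈ U, ∀ c ∈ U, b * c = c * b
      · intro a ha
        have h := hc _ (hconj a ha) _ (hconj x hxA)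
        show a * x = x * a
        calc a * x = u⁻¹ * ((u * a * u⁻¹) * (u * x * u⁻¹)) * u := by group
          _ = _ := by rw [h]; group
      have hj2 : j ≤ 2 := by
        by_contra hlt
        refine hc (H.comm_of_central hU hUc hxU hUn (hconj y hyA) (fun h => ?_) fun c hc' => ?_)
        · obtain ⟨n, -, hn⟩ := H.conj_pow_of_mem h (fun e => hyX (by
            rw [conj_eq_one_iff.1 e]; exact one_mem _))
          exact hxy ((isConj_iff.2 ⟨n, hn⟩ : IsConj x (u * y * u⁻¹)).trans (isConj_iff.2 ⟨u⁻¹, by group⟩))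
        have heq : A'.map (MulAut.conj u).toMonoidHom = U := by
          refine eq_of_le_of_card_ge ?_ ?_
          · rintro _ ⟨a, ha, rfl⟩
            exact hconj a ha
          · rw [card_map_of_injective (MulAut.conj u).injective, hA'c, hUc]
            exact le_trans (by norm_num) (Nat.pow_le_pow_right (by norm_num) (show 3 ≤ j by omega))
        rw [← heq] at hc'
        obtain ⟨a, ha, rfl⟩ := hc'
        show u * y * u⁻¹ * (u * a * u⁻¹) = u * a * u⁻¹ * (u * y * u⁻¹)
        calc u * y * u⁻¹ * (u * a * u⁻¹) = u * (y * a) * u⁻¹ := by group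
          _ = _ := by rw [(hycent a ha).eq]; group
      intro a ha
      rcases (show j = 0 ∨ j = 1 ∨ j = 2 by omega) with rfl | rfl | rfl
      · haveI : Subsingleton ↥A' := (Nat.card_eq_one_iff_unique.1 (by rw [hA'c, pow_zero])).1
        exact congrArg Subtype.val (Subsingleton.elim (⟨a, ha⟩ * ⟨x, hxA⟩ : ↥A') (⟨x, hxA⟩ * ⟨a, ha⟩))
      · haveI := isCyclic_of_prime_card (p := 11) (α := ↥A') (by rw [hA'c, pow_one])
        exact congrArg Subtype.val (IsCyclic.isMulCommutative.is_comm.comm (⟨a, ha⟩ : ↥A') ⟨x, hxA⟩)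
      · exact congrArg Subtype.val (IsPGroup.commutative_of_card_eq_prime_sq hA'c (⟨a, ha⟩ : ↥A') ⟨x, hxA⟩)
    intro a ha
    refine H.mem_U_of_pow hU hUc hxU hUn (mem_centralizer_singleton_iff.2 (hcomm a ha)) ?_
    obtain ⟨T1, hT1⟩ := hA'p.exists_le_sylow
    obtain ⟨u, hu⟩ := MulAction.exists_smul_eq G T1 T
    have h : u * a * u⁻¹ ∈ ((u • T1 : Sylow 11 G) : Subgroup G) := by
      rw [Sylow.coe_subgroup_smul]
      exact ⟨a, hT1 ha, rfl⟩
    rw [hu] at h
    have h1 : (u * a * u⁻¹) ^ 1331 = 1 := by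
      rw [← hUc]
      exact congrArg Subtype.val (pow_card_eq_one' (x := (⟨u * a * u⁻¹, h⟩ : ↥U)))
    rw [conj_pow] at h1
    exact conj_eq_one_iff.1 h1
  have htx11 : (t * x * t⁻¹) ^ 1331 = 1 := by rw [conj_pow, hx11, mul_one, mul_inv_cancel]
  have htxCy : t * x * t⁻¹ ∈ Cy := mul_mem (mul_mem htCy hxCy) (inv_mem htCy)
  have hb : t * x * t⁻¹ ∈ U := hA'U ⟨⟨_, htxCy⟩, hmemA htxCy htx11, rfl⟩
  have hbX : t * x * t⁻¹ ∈ zpowers x := by
    by_contra hbX
    by_cases hc : ∀ b ∈ U, ∀ c ∈ U, b * c = c * b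
    · refine hbX ?_
      have htN : t ∈ normalizer (U : Set G) := by
        refine Subgroup.mem_normalizer_fintype fun a ha => ?_
        have hac : a ∈ Cy := mem_centralizer_singleton_iff.2 (hc a ha y hy)
        have ha1 : a ^ 1331 = 1 := by
          rw [← hUc]
          exact congrArg Subtype.val (pow_card_eq_one' (x := (⟨a, ha⟩ : ↥U)))
        have htaCy : t * a * t⁻¹ ∈ Cy := mul_mem (mul_mem htCy hac) (inv_mem htCy)
        exact hA'U ⟨⟨_, htaCy⟩, hmemA htaCy (by rw [conj_pow, ha1, mul_one, mul_inv_cancel]), rfl⟩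
      rw [H.norm_eq hU hUc hxU hUn] at htN
      exact (mem_normalizer_iff.1 htN x).1 (mem_zpowers x)
    · obtain ⟨n, hn, hnb⟩ := H.trans hU hUc hxU hUn hy hyX hb hbX
      obtain ⟨c, hcU, hcne⟩ : ∃ c ∈ U, ¬ Commute (t * x * t⁻¹) c := by
        by_contra! h
        exact hc (H.comm_of_central hU hUc hxU hUn hb hbX h)
      set b := t * x * t⁻¹ with hbdef
      set k := c * b * c⁻¹ * b⁻¹
      have hk : k ∈ zpowers x := H.comm_mem hU hUc hxU hcU hb
      have hk1 : k ≠ 1 := fun e => hcne (by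
        show b * c = c * b
        rw [mul_inv_eq_one, mul_inv_eq_iff_eq_mul] at e
        exact e.symm)
      have hpow : ∀ m : ℕ, c ^ m * b * (c ^ m)⁻¹ = k ^ m * b := by
        intro m
        induction m with
        | zero => simp
        | succ m ih =>
          have hck : Commute c (k ^ m) := (H.comm_pow hU hcU hk).pow_right m
          calc c ^ (m + 1) * b * (c ^ (m + 1))⁻¹ = c * (c ^ m * b * (c ^ m)⁻¹) * c⁻¹ := by rw [pow_succ']; group
            _ = c * k ^ m * b * c⁻¹ := by rw [ih]; group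
            _ = k ^ m * (c * b * c⁻¹) := by rw [hck.eq]; group
            _ = k ^ m * (k * b) := by rw [show k * b = c * b * c⁻¹ from inv_mul_cancel_right _ _]
            _ = k ^ (m + 1) * b := by rw [pow_succ]; exact (mul_assoc _ _ _).symm
      have hgen : zpowers k = zpowers x := eq_of_le_of_card_ge (zpowers_le.2 hk) (by
        rw [Nat.card_zpowers, Nat.card_zpowers, H.order_x]
        have hko : orderOf k ∣ 11 := by
          refine (Subgroup.orderOf_mk k hk).symm.dvd.trans ((_root_.orderOf_dvd_natCard _).trans ?_)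
          rw [Nat.card_zpowers, H.order_x]
        rcases (Nat.dvd_prime (by norm_num)).1 hko with h | h
        · exact absurd (orderOf_eq_one_iff.1 h) hk1
        · rw [h])
      rw [← hgen, mem_zpowers_iff_mem_range_orderOf] at hnb
      simp only [Finset.mem_image, Finset.mem_range] at hnb
      obtain ⟨m, -, hm⟩ := hnb
      refine hxy ((isConj_iff.2 ⟨(c ^ m * t), ?_⟩ : IsConj x (n * y * n⁻¹)).trans (isConj_iff.2 ⟨n⁻¹, by group⟩))
      calc c ^ m * t * x * (c ^ m * t)⁻¹ = c ^ m * b * (c ^ m)⁻¹ := by rw [hbdef]; group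
        _ = k ^ m * b := hpow m
        _ = _ := by rw [hm]; group
  have htN : t ∈ normalizer (zpowers x : Set G) := by
    rw [mem_zpowers_iff_mem_range_orderOf] at hbX
    simp only [Finset.mem_image, Finset.mem_range] at hbX
    obtain ⟨k, -, hk⟩ := hbX
    exact H.mem_norm_of_conj hk.symm
  have htinv : t * x * t⁻¹ = x⁻¹ := by
    obtain ⟨m, hm⟩ := mem_zpowers_iff.1 hbX
    have ht2 : t * t = 1 := by rw [← pow_two, ← hto, pow_orderOf_eq_one]
    have h2 : x ^ (m * m) = x := by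
      calc x ^ (m * m) = (t * x * t⁻¹) ^ m := by rw [← hm, zpow_mul]
        _ = t * (t * x * t⁻¹) * t⁻¹ := by rw [conj_zpow, hm]
        _ = (t * t) * x * (t * t)⁻¹ := by group
        _ = x := by rw [ht2]; group
    have hd11 : (11 : ℤ) ∣ m * m - 1 := by
      have h3 : x ^ (m * m - 1) = 1 := by rw [zpow_sub, h2, zpow_one, mul_inv_cancel]
      have h4 := orderOf_dvd_iff_zpow_eq_one.2 h3
      rwa [H.order_x] at h4
    rcases (show (11 : ℤ) ∣ m - 1 ∨ (11 : ℤ) ∣ m + 1 from (Prime.dvd_mul (Int.prime_ofNat_iff.2 (by norm_num))).1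
        (by rw [show (m - 1) * (m + 1) = m * m - 1 by ring]; exact hd11)) with h | h
    · exfalso
      have h1 : x ^ (m - 1) = 1 := orderOf_dvd_iff_zpow_eq_one.1 (by rw [H.order_x]; exact h)
      rw [zpow_sub, hm, zpow_one, mul_inv_eq_one] at h1
      obtain ⟨a, -, ha⟩ := H.invol hU hUc hxU hUn
        (mem_centralizer_singleton_iff.2 (mul_inv_eq_iff_eq_mul.1 h1)) hto
      exact hzt (isConj_iff.2 ⟨a, ha⟩)
    · have h1 : x ^ (m + 1) = 1 := orderOf_dvd_iff_zpow_eq_one.1 (by rw [H.order_x]; exact h)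
      rw [zpow_add, hm, zpow_one] at h1
      exact eq_inv_of_mul_eq_one_left h1
  refine ⟨U, t, y, {
    card_G := H.card
    order_z := C.S.orderOf_z
    order_t := hto
    classes := fun i hi => (H.classes i hi).imp id fun h => hconjt.symm.trans h
    not_zt := hzt
    card_Cz := by rw [show Nat.card ↥(centralizer ({z} : Set G)) = _ from C.S.card_Cz]; norm_num
    card_Ct := by rw [LargePrimes.card_cent_conj hconjt, LargePrimes.card_cent_t C]
    order_x := H.order_x
    order_y := hyo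
    comm_xz := H.comm_z
    comm_yt := hyt
    card_U := hUc
    x_mem := hxU
    y_mem := hy
    x_comm := fun a ha => H.comm_x hU ha
    z_norm := H.norm_le hU hUc hxU hUn (H.cent_le_norm H.z_mem)
    t_norm := H.norm_le hU hUc hxU hUn htN
    t_inv := htinv
    U_norm := H.norm_le hU hUc hxU hUn
    card_cent_x := H.card_cent hU hUc hxU hUn
    card_norm_x := H.card_norm hU hUc hxU hUn
    conj_x := fun k hk => by
      obtain ⟨u, -, hu⟩ := conj_pow_z C.S H.order_x H.comm_z H.comm_gen hk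
      exact isConj_iff.2 ⟨u, hu⟩
    fix := fun u hu huU a ha h => H.fix hU hUc hxU hUn hu huU ha h
    invol_x := fun i hi ho => H.invol hU hUc hxU hUn hi ho
    trans := fun a ha haX b hb hbX => H.trans hU hUc hxU hUn ha haX hb hbX
    x_of_z := xz
    y_of_t := fun a i ha hi hai => (isConj_iff.2 ⟨g⁻¹, by rw [hydef]; group⟩ : IsConj y y0).trans
      (y_of_t C hy0 hy0t ha (hconjt.trans hi) hai)
    not_xy := hxy
    card_cent_yt := ?_
    conj_y := fun k hk => by
      obtain ⟨u, hu1, hu2⟩ := conj_pow_t C hy0 hy0t hk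
      refine ⟨g * u * g⁻¹, ?_, ?_⟩
      · show g * u * g⁻¹ * (g * C.D.t * g⁻¹) = g * C.D.t * g⁻¹ * (g * u * g⁻¹)
        calc g * u * g⁻¹ * (g * C.D.t * g⁻¹) = g * (u * C.D.t) * g⁻¹ := by group
          _ = _ := by rw [hu1.eq]; group
      · rw [hydef, conj_pow, ← hu2]; group
    cent_dvd := H.dvd
    three := fun a w ha hw haw => by
      obtain ⟨u, hu⟩ := isConj_iff.1 (C.three C.S.gen w C.S.gen_ord hw)
      refine xz a (u * z * u⁻¹) ha (isConj_iff.2 ⟨u, rfl⟩) ?_
      have hc : Commute (u⁻¹ * a * u) C.S.gen := by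
        show u⁻¹ * a * u * C.S.gen = C.S.gen * (u⁻¹ * a * u)
        calc u⁻¹ * a * u * C.S.gen = u⁻¹ * (a * (u * C.S.gen * u⁻¹)) * u := by group
          _ = _ := by rw [hu, haw.eq, ← hu]; group
      have hm : u⁻¹ * a * u * z = z * (u⁻¹ * a * u) := mem_Cz.1 (LargePrimes.mem_Cz_of_comm C hc.eq)
      show a * (u * z * u⁻¹) = u * z * u⁻¹ * a
      calc a * (u * z * u⁻¹) = u * (u⁻¹ * a * u * z) * u⁻¹ := by group
        _ = _ := by rw [hm]; group
    sub_two7 := exists_two7 C.S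
    sub_two11 := by
      obtain ⟨V, hV1, hV2, hV3⟩ := exists_two11 C
      exact ⟨V, hV1, hV2, fun a ha ha1 => (hV3 a ha ha1).imp id fun h => hconjt.symm.trans h⟩ }⟩
  have hconj : IsConj (y0 * C.D.t) (y * t) := isConj_iff.2 ⟨g, by rw [hydef, htdef]; group⟩
  rw [LargePrimes.card_cent_conj hconj,
    show centralizer ({y0 * C.D.t} : Set G) = centralizer ({C.D.t} : Set G) ⊓ centralizer ({y0} : Set G) from ?_,
    card_cent_t_y C hy0 hy0t]
  have ht2 : C.D.t ^ 2 = 1 := by rw [pow_two]; exact C.D.sq_one C.D.t_mem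
  have e1 : (y0 * C.D.t) ^ 12 = y0 := by
    rw [hy0t.mul_pow, show (12 : ℕ) = 11 + 1 from rfl, pow_succ, ← hy0, pow_orderOf_eq_one, one_mul, hy0,
      show (11 + 1 : ℕ) = 2 * 6 from rfl, pow_mul, ht2, one_pow, mul_one]
  have e2 : (y0 * C.D.t) ^ 11 = C.D.t := by
    rw [hy0t.mul_pow, show y0 ^ 11 = 1 from hy0 ▸ pow_orderOf_eq_one y0, one_mul,
      show (11 : ℕ) = 2 * 5 + 1 from rfl, pow_succ, pow_mul, ht2, one_pow, one_mul]
  ext u
  simp only [mem_inf, mem_centralizer_singleton_iff]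
  constructor
  · intro h
    exact ⟨by rw [← e2]; exact ((show Commute u _ from h).pow_right 11).eq,
      by rw [← e1]; exact ((show Commute u _ from h).pow_right 12).eq⟩
  · rintro ⟨h1, h2⟩
    exact ((show Commute u y0 from h2).mul_right (show Commute u C.D.t from h1)).eq

/-- The local facts, from the hypotheses and the order. -/
theorem exists_base [IsSimpleGroup G] (hJ : IsOfJankoFourTypeWith z P)
    (hcard : Nat.card G = 86775571046077562880) :
    ∃ U : Subgroup G, ∃ t x y : G, ElevenBase U z t x y := by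
  classical
  have h := Wiring.inputs hJ
  obtain ⟨C⟩ := Pentad.exists_pctx h.typeWith h.uniq h.split h.orb h.three h.local3.2.2.2.2
    (fun R hR => ⟨(S5565.result (Wiring.not_comm hJ) z ⟨P, hJ⟩ R hR).1,
      (S5565.result (Wiring.not_comm hJ) z ⟨P, hJ⟩ R hR).2.1⟩)
  have hcls : ∀ i : G, orderOf i = 2 → IsConj z i ∨ IsConj C.D.t i := by
    obtain ⟨σ, hσ⟩ := Pentad.zel_long C.M 0
    have hzs : IsConj z C.D.s := by
      rw [C.zel_z] at hσ
      exact (isConj_iff.2 ⟨C.D.el σ, hσ⟩ : IsConj C.D.s z).symm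
    exact fun i hi => SecondClass.isConj_or h.typeWith C.D hzs C.not_conj_t h.uniq h.three h.local3 hi
  obtain ⟨x, hx, hxz, hxg⟩ := exists_x C.S
  have hbig : ∀ p ∈ LargePrimes.bigs, ∀ w : G, orderOf w = p →
      ¬ 11 ∣ Nat.card ↥(centralizer ({w} : Set G)) := by
    intro p hp w hw hd
    haveI := Fact.mk (LargePrimes.bigs_prime hp)
    obtain ⟨T, hT⟩ := LargePrimes.exists_sylow (LargePrimes.once hcard hp) (U := zpowers w)
      (by rw [Nat.card_zpowers, hw])
    obtain ⟨h23, h29, h31, h37, h43⟩ := Wiring.sylow_large_primes hJ hcard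
    have hc : centralizer ((T : Subgroup G) : Set G) = (T : Subgroup G) := by
      rcases LargePrimes.bigs_cases hp with rfl | rfl | rfl | rfl | rfl
      · exact (h23 T).1
      · exact (h29 T).1
      · exact (h31 T).1
      · exact (h37 T).1
      · exact (h43 T).1
    rw [← centralizer_zpowers, ← hT, hc, hT, Nat.card_zpowers, hw] at hd
    rcases LargePrimes.bigs_cases hp with rfl | rfl | rfl | rfl | rfl <;> norm_num at hd
  obtain ⟨U, t, y, hB⟩ := exists_base_of (H := (⟨hx, hxz, hxg, hcls, hcard,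
    fun a ha => cent_dvd C hcls hcard hbig ha⟩ : XCtx C x))
  exact ⟨U, t, x, y, hB⟩

end Cfsg.Agent.J4Type.ElevenLocal
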