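import Cfsg.Agent.Lib.SingleBlock.M24
import Cfsg.Agent.Lib.J4Type.LargePrimes.Sylow

/-!
The centraliser of an element of order 11 of M24 has order 11 (helper8).

The permutations `x ↦ 2 x` and `x ↦ -1 / x` of the projective line over the field of 23 elements.
-/

set_option autoImplicit false
set_option linter.style.haveILetI false

namespace Cfsg.Agent.J4Type.ElevenM24

open Cfsg Cfsg.Agent.Golay Cfsg.Agent.SingleBlock Subgroup

/-- `x ↦ 2 x`. -/
def dbl : ℕ := 0xbd6717b56939461b52507314831040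

/-- `x ↦ -1 / x`. -/
def neg : ℕ := 0x5883388a1c8f5140b46cd317aed7

/-- The iterates of `dbl`. -/
def dblIter : ℕ → ℕ → ℕ
  | 0, i => i
  | k + 1, i => fn dbl (dblIter k i)

theorem check : (isAut dbl && isAut neg && (List.range 24).all (fun i => dblIter 11 i == i) &&
    (List.range 24).any (fun i => fn dbl i != i) && (List.range 24).all (fun i => fn neg (fn neg i) == i) &&
    (List.range 24).all (fun i => fn neg (fn dbl (fn neg i)) == dblIter 10 i)) = true := by
  decide +kernel

/-- Two elements of M24 with the same values are equal. -/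
theorem ext_idx {g h : ↥M24} (he : ∀ i < 24, idx ((g : Equiv.Perm GolayPt) (pt i)) = idx ((h : Equiv.Perm GolayPt) (pt i))) :
    g = h :=
  Subtype.ext (Equiv.ext fun p => idx_injective (by
    have := he (idx p) (idx_lt p)
    rwa [pt_idx] at this))

/-- Some element of order 11 is inverted by an involution. -/
theorem exists_inverted : ∃ σ τ : ↥M24, orderOf σ = 11 ∧ τ * τ = 1 ∧ τ * σ * τ = σ⁻¹ := by
  have h := check
  simp only [Bool.and_eq_true, List.all_eq_true, List.any_eq_true, List.mem_range, beq_iff_eq, bne_iff_ne] at h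
  obtain ⟨⟨⟨⟨⟨ad, an⟩, d11⟩, d1⟩, n2⟩, dn⟩ := h
  set σ : ↥M24 := ⟨toPerm dbl, toPerm_mem_M24 ad⟩ with hσ
  set τ : ↥M24 := ⟨toPerm neg, toPerm_mem_M24 an⟩ with hτ
  have is := idx_toPerm (validPerm_of_isAut ad)
  have it := idx_toPerm (validPerm_of_isAut an)
  have hpow : ∀ k : ℕ, ∀ i < 24, idx ((σ ^ k : ↥M24).1 (pt i)) = dblIter k i := by
    intro k i hi
    induction k with
    | zero => simp [dblIter, idx_pt hi]
    | succ k ih =>
      rw [pow_succ', Subgroup.coe_mul, Equiv.Perm.mul_apply, hσ, is]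
      simp only [dblIter]
      rw [← hσ, ih]
  haveI : Fact (Nat.Prime 11) := ⟨by norm_num⟩
  have ho : orderOf σ = 11 := by
    refine orderOf_eq_prime (ext_idx fun i hi => ?_) ?_
    · rw [hpow 11 i hi, d11 i hi]
      simp [idx_pt hi]
    · obtain ⟨i, hi, hne⟩ := d1
      intro e
      refine hne ?_
      have := congrArg (fun g : ↥M24 => idx ((g : Equiv.Perm GolayPt) (pt i))) e
      simpa [hσ, is, idx_pt hi] using this
  refine ⟨σ, τ, ho, ext_idx fun i hi => ?_, ext_idx fun i hi => ?_⟩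
  · simp [hτ, it, idx_pt hi, n2 i hi]
  · rw [show σ⁻¹ = σ ^ 10 from inv_eq_of_mul_eq_one_right (by
        rw [← pow_succ', show (10 + 1 : ℕ) = orderOf σ from ho.symm, pow_orderOf_eq_one]),
      hpow 10 i hi, ← dn i hi]
    simp [hτ, hσ, is, it, idx_pt hi]

theorem natCard_cent_eleven {σ : ↥M24} (hσ : orderOf σ = 11) :
    Nat.card ↥(centralizer ({σ} : Set ↥M24)) = 11 := by
  haveI : Fact (Nat.Prime 11) := ⟨by norm_num⟩
  obtain ⟨σ0, τ, h0, hτ2, hinv⟩ := exists_inverted
  rw [card_centralizer_of_orderOf (z := σ0) (by rw [Golay.natCard_M24]; norm_num)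
    (by rw [Golay.natCard_M24]; norm_num) h0 hσ]
  obtain ⟨k, hk⟩ : 11 ∣ Nat.card ↥(centralizer ({σ0} : Set ↥M24)) := by
    rw [← h0, ← orderOf_mk σ0 (mem_centralizer_singleton_iff.2 rfl)]
    exact orderOf_dvd_natCard _
  have h22 : Nat.card ↥(centralizer ({σ0} : Set ↥M24)) ≤ 22 := by
    refine (cent_le_support h0 (by norm_num)).trans ?_
    rw [card_support_eq, fixed_eleven σ0.2 (by rw [Subgroup.orderOf_coe, h0])]
  have hz : centralizer (zpowers σ0 : Set ↥M24) = centralizer ({σ0} : Set ↥M24) := by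
    rw [zpowers_eq_closure, centralizer_closure]
  have hU : Nat.card ↥(zpowers σ0) = 11 := by rw [Nat.card_zpowers, h0]
  obtain ⟨e, hN, he, hr⟩ := LargePrimes.exists_quot hU
  obtain ⟨m, hm, hm1⟩ := LargePrimes.count (p := 11)
    ⟨Golay.natCard_M24.symm ▸ (by norm_num), Golay.natCard_M24.symm ▸ (by norm_num)⟩ hU
  rw [hz] at hN hr
  rw [hN, Golay.natCard_M24] at hm
  have hτN : τ ∈ normalizer (zpowers σ0 : Set ↥M24) := by
    refine mem_normalizer_fintype fun a ha => ?_
    obtain ⟨j, rfl⟩ := mem_zpowers_iff.1 ha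
    rw [SetLike.mem_coe, ← conj_zpow, show τ⁻¹ = τ from inv_eq_of_mul_eq_one_right hτ2, hinv]
    exact zpow_mem (inv_mem (mem_zpowers σ0)) j
  have h2e : 2 ∣ e := by
    refine hr 2 Nat.prime_two τ hτN (fun hτc => ?_) (by rw [pow_two, hτ2])
    have e' : τ * σ0 * τ = σ0 := by rw [mem_centralizer_singleton_iff.1 hτc, mul_assoc, hτ2, mul_one]
    rw [hinv] at e'
    have h2' : orderOf σ0 ∣ 2 := orderOf_dvd_of_pow_eq_one (by
      rw [pow_two]; nth_rewrite 1 [← e']; exact inv_mul_cancel σ0)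
    rw [h0] at h2'
    norm_num at h2'
  rw [hk] at h22 hm ⊢
  have he10 : e ≤ 10 := Nat.le_of_dvd (by norm_num) he
  have hk2 : k ≤ 2 := by omega
  interval_cases k
  · omega
  · rfl
  · interval_cases e <;> omega

end Cfsg.Agent.J4Type.ElevenM24
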