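import Cfsg.Agent.Lib.J4Type.LargePrimes.Main
import Cfsg.Agent.Lib.J4Type.ElevenM24
import Cfsg.Agent.Lib.J4Type.Elem11
import Cfsg.Agent.Lib.J4Type.OctTwo

/-!
Elements of order 11 in Janko-four type, given the order: the two involution centralisers (helper8).

* `card_cent_z_x` : `|C(z) ∩ C(x)| = 264`, and `card_cent_t_y` : `|C(t) ∩ C(y)| = 22`
* `conj_pow_z`, `conj_pow_t` : all powers are conjugate in either centraliser
* `cent_dvd` : centralisers of elements of order 11 are `{2, 3, 11}`-groups of bounded order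
* `exists_two7`, `exists_two11` : the two elementary subgroups
-/

set_option autoImplicit false
set_option linter.unusedSectionVars false
set_option linter.style.haveILetI false

namespace Cfsg.Agent.J4Type.ElevenLocal

open Cfsg Cfsg.Agent.Golay Subgroup
open Cfsg.Agent.J4Type.Pentad (PCtx NV pr pr_eq_one centralizer_zpowers)
open Cfsg.Agent.J4Type.LargePrimes (Once toM24 toM24_eq_one orderOf_toM24 card_E_cent card_fix_mod bigs bigs_prime
  not_nine card_two_le mem_Cz_of_comm)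

/-! ### An element of order 11 with a Sylow subgroup of that order -/

section
variable {K : Type*} [Group K] [Finite K]

/-- Two such elements: one is conjugate to a power of the other. -/
theorem exists_conj_pow (honce : Once K 11) {a b : K} (ha : orderOf a = 11) (hb : orderOf b = 11) :
    ∃ g : K, ∃ k : ℕ, ¬ 11 ∣ k ∧ g * a * g⁻¹ = b ^ k := by
  classical
  haveI : Fact (Nat.Prime 11) := ⟨by norm_num⟩
  obtain ⟨g, hg⟩ := LargePrimes.conj_of_card honce (U := zpowers a) (U' := zpowers b)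
    (by rw [Nat.card_zpowers, ha]) (by rw [Nat.card_zpowers, hb])
  have hm : g * a * g⁻¹ ∈ zpowers b := hg ▸ ⟨a, mem_zpowers a, rfl⟩
  rw [mem_zpowers_iff_mem_range_orderOf] at hm
  simp only [Finset.mem_image, Finset.mem_range] at hm
  obtain ⟨k, hk, hk'⟩ := hm
  refine ⟨g, k, fun h11 => ?_, hk'.symm⟩
  obtain ⟨j, rfl⟩ := h11
  rw [pow_mul, ← hb, pow_orderOf_eq_one, one_pow] at hk'
  rw [conj_eq_one_iff.1 hk'.symm, orderOf_one] at ha
  norm_num at ha

/-- All powers are conjugate, by the count of the Sylow subgroups. -/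
theorem conj_all_pow (honce : Once K 11) {a : K} (ha : orderOf a = 11)
    (hcount : ∀ e m : ℕ, e ∣ 10 → Nat.card K = m * (Nat.card ↥(centralizer ({a} : Set K)) * e) → m % 11 = 1 → e = 10)
    {k : ℕ} (hk : ¬ 11 ∣ k) : ∃ g : K, g * a * g⁻¹ = a ^ k := by
  classical
  haveI : Fact (Nat.Prime 11) := ⟨by norm_num⟩
  have hU : Nat.card ↥(zpowers a) = 11 := by rw [Nat.card_zpowers, ha]
  obtain ⟨e, hN, he, -⟩ := LargePrimes.exists_quot hU
  obtain ⟨m, hm, hm1⟩ := LargePrimes.count honce hU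
  rw [centralizer_zpowers] at hN
  rw [hN] at hm
  obtain rfl := hcount e m he hm hm1
  set N := normalizer (zpowers a : Set K)
  set O : Set K := {v | ∃ n ∈ N, n * a * n⁻¹ = v}
  have hle : centralizer ({a} : Set K) ≤ N := by
    rw [← centralizer_zpowers]
    exact centralizer_le_normalizer _
  have hO : O.ncard = 10 := by
    rw [TwoTen.ncard_conj_orbit]
    have h := ((centralizer ({a} : Set K)).subgroupOf N).index_mul_card
    rw [Nat.card_congr (subgroupOfEquivOfLe hle).toEquiv, hN, mul_comm] at h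
    exact Nat.eq_of_mul_eq_mul_left Nat.card_pos h
  have hsub : O ⊆ ((zpowers a : Subgroup K) : Set K) \ {1} := by
    rintro v ⟨n, hn, rfl⟩
    refine ⟨(mem_normalizer_iff.1 hn a).1 (mem_zpowers a), fun h => ?_⟩
    rw [Set.mem_singleton_iff, conj_eq_one_iff] at h
    rw [h, orderOf_one] at ha
    norm_num at ha
  have hcard : (((zpowers a : Subgroup K) : Set K) \ {1}).ncard = 10 := by
    rw [Set.ncard_sdiff_singleton_of_mem (one_mem (zpowers a)), ← Nat.card_coe_set_eq]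
    show Nat.card ↥(zpowers a) - 1 = 10
    rw [hU]
  have heq := Set.eq_of_subset_of_ncard_le hsub (by rw [hO, hcard]) (Set.toFinite _)
  have hmem : a ^ k ∈ O := by
    rw [heq]
    refine ⟨pow_mem (mem_zpowers a) k, fun h => hk ?_⟩
    rw [Set.mem_singleton_iff] at h
    exact ha ▸ orderOf_dvd_of_pow_eq_one h
  obtain ⟨n, -, hn⟩ := hmem
  exact ⟨n, hn⟩

end

variable {G : Type*} [Group G] [Finite G] {z : G} {P : Subgroup G} (C : PCtx z P)

/-- The centraliser inside a subgroup. -/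
theorem card_cent_subgroup (H : Subgroup G) (a : ↥H) :
    Nat.card ↥(centralizer ({a} : Set ↥H)) = Nat.card ↥(H ⊓ centralizer ({(a : G)} : Set G)) :=
  Nat.card_congr
    { toFun := fun g => ⟨g.1.1, Subgroup.mem_inf.2 ⟨g.1.2, mem_centralizer_singleton_iff.2
        (congrArg Subtype.val (mem_centralizer_singleton_iff.1 g.2))⟩⟩
      invFun := fun g => ⟨⟨g.1, (Subgroup.mem_inf.1 g.2).1⟩, mem_centralizer_singleton_iff.2
        (Subtype.ext (mem_centralizer_singleton_iff.1 (Subgroup.mem_inf.1 g.2).2))⟩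
      left_inv := fun _ => rfl
      right_inv := fun _ => rfl }

/-! ### Inside `C(z)` -/

theorem once_Cz (S : Setting z P) : Once ↥(Cz z) 11 := by
  rw [Once, S.card_Cz]
  norm_num

/-- An element of order 11 commuting with the generator. -/
theorem exists_x (S : Setting z P) : ∃ x : G, orderOf x = 11 ∧ Commute x z ∧ Commute x S.gen := by
  classical
  haveI : Fact (Nat.Prime 11) := ⟨by norm_num⟩
  obtain ⟨a, ha⟩ := exists_prime_orderOf_dvd_card' (G := ↥(Cz z)) 11 (once_Cz S).1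
  obtain ⟨e, he, k, hkz, hkP, hak⟩ := S.frattini a a.2
  have hσ := orderOf_toM24 S a.2 (by rw [orderOf_coe]; exact ha)
  have hek : toM24 S ⟨e, Ez_le_Cz z he⟩ = 1 := (toM24_eq_one S).2 (S.κ_E he)
  have hmap : toM24 S (⟨(a : G), a.2⟩ : ↥(Cz z)) = toM24 S ⟨k, hkz⟩ := by
    rw [show (⟨(a : G), a.2⟩ : ↥(Cz z)) = ⟨e, Ez_le_Cz z he⟩ * ⟨k, hkz⟩ from Subtype.ext hak, map_mul, hek, one_mul]
  rw [hmap] at hσ
  have hd : 11 ∣ orderOf k := by
    rw [← hσ, ← Subgroup.orderOf_mk k hkz]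
    exact orderOf_map_dvd _ _
  set x := k ^ (orderOf k / 11) with hxdef
  have hx : orderOf x = 11 := by
    rw [hxdef, orderOf_pow_of_dvd (Nat.div_ne_zero_iff.2 ⟨by norm_num, Nat.le_of_dvd (orderOf_pos k) hd⟩)
      (Nat.div_dvd_of_dvd hd), Nat.div_div_self hd (orderOf_pos k).ne']
  have hxN : x ∈ normalizer (zpowers S.gen : Set G) := by
    rw [S.gen_zpowers]
    exact pow_mem hkP _
  refine ⟨x, hx, mem_Cz.1 (pow_mem hkz _), ?_⟩
  rcases conj_gen_cases S.gen_ord hxN with h | h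
  · exact mul_inv_eq_iff_eq_mul.1 h
  exfalso
  have h2 : x ^ 2 * S.gen * (x ^ 2)⁻¹ = S.gen := by
    rw [pow_two, show x * x * S.gen * (x * x)⁻¹ = x * (x * S.gen * x⁻¹) * x⁻¹ by group, h, ← conj_inv, h, inv_inv]
  have hc : Commute (x ^ 2) S.gen := mul_inv_eq_iff_eq_mul.1 h2
  have h12 : Commute x S.gen := by
    have := hc.pow_left 6
    rwa [← pow_mul, show 2 * 6 = 11 + 1 from rfl, pow_succ, ← hx, pow_orderOf_eq_one, one_mul] at this
  rw [h12.eq, mul_inv_cancel_right] at h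
  have : orderOf S.gen ∣ 2 := orderOf_dvd_of_pow_eq_one (by
    rw [pow_two]; nth_rewrite 2 [h]; exact mul_inv_cancel _)
  rw [S.gen_ord] at this
  norm_num at this

/-- The centraliser in `C(z)`. -/
theorem card_cent_z_x (S : Setting z P) {x : G} (hx : orderOf x = 11) (hxz : Commute x z)
    (hxg : Commute x S.gen) : Nat.card ↥(Cz z ⊓ centralizer ({x} : Set G)) = 264 := by
  classical
  haveI : Fact (Nat.Prime 11) := ⟨by norm_num⟩
  set X := Cz z ⊓ centralizer ({x} : Set G) with hX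
  let f : ↥X →* ↥M24 := (toM24 S).comp (inclusion inf_le_left)
  have hxCz : x ∈ Cz z := mem_Cz.2 hxz
  have hσ := orderOf_toM24 S hxCz hx
  have hrange : Nat.card f.range = 11 := by
    refine le_antisymm ?_ ?_
    · rw [← ElevenM24.natCard_cent_eleven hσ]
      refine card_le_of_le ?_
      rintro _ ⟨g, rfl⟩
      refine mem_centralizer_singleton_iff.2 ?_
      show toM24 S (inclusion inf_le_left g) * toM24 S ⟨x, hxCz⟩ = toM24 S ⟨x, hxCz⟩ * toM24 S (inclusion inf_le_left g)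
      rw [← map_mul, ← map_mul]
      exact congrArg (toM24 S) (Subtype.ext (mem_centralizer_singleton_iff.1 (Subgroup.mem_inf.1 g.2).2))
    · rw [← hσ, ← Nat.card_zpowers]
      exact card_le_of_le (zpowers_le.2 ⟨⟨x, Subgroup.mem_inf.2 ⟨hxCz, mem_centralizer_singleton_iff.2 rfl⟩⟩, rfl⟩)
  have hfker : ∀ g : ↥X, g ∈ f.ker ↔ ∃ e ∈ Ez z, ∃ n : ℕ, (g : G) = e * S.gen ^ n := fun g =>
    (MonoidHom.mem_ker.trans (toM24_eq_one S)).trans (S.κ_ker _)
  have hgenX : S.gen ∈ X := Subgroup.mem_inf.2 ⟨S.gen_mem, mem_centralizer_singleton_iff.2 hxg.symm.eq⟩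
  have hker : Nat.card f.ker = 24 := by
    have hle : Nat.card f.ker ≤ 24 := by
      have hex : ∀ g : f.ker, ∃ e ∈ Ez z ⊓ centralizer ({x} : Set G), ∃ n < 3, ((g : ↥X) : G) = e * S.gen ^ n := by
        intro g
        obtain ⟨e, he, n, hn⟩ := (hfker g).1 g.2
        have hec : e ∈ centralizer ({x} : Set G) := by
          rw [eq_mul_inv_of_mul_eq hn.symm]
          exact mul_mem (Subgroup.mem_inf.1 (g : ↥X).2).2
            (inv_mem (pow_mem (Subgroup.mem_inf.1 hgenX).2 n))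
        refine ⟨e, Subgroup.mem_inf.2 ⟨he, hec⟩, n % 3, Nat.mod_lt _ (by norm_num), ?_⟩
        rw [hn, pow_eq_pow_mod n S.gen_cube]
      choose e he n hn hg using hex
      refine (Nat.card_le_card_of_injective
        (fun g => ((⟨e g, he g⟩ : ↥(Ez z ⊓ centralizer ({x} : Set G))), (⟨n g, hn g⟩ : Fin 3))) fun a b h => ?_).trans ?_
      · simp only [Prod.mk.injEq, Subtype.mk.injEq, Fin.mk.injEq] at h
        exact Subtype.ext (Subtype.ext (by rw [hg a, hg b, h.1, h.2]))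
      · rw [Nat.card_prod, card_E_cent S hxCz hx, Nat.card_eq_fintype_card, Fintype.card_fin]
    have h3 : 3 ∣ Nat.card f.ker := by
      have hm : (⟨S.gen, hgenX⟩ : ↥X) ∈ f.ker := (hfker _).2 ⟨1, one_mem _, 1, by simp⟩
      rw [← S.gen_ord, ← Subgroup.orderOf_mk S.gen hgenX, ← Subgroup.orderOf_mk _ hm]
      exact orderOf_dvd_natCard _
    have h8 : 8 ∣ Nat.card f.ker := by
      rw [← card_E_cent S hxCz hx]
      let φ : ↥(Ez z ⊓ centralizer ({x} : Set G)) →* f.ker :=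
        { toFun := fun e => ⟨⟨e.1, Subgroup.mem_inf.2 ⟨Ez_le_Cz z (Subgroup.mem_inf.1 e.2).1, (Subgroup.mem_inf.1 e.2).2⟩⟩,
            (hfker _).2 ⟨e.1, (Subgroup.mem_inf.1 e.2).1, 0, by simp⟩⟩
          map_one' := rfl
          map_mul' := fun _ _ => rfl }
      exact card_dvd_of_injective φ fun a b h => Subtype.ext
        (congrArg (fun g : f.ker => ((g : ↥X) : G)) h)
    have h24 : 24 ∣ Nat.card f.ker := (Nat.Coprime.mul_dvd_of_dvd_of_dvd (by norm_num : Nat.Coprime 8 3) h8 h3)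
    exact le_antisymm hle (Nat.le_of_dvd Nat.card_pos h24)
  rw [← f.ker.card_mul_index, index_ker, hker, hrange]

theorem conj_pow_z (S : Setting z P) {x : G} (hx : orderOf x = 11) (hxz : Commute x z) (hxg : Commute x S.gen)
    {k : ℕ} (hk : ¬ 11 ∣ k) : ∃ g ∈ Cz z, g * x * g⁻¹ = x ^ k := by
  set a : ↥(Cz z) := ⟨x, mem_Cz.2 hxz⟩
  obtain ⟨g, hg⟩ := conj_all_pow (once_Cz S) (a := a) (by rw [Subgroup.orderOf_mk, hx]) (fun e m he hm hm1 => by
    rw [card_cent_subgroup, card_cent_z_x S hx hxz hxg, S.card_Cz] at hm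
    have he' : e ≤ 10 := Nat.le_of_dvd (by norm_num) he
    interval_cases e <;> omega) hk
  exact ⟨g, g.2, congrArg Subtype.val hg⟩

include C in
/-- Any element of order 11 centralising a conjugate of `z` is conjugate to `x`. -/
theorem x_of_z {x : G} (hx : orderOf x = 11) (hxz : Commute x z) (hxg : Commute x C.S.gen) {a i : G}
    (ha : orderOf a = 11) (hi : IsConj z i) (hai : Commute a i) : IsConj x a := by
  obtain ⟨g, hg⟩ := isConj_iff.1 hi
  have hb : g⁻¹ * a * g ∈ Cz z := by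
    refine mem_Cz.2 ?_
    calc g⁻¹ * a * g * z = g⁻¹ * (a * (g * z * g⁻¹)) * g := by group
      _ = _ := by rw [hg, hai.eq, ← hg]; group
  have hbo : orderOf (⟨_, hb⟩ : ↥(Cz z)) = 11 := by
    rw [Subgroup.orderOf_mk, ← ha]
    conv_rhs => rw [← orderOf_injective (MulAut.conj g⁻¹).toMonoidHom (MulAut.conj g⁻¹).injective a]
    simp
  obtain ⟨h, k, hk, hh⟩ := exists_conj_pow (once_Cz C.S) hbo
    (b := ⟨x, mem_Cz.2 hxz⟩) (by rw [Subgroup.orderOf_mk, hx])
  obtain ⟨n, -, hn⟩ := conj_pow_z C.S hx hxz hxg hk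
  have h1 : IsConj x (x ^ k) := isConj_iff.2 ⟨n, hn⟩
  have h2 : IsConj (g⁻¹ * a * g) (x ^ k) := isConj_iff.2 ⟨h, congrArg Subtype.val hh⟩
  exact (h1.trans h2.symm).trans (isConj_iff.2 ⟨g, by group⟩)

/-! ### Inside `C(t)` -/

include C in
theorem once_Ct : Once ↥(centralizer ({C.D.t} : Set G)) 11 := by
  rw [Once, LargePrimes.card_cent_t C]
  norm_num

include C in
theorem exists_y : ∃ y : G, orderOf y = 11 ∧ Commute y C.D.t := by
  haveI : Fact (Nat.Prime 11) := ⟨by norm_num⟩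
  obtain ⟨a, ha⟩ := exists_prime_orderOf_dvd_card' (G := ↥(centralizer ({C.D.t} : Set G))) 11 (once_Ct C).1
  exact ⟨a, (orderOf_coe a).trans ha, mem_centralizer_singleton_iff.1 a.2⟩

include C in
/-- The centraliser in `C(t)`. -/
theorem card_cent_t_y {y : G} (hy : orderOf y = 11) (hyt : Commute y C.D.t) :
    Nat.card ↥(centralizer ({C.D.t} : Set G) ⊓ centralizer ({y} : Set G)) = 22 := by
  classical
  haveI : Fact (Nat.Prime 11) := ⟨by norm_num⟩
  have hyC : y ∈ centralizer ({C.D.t} : Set G) := mem_centralizer_singleton_iff.2 hyt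
  have hyN : y ∈ NV C.D := C.cent_t hyC
  have hyV : y ∉ C.D.V := fun h => by
    have hd : orderOf y ∣ 2 ^ 11 := by
      rw [← C.D.card, ← Subgroup.orderOf_mk y h]
      exact orderOf_dvd_natCard _
    rw [hy] at hd
    norm_num at hd
  have hσ : orderOf (pr C.D ⟨y, hyN⟩) = 11 := by
    refine orderOf_eq_prime ?_ fun h => hyV ((pr_eq_one C.D).1 h)
    rw [← map_pow, show (⟨y, hyN⟩ : ↥(NV C.D)) ^ 11 = 1 from Subtype.ext (hy ▸ pow_orderOf_eq_one y), map_one]
  set Y := centralizer ({C.D.t} : Set G) ⊓ centralizer ({y} : Set G) with hY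
  let f : ↥Y →* ↥M24 := (pr C.D).comp (inclusion (inf_le_left.trans C.cent_t))
  have hrange : Nat.card f.range = 11 := by
    refine le_antisymm ?_ ?_
    · rw [← ElevenM24.natCard_cent_eleven hσ]
      refine card_le_of_le ?_
      rintro _ ⟨g, rfl⟩
      refine mem_centralizer_singleton_iff.2 ?_
      show pr C.D (inclusion _ g) * pr C.D ⟨y, hyN⟩ = pr C.D ⟨y, hyN⟩ * pr C.D (inclusion _ g)
      rw [← map_mul, ← map_mul]
      exact congrArg (pr C.D) (Subtype.ext (mem_centralizer_singleton_iff.1 (Subgroup.mem_inf.1 g.2).2))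
    · rw [← hσ, ← Nat.card_zpowers]
      exact card_le_of_le (zpowers_le.2 ⟨⟨y, Subgroup.mem_inf.2 ⟨hyC, mem_centralizer_singleton_iff.2 rfl⟩⟩, rfl⟩)
  have hker : Nat.card f.ker = Nat.card ↥(C.D.V ⊓ centralizer ({y} : Set G)) := by
    refine Nat.card_congr
      { toFun := fun g => ⟨((g : ↥Y) : G), Subgroup.mem_inf.2 ⟨(pr_eq_one C.D).1 (MonoidHom.mem_ker.1 g.2),
          (Subgroup.mem_inf.1 (g : ↥Y).2).2⟩⟩
        invFun := fun v => ⟨⟨v.1, Subgroup.mem_inf.2 ⟨mem_centralizer_singleton_iff.2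
          (C.D.comm (Subgroup.mem_inf.1 v.2).1 C.D.t_mem), (Subgroup.mem_inf.1 v.2).2⟩⟩,
          MonoidHom.mem_ker.2 ((pr_eq_one C.D).2 (Subgroup.mem_inf.1 v.2).1)⟩
        left_inv := fun _ => rfl
        right_inv := fun _ => rfl }
  have hfix : Nat.card ↥(C.D.V ⊓ centralizer ({y} : Set G)) = 2 := by
    have hmod := card_fix_mod C.D.V hy hyN
    obtain ⟨k, hk, hkc⟩ := (Nat.dvd_prime_pow Nat.prime_two).1 (C.D.card ▸ card_dvd_of_le
      (inf_le_left : C.D.V ⊓ centralizer ({y} : Set G) ≤ C.D.V))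
    rw [hkc, C.D.card] at hmod
    rcases (show k = 1 ∨ k = 11 by interval_cases k <;> first | (left; rfl) | (right; rfl) | (norm_num at hmod)) with
      rfl | rfl
    · rw [hkc, pow_one]
    exfalso
    have heq := eq_of_le_of_card_ge (inf_le_left : C.D.V ⊓ centralizer ({y} : Set G) ≤ C.D.V)
      (by rw [hkc, C.D.card])
    refine hyV (C.D.cent (mem_centralizer_iff.2 fun v hv => ?_))
    rw [← heq] at hv
    exact mem_centralizer_singleton_iff.1 (Subgroup.mem_inf.1 hv).2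
  rw [← f.ker.card_mul_index, index_ker, hker, hfix, hrange]

include C in
theorem conj_pow_t {y : G} (hy : orderOf y = 11) (hyt : Commute y C.D.t) {k : ℕ} (hk : ¬ 11 ∣ k) :
    ∃ g : G, Commute g C.D.t ∧ g * y * g⁻¹ = y ^ k := by
  set a : ↥(centralizer ({C.D.t} : Set G)) := ⟨y, mem_centralizer_singleton_iff.2 hyt⟩
  obtain ⟨g, hg⟩ := conj_all_pow (once_Ct C) (a := a) (by rw [Subgroup.orderOf_mk, hy]) (fun e m he hm hm1 => by
    rw [card_cent_subgroup, card_cent_t_y C hy hyt, LargePrimes.card_cent_t C] at hm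
    have he' : e ≤ 10 := Nat.le_of_dvd (by norm_num) he
    interval_cases e <;> omega) hk
  exact ⟨g, mem_centralizer_singleton_iff.1 g.2, congrArg Subtype.val hg⟩

include C in
/-- Any element of order 11 centralising a conjugate of `t` is conjugate to `y`. -/
theorem y_of_t {y : G} (hy : orderOf y = 11) (hyt : Commute y C.D.t) {a i : G}
    (ha : orderOf a = 11) (hi : IsConj C.D.t i) (hai : Commute a i) : IsConj y a := by
  obtain ⟨g, hg⟩ := isConj_iff.1 hi
  have hb : g⁻¹ * a * g ∈ centralizer ({C.D.t} : Set G) := by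
    refine mem_centralizer_singleton_iff.2 ?_
    calc g⁻¹ * a * g * C.D.t = g⁻¹ * (a * (g * C.D.t * g⁻¹)) * g := by group
      _ = _ := by rw [hg, hai.eq, ← hg]; group
  have hbo : orderOf (⟨_, hb⟩ : ↥(centralizer ({C.D.t} : Set G))) = 11 := by
    rw [Subgroup.orderOf_mk, ← ha]
    conv_rhs => rw [← orderOf_injective (MulAut.conj g⁻¹).toMonoidHom (MulAut.conj g⁻¹).injective a]
    simp
  obtain ⟨h, k, hk, hh⟩ := exists_conj_pow (once_Ct C) hbo
    (b := ⟨y, mem_centralizer_singleton_iff.2 hyt⟩) (by rw [Subgroup.orderOf_mk, hy])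
  obtain ⟨n, -, hn⟩ := conj_pow_t C hy hyt hk
  have h1 : IsConj y (y ^ k) := isConj_iff.2 ⟨n, hn⟩
  have h2 : IsConj (g⁻¹ * a * g) (y ^ k) := isConj_iff.2 ⟨h, congrArg Subtype.val hh⟩
  exact (h1.trans h2.symm).trans (isConj_iff.2 ⟨g, by group⟩)

/-! ### Centralisers of elements of order 11 -/

include C in
theorem cent_dvd (hcls : ∀ i : G, orderOf i = 2 → IsConj z i ∨ IsConj C.D.t i)
    (hcard : Nat.card G = 86775571046077562880)
    (hbig : ∀ p ∈ bigs, ∀ w : G, orderOf w = p → ¬ 11 ∣ Nat.card ↥(centralizer ({w} : Set G)))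
    {a : G} (ha : orderOf a = 11) : Nat.card ↥(centralizer ({a} : Set G)) ∣ 2 ^ 4 * 3 * 11 ^ 3 := by
  classical
  haveI : Fact (Nat.Prime 2) := ⟨Nat.prime_two⟩
  haveI : Fact (Nat.Prime 3) := ⟨Nat.prime_three⟩
  haveI : Fact (Nat.Prime 5) := ⟨by norm_num⟩
  set n := Nat.card ↥(centralizer ({a} : Set G)) with hn
  have h11 : ∀ w : G, Commute a w → 11 ∣ Nat.card ↥(centralizer ({w} : Set G)) := fun w hw => by
    rw [← ha, ← Subgroup.orderOf_mk a (mem_centralizer_singleton_iff.2 hw.eq)]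
    exact orderOf_dvd_natCard _
  have hN11 : ∀ w : G, Commute a w → 11 ∣ Nat.card ↥(normalizer (zpowers w : Set G)) := fun w hw => by
    refine (h11 w hw).trans (card_dvd_of_le ?_)
    rw [← centralizer_zpowers]
    exact centralizer_le_normalizer _
  have h5 : ¬ 5 ∣ n := by
    intro h
    obtain ⟨w, hw⟩ := exists_prime_orderOf_dvd_card' (G := ↥(centralizer ({a} : Set G))) 5 h
    rw [← orderOf_coe] at hw
    have hd := hN11 w (Commute.symm (mem_centralizer_singleton_iff.1 w.2))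
    obtain ⟨q, hq, ho⟩ := Pentad.exists_q5 C
    have honce : Once G 5 := ⟨ho ▸ orderOf_dvd_natCard q, Pentad.not_25_dvd C⟩
    obtain ⟨g, hg⟩ := LargePrimes.conj_of_card honce (U := zpowers q) (U' := zpowers (w : G))
      (by rw [Nat.card_zpowers, ho]) (by rw [Nat.card_zpowers, hw])
    rw [LargePrimes.card_conj_normalizer hg, Pentad.card_norm_five C hq ho] at hd
    norm_num at hd
  have h7 : ¬ 7 ∣ n := by
    intro h
    haveI : Fact (Nat.Prime 7) := ⟨by norm_num⟩
    obtain ⟨w, hw⟩ := exists_prime_orderOf_dvd_card' (G := ↥(centralizer ({a} : Set G))) 7 h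
    rw [← orderOf_coe] at hw
    have hd := hN11 w (Commute.symm (mem_centralizer_singleton_iff.1 w.2))
    obtain ⟨-, -, -, h7'⟩ := Pentad.order_seven_local C (S := zpowers (w : G)) (by rw [Nat.card_zpowers, hw])
    rw [h7'] at hd
    norm_num at hd
  have hb : ∀ p ∈ bigs, Nat.Coprime p n := by
    intro p hp
    haveI := Fact.mk (bigs_prime hp)
    rw [(bigs_prime hp).coprime_iff_not_dvd]
    intro h
    obtain ⟨w, hw⟩ := exists_prime_orderOf_dvd_card' (G := ↥(centralizer ({a} : Set G))) p h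
    rw [← orderOf_coe] at hw
    exact hbig p hp w hw (h11 w (Commute.symm (mem_centralizer_singleton_iff.1 w.2)))
  have hdvd : n ∣ 2 ^ 21 * 3 ^ 3 * 11 ^ 3 := by
    have hco : Nat.Coprime n (5 * 7 * 23 * 29 * 31 * 37 * 43) := by
      refine Nat.Coprime.symm ?_
      have c5 : Nat.Coprime 5 n := (Nat.Prime.coprime_iff_not_dvd (by norm_num)).2 h5
      have c7 : Nat.Coprime 7 n := (Nat.Prime.coprime_iff_not_dvd (by norm_num)).2 h7
      exact Nat.Coprime.mul_left (Nat.Coprime.mul_left (Nat.Coprime.mul_left (Nat.Coprime.mul_left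
        (Nat.Coprime.mul_left (Nat.Coprime.mul_left c5 c7) (hb 23 (by decide))) (hb 29 (by decide)))
        (hb 31 (by decide))) (hb 37 (by decide))) (hb 43 (by decide))
    refine hco.dvd_of_dvd_mul_right ?_
    have h := card_subgroup_dvd_card (centralizer ({a} : Set G))
    rw [hcard] at h
    exact h
  obtain ⟨u, v, hu, hv, huv⟩ := Nat.dvd_mul.1 hdvd
  obtain ⟨p, q, hp, hq, hpq⟩ := Nat.dvd_mul.1 hu
  obtain ⟨i, hi, rfl⟩ := (Nat.dvd_prime_pow Nat.prime_two).1 hp
  obtain ⟨j, hj, rfl⟩ := (Nat.dvd_prime_pow Nat.prime_three).1 hq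
  have hi4 : i ≤ 4 := by
    by_contra hlt
    obtain ⟨T, hT⟩ := Sylow.exists_subgroup_card_pow_prime (G := ↥(centralizer ({a} : Set G))) 2 (n := 5) (by
      rw [← hn, ← huv, ← hpq]
      exact Dvd.dvd.mul_right (Dvd.dvd.mul_right (pow_dvd_pow 2 (by omega)) _) _)
    have h := card_two_le C hcls (T := T.map (centralizer ({a} : Set G)).subtype)
      ((IsPGroup.of_card hT).map _) ha (by
        rintro _ ⟨g, -, rfl⟩
        exact mem_centralizer_singleton_iff.1 g.2)
    rw [card_map_of_injective (subtype_injective _), hT] at h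
    norm_num at h
  have hj1 : j ≤ 1 := by
    by_contra hlt
    obtain ⟨T, hT⟩ := Sylow.exists_subgroup_card_pow_prime (G := ↥(centralizer ({a} : Set G))) 3 (n := 2) (by
      rw [← hn, ← huv, ← hpq]
      exact Dvd.dvd.mul_right (Dvd.dvd.mul_left (pow_dvd_pow 3 (by omega)) _) _)
    exact not_nine C (R := T.map (centralizer ({a} : Set G)).subtype)
      (by rw [card_map_of_injective (subtype_injective _), hT]; norm_num) ha (by
        rintro _ ⟨g, -, rfl⟩
        exact mem_centralizer_singleton_iff.1 g.2)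
  rw [← huv, ← hpq]
  exact Nat.mul_dvd_mul (Nat.mul_dvd_mul (pow_dvd_pow 2 hi4) ((pow_dvd_pow 3 hj1).trans (pow_one 3).dvd)) hv

/-! ### The two elementary subgroups -/

theorem exists_two7 (S : Setting z P) : ∃ B : Subgroup G, (∀ a ∈ B, ∀ b ∈ B, a * b = b * a) ∧ Nat.card ↥B = 128 ∧
    z ∈ B ∧ ∀ a ∈ B, a ≠ 1 → a ≠ z → IsConj a (a * z) := by
  classical
  obtain ⟨o, ho⟩ := HexOct.exists_hexOct
  let B : Subgroup G :=
    { carrier := {g | ∃ h : g ∈ Ez z, S.pr ⟨g, h⟩ ∈ S.Cfix o}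
      one_mem' := ⟨one_mem _, by
        rw [show (⟨1, one_mem _⟩ : ↥(Ez z)) = 1 from rfl, S.pr_one]; exact zero_mem _⟩
      mul_mem' := fun {a b} ha hb => by
        obtain ⟨ha, ha'⟩ := ha
        obtain ⟨hb, hb'⟩ := hb
        refine ⟨mul_mem ha hb, ?_⟩
        rw [show (⟨a * b, mul_mem ha hb⟩ : ↥(Ez z)) = ⟨a, ha⟩ * ⟨b, hb⟩ from rfl, S.pr_mul]
        exact add_mem ha' hb'
      inv_mem' := fun {a} ha => by
        obtain ⟨ha, ha'⟩ := ha
        refine ⟨inv_mem ha, ?_⟩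
        rw [show (⟨a⁻¹, inv_mem ha⟩ : ↥(Ez z)) = (⟨a, ha⟩ : ↥(Ez z))⁻¹ from rfl, S.pr_inv]
        exact ha' }
  refine ⟨B, fun a ha b hb => ?_, ?_, ⟨S.z_mem_E, ?_⟩, fun a ha h1 hz => ?_⟩
  · obtain ⟨ha, ha'⟩ := ha
    obtain ⟨hb, hb'⟩ := hb
    exact (S.beta_pr ⟨a, ha⟩ ⟨b, hb⟩).1 (S.Cfix_isotropic ho ha' hb')
  · rw [← S.natCard_U ho]
    exact Nat.card_congr
      { toFun := fun g => ⟨⟨g.1, g.2.1⟩, g.2.2⟩
        invFun := fun e => ⟨e.1.1, e.1.2, e.2⟩
        left_inv := fun _ => rfl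
        right_inv := fun _ => rfl }
  · rw [(S.pr_eq_zero ⟨z, S.z_mem_E⟩).2 (Or.inr rfl)]
    exact zero_mem _
  · obtain ⟨ha, -⟩ := ha
    have hne : S.pr ⟨a, ha⟩ ≠ 0 := fun h => ((S.pr_eq_zero _).1 h).elim h1 hz
    obtain ⟨w, hw⟩ : ∃ w, S.beta (S.pr ⟨a, ha⟩) w ≠ 0 := by
      by_contra! h
      exact hne (S.beta_nondeg _ h)
    obtain ⟨e, he, rfl⟩ := S.exists_pr w
    rw [S.beta_comm] at hw
    exact isConj_iff.2 ⟨e, (S.beta_pr_one ⟨e, he⟩ ⟨a, ha⟩).1
      ((LargeExtraspecial.OutForm.two_cases _).resolve_left hw)⟩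

include C in
theorem exists_two11 : ∃ V : Subgroup G, Nat.card ↥V = 2048 ∧ Nat.card {a : ↥V // IsConj z (a : G)} = 1771 ∧
    ∀ a ∈ V, a ≠ 1 → IsConj z a ∨ IsConj C.D.t a := by
  classical
  obtain ⟨σ, hσ⟩ := Pentad.zel_long C.M 0
  rw [C.zel_z] at hσ
  have hzs : IsConj z C.D.s := (isConj_iff.2 ⟨C.D.el σ, hσ⟩ : IsConj C.D.s z).symm
  refine ⟨C.D.V, C.D.card, ?_, fun a ha ha1 => ?_⟩
  · rw [← C.D.s_orbit, ← Nat.card_coe_set_eq]
    refine Nat.card_congr
      { toFun := fun a => ⟨(a.1 : G), ?_⟩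
        invFun := fun v => ⟨⟨v.1, ?_⟩, ?_⟩
        left_inv := fun _ => rfl
        right_inv := fun _ => rfl }
    · rcases C.D.eq_one_or a.1.2 with h | ⟨τ, h⟩ | ⟨τ, h⟩
      · exfalso
        have h2 := a.2
        rw [h] at h2
        exact C.S.z_ne (isConj_one_left.1 h2)
      · exfalso
        exact C.not_conj_t (a.2.trans (isConj_iff.2 ⟨C.D.el τ, h⟩ : IsConj C.D.t _).symm)
      · exact ⟨C.D.el τ, C.D.el_norm τ, h⟩
    · obtain ⟨n, hn, hv⟩ := v.2
      exact hv ▸ C.D.conj_mem hn C.D.s_mem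
    · obtain ⟨n, -, hv⟩ := v.2
      exact hzs.trans (isConj_iff.2 ⟨n, hv⟩)
  · rcases C.D.eq_one_or ha with h | ⟨τ, h⟩ | ⟨τ, h⟩
    · exact absurd h ha1
    · exact Or.inr (isConj_iff.2 ⟨_, h⟩)
    · exact Or.inl (hzs.trans (isConj_iff.2 ⟨_, h⟩))

end Cfsg.Agent.J4Type.ElevenLocal
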