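import Cfsg.Agent.Lib.J4Type.ElevenLocalH

/-!
The centraliser of an element of order 11 commuting with `z` in Janko-four type (helper8).

* `XCtx.exists_U` : its Sylow 11-subgroup is normal, of order `11 ^ 3`, and the centraliser has order 31944
* `XCtx.fix`, `XCtx.invol` : the action on the quotient by the element
* `XCtx.normalizer_U` : the normalisers of the Sylow subgroup and of the cyclic subgroup agree
* `XCtx.trans` : the nontrivial cosets form one orbit
-/

set_option autoImplicit false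
set_option linter.unusedSectionVars false
set_option linter.style.haveILetI false

namespace Cfsg.Agent.J4Type.ElevenLocal

open Cfsg Cfsg.Agent.Golay Subgroup
open Cfsg.Agent.J4Type.Pentad (PCtx centralizer_zpowers)
open Cfsg.Agent.J4Type.LargePrimes (toM24 toM24_eq_one orderOf_toM24)

variable {G : Type*} [Group G] [Finite G]

/-- Fixed points of an element of prime order on a finite invariant set. -/
theorem fix_mod {p : ℕ} [Fact p.Prime] (S : Set G) {h : G} (ho : orderOf h = p)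
    (hS : ∀ s ∈ S, h * s * h⁻¹ ∈ S) :
    Nat.card ↥S % p = Nat.card {s : ↥S // Commute (s : G) h} % p := by
  classical
  let φ : Equiv.Perm ↥S := Equiv.ofBijective (fun s => ⟨h * s.1 * h⁻¹, hS _ s.2⟩)
    (Finite.injective_iff_bijective.1 fun a b e => Subtype.ext (by
      have := congrArg Subtype.val e
      simpa using this))
  have hpow : ∀ (n : ℕ) (s : ↥S), (((φ ^ n) s : ↥S) : G) = h ^ n * s.1 * (h ^ n)⁻¹ := by
    intro n s
    induction n with
    | zero => simp
    | succ n ih =>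
      rw [pow_succ', Equiv.Perm.mul_apply]
      show h * ((φ ^ n) s).1 * h⁻¹ = _
      rw [ih, pow_succ']
      group
  have hφp : φ ^ p = 1 := Equiv.ext fun s => Subtype.ext (by
    rw [hpow, ← ho, pow_orderOf_eq_one]; simp)
  have hp : IsPGroup p ↥(zpowers φ) := by
    obtain ⟨j, -, hj⟩ := (Nat.dvd_prime_pow (Fact.out : p.Prime)).1
      ((orderOf_dvd_of_pow_eq_one hφp).trans (pow_one p).symm.dvd)
    exact IsPGroup.of_card (n := j) (by rw [Nat.card_zpowers, hj])
  have key := hp.card_modEq_card_fixedPoints ↥S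
  unfold Nat.ModEq at key
  rw [key]
  refine congrArg (· % p) (Nat.card_congr (Equiv.subtypeEquivRight fun s => ?_))
  constructor
  · intro hs
    have := congrArg Subtype.val (hs ⟨φ, mem_zpowers φ⟩)
    exact (mul_inv_eq_iff_eq_mul.1 (show h * s.1 * h⁻¹ = s.1 from this)).symm
  · intro hs g
    obtain ⟨g, hg⟩ := g
    obtain ⟨n, rfl⟩ := mem_zpowers_iff.1 hg
    have h1 : φ s = s := Subtype.ext (show h * s.1 * h⁻¹ = s.1 by rw [← hs.eq, mul_inv_cancel_right])
    show (φ ^ n) s = s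
    exact Equiv.Perm.zpow_apply_eq_self_of_apply_eq_self h1 n

variable {z : G} {P : Subgroup G}

/-- The inputs. -/
structure XCtx (C : PCtx z P) (x : G) : Prop where
  order_x : orderOf x = 11
  comm_z : Commute x z
  comm_gen : Commute x C.S.gen
  classes : ∀ i : G, orderOf i = 2 → IsConj z i ∨ IsConj C.D.t i
  card : Nat.card G = 86775571046077562880
  dvd : ∀ a : G, orderOf a = 11 → Nat.card ↥(centralizer ({a} : Set G)) ∣ 2 ^ 4 * 3 * 11 ^ 3

namespace XCtx

variable {C : PCtx z P} {x : G} (H : XCtx C x)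

include H

theorem x_mem : x ∈ centralizer ({x} : Set G) := mem_centralizer_singleton_iff.2 rfl

theorem gen_mem : C.S.gen ∈ centralizer ({x} : Set G) := mem_centralizer_singleton_iff.2 H.comm_gen.symm.eq

theorem z_mem : z ∈ centralizer ({x} : Set G) := mem_centralizer_singleton_iff.2 H.comm_z.symm.eq

theorem card_Czx : Nat.card ↥(Cz z ⊓ centralizer ({x} : Set G)) = 264 :=
  card_cent_z_x C.S H.order_x H.comm_z H.comm_gen

theorem card_cent_invol {i : G} (hi : orderOf i = 2) : ¬ 121 ∣ Nat.card ↥(centralizer ({i} : Set G)) := by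
  rcases H.classes i hi with h | h
  · rw [LargePrimes.card_cent_conj h, show Nat.card ↥(centralizer ({z} : Set G)) = _ from C.S.card_Cz]
    norm_num
  · rw [LargePrimes.card_cent_conj h, LargePrimes.card_cent_t C]
    norm_num

theorem card_cent_three {g : G} (hg : orderOf g = 3) : ¬ 121 ∣ Nat.card ↥(centralizer ({g} : Set G)) := by
  rw [LargePrimes.card_cent_conj (C.three C.S.gen g C.S.gen_ord hg)]
  intro h
  have := h.trans (card_dvd_of_le (show centralizer ({C.S.gen} : Set G) ≤ Cz z from fun a ha =>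
    LargePrimes.mem_Cz_of_comm C (mem_centralizer_singleton_iff.1 ha)))
  rw [C.S.card_Cz] at this
  norm_num at this

/-- No element inverts the generator. -/
theorem not_inv {g : G} (hg : g ∈ centralizer ({x} : Set G)) : g * C.S.gen * g⁻¹ ≠ C.S.gen⁻¹ := by
  classical
  haveI : Fact (Nat.Prime 11) := ⟨by norm_num⟩
  intro hinv
  have hgN : g ∈ normalizer (P : Set G) := by
    refine Subgroup.mem_normalizer_fintype fun q hq => ?_
    rw [SetLike.mem_coe, ← C.S.gen_zpowers] at hq ⊢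
    obtain ⟨n, rfl⟩ := mem_zpowers_iff.1 hq
    rw [← conj_zpow, hinv]
    exact zpow_mem (inv_mem (mem_zpowers _)) n
  have hgz : g ∈ Cz z := C.norm_P hgN
  have hxz : x ∈ Cz z := mem_Cz.2 H.comm_z
  have hσ := orderOf_toM24 C.S hxz H.order_x
  have hmem : toM24 C.S ⟨g, hgz⟩ ∈ zpowers (toM24 C.S ⟨x, hxz⟩) := by
    rw [eq_of_le_of_card_ge (zpowers_le.2 (mem_centralizer_singleton_iff.2 rfl :
      toM24 C.S ⟨x, hxz⟩ ∈ centralizer ({toM24 C.S ⟨x, hxz⟩} : Set ↥M24)))
      (by rw [ElevenM24.natCard_cent_eleven hσ, Nat.card_zpowers, hσ])]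
    refine mem_centralizer_singleton_iff.2 ?_
    rw [← map_mul, ← map_mul]
    exact congrArg (toM24 C.S) (Subtype.ext (mem_centralizer_singleton_iff.1 hg))
  obtain ⟨j, hj⟩ := mem_zpowers_iff.1 hmem
  have hk : toM24 C.S (⟨g, hgz⟩ * (⟨x, hxz⟩ ^ j)⁻¹) = 1 := by rw [map_mul, map_inv, map_zpow, hj, mul_inv_cancel]
  obtain ⟨e, he, n, hn⟩ := (C.S.κ_ker _).1 ((toM24_eq_one C.S).1 hk)
  change g * (x ^ j)⁻¹ = e * C.S.gen ^ n at hn
  have hge : g = e * C.S.gen ^ n * x ^ j := by rw [← hn, inv_mul_cancel_right]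
  set r := C.S.gen
  have hxr : Commute (x ^ j) r := H.comm_gen.zpow_left j
  have he2 : e * r * e⁻¹ = r⁻¹ := by
    rw [← hinv, hge]
    calc e * r * e⁻¹ = e * r ^ n * (r * r ^ (-(n : ℤ))) * e⁻¹ := by group
      _ = e * r ^ n * (r * (x ^ j * (x ^ j)⁻¹) * r ^ (-(n : ℤ))) * e⁻¹ := by rw [mul_inv_cancel, mul_one]
      _ = e * r ^ n * (x ^ j * r * (x ^ j)⁻¹ * r ^ (-(n : ℤ))) * e⁻¹ := by rw [← mul_assoc r, ← hxr.eq]
      _ = _ := by group
  have hE : r⁻¹ * r⁻¹ ∈ Ez z := by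
    have h1 : e * (r * e⁻¹ * r⁻¹) = r⁻¹ * r⁻¹ := by
      calc e * (r * e⁻¹ * r⁻¹) = e * r * e⁻¹ * r⁻¹ := by group
        _ = _ := by rw [he2]
    rw [← h1]
    exact mul_mem he (conj_mem_Ez C.S.gen_mem (inv_mem he))
  have hd : orderOf (r⁻¹ * r⁻¹) ∣ Nat.card ↥(Ez z) := by
    rw [← Subgroup.orderOf_mk _ hE]
    exact orderOf_dvd_natCard _
  rw [C.S.card_E] at hd
  have h3 : (r⁻¹ * r⁻¹) ^ 3 = 1 := by
    rw [← mul_inv_rev, inv_pow, (Commute.refl r).mul_pow, C.S.gen_cube, one_mul, inv_one]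
  have h1 := Nat.eq_one_of_dvd_coprimes (by norm_num : Nat.Coprime 3 (2 ^ 13))
    (orderOf_dvd_of_pow_eq_one h3) hd
  rw [orderOf_eq_one_iff, ← mul_inv_rev, inv_eq_one, ← pow_two, ← orderOf_dvd_iff_pow_eq_one, C.S.gen_ord] at h1
  norm_num at h1

/-- The Sylow 11-subgroup of the centraliser is normal, of order at least `11 ^ 2`. -/
theorem exists_normal_sylow : ∃ U : Subgroup G, ∃ k : ℕ, 2 ≤ k ∧ k ≤ 3 ∧ U ≤ centralizer ({x} : Set G) ∧
    Nat.card ↥U = 11 ^ k ∧ ¬ 11 ^ (k + 1) ∣ Nat.card ↥(centralizer ({x} : Set G)) ∧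
    (∀ g ∈ centralizer ({x} : Set G), ∀ a ∈ U, g * a * g⁻¹ ∈ U) ∧
    ∀ Q : Subgroup G, IsPGroup 11 ↥Q → Q ≤ centralizer ({x} : Set G) → Q ≤ U := by
  classical
  haveI : Fact (Nat.Prime 3) := ⟨Nat.prime_three⟩
  haveI : Fact (Nat.Prime 11) := ⟨by norm_num⟩
  set Cx := centralizer ({x} : Set G) with hCx
  have hd : Nat.card ↥Cx ∣ 2 ^ 4 * 3 * 11 ^ 3 := H.dvd x H.order_x
  set R0 : Subgroup ↥Cx := zpowers (⟨C.S.gen, H.gen_mem⟩ : ↥Cx) with hR0
  have hR0c : Nat.card ↥R0 = 3 := by rw [hR0, Nat.card_zpowers, Subgroup.orderOf_mk, C.S.gen_ord]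
  have hfac : (Nat.card ↥Cx).factorization 3 = 1 := by
    refine LargePrimes.factorization_eq Nat.prime_three ⟨hR0c ▸ card_subgroup_dvd_card R0, fun h => ?_⟩
    exact absurd (h.trans hd) (by norm_num)
  let R : Sylow 3 ↥Cx := Sylow.ofCard R0 (by rw [hfac, hR0c, pow_one])
  have hR : normalizer ((R : Subgroup ↥Cx) : Set ↥Cx) ≤ centralizer ((R : Subgroup ↥Cx) : Set ↥Cx) := by
    intro g hg
    show g ∈ centralizer (R0 : Set ↥Cx)
    rw [hR0, centralizer_zpowers, mem_centralizer_singleton_iff]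
    have hgN : (g : G) ∈ normalizer (zpowers C.S.gen : Set G) := by
      refine Subgroup.mem_normalizer_fintype fun q hq => ?_
      obtain ⟨n, rfl⟩ := mem_zpowers_iff.1 hq
      have hm : g * (⟨C.S.gen, H.gen_mem⟩ : ↥Cx) ^ n * g⁻¹ ∈ R0 :=
        (mem_normalizer_iff.1 (show g ∈ normalizer (R0 : Set ↥Cx) from hg) _).1 (zpow_mem (mem_zpowers _) n)
      obtain ⟨m, hm⟩ := mem_zpowers_iff.1 hm
      exact mem_zpowers_iff.2 ⟨m, by simpa using congrArg Subtype.val hm⟩
    rcases conj_gen_cases C.S.gen_ord hgN with h | h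
    · exact Subtype.ext (mul_inv_eq_iff_eq_mul.1 h)
    · exact absurd h (H.not_inv g.2)
  set D := (MonoidHom.transferSylow R hR).ker with hD
  have hcomp := MonoidHom.ker_transferSylow_isComplement' R hR
  have hDcard : Nat.card ↥D * 3 = Nat.card ↥Cx := hR0c ▸ hcomp.card_mul_card
  have hDd : Nat.card ↥D ∣ 2 ^ 4 * 11 ^ 3 := by
    refine Nat.dvd_of_mul_dvd_mul_right (show 0 < 3 by norm_num) ?_
    rw [hDcard]
    exact hd.trans (by norm_num)
  -- the Sylow subgroup of the complement is normal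
  obtain ⟨S⟩ := (Sylow.nonempty : Nonempty (Sylow 11 ↥D))
  obtain ⟨k, hk⟩ := IsPGroup.iff_card.1 S.2
  have hnot : ¬ 11 ∣ (S : Subgroup ↥D).index := S.not_dvd_index
  have hidx : (S : Subgroup ↥D).index ∣ 2 ^ 4 := by
    refine (Nat.Coprime.dvd_of_dvd_mul_right ?_ ((Dvd.intro_left _ ((S : Subgroup ↥D).card_mul_index)).trans hDd))
    exact ((Nat.Prime.coprime_iff_not_dvd (by norm_num)).2 hnot).symm.pow_right 3
  have hn1 : Nat.card (Sylow 11 ↥D) = 1 := by
    have h1 := (S.card_dvd_index).trans hidx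
    have h2 := card_sylow_modEq_one 11 ↥D
    obtain ⟨j, hj, hj'⟩ := (Nat.dvd_prime_pow Nat.prime_two).1 h1
    unfold Nat.ModEq at h2
    rw [hj'] at h2 ⊢
    revert h2
    interval_cases j <;> decide
  haveI : Subsingleton (Sylow 11 ↥D) := (Nat.card_eq_one_iff_unique.1 hn1).1
  haveI hSn : (S : Subgroup ↥D).Normal := Sylow.normal_of_subsingleton S
  set S' : Subgroup ↥Cx := (S : Subgroup ↥D).map D.subtype with hS'
  have hS'c : Nat.card ↥S' = 11 ^ k := by rw [hS', card_map_of_injective (subtype_injective D), hk]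
  have hS'n : ∀ (g : ↥Cx) (a : ↥Cx), a ∈ S' → g * a * g⁻¹ ∈ S' := by
    rintro g _ ⟨a, ha, rfl⟩
    haveI : D.Normal := inferInstance
    let φ : ↥D ≃* ↥D := MulAut.conjNormal g
    let T : Sylow 11 ↥D := Sylow.ofCard ((S : Subgroup ↥D).map φ.toMonoidHom)
      (by rw [← Nat.card_congr ((S : Subgroup ↥D).equivMapOfInjective φ.toMonoidHom φ.injective).toEquiv]; exact S.card_eq_multiplicity)
    have e : T = S := Subsingleton.elim _ _
    have hm : φ a ∈ (S : Subgroup ↥D) := by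
      have h2 : φ a ∈ (T : Subgroup ↥D) := ⟨a, ha, rfl⟩
      rwa [e] at h2
    exact ⟨φ a, hm, by simp [φ]⟩
  haveI : S'.Normal := ⟨fun a ha g => hS'n g a ha⟩
  have hmax : ¬ 11 ^ (k + 1) ∣ Nat.card ↥Cx := by
    intro h
    refine hnot ?_
    rw [← hDcard] at h
    have h' : 11 ^ (k + 1) ∣ Nat.card ↥D := (Nat.Coprime.pow_left _ (by norm_num : Nat.Coprime 11 3)).dvd_of_dvd_mul_right h
    rw [← (S : Subgroup ↥D).card_mul_index, hk, pow_succ] at h'
    exact Nat.dvd_of_mul_dvd_mul_left (pow_pos (by norm_num) k) h'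
  set U := S'.map Cx.subtype with hU
  have hUc : Nat.card ↥U = 11 ^ k := by rw [hU, card_map_of_injective (subtype_injective Cx), hS'c]
  have hall : ∀ Q : Subgroup G, IsPGroup 11 ↥Q → Q ≤ Cx → Q ≤ U := by
    intro Q hQ hle q hq
    have hQ' : IsPGroup 11 ↥((Q.subgroupOf Cx) ⊔ S') :=
      (hQ.of_equiv (subgroupOfEquivOfLe hle).symm).to_sup_of_normal_right (IsPGroup.of_card hS'c)
    obtain ⟨l, hl⟩ := IsPGroup.iff_card.1 hQ'
    have hlk : l ≤ k := by
      by_contra hlt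
      exact hmax ((pow_dvd_pow 11 (by omega : k + 1 ≤ l)).trans (hl ▸ card_subgroup_dvd_card _))
    have heq := eq_of_le_of_card_ge (le_sup_right : S' ≤ (Q.subgroupOf Cx) ⊔ S')
      (by rw [hS'c, hl]; exact Nat.pow_le_pow_right (by norm_num) hlk)
    refine ⟨⟨q, hle hq⟩, ?_, rfl⟩
    rw [SetLike.mem_coe, heq]
    exact mem_sup_left hq
  -- at least two
  obtain ⟨T, hT⟩ := (IsPGroup.of_card (G := ↥(zpowers x)) (n := 1) (by
    rw [Nat.card_zpowers, H.order_x, pow_one]) : IsPGroup 11 ↥(zpowers x)).exists_le_sylow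
  have hTc : Nat.card ↥(T : Subgroup G) = 11 ^ 3 := by
    rw [T.card_eq_multiplicity, H.card, show (86775571046077562880 : ℕ) = 11 ^ 3 * 65195770883604480 by norm_num,
      Nat.factorization_mul (by norm_num) (by norm_num), Finsupp.add_apply,
      Nat.Prime.factorization_pow (by norm_num), Nat.factorization_eq_zero_of_not_dvd
        (show ¬ 11 ∣ 65195770883604480 by norm_num)]
    simp
  have hk2 : 2 ≤ k := by
    have hTx : ((T : Subgroup G) ⊓ Cx) ≤ U := hall _ (T.2.to_le inf_le_left) inf_le_right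
    by_contra hlt
    have hxT : x ∈ (T : Subgroup G) := hT (mem_zpowers x)
    set Tx := (T : Subgroup G) ⊓ Cx
    have hc : Nat.card ↥Tx ≤ 11 := by
      refine (card_le_of_le hTx).trans ?_
      rw [hUc]
      exact (Nat.pow_le_pow_right (by norm_num) (show k ≤ 1 by omega)).trans (pow_one 11).le
    have hXle : zpowers x ≤ Tx := zpowers_le.2 (Subgroup.mem_inf.2 ⟨hxT, H.x_mem⟩)
    have heq := eq_of_le_of_card_ge hXle (by rw [Nat.card_zpowers, H.order_x]; exact hc)
    haveI : Nontrivial ↥(T : Subgroup G) := Finite.one_lt_card_iff_nontrivial.1 (by rw [hTc]; norm_num)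
    haveI := T.2.center_nontrivial
    obtain ⟨c, hc1⟩ := exists_ne (1 : ↥(center ↥(T : Subgroup G)))
    have hcT : ∀ a ∈ (T : Subgroup G), a * ((c : ↥(T : Subgroup G)) : G) = ((c : ↥(T : Subgroup G)) : G) * a :=
      fun a ha => congrArg Subtype.val (mem_center_iff.1 c.2 ⟨a, ha⟩)
    have hcm : ((c : ↥(T : Subgroup G)) : G) ∈ zpowers x := by
      rw [heq]
      exact Subgroup.mem_inf.2 ⟨(c : ↥(T : Subgroup G)).2, mem_centralizer_singleton_iff.2 (hcT x hxT).symm⟩
    have hc1' : ((c : ↥(T : Subgroup G)) : G) ≠ 1 := fun h => hc1 (Subtype.ext (Subtype.ext h))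
    have hgen : x ∈ zpowers ((c : ↥(T : Subgroup G)) : G) := by
      rw [eq_of_le_of_card_ge (zpowers_le.2 hcm) (by
        rw [Nat.card_zpowers, Nat.card_zpowers, H.order_x]
        refine Nat.le_of_dvd (orderOf_pos _) ?_
        have hd : orderOf ((c : ↥(T : Subgroup G)) : G) ∣ 11 := by
          refine dvd_trans (dvd_trans (Subgroup.orderOf_mk _ hcm).symm.dvd (orderOf_dvd_natCard _)) ?_
          rw [Nat.card_zpowers, H.order_x]
        rcases (Nat.dvd_prime (by norm_num)).1 hd with h | h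
        · exact absurd (orderOf_eq_one_iff.1 h) hc1'
        · rw [h])]
      exact mem_zpowers x
    obtain ⟨m, hm⟩ := mem_zpowers_iff.1 hgen
    have hTle : (T : Subgroup G) ≤ Tx := fun a ha => Subgroup.mem_inf.2 ⟨ha, mem_centralizer_singleton_iff.2 (by
      rw [← hm]
      exact ((show Commute a _ from hcT a ha).zpow_right m).eq)⟩
    have := (card_le_of_le hTle).trans hc
    rw [hTc] at this
    norm_num at this
  refine ⟨U, k, hk2, ?_, map_subtype_le _, hUc, hmax, ?_, hall⟩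
  · by_contra hlt
    have h1 : 11 ^ 4 ∣ Nat.card ↥Cx := (pow_dvd_pow 11 (by omega : 4 ≤ k)).trans (hS'c ▸ card_subgroup_dvd_card S')
    exact absurd (h1.trans hd) (by norm_num)
  · rintro g hg _ ⟨a, ha, rfl⟩
    exact ⟨⟨g, hg⟩ * a * ⟨g, hg⟩⁻¹, hS'n _ a ha, rfl⟩

/-- The Sylow subgroup of the centraliser of `x`. -/
theorem exists_U : ∃ U : Subgroup G, U ≤ centralizer ({x} : Set G) ∧ Nat.card ↥U = 1331 ∧ x ∈ U ∧
    (∀ g ∈ centralizer ({x} : Set G), ∀ a ∈ U, g * a * g⁻¹ ∈ U) ∧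
    ∀ Q : Subgroup G, IsPGroup 11 ↥Q → Q ≤ centralizer ({x} : Set G) → Q ≤ U := by
  classical
  haveI : Fact (Nat.Prime 3) := ⟨Nat.prime_three⟩
  obtain ⟨U, k, hk2, hk3, hle, hUc, -, hn, hall⟩ := H.exists_normal_sylow
  have hxU : x ∈ U := hall (zpowers x) (IsPGroup.of_card (n := 1) (by rw [Nat.card_zpowers, H.order_x, pow_one]))
    (zpowers_le.2 H.x_mem) (mem_zpowers x)
  rcases (show k = 2 ∨ k = 3 by omega) with rfl | rfl
  · exfalso
    have hmod := fix_mod (p := 3) (U : Set G) C.S.gen_ord fun s hs => hn _ H.gen_mem s hs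
    rw [show Nat.card ↥(U : Set G) = 11 ^ 2 from hUc] at hmod
    have hF : Nat.card {s : ↥(U : Set G) // Commute (s : G) C.S.gen} = 11 := by
      set F := U ⊓ centralizer ({C.S.gen} : Set G)
      have e : Nat.card {s : ↥(U : Set G) // Commute (s : G) C.S.gen} = Nat.card ↥F := Nat.card_congr
        { toFun := fun s => ⟨s.1.1, Subgroup.mem_inf.2 ⟨s.1.2, mem_centralizer_singleton_iff.2 s.2⟩⟩
          invFun := fun s => ⟨⟨s.1, (Subgroup.mem_inf.1 s.2).1⟩,
            mem_centralizer_singleton_iff.1 (Subgroup.mem_inf.1 s.2).2⟩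
          left_inv := fun _ => rfl
          right_inv := fun _ => rfl }
      rw [e]
      have h1 : Nat.card ↥F ∣ 11 ^ 2 := hUc ▸ card_dvd_of_le inf_le_left
      have h2 : ¬ 121 ∣ Nat.card ↥F := fun h =>
        H.card_cent_three C.S.gen_ord (h.trans (card_dvd_of_le inf_le_right))
      have h3 : 11 ∣ Nat.card ↥F := by
        rw [← H.order_x, ← Nat.card_zpowers]
        exact card_dvd_of_le (zpowers_le.2 (Subgroup.mem_inf.2
          ⟨hxU, mem_centralizer_singleton_iff.2 H.comm_gen.eq⟩))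
      obtain ⟨j, hj, hj'⟩ := (Nat.dvd_prime_pow (by norm_num : Nat.Prime 11)).1 h1
      rw [hj'] at h2 h3 ⊢
      revert h2 h3
      interval_cases j <;> decide
    rw [hF] at hmod
    norm_num at hmod
  · exact ⟨U, hle, by rw [hUc]; norm_num, hxU, hn, hall⟩

variable {U : Subgroup G} (hU : U ≤ centralizer ({x} : Set G)) (hUc : Nat.card ↥U = 1331) (hxU : x ∈ U)
  (hUn : ∀ g ∈ centralizer ({x} : Set G), ∀ a ∈ U, g * a * g⁻¹ ∈ U)

include hU

theorem comm_x {a : G} (ha : a ∈ U) : Commute a x := mem_centralizer_singleton_iff.1 (hU ha)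

theorem comm_pow {a b : G} (ha : a ∈ U) (hb : b ∈ zpowers x) : Commute a b := by
  obtain ⟨m, rfl⟩ := mem_zpowers_iff.1 hb
  exact (H.comm_x hU ha).zpow_right m

include hUc hxU

/-- Commutators lie in `⟨x⟩`. -/
theorem comm_mem {a b : G} (ha : a ∈ U) (hb : b ∈ U) : a * b * a⁻¹ * b⁻¹ ∈ zpowers x := by
  classical
  haveI : Fact (Nat.Prime 11) := ⟨by norm_num⟩
  set X := (zpowers x).subgroupOf U with hX
  haveI : X.Normal := ⟨fun c hc g => by
    rw [hX, mem_subgroupOf] at hc ⊢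
    rw [Subgroup.coe_mul, Subgroup.coe_mul, Subgroup.coe_inv, (H.comm_pow hU g.2 hc).eq, mul_inv_cancel_right]
    exact hc⟩
  have hQ : Nat.card (↥U ⧸ X) = 11 ^ 2 := by
    have h := X.index_mul_card
    rw [Nat.card_congr (subgroupOfEquivOfLe (zpowers_le.2 hxU)).toEquiv, Nat.card_zpowers, H.order_x, hUc] at h
    rw [← index_eq_card]
    omega
  have hcomm := IsPGroup.commutative_of_card_eq_prime_sq hQ (QuotientGroup.mk (⟨a, ha⟩ : ↥U))
    (QuotientGroup.mk (⟨b, hb⟩ : ↥U))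
  have h := (QuotientGroup.eq_one_iff (N := X) ((⟨a, ha⟩ : ↥U) * ⟨b, hb⟩ * (⟨a, ha⟩ : ↥U)⁻¹ * (⟨b, hb⟩ : ↥U)⁻¹)).1 (by
    rw [QuotientGroup.mk_mul, QuotientGroup.mk_mul, QuotientGroup.mk_mul, QuotientGroup.mk_inv, QuotientGroup.mk_inv,
      hcomm]
    group)
  exact mem_subgroupOf.1 h

/-- An element of order 2 or 3 of the centraliser fixes only the trivial coset. -/
theorem fix_prime {h : G} (hh : h ∈ centralizer ({x} : Set G)) (ho : orderOf h = 2 ∨ orderOf h = 3) {a : G}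
    (ha : a ∈ U) (hf : h * a * h⁻¹ * a⁻¹ ∈ zpowers x) : a ∈ zpowers x := by
  classical
  haveI : Fact (Nat.Prime 11) := ⟨by norm_num⟩
  obtain ⟨m, hm⟩ := mem_zpowers_iff.1 hf
  have hha : h * a * h⁻¹ = x ^ m * a := by rw [hm, inv_mul_cancel_right]
  have hhx : Commute h (x ^ m) :=
    (show Commute h x from mem_centralizer_singleton_iff.1 hh).zpow_right m
  have hn : ∀ n : ℕ, h ^ n * a * (h ^ n)⁻¹ = (x ^ m) ^ n * a := by
    intro n
    induction n with
    | zero => simp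
    | succ n ih =>
      calc h ^ (n + 1) * a * (h ^ (n + 1))⁻¹ = h * (h ^ n * a * (h ^ n)⁻¹) * h⁻¹ := by
            rw [pow_succ']; group
        _ = h * (x ^ m) ^ n * h⁻¹ * (h * a * h⁻¹) := by rw [ih]; group
        _ = (x ^ m) ^ (n + 1) * a := by
          rw [(hhx.pow_right n).eq, mul_inv_cancel_right, hha, ← mul_assoc, ← pow_succ]
  have h1 := hn (orderOf h)
  rw [pow_orderOf_eq_one, one_mul, inv_one, mul_one, eq_comm, mul_eq_right] at h1
  have hxm : x ^ m = 1 := by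
    rw [← orderOf_eq_one_iff]
    refine Nat.eq_one_of_dvd_coprimes (show Nat.Coprime (orderOf h) 11 by rcases ho with e | e <;> rw [e] <;> norm_num)
      (orderOf_dvd_of_pow_eq_one h1) ?_
    rw [← H.order_x]
    exact orderOf_dvd_iff_pow_eq_one.2 (by rw [← zpow_natCast, ← zpow_mul, mul_comm, zpow_mul, zpow_natCast,
      pow_orderOf_eq_one, one_zpow])
  rw [hxm, one_mul] at hha
  set F := U ⊓ centralizer ({h} : Set G)
  have haF : a ∈ F := Subgroup.mem_inf.2 ⟨ha, mem_centralizer_singleton_iff.2 (mul_inv_eq_iff_eq_mul.1 hha).symm⟩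
  have h2 : ¬ 121 ∣ Nat.card ↥F := fun hd => by
    rcases ho with e | e
    · exact H.card_cent_invol e (hd.trans (card_dvd_of_le inf_le_right))
    · exact H.card_cent_three e (hd.trans (card_dvd_of_le inf_le_right))
  have hXF : zpowers x ≤ F := zpowers_le.2 (Subgroup.mem_inf.2
    ⟨hxU, mem_centralizer_singleton_iff.2 (mem_centralizer_singleton_iff.1 hh).symm⟩)
  have hFc : Nat.card ↥F ≤ 11 := by
    obtain ⟨j, hj, hj'⟩ := (Nat.dvd_prime_pow (by norm_num : Nat.Prime 11)).1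
      (show Nat.card ↥F ∣ 11 ^ 3 by rw [show (11 : ℕ) ^ 3 = 1331 by norm_num, ← hUc]; exact card_dvd_of_le inf_le_left)
    rw [hj'] at h2 ⊢
    revert h2
    interval_cases j <;> decide
  rw [eq_of_le_of_card_ge hXF (by rw [Nat.card_zpowers, H.order_x]; exact hFc)]
  exact haF

include hUn

/-- An involution of the centraliser inverts the quotient. -/
theorem neg {i : G} (hi : i ∈ centralizer ({x} : Set G)) (ho : orderOf i = 2) {a : G} (ha : a ∈ U) :
    i * a * i⁻¹ * a ∈ zpowers x := by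
  have hi2 : i * i = 1 := by rw [← pow_two, ← ho, pow_orderOf_eq_one]
  set b := i * a * i⁻¹
  have hb : b ∈ U := hUn i hi a ha
  refine H.fix_prime hU hUc hxU hi (Or.inl ho) (mul_mem hb ha) ?_
  have hib : i * b * i⁻¹ = a := by
    calc i * b * i⁻¹ = (i * i) * a * (i * i)⁻¹ := by simp only [b]; group
      _ = a := by rw [hi2]; group
  have e : i * (b * a) * i⁻¹ * (b * a)⁻¹ = a * b * a⁻¹ * b⁻¹ := by
    calc i * (b * a) * i⁻¹ * (b * a)⁻¹ = (i * b * i⁻¹) * (i * a * i⁻¹) * (b * a)⁻¹ := by group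
      _ = a * b * (b * a)⁻¹ := by rw [hib]
      _ = _ := by group
  rw [e]
  exact H.comm_mem hU hUc hxU ha hb

/-- Two commuting involutions of the centraliser are equal. -/
theorem invol_unique {i j : G} (hi : i ∈ centralizer ({x} : Set G)) (hio : orderOf i = 2)
    (hj : j ∈ centralizer ({x} : Set G)) (hjo : orderOf j = 2) (hc : Commute i j) : i = j := by
  by_contra hne
  have hi2 : i * i = 1 := by rw [← pow_two, ← hio, pow_orderOf_eq_one]
  have hj2 : j * j = 1 := by rw [← pow_two, ← hjo, pow_orderOf_eq_one]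
  have hk : orderOf (i * j) = 2 := by
    haveI : Fact (Nat.Prime 2) := ⟨Nat.prime_two⟩
    refine orderOf_eq_prime ?_ fun h => hne ?_
    · rw [hc.mul_pow, pow_two, pow_two, hi2, hj2, one_mul]
    · rw [eq_inv_of_mul_eq_one_left h, inv_eq_of_mul_eq_one_left hj2]
  have hXU : ∀ a ∈ U, a ∈ zpowers x := by
    intro a ha
    refine H.fix_prime hU hUc hxU (mul_mem hi hj) (Or.inl hk) ha ?_
    obtain ⟨m, hm⟩ := mem_zpowers_iff.1 (H.neg hU hUc hxU hUn hi hio ha)
    obtain ⟨n, hn⟩ := mem_zpowers_iff.1 (H.neg hU hUc hxU hUn hj hjo ha)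
    have e1 : i * a * i⁻¹ = x ^ m * a⁻¹ := by rw [hm, mul_inv_cancel_right]
    have e2 : j * a * j⁻¹ = x ^ n * a⁻¹ := by rw [hn, mul_inv_cancel_right]
    have hix : Commute i (x ^ n) := (show Commute i x from mem_centralizer_singleton_iff.1 hi).zpow_right n
    have e3 : i * j * a * (i * j)⁻¹ = x ^ n * (i * a * i⁻¹)⁻¹ := by
      calc i * j * a * (i * j)⁻¹ = i * (j * a * j⁻¹) * i⁻¹ := by group
        _ = i * x ^ n * a⁻¹ * i⁻¹ := by rw [e2]; group
        _ = _ := by rw [hix.eq]; group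
    rw [e3, e1]
    exact mem_zpowers_iff.2 ⟨n - m, by
      calc x ^ (n - m) = x ^ n * (x ^ m)⁻¹ := by rw [zpow_sub]
        _ = x ^ n * (a * (x ^ m)⁻¹) * a⁻¹ := by
          rw [((H.comm_x hU ha).zpow_right m).inv_right.eq]; group
        _ = _ := by group⟩
  have h := card_le_of_le (show U ≤ zpowers x from hXU)
  rw [hUc, Nat.card_zpowers, H.order_x] at h
  omega

theorem card_cent : Nat.card ↥(centralizer ({x} : Set G)) = 31944 := by
  classical
  haveI : Fact (Nat.Prime 2) := ⟨Nat.prime_two⟩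
  set Cx := centralizer ({x} : Set G)
  set n := Nat.card ↥Cx with hn
  have hd : n ∣ 2 ^ 4 * 3 * 11 ^ 3 := H.dvd x H.order_x
  have h1 : 264 ∣ n := by rw [← H.card_Czx]; exact card_dvd_of_le inf_le_right
  have h2 : 1331 ∣ n := by rw [← hUc]; exact card_dvd_of_le hU
  have h16 : ¬ 2 ^ 4 ∣ n := by
    intro h16
    set Z2 : Subgroup ↥Cx := zpowers (⟨z, H.z_mem⟩ : ↥Cx)
    obtain ⟨T, hT, hZT⟩ := Sylow.exists_subgroup_card_pow_prime_le 2 h16 Z2 (n := 1)
      (by rw [Nat.card_zpowers, Subgroup.orderOf_mk, C.S.orderOf_z, pow_one]) (by norm_num)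
    haveI : Nontrivial ↥T := Finite.one_lt_card_iff_nontrivial.1 (by rw [hT]; norm_num)
    have hTp : IsPGroup 2 ↥T := IsPGroup.of_card hT
    haveI := hTp.center_nontrivial
    obtain ⟨c, hc⟩ := exists_prime_orderOf_dvd_card' (G := ↥(center ↥T)) 2 (by
      obtain ⟨m, hm0, hm⟩ := (hTp.to_subgroup (center ↥T)).nontrivial_iff_card.1 inferInstance
      rw [hm]; exact dvd_pow_self 2 (by omega))
    rw [← orderOf_coe, ← orderOf_coe, ← orderOf_coe] at hc
    set c' : G := (((c : ↥T) : ↥Cx) : G) with hc'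
    have hcomm : ∀ g : ↥T, Commute ((g : ↥Cx) : G) c' := fun g =>
      congrArg (fun v : ↥T => ((v : ↥Cx) : G)) (mem_center_iff.1 c.2 g)
    have hcz : c' = z := H.invol_unique hU hUc hxU hUn ((c : ↥T) : ↥Cx).2 hc H.z_mem C.S.orderOf_z
      (hcomm ⟨_, hZT (mem_zpowers _)⟩).symm
    have hle : T.map Cx.subtype ≤ Cz z ⊓ Cx := by
      rintro _ ⟨g, hg, rfl⟩
      exact Subgroup.mem_inf.2 ⟨mem_Cz.2 (hcz ▸ (hcomm ⟨g, hg⟩).eq : ((g : ↥Cx) : G) * z = z * g), g.2⟩
    have h := card_dvd_of_le hle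
    rw [card_map_of_injective (subtype_injective Cx), hT, H.card_Czx] at h
    norm_num at h
  have h3 : 31944 ∣ n := by
    have := Nat.lcm_dvd h1 h2
    rwa [show Nat.lcm 264 1331 = 31944 by decide +kernel] at this
  obtain ⟨j, hj⟩ := h3
  rw [hj] at hd h16 ⊢
  have hj2 : j ∣ 2 := Nat.dvd_of_mul_dvd_mul_left (show 0 < 31944 by norm_num) (hd.trans (by norm_num))
  rcases (Nat.dvd_prime Nat.prime_two).1 hj2 with rfl | rfl
  · norm_num
  · exact absurd (by norm_num) h16

/-- Elements of order a power of 11 in the centraliser. -/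
theorem mem_U_of_pow {g : G} (hg : g ∈ centralizer ({x} : Set G)) (h : g ^ 1331 = 1) : g ∈ U := by
  classical
  obtain ⟨j, -, hj⟩ := (Nat.dvd_prime_pow (by norm_num : Nat.Prime 11)).1
    (show orderOf g ∣ 11 ^ 3 from orderOf_dvd_of_pow_eq_one (by rw [show (11 : ℕ) ^ 3 = 1331 by norm_num, h]))
  haveI : Fact (Nat.Prime 11) := ⟨by norm_num⟩
  set Cx := centralizer ({x} : Set G)
  set U' := U.subgroupOf Cx with hU'
  haveI : U'.Normal := ⟨fun a ha b => hUn b b.2 a ha⟩
  have hU'c : Nat.card ↥U' = 1331 := by rw [hU', Nat.card_congr (subgroupOfEquivOfLe hU).toEquiv, hUc]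
  have hidx : U'.index = 24 := by
    have := U'.index_mul_card
    rw [hU'c, H.card_cent hU hUc hxU hUn] at this
    omega
  have h1 : (QuotientGroup.mk (⟨g, hg⟩ : ↥Cx) : ↥Cx ⧸ U') = 1 := by
    rw [← orderOf_eq_one_iff]
    refine Nat.eq_one_of_dvd_coprimes (show Nat.Coprime (11 ^ j) 24 from Nat.Coprime.pow_left j (by norm_num)) ?_ ?_
    · refine (orderOf_map_dvd (QuotientGroup.mk' U') (⟨g, hg⟩ : ↥Cx)).trans ?_
      rw [Subgroup.orderOf_mk, hj]
    · rw [← hidx, index_eq_card]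
      exact orderOf_dvd_natCard _
  exact mem_subgroupOf.1 ((QuotientGroup.eq_one_iff (N := U') _).1 h1)

/-- The elements outside fix only the trivial coset. -/
theorem fix {g : G} (hg : g ∈ centralizer ({x} : Set G)) (hgU : g ∉ U) {a : G} (ha : a ∈ U)
    (hf : g * a * g⁻¹ * a⁻¹ ∈ zpowers x) : a ∈ zpowers x := by
  set g' := g ^ 1331 with hg'
  have hne : g' ≠ 1 := fun h => hgU (H.mem_U_of_pow hU hUc hxU hUn hg h)
  have h24 : g' ^ 24 = 1 := by
    rw [hg', ← pow_mul, show 1331 * 24 = Nat.card ↥(centralizer ({x} : Set G)) by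
      rw [H.card_cent hU hUc hxU hUn]]
    exact congrArg Subtype.val (pow_card_eq_one' (x := (⟨g, hg⟩ : ↥(centralizer ({x} : Set G)))))
  obtain ⟨p, hp, hpd⟩ := Nat.exists_prime_and_dvd (fun h => hne (orderOf_eq_one_iff.1 h) : orderOf g' ≠ 1)
  have hp23 : p = 2 ∨ p = 3 := by
    have hd : p ∣ 24 := hpd.trans (orderOf_dvd_of_pow_eq_one h24)
    have := Nat.le_of_dvd (by norm_num) hd
    interval_cases p <;> revert hd <;> revert hp <;> norm_num
  set h := g' ^ (orderOf g' / p) with hh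
  have ho : orderOf h = p := by
    rw [hh, orderOf_pow_of_dvd (Nat.div_ne_zero_iff.2 ⟨hp.ne_zero, Nat.le_of_dvd (orderOf_pos _) hpd⟩)
      (Nat.div_dvd_of_dvd hpd), Nat.div_div_self hpd (orderOf_pos _).ne']
  refine H.fix_prime hU hUc hxU (by rw [hh, hg', ← pow_mul]; exact pow_mem hg _)
    (hp23.imp (fun e => ho.trans e) (fun e => ho.trans e)) ha ?_
  have hn : ∀ n : ℕ, g ^ n * a * (g ^ n)⁻¹ * a⁻¹ ∈ zpowers x := by
    intro n
    induction n with
    | zero => simp
    | succ n ih =>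
      obtain ⟨m, hm⟩ := mem_zpowers_iff.1 ih
      have hc : Commute g (x ^ m) := (show Commute g x from mem_centralizer_singleton_iff.1 hg).zpow_right m
      have e : g ^ (n + 1) * a * (g ^ (n + 1))⁻¹ * a⁻¹ = x ^ m * (g * a * g⁻¹ * a⁻¹) := by
        calc g ^ (n + 1) * a * (g ^ (n + 1))⁻¹ * a⁻¹
            = g * (g ^ n * a * (g ^ n)⁻¹ * a⁻¹) * (a * g⁻¹ * a⁻¹) := by rw [pow_succ']; group
          _ = g * x ^ m * (a * g⁻¹ * a⁻¹) := by rw [← hm]
          _ = _ := by rw [hc.eq]; group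
      rw [e]
      exact mul_mem (zpow_mem (mem_zpowers x) m) hf
  rw [hh, hg', ← pow_mul]
  exact hn _

/-- The involutions are conjugate to `z` by `U`. -/
theorem invol {i : G} (hi : i ∈ centralizer ({x} : Set G)) (ho : orderOf i = 2) :
    ∃ a ∈ U, a * z * a⁻¹ = i := by
  have hi2 : i * i = 1 := by rw [← pow_two, ← ho, pow_orderOf_eq_one]
  have hz2 : z * z = 1 := by rw [← pow_two, ← C.S.orderOf_z, pow_orderOf_eq_one]
  have hzinv : z⁻¹ = z := inv_eq_of_mul_eq_one_right hz2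
  have hw : i * z ∈ U := by
    by_contra hw
    have hXU : U ≤ zpowers x := by
      intro a ha
      refine H.fix hU hUc hxU hUn (mul_mem hi H.z_mem) hw ha ?_
      obtain ⟨m, hm⟩ := mem_zpowers_iff.1 (H.neg hU hUc hxU hUn hi ho ha)
      obtain ⟨n, hn⟩ := mem_zpowers_iff.1 (H.neg hU hUc hxU hUn H.z_mem C.S.orderOf_z ha)
      have e1 : i * a * i⁻¹ = x ^ m * a⁻¹ := by rw [hm, mul_inv_cancel_right]
      have e2 : z * a * z⁻¹ = x ^ n * a⁻¹ := by rw [hn, mul_inv_cancel_right]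
      have hix : Commute i (x ^ n) := (show Commute i x from mem_centralizer_singleton_iff.1 hi).zpow_right n
      have e3 : i * z * a * (i * z)⁻¹ = x ^ n * (i * a * i⁻¹)⁻¹ := by
        calc i * z * a * (i * z)⁻¹ = i * (z * a * z⁻¹) * i⁻¹ := by group
          _ = i * x ^ n * a⁻¹ * i⁻¹ := by rw [e2]; group
          _ = _ := by rw [hix.eq]; group
      rw [e3, e1]
      exact mem_zpowers_iff.2 ⟨n - m, by
        calc x ^ (n - m) = x ^ n * (x ^ m)⁻¹ := by rw [zpow_sub]
          _ = x ^ n * (a * (x ^ m)⁻¹) * a⁻¹ := by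
            rw [((H.comm_x hU ha).zpow_right m).inv_right.eq]; group
          _ = _ := by group⟩
    have h := card_le_of_le hXU
    rw [hUc, Nat.card_zpowers, H.order_x] at h
    omega
  set w := i * z with hwdef
  have hiw : i = w * z := by rw [hwdef, mul_assoc, hz2, mul_one]
  have hzw : z * w * z⁻¹ = w⁻¹ := by
    rw [hwdef, mul_inv_rev, hzinv, inv_eq_of_mul_eq_one_right hi2]
    calc z * (i * z) * z = z * i * (z * z) := by group
      _ = z * i := by rw [hz2, mul_one]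
  refine ⟨w ^ 666, pow_mem hw _, ?_⟩
  have hw1 : w ^ 1331 = 1 := by
    rw [← hUc]
    exact congrArg Subtype.val (pow_card_eq_one' (x := (⟨w, hw⟩ : ↥U)))
  calc w ^ 666 * z * (w ^ 666)⁻¹ = w ^ 666 * (z * (w ^ 666)⁻¹ * z⁻¹) * z := by group
    _ = w ^ 666 * ((z * w * z⁻¹) ^ 666)⁻¹ * z := by rw [conj_pow, mul_inv_rev, mul_inv_rev, inv_inv]; group
    _ = w ^ (1331 + 1) * z := by rw [hzw, inv_pow, inv_inv, ← pow_add]
    _ = i := by rw [pow_succ, hw1, one_mul, ← hiw]

end XCtx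

end Cfsg.Agent.J4Type.ElevenLocal
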