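import Cfsg.Agent.Lib.J4Type.LargePrimes.Eleven
import Cfsg.Agent.Lib.J4Type.ElevenEnd
import Cfsg.Agent.Lib.J4Type.ElevenLocal

/-!
# J4 type: the quaternion group beside an element of order 11 of `C(z)` (helper26)

* `ElevenQuat.quat` : `ElevenEnd.Quat z x` from the structure of `C(z)`
-/

set_option autoImplicit false
set_option linter.unusedSectionVars false

namespace Cfsg.Agent.J4Type.ElevenQuat

open Subgroup Cfsg Cfsg.Agent.Golay

universe u

variable {G : Type u} [Group G] [Finite G] {U : Subgroup G} {z t x y : G} {P : Subgroup G}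

/-- `|C(x) ∩ C(z)|` is divisible by 3. -/
theorem three_dvd_L (B : ElevenBase U z t x y) :
    3 ∣ Nat.card ↥(centralizer ({x} : Set G) ⊓ centralizer ({z} : Set G)) := by
  classical
  set L := centralizer ({x} : Set G) ⊓ centralizer ({z} : Set G)
  set C := centralizer ({x} : Set G)
  have hUC : U ≤ C := fun a ha => mem_centralizer_singleton_iff.2 (B.x_comm a ha).eq
  haveI : (U.subgroupOf C).Normal := ⟨fun a ha g => mem_subgroupOf.2
    (ElevenEnd.conj_U B (ElevenEnd.cent_x_le B g.2) (mem_subgroupOf.1 ha))⟩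
  have hidx : (U.subgroupOf C).index = 24 := by
    have h := (U.subgroupOf C).index_mul_card
    rw [Nat.card_congr (subgroupOfEquivOfLe hUC).toEquiv, B.card_U, B.card_cent_x] at h
    exact Nat.eq_of_mul_eq_mul_right (by norm_num : 0 < 1331) (h.trans (by norm_num))
  let f : ↥L →* ↥C ⧸ U.subgroupOf C := (QuotientGroup.mk' _).comp (inclusion inf_le_left)
  have hf : Function.Surjective f := by
    intro q
    obtain ⟨g, rfl⟩ := QuotientGroup.mk'_surjective _ q
    have hgx : Commute (g : G) x := mem_centralizer_singleton_iff.1 g.2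
    have hi : orderOf ((g : G) * z * (g : G)⁻¹) = 2 := by rw [ElevenLocal.orderOf_cj, B.order_z]
    have hiC : (g : G) * z * (g : G)⁻¹ ∈ C :=
      mul_mem (mul_mem g.2 (mem_centralizer_singleton_iff.2 B.comm_xz.eq.symm)) (inv_mem g.2)
    obtain ⟨a, ha, hai⟩ := B.invol_x _ hiC hi
    have hlz : (a⁻¹ * g) * z = z * (a⁻¹ * g) := by
      calc (a⁻¹ * g) * z = a⁻¹ * ((g : G) * z * (g : G)⁻¹) * g := by group
        _ = a⁻¹ * (a * z * a⁻¹) * g := by rw [hai]
        _ = _ := by group
    refine ⟨⟨a⁻¹ * g, mem_inf.2 ⟨mul_mem (C.inv_mem (hUC ha)) g.2, mem_centralizer_singleton_iff.2 hlz⟩⟩, ?_⟩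
    show QuotientGroup.mk' _ (⟨a⁻¹ * g, _⟩ : ↥C) = QuotientGroup.mk' _ g
    rw [QuotientGroup.mk'_eq_mk']
    refine ⟨⟨(g : G)⁻¹ * a * g, mul_mem (mul_mem (inv_mem g.2) (hUC ha)) g.2⟩, mem_subgroupOf.2 ?_,
      Subtype.ext (show a⁻¹ * g * ((g : G)⁻¹ * a * g) = g by group)⟩
    have h := ElevenEnd.conj_U B (inv_mem (ElevenEnd.cent_x_le B g.2)) ha
    rwa [inv_inv] at h
  have h24 := card_dvd_of_surjective f hf
  rw [← index_eq_card, hidx] at h24
  exact (show 3 ∣ 24 by norm_num).trans h24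

/-- The quaternion group and its automorphism of order 3. -/
theorem quat (S : Setting z P) (B : ElevenBase U z t x y) : ElevenEnd.Quat z x := by
  classical
  haveI : Fact (Nat.Prime 3) := ⟨Nat.prime_three⟩
  haveI : Fact (Nat.Prime 11) := ⟨by norm_num⟩
  have hxH : x ∈ Cz z := mem_Cz.2 B.comm_xz.eq
  obtain ⟨g, hg⟩ := exists_prime_orderOf_dvd_card' 3 (three_dvd_L B)
  have hg3 : orderOf (g : G) = 3 := by rw [Subgroup.orderOf_coe, hg]
  have hgx : (g : G) * x = x * g := mem_centralizer_singleton_iff.1 g.2.1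
  have hgH : (g : G) ∈ Cz z := mem_Cz.2 (mem_centralizer_singleton_iff.1 g.2.2)
  have h8 := LargePrimes.card_E_cent S hxH B.order_x
  set Q := Ez z ⊓ centralizer ({x} : Set G) with hQ
  have hQL : Q ≤ centralizer ({x} : Set G) ⊓ centralizer ({z} : Set G) :=
    le_inf inf_le_right (inf_le_left.trans (Ez_le_Cz z))
  have hgN : (g : G) ∈ normalizer (Q : Set G) := Subgroup.mem_normalizer_fintype fun q hq => by
    refine ⟨conj_mem_Ez hgH hq.1, mem_centralizer_singleton_iff.2 ?_⟩
    exact (((show Commute (g : G) x from hgx).mul_left (show Commute q x from mem_centralizer_singleton_iff.1 hq.2)).mul_left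
      (show Commute (g : G) x from hgx).inv_left).eq
  refine ⟨Q, g, hQL, h8, g.2, hg3, hgN, ?_⟩
  by_contra hcon
  push Not at hcon
  -- the image in M24
  have hσ := LargePrimes.orderOf_toM24 S hxH B.order_x
  have hd : orderOf (LargePrimes.toM24 S ⟨g, hgH⟩) ∣ 22 := by
    have hmem : LargePrimes.toM24 S ⟨g, hgH⟩ ∈ centralizer ({LargePrimes.toM24 S ⟨x, hxH⟩} : Set ↥M24) := by
      rw [mem_centralizer_singleton_iff, ← map_mul, ← map_mul]
      exact congrArg _ (Subtype.ext hgx)
    rw [← orderOf_mk _ hmem]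
    refine (_root_.orderOf_dvd_natCard _).trans ?_
    rcases LargePrimes.cent_eleven hσ with h | h <;> rw [h]
    norm_num
  have hd3 : orderOf (LargePrimes.toM24 S ⟨g, hgH⟩) ∣ 3 := by
    refine (orderOf_map_dvd _ _).trans ?_
    rw [← Subgroup.orderOf_coe, hg3]
  have hκ : S.κ ⟨g, hgH⟩ = 1 := (LargePrimes.toM24_eq_one S).1
    (orderOf_eq_one_iff.1 (Nat.eq_one_of_dvd_coprimes (show Nat.Coprime 22 3 by norm_num) hd hd3))
  obtain ⟨e, he, n, hge⟩ := (S.κ_ker _).1 hκ
  replace hge : (g : G) = e * S.gen ^ n := hge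
  -- a power of `gen` which is not trivial
  have hn : ¬ 3 ∣ n := by
    rintro ⟨m, rfl⟩
    rw [pow_mul, S.gen_cube, one_pow, mul_one] at hge
    have h2 : orderOf (⟨e, he⟩ : ↥(Ez z)) ∣ Nat.card ↥(Ez z) := _root_.orderOf_dvd_natCard _
    rw [orderOf_mk, ← hge, hg3, S.card_E] at h2
    norm_num at h2
  -- `gen` commutes with `Q`
  have hgen : ∀ q ∈ Q, q * S.gen = S.gen * q := by
    intro q hq
    set c := S.gen ^ n with hc
    have hc3 : c * c * c = 1 := by rw [hc, ← pow_add, ← pow_add, show n + n + n = 3 * n by ring, pow_mul, S.gen_cube, one_pow]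
    have hgq : e * c * q * (e * c)⁻¹ = q := by rw [← hge, hcon q hq, mul_inv_cancel_right]
    have hcq : c * q * c⁻¹ = e⁻¹ * q * e := by
      rw [show c * q * c⁻¹ = e⁻¹ * (e * c * q * (e * c)⁻¹) * e by group, hgq]
    have hcz : Commute c z := ((show Commute S.gen z from mem_Cz.1 S.gen_mem).pow_left n)
    have hcomm : c * q * c⁻¹ = q ∨ c * q * c⁻¹ = z * q := by
      rcases S.data.comm e⁻¹ (inv_mem he) q hq.1 with h | h <;>
        rw [commutatorElement_def, inv_inv] at h <;> rw [hcq]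
      · exact Or.inl (mul_inv_eq_one.1 h)
      · exact Or.inr (mul_inv_eq_iff_eq_mul.1 h)
    have hfix : c * q = q * c := by
      rcases hcomm with h | h
      · exact mul_inv_eq_iff_eq_mul.1 h
      · exfalso
        have h3 : c * (c * (c * q * c⁻¹) * c⁻¹) * c⁻¹ = q := by
          rw [show c * (c * (c * q * c⁻¹) * c⁻¹) * c⁻¹ = (c * c * c) * q * (c * c * c)⁻¹ by group, hc3]; group
        have hzc : ∀ b : G, c * (z * b) * c⁻¹ = z * (c * b * c⁻¹) := fun b => by
          rw [← mul_assoc c z b, hcz.eq]; group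
        rw [h, hzc, h, ← mul_assoc z z, S.z_sq, one_mul, h] at h3
        exact S.z_ne (mul_eq_right.1 h3)
    have hnn : S.gen = c ^ n := by
      rw [hc, ← pow_mul, ← Nat.mod_add_div (n * n) 3, pow_add, pow_mul S.gen 3, S.gen_cube, one_pow, mul_one,
        show n * n % 3 = 1 by
          rw [Nat.mul_mod]; rcases (show n % 3 = 1 ∨ n % 3 = 2 by omega) with h | h <;> rw [h], pow_one]
    rw [hnn]
    exact (((show Commute c q from hfix).symm).pow_right n).eq
  have hsub : (Q : Set G) ⊆ {1, z} := fun q hq => by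
    rcases S.fix q hq.1 (hgen q hq) with h | h <;> simp [h]
  have hle := Set.ncard_le_ncard hsub (Set.toFinite _)
  have h2 : ({1, z} : Set G).ncard ≤ 2 := (Set.ncard_insert_le _ _).trans (by rw [Set.ncard_singleton])
  rw [← Nat.card_coe_set_eq] at hle
  change Nat.card ↥Q ≤ _ at hle
  omega

end Cfsg.Agent.J4Type.ElevenQuat
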