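import Cfsg.Agent.Lib.J4Type.ElevenQuat
import Cfsg.Agent.Lib.J4Type.PGL.Main
import Cfsg.Agent.Lib.LargeExtraspecial.Simple

/-!
# J4 type: the rows S5575, S5576 and S5578, given the order of the group (helper26)
-/

set_option autoImplicit false
set_option linter.unusedSectionVars false

namespace Cfsg.Agent.J4Type.ElevenRows

open Subgroup Cfsg

variable {G : Type*} [Group G] [Finite G] [IsSimpleGroup G]

/-- S5575. -/
theorem sylow_eleven {z : G} {P : Subgroup G} (hJ : IsOfJankoFourTypeWith z P)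
    (hcard : Nat.card G = 86775571046077562880) (U : Sylow 11 G) :
    IsExtraspecial 11 ↥(U : Subgroup G) ∧ Nat.card ↥(U : Subgroup G) = 11 ^ 3 ∧
    Monoid.exponent ↥(U : Subgroup G) = 11 ∧
    Nat.card ↥(normalizer ((U : Subgroup G) : Set G)) = 2 ^ 4 * 3 * 5 * 11 ^ 3 ∧
    ∃ K : Subgroup G, K ≤ normalizer ((U : Subgroup G) : Set G) ∧ Nonempty (↥K ≃* GL (Fin 2) (ZMod 3)) := by
  haveI : Fact (Nat.Prime 11) := ⟨by norm_num⟩
  obtain ⟨S⟩ := exists_setting hJ
  obtain ⟨U₀, t, x, y, B⟩ := ElevenLocal.exists_base hJ hcard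
  obtain ⟨T, hT⟩ := ElevenEnd.exists_sylow B
  obtain ⟨g, hg⟩ := MulAction.exists_smul_eq G T U
  have hmap : (T : Subgroup G).map (MulAut.conj g).toMonoidHom = (U : Subgroup G) := by
    rw [← hg, Sylow.coe_subgroup_smul]
    rfl
  subst hT
  let e : ↥(T : Subgroup G) ≃* ↥(U : Subgroup G) :=
    (equivMapOfInjective _ _ (MulAut.conj g).injective).trans (MulEquiv.subgroupCongr hmap)
  refine ⟨LargeExtraspecial.isExtraspecial_congr e (ElevenEnd.extraspecial B), ?_, ?_, ?_, ?_⟩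
  · rw [← Nat.card_congr e.toEquiv, B.card_U]; norm_num
  · rw [← Monoid.exponent_eq_of_mulEquiv e, ElevenEnd.exponent_eq B]
  · rw [LargePrimes.card_conj_normalizer hmap, ElevenEnd.card_normalizer B]; norm_num
  · obtain ⟨K, hK, ⟨f⟩⟩ := ElevenEnd.exists_gl23 B (ElevenQuat.quat S B)
    refine ⟨K.map (MulAut.conj g).toMonoidHom, ?_,
      ⟨((equivMapOfInjective K _ (MulAut.conj g).injective).symm).trans f⟩⟩
    rw [← hmap, ← map_equiv_normalizer_eq]
    exact map_mono hK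

/-- S5576. -/
theorem two_classes {z : G} {P : Subgroup G} (hJ : IsOfJankoFourTypeWith z P)
    (hcard : Nat.card G = 86775571046077562880) :
    ∃ x y : G, orderOf x = 11 ∧ orderOf y = 11 ∧ ¬ IsConj x y ∧ ∀ w : G, orderOf w = 11 → IsConj w x ∨ IsConj w y := by
  obtain ⟨U, t, x, y, B⟩ := ElevenLocal.exists_base hJ hcard
  exact ElevenEnd.two_classes B

/-- S5578. -/
theorem pgl23 {z : G} {P : Subgroup G} (hJ : IsOfJankoFourTypeWith z P)
    (hcard : Nat.card G = 86775571046077562880) :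
    ∃ K : Subgroup G, Nonempty (↥K ≃* GL (Fin 2) (ZMod 23) ⧸ Subgroup.center (GL (Fin 2) (ZMod 23))) :=
  PGL.exists_pgl23 hJ hcard fun U => by
    obtain ⟨h1, h2, -, h4, -⟩ := sylow_eleven hJ hcard U
    exact ⟨h1, h2, h4⟩

end Cfsg.Agent.J4Type.ElevenRows
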