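import Cfsg.Agent.Lib.J4Type.Lift
import Mathlib.GroupTheory.Perm.Cycle.Type

/-!
The fixed space of the group of an octad on `W` (helper19).

* `Cfix o` : the fixed space of the sixteen-element group; `finrank_Cfix` = 3, `Cfix_isotropic`,
  `mem_Cfix_of_orth`, `qS_Cfix`
* `finrank_range_mv` : every involution of the group has commutator space of dimension two
* `range_mv_injective`, `ker_mv_inj`, `mem_Cfix_of_two`
-/

set_option autoImplicit false
set_option linter.style.haveILetI false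
set_option linter.unusedSectionVars false
open scoped Pointwise
open Cfsg Subgroup

namespace Cfsg.Agent.J4Type

open Cfsg.Agent.Golay

/-- The sign of an element of the field with two elements. -/
def sgn (a : ZMod 2) : ℤ := if a = 0 then 1 else -1

theorem sgn_add : ∀ a b : ZMod 2, sgn (a + b) = sgn a * sgn b := by decide

/-- The Gauss sum of a quadratic function with a radical, squared. -/
theorem gauss_sq {W : Type*} [AddCommGroup W] [Fintype W] [DecidableEq W] (q : W → ZMod 2)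
    (B : W → W → ZMod 2) (hq : ∀ u v, q (u + v) = q u + q v + B u v)
    (hB : ∀ u v w, B u (v + w) = B u v + B u w) (C : Finset W)
    (hC0 : ∀ u ∈ C, q u = 0) (hCB : ∀ u ∈ C, ∀ v, B u v = 0) (hCrad : ∀ u, u ∉ C → ∃ v, B u v = 1)
    :
    (∑ v, sgn (q v)) ^ 2 = (C.card : ℤ) * Fintype.card W := by
  have h1 : (∑ v, sgn (q v)) ^ 2 = ∑ u, ∑ v, sgn (q u + B u v) := by
    calc (∑ v, sgn (q v)) ^ 2 = ∑ v, ∑ u, sgn (q v) * sgn (q u) := by rw [sq, Finset.sum_mul_sum]
      _ = ∑ v, ∑ u, sgn (q v) * sgn (q (u + v)) := by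
          refine Finset.sum_congr rfl fun v _ => ?_
          exact (Fintype.sum_equiv (Equiv.addRight v) (fun u => sgn (q v) * sgn (q (u + v)))
            (fun u => sgn (q v) * sgn (q u)) fun u => rfl).symm
      _ = ∑ v, ∑ u, sgn (q u + B u v) := by
          refine Finset.sum_congr rfl fun v _ => Finset.sum_congr rfl fun u _ => ?_
          rw [← sgn_add, hq, show q v + (q u + q v + B u v) = q u + B u v + (q v + q v) by ring,
            (by decide : ∀ a : ZMod 2, a + a = 0) (q v), add_zero]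
      _ = _ := Finset.sum_comm
  rw [h1, ← Finset.sum_subset (Finset.subset_univ C) (fun u _ hu => ?_)]
  · rw [Finset.sum_congr rfl fun u hu => Finset.sum_congr rfl fun v _ => by
      rw [hC0 u hu, hCB u hu v, add_zero]]
    simp [sgn]
  · obtain ⟨w, hw⟩ := hCrad u hu
    have hneg : ∀ v, sgn (q u + B u (w + v)) = -sgn (q u + B u v) := by
      intro v
      rw [hB, hw, show q u + (1 + B u v) = (q u + B u v) + 1 by ring, sgn_add]
      simp [sgn]
    have hs : ∑ v, sgn (q u + B u (w + v)) = ∑ v, sgn (q u + B u v) :=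
      Fintype.sum_equiv (Equiv.addLeft w) _ _ fun v => rfl
    simp only [hneg, Finset.sum_neg_distrib] at hs
    omega

namespace HexOct

variable {o : Finset GolayPt}

theorem perm_trivial (ho : HexOct o) {α : Type*} [Finite α] (hα : Nat.card α ≤ 5)
    (f : ↥(stab0 o) →* Equiv.Perm α)
    (hf : ∀ g : ↥(stab0 o), (g : Equiv.Perm GolayPt) ∈ octadFix o → f g = 1) : f = 1 := by
  classical
  have := Fintype.ofFinite α
  haveI : IsSimpleGroup ↥(alternatingGroup (Six o)) := alternatingGroup.isSimpleGroup (by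
    rw [Nat.card_eq_fintype_card, ho.card_six]; norm_num)
  let r : ↥(stab0 o) →* ↥(alternatingGroup (Six o)) :=
    (sixRes0 o).codRestrict _ fun g => ho.range_sixRes0 ▸ ⟨g, rfl⟩
  have hr : Function.Surjective r := fun e => by
    obtain ⟨g, hg⟩ := ho.exists_even e.2
    exact ⟨g, Subtype.ext hg⟩
  have hker : r.ker ≤ f.ker := fun g hg =>
    hf g ((ho.mem_ker_sixRes0 g).1 (congrArg Subtype.val hg))
  haveI : (f.ker.map r).Normal := Subgroup.Normal.map inferInstance r hr
  rcases IsSimpleGroup.eq_bot_or_eq_top_of_normal (f.ker.map r) inferInstance with e | e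
  · exfalso
    have h1 : f.ker = r.ker := le_antisymm (fun g hg => by
      rw [MonoidHom.mem_ker, ← Subgroup.mem_bot, ← e]; exact ⟨g, hg, rfl⟩) hker
    have h2 : f.ker.index = 360 := by
      rw [h1, Subgroup.index_ker, MonoidHom.range_eq_top.2 hr, Subgroup.card_top, ← ho.range_sixRes0,
        ← Subgroup.index_ker]
      have h3 := (sixRes0 o).ker.index_mul_card
      have h4 : Nat.card (sixRes0 o).ker = 16 := by
        rw [← natCard_octadFix ho.mem]
        exact Nat.card_congr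
          { toFun := fun g => ⟨(g : ↥(stab0 o)), (ho.mem_ker_sixRes0 _).1 g.2⟩
            invFun := fun a => ⟨⟨a, ho.fix_le_stab0 a.2⟩, (ho.mem_ker_sixRes0 _).2 a.2⟩ }
      rw [h4, ho.natCard_stab0] at h3
      omega
    rw [Subgroup.index_ker] at h2
    have h5 := Subgroup.card_subgroup_dvd_card f.range
    rw [h2, Nat.card_eq_fintype_card, Fintype.card_perm, ← Nat.card_eq_fintype_card] at h5
    have : (Nat.card α).factorial ∣ Nat.factorial 5 := Nat.factorial_dvd_factorial hα
    have := Nat.le_of_dvd (by norm_num [Nat.factorial]) (h5.trans this)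
    norm_num [Nat.factorial] at this
  · refine MonoidHom.ker_eq_top_iff.1 ((Subgroup.eq_top_iff' _).2 fun g => ?_)
    obtain ⟨k, hk, hkg⟩ := (e ▸ Subgroup.mem_top (r g) : r g ∈ f.ker.map r)
    have : k⁻¹ * g ∈ f.ker := hker (by rw [MonoidHom.mem_ker, map_mul, map_inv, hkg, inv_mul_cancel])
    simpa using mul_mem hk this

theorem index_stab0 (ho : HexOct o) : ((stab0 o).subgroupOf Spor.M22).index = 77 := by
  have h := ((stab0 o).subgroupOf Spor.M22).index_mul_card
  rw [show Nat.card ↥((stab0 o).subgroupOf Spor.M22) = Nat.card ↥(stab0 o) from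
      Nat.card_congr (Subgroup.subgroupOfEquivOfLe (inf_le_left : stab0 o ≤ Spor.M22)).toEquiv,
    ho.natCard_stab0, natCard_M22'] at h
  omega

end HexOct

namespace Setting

variable {G : Type*} [Group G] [Finite G] {z : G} {P : Subgroup G} (S : Setting z P)
  {o : Finset GolayPt} (ho : HexOct o)
include S ho

theorem fix_M22 {a : Equiv.Perm GolayPt} (ha : a ∈ octadFix o) : a ∈ Spor.M22 ∧ a * a = 1 :=
  ⟨ho.fix_le_M22 ha, mul_self_octadFix ho.mem ha⟩

omit ho in
/-- The fixed space of the group of an octad. -/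
noncomputable def Cfix (o : Finset GolayPt) : Submodule K4 S.WS :=
  ⨅ a ∈ octadFix o, LinearMap.ker (S.mv a)

theorem mem_Cfix {v : S.WS} : v ∈ S.Cfix o ↔ ∀ a ∈ octadFix o, S.invLift a v = v := by
  simp only [Cfix, Submodule.mem_iInf, LinearMap.mem_ker]
  exact forall₂_congr fun a ha => S.mv_eq_zero_iff (S.fix_M22 ho ha).1 (S.fix_M22 ho ha).2 v

theorem invLift_fix_mul {a b : Equiv.Perm GolayPt} (ha : a ∈ octadFix o) (hb : b ∈ octadFix o) :
    S.invLift (a * b) = S.invLift a * S.invLift b :=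
  S.invLift_mul (S.fix_M22 ho ha).1 (S.fix_M22 ho ha).2 (S.fix_M22 ho hb).1 (S.fix_M22 ho hb).2
    (ho.comm_fix ha hb)

theorem κ_stab {h : ↥(Cz z)} (hh : S.κ h ∈ stabO o) : S.κ h ∈ octadStab o :=
  ⟨pairStab_le_M24 hh.1, hh.2⟩

theorem rho_mv (h : ↥(Cz z)) (hh : S.κ h ∈ stabO o) {a : Equiv.Perm GolayPt} (ha : a ∈ octadFix o) (v : S.WS) :
    S.rho h (S.mv a v) = S.mv (S.κ h * a * (S.κ h)⁻¹) (S.rho h v) := by
  have hb := HexOct.conj_mem_fix (S.κ_stab ho hh) ha
  rw [S.mv_apply (S.fix_M22 ho ha).1 (S.fix_M22 ho ha).2, S.mv_apply (S.fix_M22 ho hb).1 (S.fix_M22 ho hb).2,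
    S.invLift_conj h (S.fix_M22 ho ha).1 (S.fix_M22 ho ha).2, map_add]
  simp

theorem rho_mem_Cfix {h : ↥(Cz z)} (hh : S.κ h ∈ stabO o) {v : S.WS} (hv : v ∈ S.Cfix o) :
    S.rho h v ∈ S.Cfix o := by
  rw [S.mem_Cfix ho] at hv ⊢
  intro a ha
  have hb := HexOct.conj_mem_fix ((octadStab o).inv_mem (S.κ_stab ho hh)) ha
  rw [inv_inv] at hb
  have h1 := S.invLift_conj h (S.fix_M22 ho hb).1 (S.fix_M22 ho hb).2
  rw [show S.κ h * ((S.κ h)⁻¹ * a * S.κ h) * (S.κ h)⁻¹ = a by group] at h1
  rw [h1]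
  simp [hv _ hb]

theorem finrank_cases {U : Submodule K4 S.WS}
    (hU : ∀ h : ↥(Cz z), S.κ h ∈ stab0 o → ∀ u ∈ U, S.rho h u ∈ U) :
    Module.finrank K4 U = 0 ∨ Module.finrank K4 U = 3 ∨ Module.finrank K4 U = 6 := by
  have h := S.finrank_dvd_three_of_invariant (Y := stab0 o) (by rw [ho.index_stab0]; norm_num) U
    fun h hY _ u hu => hU h hY u hu
  have h6 := Submodule.finrank_le U
  rw [S.finrank_WS] at h6
  omega

theorem exists_fixed_of_invariant {U : Submodule K4 S.WS} (hU : U ≠ ⊥)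
    (hinv : ∀ a ∈ octadFix o, ∀ u ∈ U, S.invLift a u ∈ U) : ∃ u ∈ U, u ≠ 0 ∧ u ∈ S.Cfix o := by
  haveI : Fact (Nat.Prime 2) := ⟨Nat.prime_two⟩
  have hpg : IsPGroup 2 ↥(octadFix o) := IsPGroup.of_card (n := 4) (natCard_octadFix ho.mem)
  letI : MulAction ↥(octadFix o) U :=
    { smul := fun a u => ⟨S.invLift a u, hinv a a.2 u u.2⟩
      one_smul := fun u => Subtype.ext (by
        show S.invLift 1 (u : S.WS) = u
        rw [S.invLift_one]; rfl)
      mul_smul := fun a b u => Subtype.ext (by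
        show S.invLift ((a : Equiv.Perm GolayPt) * b) (u : S.WS) = S.invLift a (S.invLift b u)
        rw [S.invLift_fix_mul ho a.2 b.2]; rfl) }
  have hfin : 0 < Module.finrank K4 U := by
    rw [Nat.pos_iff_ne_zero]
    exact fun h => hU (Submodule.finrank_eq_zero.1 h)
  have h2 : 2 ∣ Nat.card U := by
    rw [natCard_eq_four_pow]
    exact dvd_pow (by norm_num) hfin.ne'
  obtain ⟨u, hu, hne⟩ := hpg.exists_fixed_point_of_prime_dvd_card_of_fixed_point U h2
    (a := 0) fun a => Subtype.ext (map_zero (S.invLift (a : Equiv.Perm GolayPt)))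
  refine ⟨u, u.2, fun h => hne.symm (Subtype.ext h), (S.mem_Cfix ho).2 fun a ha => ?_⟩
  exact congrArg Subtype.val (hu ⟨a, ha⟩)

theorem exists_mem_fix_ne : ∃ a ∈ octadFix o, a ≠ 1 := by
  by_contra h
  push Not at h
  have h1 : octadFix o = ⊥ := (Subgroup.eq_bot_iff_forall _).2 h
  have := natCard_octadFix ho.mem
  rw [h1, Subgroup.card_bot] at this
  norm_num at this

theorem finrank_Cfix : Module.finrank K4 (S.Cfix o) = 3 := by
  rcases S.finrank_cases ho (U := S.Cfix o) fun h hh u hu => S.rho_mem_Cfix ho (stab0_le_stabO o hh) hu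
    with h | h | h
  · exfalso
    obtain ⟨u, -, hne, hu⟩ := S.exists_fixed_of_invariant ho (U := ⊤) (fun e => by
      have := S.finrank_WS
      rw [← finrank_top, e, finrank_bot] at this
      omega) (fun _ _ _ _ => Submodule.mem_top)
    rw [Submodule.finrank_eq_zero.1 h, Submodule.mem_bot] at hu
    exact hne hu
  · exact h
  · exfalso
    obtain ⟨a, ha, hne⟩ := S.exists_mem_fix_ne ho
    have htop : S.Cfix o = ⊤ := Submodule.eq_top_of_finrank_eq (h.trans S.finrank_WS.symm)
    refine hne (S.invLift_eq_one (S.fix_M22 ho ha).1 (S.fix_M22 ho ha).2 (LinearEquiv.ext fun v => ?_))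
    exact (S.mem_Cfix ho).1 (htop ▸ Submodule.mem_top) a ha

omit ho in
/-- The commutator space. -/
noncomputable def Csum (o : Finset GolayPt) : Submodule K4 S.WS :=
  ⨆ a ∈ octadFix o, LinearMap.range (S.mv a)

theorem mem_Cfix_iff_orth (w : S.WS) : w ∈ S.Cfix o ↔ ∀ x ∈ S.Csum o, S.beta x w = 0 := by
  constructor
  · intro hw x hx
    let K : Submodule K4 S.WS :=
      { carrier := {x | S.beta x w = 0 ∧ S.beta (S.omega x) w = 0}
        add_mem' := fun {a b} ha hb => ⟨by rw [map_add, LinearMap.add_apply, ha.1, hb.1, add_zero],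
          by rw [map_add, map_add, LinearMap.add_apply, ha.2, hb.2, add_zero]⟩
        zero_mem' := ⟨by simp, by simp⟩
        smul_mem' := fun c a ha => by
          rcases K4.cases' c with rfl | rfl | rfl | rfl
          · rw [zero_smul]; exact ⟨by simp, by simp⟩
          · rw [one_smul]; exact ha
          · rw [S.zeta_smul]
            exact ⟨ha.2, by rw [S.omega_sum, map_add, LinearMap.add_apply, ha.2, ha.1, add_zero]⟩
          · rw [add_smul, one_smul, S.zeta_smul]
            exact ⟨by rw [map_add, LinearMap.add_apply, ha.2, ha.1, add_zero],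
              by rw [map_add, map_add, LinearMap.add_apply, S.omega_sum, map_add, LinearMap.add_apply, ha.2, ha.1,
                add_zero, add_zero]⟩ }
    have hle : S.Csum o ≤ K := by
      refine iSup₂_le fun a ha => ?_
      rintro _ ⟨v, rfl⟩
      have h0 : S.mv a w = 0 :=
        (S.mv_eq_zero_iff (S.fix_M22 ho ha).1 (S.fix_M22 ho ha).2 w).2 ((S.mem_Cfix ho).1 hw a ha)
      refine ⟨?_, ?_⟩
      · rw [S.beta_mv (S.fix_M22 ho ha).1 (S.fix_M22 ho ha).2, h0, map_zero]
      · rw [← S.zeta_smul, ← map_smul, S.beta_mv (S.fix_M22 ho ha).1 (S.fix_M22 ho ha).2, h0, map_zero]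
    exact (hle hx).1
  · intro h
    refine (S.mem_Cfix ho).2 fun a ha => (S.mv_eq_zero_iff (S.fix_M22 ho ha).1 (S.fix_M22 ho ha).2 w).1 ?_
    refine S.beta_nondeg _ fun x => ?_
    rw [S.beta_comm, ← S.beta_mv (S.fix_M22 ho ha).1 (S.fix_M22 ho ha).2]
    exact h _ (Submodule.mem_iSup_of_mem a (Submodule.mem_iSup_of_mem ha ⟨x, rfl⟩))

theorem rho_mem_Csum {h : ↥(Cz z)} (hi : h ∈ S.innerH) (hh : S.κ h ∈ stabO o) {v : S.WS} (hv : v ∈ S.Csum o) :
    S.rho h v ∈ S.Csum o := by
  have hle : S.Csum o ≤ (S.Csum o).comap (S.linK hi) := by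
    refine iSup₂_le fun a ha => ?_
    rintro _ ⟨u, rfl⟩
    show S.rho h (S.mv a u) ∈ S.Csum o
    rw [S.rho_mv ho h hh ha]
    exact Submodule.mem_iSup_of_mem _
      (Submodule.mem_iSup_of_mem (HexOct.conj_mem_fix (S.κ_stab ho hh) ha) ⟨_, rfl⟩)
  exact hle hv

theorem Csum_eq : S.Csum o = S.Cfix o := by
  have hinv : ∀ h : ↥(Cz z), S.κ h ∈ stab0 o → ∀ u ∈ S.Csum o, S.rho h u ∈ S.Csum o := fun h hh u hu =>
    S.rho_mem_Csum ho hh.1 (stab0_le_stabO o hh) hu
  have hne : S.Csum o ≠ ⊥ := by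
    intro e
    have htop : S.Cfix o = ⊤ := by
      rw [eq_top_iff]
      intro w _
      refine (S.mem_Cfix_iff_orth ho w).2 fun x hx => ?_
      rw [e, Submodule.mem_bot] at hx
      rw [hx, map_zero, LinearMap.zero_apply]
    have := S.finrank_Cfix ho
    rw [htop, finrank_top, S.finrank_WS] at this
    omega
  have h6 : Module.finrank K4 (S.Csum o) ≠ 6 := by
    intro h
    have htop : S.Csum o = ⊤ := Submodule.eq_top_of_finrank_eq (h.trans S.finrank_WS.symm)
    have hbot : S.Cfix o = ⊥ := by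
      rw [Submodule.eq_bot_iff]
      intro w hw
      refine S.beta_nondeg w fun x => ?_
      rw [S.beta_comm]
      exact (S.mem_Cfix_iff_orth ho w).1 hw x (htop ▸ Submodule.mem_top)
    have := S.finrank_Cfix ho
    rw [hbot, finrank_bot] at this
    omega
  have h3 : Module.finrank K4 (S.Csum o) = 3 := by
    rcases S.finrank_cases ho hinv with h | h | h
    · exact absurd (Submodule.finrank_eq_zero.1 h) hne
    · exact h
    · exact absurd h h6
  obtain ⟨u, hu, hu0, huC⟩ := S.exists_fixed_of_invariant ho hne fun a ha v hv => by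
    have : S.invLift a v = S.mv a v + v := by
      rw [S.mv_apply (S.fix_M22 ho ha).1 (S.fix_M22 ho ha).2, add_assoc, ZModModule.add_self, add_zero]
    rw [this]
    exact add_mem (Submodule.mem_iSup_of_mem a (Submodule.mem_iSup_of_mem ha ⟨v, rfl⟩)) hv
  have hmeet : Module.finrank K4 ↥(S.Csum o ⊓ S.Cfix o) = 3 := by
    rcases S.finrank_cases ho (U := S.Csum o ⊓ S.Cfix o) (fun h hh v hv =>
      ⟨hinv h hh v hv.1, S.rho_mem_Cfix ho (stab0_le_stabO o hh) hv.2⟩) with h | h | h
    · rw [Submodule.finrank_eq_zero] at h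
      exact absurd ((Submodule.mem_bot K4).1 (h ▸ (⟨hu, huC⟩ : u ∈ S.Csum o ⊓ S.Cfix o))) hu0
    · exact h
    · have := Submodule.finrank_mono (inf_le_left : S.Csum o ⊓ S.Cfix o ≤ S.Csum o)
      omega
  have e1 := Submodule.eq_of_le_of_finrank_eq (inf_le_left : S.Csum o ⊓ S.Cfix o ≤ S.Csum o) (hmeet.trans h3.symm)
  have e2 := Submodule.eq_of_le_of_finrank_eq (inf_le_right : S.Csum o ⊓ S.Cfix o ≤ S.Cfix o)
    (hmeet.trans (S.finrank_Cfix ho).symm)
  exact e1.symm.trans e2

theorem mv_mem_Cfix {a : Equiv.Perm GolayPt} (ha : a ∈ octadFix o) (v : S.WS) : S.mv a v ∈ S.Cfix o := by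
  rw [← S.Csum_eq ho]
  exact Submodule.mem_iSup_of_mem a (Submodule.mem_iSup_of_mem ha ⟨v, rfl⟩)

theorem range_mv_le {a : Equiv.Perm GolayPt} (ha : a ∈ octadFix o) : LinearMap.range (S.mv a) ≤ S.Cfix o := by
  rintro _ ⟨v, rfl⟩
  exact S.mv_mem_Cfix ho ha v

theorem Cfix_isotropic {u v : S.WS} (hu : u ∈ S.Cfix o) (hv : v ∈ S.Cfix o) : S.beta u v = 0 :=
  (S.mem_Cfix_iff_orth ho v).1 hv u (by rw [S.Csum_eq ho]; exact hu)

theorem mem_Cfix_of_orth {v : S.WS} (h : ∀ c ∈ S.Cfix o, S.beta c v = 0) : v ∈ S.Cfix o :=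
  (S.mem_Cfix_iff_orth ho v).2 (by rw [S.Csum_eq ho]; exact h)

theorem qS_Cfix {v : S.WS} (hv : v ∈ S.Cfix o) : S.qS v = 0 := by
  have hw : S.omega v ∈ S.Cfix o := by
    rw [← S.zeta_smul]; exact Submodule.smul_mem _ _ hv
  have h := S.qS_omega (S.omega v)
  rw [S.omega_sum, S.qS_add, S.Cfix_isotropic ho hw hv, add_zero, S.qS_omega] at h
  exact (mul_eq_zero.1 (by linear_combination h : (1 : ZMod 2) * S.qS v = 0)).resolve_left one_ne_zero

theorem mv_mul {a b : Equiv.Perm GolayPt} (ha : a ∈ octadFix o) (hb : b ∈ octadFix o) :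
    S.mv (a * b) = S.mv a + S.mv b := by
  refine LinearMap.ext fun v => ?_
  have hab := mul_mem ha hb
  rw [LinearMap.add_apply, S.mv_apply (S.fix_M22 ho hab).1 (S.fix_M22 ho hab).2, S.invLift_fix_mul ho ha hb]
  have h1 := (S.mem_Cfix ho).1 (S.mv_mem_Cfix ho hb v) a ha
  rw [S.mv_apply (S.fix_M22 ho hb).1 (S.fix_M22 ho hb).2, map_add] at h1
  rw [S.mv_apply (S.fix_M22 ho ha).1 (S.fix_M22 ho ha).2, S.mv_apply (S.fix_M22 ho hb).1 (S.fix_M22 ho hb).2]
  show S.invLift a (S.invLift b v) + v = _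
  rw [eq_sub_of_add_eq h1, ZModModule.sub_eq_add]
  abel

theorem Cfix_le_ker {a : Equiv.Perm GolayPt} (ha : a ∈ octadFix o) : S.Cfix o ≤ LinearMap.ker (S.mv a) :=
  fun _ hv => LinearMap.mem_ker.2 ((S.mv_eq_zero_iff (S.fix_M22 ho ha).1 (S.fix_M22 ho ha).2 _).2
    ((S.mem_Cfix ho).1 hv a ha))

theorem mv_ne_zero {a : Equiv.Perm GolayPt} (ha : a ∈ octadFix o) (ha1 : a ≠ 1) : S.mv a ≠ 0 := fun h =>
  ha1 (S.invLift_eq_one (S.fix_M22 ho ha).1 (S.fix_M22 ho ha).2 (LinearEquiv.ext fun v =>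
    (S.mv_eq_zero_iff (S.fix_M22 ho ha).1 (S.fix_M22 ho ha).2 v).1 (by rw [h]; rfl)))

theorem range_mv_conj {h : ↥(Cz z)} (hi : h ∈ S.innerH) (hh : S.κ h ∈ stabO o) {a : Equiv.Perm GolayPt}
    (ha : a ∈ octadFix o) :
    (LinearMap.range (S.mv a)).map (S.linK hi) = LinearMap.range (S.mv (S.κ h * a * (S.κ h)⁻¹)) := by
  ext v
  simp only [Submodule.mem_map, LinearMap.mem_range]
  constructor
  · rintro ⟨_, ⟨u, rfl⟩, rfl⟩
    exact ⟨_, (S.rho_mv ho h hh ha u).symm⟩
  · rintro ⟨u, rfl⟩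
    refine ⟨_, ⟨(S.rho h).symm u, rfl⟩, ?_⟩
    show S.rho h (S.mv a ((S.rho h).symm u)) = _
    rw [S.rho_mv ho h hh ha, LinearEquiv.apply_symm_apply]

omit ho in
theorem linK_injective {h : ↥(Cz z)} (hi : h ∈ S.innerH) : Function.Injective (S.linK hi) :=
  (S.rho h).injective

theorem exists_inner_conj {a b : Equiv.Perm GolayPt} (ha : a ∈ octadFix o) (ha1 : a ≠ 1) (hb : b ∈ octadFix o)
    (hb1 : b ≠ 1) : ∃ h : ↥(Cz z), h ∈ S.innerH ∧ S.κ h ∈ stabO o ∧ S.κ h * a * (S.κ h)⁻¹ = b := by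
  obtain ⟨g, hg, hgab⟩ := ho.exists_conj_octadFix ha ha1 hb hb1
  obtain ⟨h, -, rfl⟩ := S.frattini' (m22_le_pairStab hg.1)
  exact ⟨h, hg.1, stab0_le_stabO o hg, hgab⟩

theorem finrank_range_eq {a b : Equiv.Perm GolayPt} (ha : a ∈ octadFix o) (ha1 : a ≠ 1) (hb : b ∈ octadFix o)
    (hb1 : b ≠ 1) : Module.finrank K4 (LinearMap.range (S.mv a)) = Module.finrank K4 (LinearMap.range (S.mv b)) := by
  obtain ⟨h, hi, hh, hab⟩ := S.exists_inner_conj ho ha ha1 hb hb1
  rw [← hab, ← S.range_mv_conj ho hi hh ha]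
  exact (Submodule.equivMapOfInjective _ (S.linK_injective hi) _).finrank_eq

/-- The hermitian form of an involution of the group, as a quadratic function. -/
noncomputable def qm (_ho : HexOct o) (a : Equiv.Perm GolayPt) (v : S.WS) : ZMod 2 :=
  S.beta v (S.omega (S.mv a v))

theorem qm_add {a : Equiv.Perm GolayPt} (ha : a ∈ octadFix o) (u v : S.WS) :
    S.qm ho a (u + v) = S.qm ho a u + S.qm ho a v + S.beta u (S.mv a v) := by
  have hmω : ∀ w, S.mv a (S.omega w) = S.omega (S.mv a w) := fun w => by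
    rw [← S.zeta_smul, ← S.zeta_smul, map_smul]
  have h2 : S.beta v (S.omega (S.mv a u)) = S.beta (S.omega u) (S.mv a v) := by
    rw [← hmω, ← S.beta_mv (S.fix_M22 ho ha).1 (S.fix_M22 ho ha).2, S.beta_comm]
  have h3 : S.beta u (S.omega (S.mv a v)) + S.beta (S.omega u) (S.mv a v) = S.beta u (S.mv a v) := by
    have h4 : S.beta (S.omega u) (S.mv a v) = S.beta u (S.omega (S.omega (S.mv a v))) := by
      conv_lhs => rw [← S.beta_omega, ← S.beta_omega]
      have h5 : S.omega (S.omega (S.omega u)) = u := DFunLike.congr_fun S.omega_cube u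
      rw [h5]
    rw [h4, S.omega_sum, map_add]
    ring_nf
    rw [show (2 : ZMod 2) = 0 from rfl]
    ring
  simp only [qm, map_add, LinearMap.add_apply, h2]
  linear_combination h3

theorem qm_omega (a : Equiv.Perm GolayPt) (v : S.WS) : S.qm ho a (S.omega v) = S.qm ho a v := by
  have hmω : S.mv a (S.omega v) = S.omega (S.mv a v) := by rw [← S.zeta_smul, ← S.zeta_smul, map_smul]
  rw [qm, hmω, S.beta_omega]
  rfl

theorem qm_mul {a b : Equiv.Perm GolayPt} (ha : a ∈ octadFix o) (hb : b ∈ octadFix o) (v : S.WS) :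
    S.qm ho (a * b) v = S.qm ho a v + S.qm ho b v := by
  simp only [qm, S.mv_mul ho ha hb, LinearMap.add_apply, map_add]

theorem exists_rank_le_two : ∃ a ∈ octadFix o, a ≠ 1 ∧ Module.finrank K4 (LinearMap.range (S.mv a)) ≤ 2 := by
  classical
  by_contra hcon
  push Not at hcon
  have := Fintype.ofFinite S.WS
  have hW : Fintype.card S.WS = 4096 := by rw [← Nat.card_eq_fintype_card, S.card_WS]; norm_num
  let F : Finset S.WS := Finset.univ.filter fun v => v ∈ S.Cfix o
  have hF : F.card = 64 := by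
    rw [← Fintype.card_subtype, ← Nat.card_eq_fintype_card]
    exact (natCard_eq_four_pow (U := ↥(S.Cfix o))).trans (by rw [S.finrank_Cfix ho]; norm_num)
  have hfin : Finite ↥(octadFix o) := inferInstance
  have := Fintype.ofFinite ↥(octadFix o)
  have hval : ∀ a : ↥(octadFix o), (a : Equiv.Perm GolayPt) ≠ 1 →
      ∑ v, sgn (S.qm ho a v) = -512 := by
    intro a ha1
    have hr : LinearMap.range (S.mv a) = S.Cfix o := by
      refine Submodule.eq_of_le_of_finrank_le (S.range_mv_le ho a.2) ?_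
      rw [S.finrank_Cfix ho]
      exact hcon a a.2 ha1
    have hk : LinearMap.ker (S.mv a) = S.Cfix o := by
      refine (Submodule.eq_of_le_of_finrank_eq (S.Cfix_le_ker ho a.2) ?_).symm
      have h := LinearMap.finrank_range_add_finrank_ker (S.mv (a : Equiv.Perm GolayPt))
      rw [hr, S.finrank_Cfix ho, S.finrank_WS] at h
      rw [S.finrank_Cfix ho]
      omega
    have hsq := gauss_sq (S.qm ho a) (fun u v => S.beta u (S.mv a v)) (S.qm_add ho a.2)
      (fun u v w => by rw [map_add, map_add]) F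
      (fun u hu => by
        have hu' := (Finset.mem_filter.1 hu).2
        rw [qm, show S.mv a u = 0 from LinearMap.mem_ker.1 (hk.symm ▸ hu' : u ∈ LinearMap.ker (S.mv a)),
          map_zero, map_zero])
      (fun u hu v => by
        rw [← S.beta_mv (S.fix_M22 ho a.2).1 (S.fix_M22 ho a.2).2,
          show S.mv a u = 0 from LinearMap.mem_ker.1
            (hk.symm ▸ (Finset.mem_filter.1 hu).2 : u ∈ LinearMap.ker (S.mv a)), map_zero, LinearMap.zero_apply])
      (fun u hu => by
        by_contra hh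
        push Not at hh
        refine hu (Finset.mem_filter.2 ⟨Finset.mem_univ _, hk ▸ LinearMap.mem_ker.2 ?_⟩)
        refine S.beta_nondeg _ fun v => ?_
        rw [S.beta_mv (S.fix_M22 ho a.2).1 (S.fix_M22 ho a.2).2]
        exact (LargeExtraspecial.OutForm.two_cases _).resolve_right (hh v))
    rw [hF, hW] at hsq
    obtain h | h : ∑ v, sgn (S.qm ho a v) = 512 ∨ ∑ v, sgn (S.qm ho a v) = -512 := by
      have h2 : (∑ v, sgn (S.qm ho a v)) ^ 2 = (512 : ℤ) ^ 2 := hsq.trans (by norm_num)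
      exact sq_eq_sq_iff_eq_or_eq_neg.1 h2
    · exfalso
      have hsum : ∑ v, sgn (S.qm ho a v) =
          2 * ((Finset.univ.filter fun v => S.qm ho a v = 0).card : ℤ) - 4096 := by
        rw [Finset.sum_congr rfl fun v _ => (show sgn (S.qm ho a v) = 2 * (if S.qm ho a v = 0 then 1 else 0) - 1 by
          unfold sgn; split <;> norm_num), Finset.sum_sub_distrib, ← Finset.mul_sum, Finset.sum_boole]
        simp [hW]
      haveI : Fact (Nat.Prime 3) := ⟨Nat.prime_three⟩
      have hmem : ∀ v, S.qm ho a v = 0 ↔ S.qm ho a (S.rho S.genH v) = 0 := fun v => by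
        rw [← S.omega_eq, S.qm_omega ho]
      let Zs := {v : S.WS // S.qm ho a v = 0}
      let σ : Equiv.Perm Zs := (S.rho S.genH).toEquiv.subtypeEquiv hmem
      have hσ : σ ^ 3 ^ 1 = 1 := Equiv.ext fun v => Subtype.ext (by
        show S.rho S.genH (S.rho S.genH (S.rho S.genH (v : S.WS))) = v
        exact DFunLike.congr_fun S.omega_cube (v : S.WS))
      have hm := Equiv.Perm.card_compl_support_modEq hσ
      have h0 : S.qm ho a 0 = 0 := by simp [qm]
      have hfix : σ.supportᶜ = {(⟨0, h0⟩ : Zs)} := by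
        ext v
        rw [Finset.mem_compl, Equiv.Perm.mem_support, not_not, Finset.mem_singleton]
        constructor
        · exact fun e => Subtype.ext (S.omega_fix (congrArg Subtype.val e))
        · rintro rfl
          exact Subtype.ext (map_zero (S.rho S.genH))
      rw [hfix, Finset.card_singleton, Fintype.card_subtype] at hm
      rw [h] at hsum
      unfold Nat.ModEq at hm
      omega
    · exact h
  have hone : ∑ v, sgn (S.qm ho (1 : Equiv.Perm GolayPt) v) = 4096 := by
    have h1 : ∀ v, S.qm ho (1 : Equiv.Perm GolayPt) v = 0 := fun v => by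
      have hz : S.mv 1 v = 0 := (S.mv_eq_zero_iff (one_mem _) (one_mul _) v).2 (by rw [S.invLift_one]; rfl)
      simp [qm, hz]
    simp [h1, sgn, hW]
  have hneg : ∑ a : ↥(octadFix o), ∑ v, sgn (S.qm ho a v) = -3584 := by
    rw [← Finset.add_sum_erase _ _ (Finset.mem_univ (1 : ↥(octadFix o))),
      Finset.sum_congr rfl fun a ha => hval a (fun h => (Finset.mem_erase.1 ha).1 (Subtype.ext h)),
      Finset.sum_const, Finset.card_erase_of_mem (Finset.mem_univ _), Finset.card_univ,
      ← Nat.card_eq_fintype_card, natCard_octadFix ho.mem]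
    show ∑ v, sgn (S.qm ho (1 : Equiv.Perm GolayPt) v) + _ = _
    rw [hone]
    norm_num
  have hnn : 0 ≤ ∑ a : ↥(octadFix o), ∑ v, sgn (S.qm ho a v) := by
    rw [Finset.sum_comm]
    refine Finset.sum_nonneg fun v _ => ?_
    by_cases hv : ∀ a : ↥(octadFix o), S.qm ho a v = 0
    · exact Finset.sum_nonneg fun a _ => by rw [hv a]; simp [sgn]
    push Not at hv
    obtain ⟨b, hb⟩ := hv
    have hb1 := (LargeExtraspecial.OutForm.two_cases _).resolve_left hb
    have hs : ∑ a : ↥(octadFix o), sgn (S.qm ho ((b * a : ↥(octadFix o)) : Equiv.Perm GolayPt) v) =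
        ∑ a : ↥(octadFix o), sgn (S.qm ho a v) :=
      Fintype.sum_equiv (Equiv.mulLeft b) _ _ fun a => rfl
    have hneg' : ∀ a : ↥(octadFix o),
        sgn (S.qm ho ((b * a : ↥(octadFix o)) : Equiv.Perm GolayPt) v) = -sgn (S.qm ho a v) := by
      intro a
      rw [Subgroup.coe_mul, S.qm_mul ho b.2 a.2, hb1]
      exact (by decide : ∀ x : ZMod 2, sgn (1 + x) = -sgn x) _
    simp only [hneg', Finset.sum_neg_distrib] at hs
    omega
  omega

theorem finrank_range_mv {a : Equiv.Perm GolayPt} (ha : a ∈ octadFix o) (ha1 : a ≠ 1) :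
    Module.finrank K4 (LinearMap.range (S.mv a)) = 2 := by
  classical
  obtain ⟨b, hb, hb1, hb2⟩ := S.exists_rank_le_two ho
  rw [← S.finrank_range_eq ho ha ha1 hb hb1] at hb2
  by_contra hne
  have h1 : ∀ c ∈ octadFix o, c ≠ 1 → Module.finrank K4 (LinearMap.range (S.mv c)) = 1 := by
    intro c hc hc1
    rw [← S.finrank_range_eq ho ha ha1 hc hc1]
    have hpos : Module.finrank K4 (LinearMap.range (S.mv a)) ≠ 0 := fun e => S.mv_ne_zero ho ha ha1
      (LinearMap.range_eq_bot.1 (Submodule.finrank_eq_zero.1 e))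
    omega
  -- two maps with one-dimensional images whose sum has one
  have hpair : ∀ c ∈ octadFix o, ∀ d ∈ octadFix o, c ≠ 1 → d ≠ 1 →
      LinearMap.range (S.mv c) = LinearMap.range (S.mv d) ∨ LinearMap.ker (S.mv c) = LinearMap.ker (S.mv d) := by
    intro c hc d hd hc1 hd1
    by_cases hcd : c = d
    · subst hcd; exact Or.inl rfl
    by_contra hh
    push Not at hh
    obtain ⟨hR, hK⟩ := hh
    have hrk : Module.finrank K4 (LinearMap.range (S.mv c + S.mv d)) = 1 := by
      rw [← S.mv_mul ho hc hd]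
      refine h1 _ (mul_mem hc hd) fun e => hcd ?_
      rw [eq_inv_of_mul_eq_one_left e]
      exact inv_eq_of_mul_eq_one_right (mul_self_octadFix ho.mem hd)
    have hker : ∀ x y, x ∈ octadFix o → y ∈ octadFix o → x ≠ 1 → y ≠ 1 →
        LinearMap.ker (S.mv x) ≠ LinearMap.ker (S.mv y) → ∃ v, S.mv x v = 0 ∧ S.mv y v ≠ 0 := by
      intro x y hx hy hx1 hy1 hne'
      by_contra hv
      push Not at hv
      refine hne' (Submodule.eq_of_le_of_finrank_eq (fun v hv' => LinearMap.mem_ker.2 (hv v (LinearMap.mem_ker.1 hv'))) ?_)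
      have e1 := LinearMap.finrank_range_add_finrank_ker (S.mv x)
      have e2 := LinearMap.finrank_range_add_finrank_ker (S.mv y)
      rw [h1 x hx hx1] at e1
      rw [h1 y hy hy1] at e2
      omega
    have hle : ∀ x y : Equiv.Perm GolayPt, x ∈ octadFix o → y ∈ octadFix o → x ≠ 1 → y ≠ 1 →
        LinearMap.ker (S.mv x) ≠ LinearMap.ker (S.mv y) →
        LinearMap.range (S.mv y) ≤ LinearMap.range (S.mv x + S.mv y) := by
      intro x y hx hy hx1 hy1 hne'
      obtain ⟨v, hv1, hv2⟩ := hker x y hx hy hx1 hy1 hne'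
      have hsp : Submodule.span K4 {S.mv y v} = LinearMap.range (S.mv y) := by
        refine Submodule.eq_of_le_of_finrank_eq ((Submodule.span_singleton_le_iff_mem _ _).2 ⟨v, rfl⟩) ?_
        rw [h1 y hy hy1, finrank_span_singleton hv2]
      rw [← hsp, Submodule.span_singleton_le_iff_mem]
      exact ⟨v, by rw [LinearMap.add_apply, hv1, zero_add]⟩
    have e1 := hle c d hc hd hc1 hd1 hK
    have e2 := hle d c hd hc hd1 hc1 (Ne.symm hK)
    rw [add_comm] at e2
    exact hR ((Submodule.eq_of_le_of_finrank_eq e2 ((h1 c hc hc1).trans hrk.symm)).trans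
      (Submodule.eq_of_le_of_finrank_eq e1 ((h1 d hd hd1).trans hrk.symm)).symm)
  have hall : (∀ c ∈ octadFix o, c ≠ 1 → LinearMap.range (S.mv c) = LinearMap.range (S.mv a)) ∨
      (∀ c ∈ octadFix o, c ≠ 1 → LinearMap.ker (S.mv c) = LinearMap.ker (S.mv a)) := by
    by_contra hh
    push Not at hh
    obtain ⟨⟨c, hc, hc1, hcR⟩, ⟨d, hd, hd1, hdK⟩⟩ := hh
    have hcK := (hpair c hc a ha hc1 ha1).resolve_left hcR
    have hdR := (hpair d hd a ha hd1 ha1).resolve_right hdK
    rcases hpair c hc d hd hc1 hd1 with e | e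
    · exact hcR (e.trans hdR)
    · exact hdK (e.symm.trans hcK)
  rcases hall with hR | hK
  · have hd := S.finrank_cases ho (U := LinearMap.range (S.mv a)) fun h hh u hu => by
      have := HexOct.conj_mem_fix (S.κ_stab ho (stab0_le_stabO o hh)) ha
      have hne' : S.κ h * a * (S.κ h)⁻¹ ≠ 1 := fun e => ha1 (conj_eq_one_iff.1 e)
      rw [← hR _ this hne', ← S.range_mv_conj ho hh.1 (stab0_le_stabO o hh) ha]
      exact ⟨u, hu, rfl⟩
    rw [h1 a ha ha1] at hd
    omega
  · have hd := S.finrank_cases ho (U := LinearMap.ker (S.mv a)) fun h hh u hu => by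
      have := HexOct.conj_mem_fix (S.κ_stab ho (stab0_le_stabO o hh)) ha
      have hne' : S.κ h * a * (S.κ h)⁻¹ ≠ 1 := fun e => ha1 (conj_eq_one_iff.1 e)
      rw [← hK _ this hne', LinearMap.mem_ker, ← S.rho_mv ho h (stab0_le_stabO o hh) ha,
        LinearMap.mem_ker.1 hu, map_zero]
    have e1 := LinearMap.finrank_range_add_finrank_ker (S.mv a)
    rw [h1 a ha ha1, S.finrank_WS] at e1
    omega

theorem finrank_ker_mv {a : Equiv.Perm GolayPt} (ha : a ∈ octadFix o) (ha1 : a ≠ 1) :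
    Module.finrank K4 (LinearMap.ker (S.mv a)) = 4 := by
  have h := LinearMap.finrank_range_add_finrank_ker (S.mv a)
  rw [S.finrank_range_mv ho ha ha1, S.finrank_WS] at h
  omega

theorem range_mv_injective {a b : Equiv.Perm GolayPt} (ha : a ∈ octadFix o) (ha1 : a ≠ 1) (hb : b ∈ octadFix o)
    (hb1 : b ≠ 1) (hab : LinearMap.range (S.mv a) = LinearMap.range (S.mv b)) : a = b := by
  classical
  by_contra hne
  let N := {a : ↥(octadFix o) // (a : Equiv.Perm GolayPt) ≠ 1}
  have := Fintype.ofFinite N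
  let f : N → Submodule K4 S.WS := fun c => LinearMap.range (S.mv ((c : ↥(octadFix o)) : Equiv.Perm GolayPt))
  let L : Set (Submodule K4 S.WS) := Set.range f
  have := Fintype.ofFinite ↥L
  -- the stabiliser acts on the images
  have hlift : ∀ g : ↥(stab0 o), ∃ h : ↥(Cz z), h ∈ S.innerH ∧ S.κ h = g := fun g => by
    obtain ⟨h, -, hk⟩ := S.frattini' (m22_le_pairStab g.2.1)
    exact ⟨h, by show S.κ h ∈ Spor.M22; rw [hk]; exact g.2.1, hk⟩
  have hconjN : ∀ (g : ↥(stab0 o)) (c : N),
      (g : Equiv.Perm GolayPt) * c.1 * (g : Equiv.Perm GolayPt)⁻¹ ∈ octadFix o :=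
    fun g c => HexOct.conj_mem_fix (stab0_le_octadStab o g.2) c.1.2
  let cN : ↥(stab0 o) → N → N := fun g c => ⟨⟨_, hconjN g c⟩, fun e => c.2 (conj_eq_one_iff.1 e)⟩
  have key : ∀ (g : ↥(stab0 o)) (c d : N), f c = f d → f (cN g c) = f (cN g d) := by
    intro g c d hcd
    obtain ⟨h, hi, hk⟩ := hlift g
    have hs : S.κ h ∈ stabO o := hk ▸ stab0_le_stabO o g.2
    have e1 := S.range_mv_conj ho hi hs c.1.2
    have e2 := S.range_mv_conj ho hi hs d.1.2
    show LinearMap.range (S.mv ((g : Equiv.Perm GolayPt) * c.1 * (g : Equiv.Perm GolayPt)⁻¹)) =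
      LinearMap.range (S.mv ((g : Equiv.Perm GolayPt) * d.1 * (g : Equiv.Perm GolayPt)⁻¹))
    rw [← hk, ← e1, ← e2]
    exact congrArg _ hcd
  have hpre : ∀ U : L, ∃ c : N, f c = U := fun U => U.2
  choose pre hpre using hpre
  have hwd : ∀ (g : ↥(stab0 o)) (c : N), f (cN g (pre ⟨f c, c, rfl⟩)) = f (cN g c) := fun g c =>
    key g _ _ (hpre ⟨f c, c, rfl⟩)
  have hmulN : ∀ (g g' : ↥(stab0 o)) (c : N), cN (g * g') c = cN g (cN g' c) := fun g g' c =>
    Subtype.ext (Subtype.ext (by simp [cN, mul_assoc]))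
  let act : MulAction ↥(stab0 o) L :=
    { smul := fun g U => ⟨f (cN g (pre U)), _, rfl⟩
      one_smul := fun U => Subtype.ext (by
        show f (cN 1 (pre U)) = U
        rw [show cN 1 (pre U) = pre U from Subtype.ext (Subtype.ext (by simp [cN])), hpre])
      mul_smul := fun g g' U => Subtype.ext (by
        show f (cN (g * g') (pre U)) = f (cN g (pre ⟨f (cN g' (pre U)), _, rfl⟩))
        rw [hwd, hmulN]) }
  have h15 : Fintype.card N = 15 := by
    have hc := natCard_octadFix ho.mem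
    rw [Nat.card_eq_fintype_card] at hc
    rw [Fintype.card_subtype, show (Finset.univ.filter fun c : ↥(octadFix o) => (c : Equiv.Perm GolayPt) ≠ 1) =
      Finset.univ.erase 1 by ext; simp, Finset.card_erase_of_mem (Finset.mem_univ _), Finset.card_univ, hc]
  -- all fibres have one size
  have htrans : ∀ c d : N, ∃ g : ↥(stab0 o), cN g c = d := fun c d => by
    obtain ⟨g, hg, hgcd⟩ := ho.exists_conj_octadFix c.1.2 c.2 d.1.2 d.2
    exact ⟨⟨g, hg⟩, Subtype.ext (Subtype.ext hgcd)⟩
  have hfib : ∀ c d : N, (Finset.univ.filter fun x => f x = f c).card ≤ (Finset.univ.filter fun x => f x = f d).card := by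
    intro c d
    obtain ⟨g, hg⟩ := htrans c d
    refine Finset.card_le_card_of_injOn (cN g) ?_ ?_
    · intro x hx
      simp only [Finset.coe_filter, Finset.mem_univ, true_and, Set.mem_ofPred_eq] at hx ⊢
      rw [← hg]
      exact key g x c hx
    · intro x _ y _ hxy
      have := congrArg (fun w : N => ((w : ↥(octadFix o)) : Equiv.Perm GolayPt)) hxy
      simp only [cN] at this
      exact Subtype.ext (Subtype.ext (mul_left_cancel (mul_right_cancel this)))
  set c0 : N := ⟨⟨a, ha⟩, ha1⟩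
  set k := (Finset.univ.filter fun x => f x = f c0).card with hk
  have hLk : 15 = Fintype.card L * k := by
    rw [← h15, ← Finset.card_univ (α := N), Finset.card_eq_sum_card_fiberwise
      (f := fun x => (⟨f x, x, rfl⟩ : L)) (t := Finset.univ) (fun _ _ => Finset.mem_univ _),
      Finset.sum_const_nat (m := k), Finset.card_univ]
    rintro ⟨U, c, rfl⟩ -
    rw [show (Finset.univ.filter fun x => (⟨f x, x, rfl⟩ : L) = ⟨f c, c, rfl⟩) =
      Finset.univ.filter fun x => f x = f c by ext; simp [Subtype.ext_iff]]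
    exact le_antisymm (hfib c c0) (hfib c0 c)
  have hk2 : 2 ≤ k := by
    have h2 : ({c0, ⟨⟨b, hb⟩, hb1⟩} : Finset N).card = 2 := Finset.card_pair fun e =>
      hne (congrArg (fun w : N => ((w : ↥(octadFix o)) : Equiv.Perm GolayPt)) e)
    rw [hk, ← h2]
    refine Finset.card_le_card fun x hx => ?_
    simp only [Finset.mem_insert, Finset.mem_singleton] at hx
    rcases hx with rfl | rfl
    · simp
    · simp only [Finset.mem_filter, Finset.mem_univ, true_and]
      exact hab.symm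
  have hL5 : Nat.card L ≤ 5 := by
    rw [Nat.card_eq_fintype_card]
    by_contra h6
    push Not at h6
    have h3 : 3 ≤ k → False := fun hk3 => by nlinarith
    have hk2' : k = 2 := le_antisymm (Nat.le_of_lt_succ (not_le.1 h3)) hk2
    rw [hk2'] at hLk
    omega
  have hone := ho.perm_trivial hL5 (@MulAction.toPermHom _ L _ act) fun g hg => by
    refine Equiv.ext fun U => Subtype.ext ?_
    show f (cN g (pre U)) = U
    rw [show cN g (pre U) = pre U from Subtype.ext (Subtype.ext ?_), hpre]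
    show (g : Equiv.Perm GolayPt) * _ * (g : Equiv.Perm GolayPt)⁻¹ = _
    rw [ho.comm_fix hg (pre U).1.2, mul_inv_cancel_right]
  have hsame : ∀ d : N, f d = f c0 := fun d => by
    obtain ⟨g, hg⟩ := htrans c0 d
    have h := congrArg (fun σ : Equiv.Perm L => ((σ ⟨f c0, c0, rfl⟩ : L) : Submodule K4 S.WS))
      (DFunLike.congr_fun hone g)
    rw [← hg, ← hwd g c0]
    exact h
  have hd := S.finrank_cases ho (U := LinearMap.range (S.mv a)) fun h hh u hu => by
    have hm := HexOct.conj_mem_fix (S.κ_stab ho (stab0_le_stabO o hh)) ha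
    have hne' : S.κ h * a * (S.κ h)⁻¹ ≠ 1 := fun e => ha1 (conj_eq_one_iff.1 e)
    have e := S.range_mv_conj ho hh.1 (stab0_le_stabO o hh) ha
    have h2 : LinearMap.range (S.mv (S.κ h * a * (S.κ h)⁻¹)) = LinearMap.range (S.mv a) :=
      hsame ⟨⟨_, hm⟩, hne'⟩
    rw [← h2, ← e]
    exact ⟨u, hu, rfl⟩
  rw [S.finrank_range_mv ho ha ha1] at hd
  omega

theorem ker_mv_inj {a b : Equiv.Perm GolayPt} (ha : a ∈ octadFix o) (ha1 : a ≠ 1) (hb : b ∈ octadFix o)
    (hb1 : b ≠ 1) (hab : LinearMap.ker (S.mv a) = LinearMap.ker (S.mv b)) : a = b := by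
  refine S.range_mv_injective ho ha ha1 hb hb1 ?_
  by_contra hne
  -- otherwise `ab` would have image of dimension three or kill more
  by_cases hab1 : a * b = 1
  · have : a = b := by
      rw [eq_inv_of_mul_eq_one_left hab1]
      exact inv_eq_of_mul_eq_one_right (mul_self_octadFix ho.mem hb)
    exact hne (by rw [this])
  have hk : LinearMap.ker (S.mv a) ≤ LinearMap.ker (S.mv (a * b)) := fun v hv => by
    rw [LinearMap.mem_ker, S.mv_mul ho ha hb, LinearMap.add_apply, LinearMap.mem_ker.1 hv,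
      LinearMap.mem_ker.1 (hab ▸ hv : v ∈ LinearMap.ker (S.mv b)), add_zero]
  have hkeq := Submodule.eq_of_le_of_finrank_eq hk
    ((S.finrank_ker_mv ho ha ha1).trans (S.finrank_ker_mv ho (mul_mem ha hb) hab1).symm)
  -- the image is the orthogonal of the kernel
  have horth : ∀ x y, x ∈ octadFix o → y ∈ octadFix o → LinearMap.ker (S.mv x) = LinearMap.ker (S.mv y) →
      LinearMap.range (S.mv y) ≤ LinearMap.range (S.mv x) := by
    intro x y hx hy hxy
    rintro _ ⟨v, rfl⟩
    by_contra hv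
    obtain ⟨φ, hφv, hφ⟩ := Submodule.exists_dual_map_eq_bot_of_notMem
      (p := LinearMap.range ((S.mv x).toAddMonoidHom.toZModLinearMap 2))
      (x := S.mv y v) (fun ⟨u, hu⟩ => hv ⟨u, hu⟩) inferInstance
    have hbij : Function.Bijective (S.beta) := by
      have hinj : Function.Injective (S.beta) := (injective_iff_map_eq_zero _).2 fun u hu =>
        S.beta_nondeg u fun w => by rw [hu]; rfl
      exact ⟨hinj, (LinearMap.injective_iff_surjective_of_finrank_eq_finrank
        Subspace.dual_finrank_eq.symm).1 hinj⟩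
    obtain ⟨w, rfl⟩ := hbij.2 φ
    have hwx : S.mv x w = 0 := by
      refine S.beta_nondeg _ fun u => ?_
      rw [S.beta_mv (S.fix_M22 ho hx).1 (S.fix_M22 ho hx).2]
      have : S.mv x u ∈ LinearMap.range ((S.mv x).toAddMonoidHom.toZModLinearMap 2) := ⟨u, rfl⟩
      have h0 : S.beta w (S.mv x u) ∈ Submodule.map (S.beta w)
          (LinearMap.range ((S.mv x).toAddMonoidHom.toZModLinearMap 2)) :=
        ⟨_, this, rfl⟩
      rwa [hφ, Submodule.mem_bot] at h0
    refine hφv ?_
    rw [← S.beta_mv (S.fix_M22 ho hy).1 (S.fix_M22 ho hy).2,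
      LinearMap.mem_ker.1 (hxy ▸ LinearMap.mem_ker.2 hwx : w ∈ LinearMap.ker (S.mv y)), map_zero,
      LinearMap.zero_apply]
  exact hne (le_antisymm (horth b a hb ha hab.symm) (horth a b ha hb hab))

theorem mem_Cfix_of_two {a b : Equiv.Perm GolayPt} (ha : a ∈ octadFix o) (ha1 : a ≠ 1) (hb : b ∈ octadFix o)
    (hb1 : b ≠ 1) (hab : a ≠ b) {v : S.WS} (hva : S.invLift a v = v) (hvb : S.invLift b v = v) :
    v ∈ S.Cfix o := by
  have hle : S.Cfix o ≤ LinearMap.ker (S.mv a) ⊓ LinearMap.ker (S.mv b) :=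
    le_inf (S.Cfix_le_ker ho ha) (S.Cfix_le_ker ho hb)
  have heq : S.Cfix o = LinearMap.ker (S.mv a) ⊓ LinearMap.ker (S.mv b) := by
    refine Submodule.eq_of_le_of_finrank_le hle ?_
    have h1 : Module.finrank K4 ↥(LinearMap.ker (S.mv a) ⊓ LinearMap.ker (S.mv b)) < 4 := by
      rw [← S.finrank_ker_mv ho ha ha1]
      refine Submodule.finrank_lt_finrank_of_lt (lt_of_le_of_ne inf_le_left fun e => hab ?_)
      refine S.ker_mv_inj ho ha ha1 hb hb1 (Submodule.eq_of_le_of_finrank_eq (inf_eq_left.1 e)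
        ((S.finrank_ker_mv ho ha ha1).trans (S.finrank_ker_mv ho hb hb1).symm))
    rw [S.finrank_Cfix ho]
    omega
  rw [heq]
  exact ⟨LinearMap.mem_ker.2 ((S.mv_eq_zero_iff (S.fix_M22 ho ha).1 (S.fix_M22 ho ha).2 v).2 hva),
    LinearMap.mem_ker.2 ((S.mv_eq_zero_iff (S.fix_M22 ho hb).1 (S.fix_M22 ho hb).2 v).2 hvb)⟩

end Setting

end Cfsg.Agent.J4Type
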