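import Cfsg.Agent.Lib.GolayInvol.Data

/-!
Groups of Janko-four type: certificates for the involution classes of `2^11 : M24` (helper26).
For each involution representative: a list of (fixed word, element of order three fixing it and commuting
with the representative) covering the fixed cocode words modulo commutators, and the words giving the commutators.
-/

set_option autoImplicit false

namespace Cfsg.Agent.J4Type

/-- Classes over the representative `invRepFix`. -/
def clsFix : List (ℕ × ℕ) :=
  [(0x0, 0x4599493c91995ca35527b81b01882b),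
   (0x6000, 0x5c6b498616bb9a27812a93083298e8),
   (0x12000, 0xbc4540a870411af92d2cacdc5b1cc0),
   (0x14000, 0x636a09d07013889786ea39a362ad12),
   (0x22000, 0x412a09be36115aaa06e9398707498b),
   (0x24000, 0x411557de2d4b8606527239ac58082b),
   (0x30000, 0x38d7544a30b91cca02697aacd28826),
   (0x36000, 0x511005ce2ea3615926ec39ac51882f)]

/-- Words giving the commutators. -/
def comFix : List ℕ :=
  [0x0, 0x3000, 0x9000, 0xa000, 0x81000, 0x82000, 0x88000, 0x8b000, 0x101000, 0x102000, 0x108000, 0x10b000, 0x180000, 0x183000, 0x189000, 0x18a000]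

/-- Classes over the representative `invRepFree`. -/
def clsFree : List (ℕ × ℕ) :=
  [(0x0, 0x7dc8329812b316a4b9b38c101152a7),
   (0x1b0000, 0x7dc8329812b316a4b9b38c101152a7)]

/-- Words giving the commutators. -/
def comFree : List ℕ :=
  [0x0, 0x3000, 0x5000, 0x6000, 0x9000, 0xa000, 0xc000, 0xf000, 0x21000, 0x22000, 0x24000, 0x27000, 0x28000, 0x2b000, 0x2d000, 0x2e000, 0x81000, 0x82000, 0x84000, 0x87000, 0x88000, 0x8b000, 0x8d000, 0x8e000, 0xa0000, 0xa3000, 0xa5000, 0xa6000, 0xa9000, 0xaa000, 0xac000, 0xaf000]

/-- An element of order three fixing a duad and two further words. -/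
def locThree : ℕ := 0x3b2907cd55939a021ae84c4a118976
/-- The duad. -/
def locDuad : ℕ := 0xc
/-- The two words. -/
def locFour : ℕ × ℕ := (0x12c, 0x202c)

end Cfsg.Agent.J4Type
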