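import Cfsg.Agent.Lib.J4Type.PairStab
import Cfsg.Agent.Lib.GolayOrbits.Octad
import Cfsg.Agent.Lib.GolayInvol.Basic
import Cfsg.Agent.Lib.PGroup.Basic

/-!
Octads through the two deleted points inside the automorphism group of M22 (helper19).

* `HexOct o`, `stab0 o` (in M22), `stabO o` (in the duad stabiliser)
* `natCard_stab0`, `natCard_stabO`, `six_range` : the shape `2^4 : A6`, `2^4 : S6`
* `centralizes_octadFix`, `fix_octadFix`, `octad_unique`, `exists_hexOct_of_involution`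
* `natCard_fix_inter_le` : an octad group meets the stabiliser of another in at most four elements
* `exists_conj_octadFix` : one class on the fifteen involutions; `exists_conj_le_stabO`
-/

set_option autoImplicit false
set_option linter.style.haveILetI false
open scoped Pointwise
open Cfsg MulAction

namespace Cfsg.Agent.J4Type

open Cfsg.Agent.Golay Cfsg.Agent.GolayOrbits

/-- An octad through the two deleted points. -/
structure HexOct (o : Finset GolayPt) : Prop where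
  mem : o ∈ octads
  a : pA ∈ o
  b : pB ∈ o

/-- The stabiliser of a set in M22. -/
def stab0 (o : Finset GolayPt) : Subgroup (Equiv.Perm GolayPt) :=
  Spor.M22 ⊓ stabilizer (Equiv.Perm GolayPt) o

/-- The stabiliser of a set in the duad stabiliser. -/
def stabO (o : Finset GolayPt) : Subgroup (Equiv.Perm GolayPt) :=
  pairStab ⊓ stabilizer (Equiv.Perm GolayPt) o

theorem mem_stab0 {o : Finset GolayPt} {g : Equiv.Perm GolayPt} :
    g ∈ stab0 o ↔ g ∈ Spor.M22 ∧ g • o = o := Iff.rfl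

theorem mem_stabO {o : Finset GolayPt} {g : Equiv.Perm GolayPt} :
    g ∈ stabO o ↔ g ∈ pairStab ∧ g • o = o := Iff.rfl

theorem stab0_le_stabO (o : Finset GolayPt) : stab0 o ≤ stabO o :=
  fun _ hg => ⟨m22_le_pairStab hg.1, hg.2⟩

theorem pairStab_le_M24 : pairStab ≤ M24 := fun _ hg => (mem_pairStab.1 hg).1

theorem stab0_le_octadStab (o : Finset GolayPt) : stab0 o ≤ octadStab o :=
  fun _ hg => ⟨hg.1.1.1, hg.2⟩

namespace HexOct

variable {o : Finset GolayPt} (ho : HexOct o)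
include ho

theorem fix_le_stab0 : octadFix o ≤ stab0 o := fun g hg => by
  rw [mem_octadFix] at hg
  refine ⟨mem_M22_of_fix hg.1 (hg.2 _ ho.a) (hg.2 _ ho.b), ?_⟩
  show g • o = o
  rw [smul_eq_image, Finset.image_congr (f := g) (g := id) fun p hp => hg.2 p hp, Finset.image_id]

theorem fix_le_M22 : octadFix o ≤ Spor.M22 := fun _ hg => (ho.fix_le_stab0 hg).1

omit ho in
theorem conj_mem_fix {g a : Equiv.Perm GolayPt} (hg : g ∈ octadStab o) (ha : a ∈ octadFix o) :
    g * a * g⁻¹ ∈ octadFix o := by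
  rw [mem_octadFix] at ha ⊢
  refine ⟨mul_mem (mul_mem hg.1 ha.1) (inv_mem hg.1), fun p hp => ?_⟩
  rw [Equiv.Perm.mul_apply, Equiv.Perm.mul_apply,
    ha.2 _ ((mem_iff_of_mem_octadStab ((octadStab o).inv_mem hg) p).2 hp), Equiv.Perm.coe_inv,
    Equiv.apply_symm_apply]

theorem comm_fix {a b : Equiv.Perm GolayPt} (ha : a ∈ octadFix o) (hb : b ∈ octadFix o) :
    a * b = b * a := by
  have hi : ∀ c ∈ octadFix o, c⁻¹ = c := fun c hc =>
    inv_eq_of_mul_eq_one_right (mul_self_octadFix ho.mem hc)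
  calc a * b = (a * b)⁻¹ := (hi _ (mul_mem ha hb)).symm
    _ = b * a := by rw [mul_inv_rev, hi a ha, hi b hb]

theorem fix_octadFix {a : Equiv.Perm GolayPt} (ha : a ∈ octadFix o) (h1 : a ≠ 1) (p : GolayPt) :
    a p = p ↔ p ∈ o := by
  refine ⟨fun h => ?_, (mem_octadFix.1 ha).2 p⟩
  by_contra hp
  exact h1 (eq_one_of_octad_point ho.mem (mem_octadFix.1 ha).1 (mem_octadFix.1 ha).2 hp h)

theorem octad_unique {o' : Finset GolayPt} (ho' : HexOct o') {a : Equiv.Perm GolayPt}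
    (ha : a ∈ octadFix o) (ha' : a ∈ octadFix o') (h1 : a ≠ 1) : o = o' :=
  Finset.ext fun p => (ho.fix_octadFix ha h1 p).symm.trans (ho'.fix_octadFix ha' h1 p)

omit ho in
theorem even_trans {x y : GolayPt} {l : List GolayPt} (hl : l.length ≤ 2) (hx : x ∈ o) (hy : y ∈ o)
    (hxl : x ∉ l) (hyl : y ∉ l) (h8 : o.card = 8) :
    ∃ e ∈ alternatingGroup ↥o, e ⟨x, hx⟩ = ⟨y, hy⟩ ∧ ∀ q : ↥o, (q : GolayPt) ∈ l → e q = q := by
  classical
  by_cases hxy : x = y
  · subst hxy
    exact ⟨1, one_mem _, rfl, fun q _ => rfl⟩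
  obtain ⟨u, hu⟩ : ∃ u, u ∈ o \ (insert x (insert y l.toFinset)) := by
    refine Finset.card_pos.1 ?_
    have h1 := Finset.le_card_sdiff (insert x (insert y l.toFinset)) o
    have h2 := Finset.card_insert_le x (insert y l.toFinset)
    have h3 := Finset.card_insert_le y l.toFinset
    have h4 := List.toFinset_card_le l
    omega
  simp only [Finset.mem_sdiff, Finset.mem_insert, List.mem_toFinset, not_or] at hu
  obtain ⟨huo, hux, huy, hul⟩ := hu
  have n1 : (⟨x, hx⟩ : ↥o) ≠ ⟨y, hy⟩ := fun h => hxy (congrArg Subtype.val h)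
  have n2 : (⟨x, hx⟩ : ↥o) ≠ ⟨u, huo⟩ := fun h => hux (congrArg Subtype.val h).symm
  refine ⟨Equiv.swap ⟨x, hx⟩ ⟨u, huo⟩ * Equiv.swap ⟨x, hx⟩ ⟨y, hy⟩, ?_, ?_, fun q hq => ?_⟩
  · rw [Equiv.Perm.mem_alternatingGroup, map_mul, Equiv.Perm.sign_swap n2, Equiv.Perm.sign_swap n1]
    decide
  · rw [Equiv.Perm.mul_apply, Equiv.swap_apply_left, Equiv.swap_apply_of_ne_of_ne n1.symm
      (fun h => huy (congrArg Subtype.val h).symm)]
  · have q1 : q ≠ ⟨x, hx⟩ := fun h => hxl (by rw [h] at hq; exact hq)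
    have q2 : q ≠ ⟨y, hy⟩ := fun h => hyl (by rw [h] at hq; exact hq)
    have q3 : q ≠ ⟨u, huo⟩ := fun h => hul (by rw [h] at hq; exact hq)
    rw [Equiv.Perm.mul_apply, Equiv.swap_apply_of_ne_of_ne q1 q2, Equiv.swap_apply_of_ne_of_ne q1 q3]

theorem natCard_stab0 : Nat.card ↥(stab0 o) = 5760 := by
  have h8 : o.card = 8 := ho.mem.2
  have h1 := natCard_step (octadStab o) pA o (fun g hg => (mem_iff_of_mem_octadStab hg _).2 ho.a)
    fun y hy => by
      obtain ⟨e, he, hex, -⟩ := even_trans (o := o) (l := []) (by simp) ho.a hy (by simp) (by simp) h8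
      obtain ⟨g, hg⟩ := octadRes_surjective ho.mem he
      exact ⟨g, g.2, by rw [← octadRes_apply o g ⟨pA, ho.a⟩, hg, hex]⟩
  have h2 := natCard_step (octadStab o ⊓ stabilizer (Equiv.Perm GolayPt) pA) pB (o.erase pA)
    (fun g hg => Finset.mem_erase.2 ⟨fun e => pA_ne_pB.symm
      (g.injective (e.trans (show g pA = pA from hg.2).symm)), (mem_iff_of_mem_octadStab hg.1 _).2 ho.b⟩)
    fun y hy => by
      obtain ⟨hy1, hy2⟩ := Finset.mem_erase.1 hy
      obtain ⟨e, he, hex, hel⟩ := even_trans (o := o) (l := [pA]) (by simp) ho.b hy2 (by simp)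
        (by simp [hy1]) h8
      obtain ⟨g, hg⟩ := octadRes_surjective ho.mem he
      refine ⟨g, ⟨g.2, ?_⟩, by rw [← octadRes_apply o g ⟨pB, ho.b⟩, hg, hex]⟩
      show (g : Equiv.Perm GolayPt) pA = pA
      rw [← octadRes_apply o g ⟨pA, ho.a⟩, hg, hel _ (by simp)]
  have heq : stab0 o = octadStab o ⊓ stabilizer (Equiv.Perm GolayPt) pA ⊓ stabilizer (Equiv.Perm GolayPt) pB := by
    ext g
    refine ⟨fun hg => ⟨⟨⟨hg.1.1.1, hg.2⟩, hg.1.1.2⟩, hg.1.2⟩, fun hg => ⟨mem_M22_of_fix hg.1.1.1 hg.1.2 hg.2, hg.1.1.2⟩⟩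
  rw [natCard_octadStab ho.mem, h2, h8, Finset.card_erase_of_mem ho.a, h8, ← heq] at h1
  omega

theorem exists_swap_stabO : ∃ t ∈ stabO o, t pA = pB := by
  classical
  obtain ⟨u, hu⟩ : ∃ u, u ∈ o \ {pA, pB} := Finset.card_pos.1 (by
    rw [Finset.card_sdiff_of_subset (by simp [Finset.insert_subset_iff, ho.a, ho.b]), ho.mem.2]
    simp)
  obtain ⟨v, hv⟩ : ∃ v, v ∈ o \ {pA, pB, u} := Finset.card_pos.1 (by
    have h := Finset.le_card_sdiff ({pA, pB, u} : Finset GolayPt) o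
    have := Finset.card_le_three (a := pA) (b := pB) (c := u)
    rw [ho.mem.2] at h
    omega)
  simp only [Finset.mem_sdiff, Finset.mem_insert, Finset.mem_singleton, not_or] at hu hv
  have n1 : (⟨pA, ho.a⟩ : ↥o) ≠ ⟨pB, ho.b⟩ := fun h => pA_ne_pB (congrArg Subtype.val h)
  have n2 : (⟨u, hu.1⟩ : ↥o) ≠ ⟨v, hv.1⟩ := fun h => hv.2.2.2 (congrArg Subtype.val h).symm
  obtain ⟨g, hg⟩ := octadRes_surjective ho.mem
    (e := Equiv.swap (⟨u, hu.1⟩ : ↥o) ⟨v, hv.1⟩ * Equiv.swap ⟨pA, ho.a⟩ ⟨pB, ho.b⟩) (by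
      rw [Equiv.Perm.mem_alternatingGroup, map_mul, Equiv.Perm.sign_swap n2, Equiv.Perm.sign_swap n1]
      decide)
  have ha : (g : Equiv.Perm GolayPt) pA = pB := by
    rw [← octadRes_apply o g ⟨pA, ho.a⟩, hg, Equiv.Perm.mul_apply, Equiv.swap_apply_left,
      Equiv.swap_apply_of_ne_of_ne (fun h => hu.2.2 (congrArg Subtype.val h).symm)
        (fun h => hv.2.2.1 (congrArg Subtype.val h).symm)]
  have hb : (g : Equiv.Perm GolayPt) pB = pA := by
    rw [← octadRes_apply o g ⟨pB, ho.b⟩, hg, Equiv.Perm.mul_apply, Equiv.swap_apply_right,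
      Equiv.swap_apply_of_ne_of_ne (fun h => hu.2.1 (congrArg Subtype.val h).symm)
        (fun h => hv.2.1 (congrArg Subtype.val h).symm)]
  exact ⟨g, ⟨mem_pairStab.2 ⟨g.2.1, Or.inr ⟨ha, hb⟩⟩, g.2.2⟩, ha⟩

theorem natCard_stabO : Nat.card ↥(stabO o) = 11520 := by
  classical
  obtain ⟨t, ht, hta⟩ := ho.exists_swap_stabO
  have h := natCard_step (stabO o) pA {pA, pB}
    (fun g hg => by
      rcases (mem_pairStab.1 hg.1).2 with ⟨h, -⟩ | ⟨h, -⟩ <;> simp [h])
    fun y hy => by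
      simp only [Finset.mem_insert, Finset.mem_singleton] at hy
      rcases hy with rfl | rfl
      · exact ⟨1, one_mem _, rfl⟩
      · exact ⟨t, ht, hta⟩
  have heq : stabO o ⊓ stabilizer (Equiv.Perm GolayPt) pA = stab0 o := by
    ext g
    exact ⟨fun hg => ⟨(mem_M22_iff hg.1.1).2 hg.2, hg.1.2⟩,
      fun hg => ⟨stab0_le_stabO o hg, hg.1.1.2⟩⟩
  rw [heq, ho.natCard_stab0, Finset.card_pair pA_ne_pB] at h
  omega

theorem index_stabO : ((stabO o).subgroupOf pairStab).index = 77 := by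
  have h := ((stabO o).subgroupOf pairStab).index_mul_card
  rw [show Nat.card ↥((stabO o).subgroupOf pairStab) = Nat.card ↥(stabO o) from
      Nat.card_congr (Subgroup.subgroupOfEquivOfLe (inf_le_left : stabO o ≤ pairStab)).toEquiv,
    ho.natCard_stabO, natCard_pairStab] at h
  omega

/-- A 2-subgroup of the duad stabiliser is conjugate into the stabiliser of the octad. -/
theorem exists_conj_le_stabO {S : Subgroup (Equiv.Perm GolayPt)} (hS : IsPGroup 2 S)
    (hle : S ≤ pairStab) : ∃ g ∈ pairStab, ∀ s ∈ S, g * s * g⁻¹ ∈ stabO o := by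
  haveI : Fact (Nat.Prime 2) := ⟨Nat.prime_two⟩
  have hS' : IsPGroup 2 ↥(S.subgroupOf pairStab) := hS.of_equiv (Subgroup.subgroupOfEquivOfLe hle).symm
  obtain ⟨c, hc⟩ := hS'.nonempty_fixed_point_of_prime_not_dvd_card (↥pairStab ⧸ (stabO o).subgroupOf pairStab)
    (by rw [← Subgroup.index_eq_card, ho.index_stabO]; norm_num)
  obtain ⟨c, rfl⟩ := QuotientGroup.mk_surjective c
  refine ⟨(c : Equiv.Perm GolayPt)⁻¹, inv_mem c.2, fun s hs => ?_⟩
  have h := hc ⟨⟨s, hle hs⟩, hs⟩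
  have h' : QuotientGroup.mk (s := (stabO o).subgroupOf pairStab) (⟨s, hle hs⟩ * c) = QuotientGroup.mk c := h
  rw [QuotientGroup.eq, Subgroup.mem_subgroupOf] at h'
  simpa [mul_assoc] using inv_mem h'

theorem eq_one_of_fix_compl {g : Equiv.Perm GolayPt} (hg : g ∈ M24) (h : ∀ p ∉ o, g p = p) : g = 1 := by
  obtain ⟨t, ht, hto⟩ := exists_map_octad octad0_mem ho.mem
  have hd : pts 0x6920d0 ∈ octads := pts_mem_octads (by decide +kernel)
  have key : ∀ i < 24, (0x6920d0 : ℕ).testBit i = true → octad0.testBit i = false := by decide +kernel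
  obtain ⟨e, he1, he2⟩ : ∃ e, e ∉ pts octad0 ∧ e ∉ pts 0x6920d0 :=
    (by decide +kernel : ∃ e, e ∉ pts octad0 ∧ e ∉ pts 0x6920d0)
  have hout : ∀ q, q ∉ pts octad0 → t q ∉ o := fun q hq h => hq (by
    rw [← hto] at h
    exact (Finset.smul_mem_smul_finset_iff t).1 h)
  refine eq_one_of_octad_point (smul_mem_octads ht hd) hg (fun p hp => h p ?_) (e := t e)
    (fun h' => he2 ((Finset.smul_mem_smul_finset_iff t).1 h')) (h _ (hout e he1))
  obtain ⟨q, hq, rfl⟩ := Finset.mem_smul_finset.1 hp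
  refine hout q fun hq0 => ?_
  rw [mem_pts] at hq hq0
  rw [key _ (idx_lt q) hq] at hq0
  exact Bool.false_ne_true hq0

theorem centralizes_octadFix {g : Equiv.Perm GolayPt} (hg : g ∈ M24)
    (hc : ∀ a ∈ octadFix o, g * a = a * g) : g ∈ octadFix o := by
  obtain ⟨p, hp⟩ := exists_not_mem ho.mem
  have hgp : g p ∉ o := by
    intro h
    obtain ⟨q, hq, hqp⟩ : ∃ q, q ∉ o ∧ q ≠ p := by
      by_contra hcon
      push Not at hcon
      have h1 : oᶜ.card ≤ ({p} : Finset GolayPt).card := Finset.card_le_card fun q hq =>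
        Finset.mem_singleton.2 (hcon q (Finset.mem_compl.1 hq))
      rw [Finset.card_compl, ho.mem.2, Finset.card_singleton] at h1
      simp at h1
    obtain ⟨a, ha, hap⟩ := exists_octad_point ho.mem hp hq
    refine hqp (g.injective ?_)
    calc g q = (g * a) p := by rw [Equiv.Perm.mul_apply, hap]
      _ = a (g p) := by rw [hc a ha, Equiv.Perm.mul_apply]
      _ = g p := (mem_octadFix.1 ha).2 _ h
  obtain ⟨u, hu, hup⟩ := exists_octad_point ho.mem hgp hp
  have hfix : ∀ q ∉ o, (u * g) q = q := by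
    intro q hq
    obtain ⟨a, ha, rfl⟩ := exists_octad_point ho.mem hp hq
    calc (u * g) (a p) = (u * (g * a)) p := rfl
      _ = (a * (u * g)) p := by rw [hc a ha, ← mul_assoc, ho.comm_fix hu ha, mul_assoc]
      _ = a (u (g p)) := rfl
      _ = a p := by rw [hup]
  have h1 := ho.eq_one_of_fix_compl (mul_mem (mem_octadFix.1 hu).1 hg) hfix
  rw [eq_inv_of_mul_eq_one_right h1]
  exact inv_mem hu

theorem natCard_fix_inter_le {o' : Finset GolayPt} (ho' : HexOct o') (hne : o ≠ o') :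
    Nat.card ↥(octadFix o ⊓ stabilizer (Equiv.Perm GolayPt) o' : Subgroup (Equiv.Perm GolayPt)) ≤ 4 := by
  classical
  haveI : Fact (Nat.Prime 2) := ⟨Nat.prime_two⟩
  set D : Subgroup (Equiv.Perm GolayPt) := octadFix o ⊓ stabilizer (Equiv.Perm GolayPt) o'
  have hI : (o' ∩ o).card = 2 ∨ (o' ∩ o).card = 4 := by
    rcases octad_inter_octad ho'.mem ho.mem with h | h | h | h
    · rw [Finset.card_eq_zero] at h
      exact absurd (Finset.mem_inter.2 ⟨ho'.a, ho.a⟩) (by simp [h])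
    · exact Or.inl h
    · exact Or.inr h
    · exact absurd h.symm hne
  obtain ⟨p, hp⟩ : (o' \ o).Nonempty := Finset.card_pos.1 (by
    have := Finset.card_sdiff_add_card_inter o' o
    rw [ho'.mem.2] at this
    omega)
  obtain ⟨hp', hpo⟩ := Finset.mem_sdiff.1 hp
  let f : ↥D → {x // x ∈ o' \ o} := fun d => ⟨(d : Equiv.Perm GolayPt) p, by
    obtain ⟨hd1, hd2⟩ := d.2
    refine Finset.mem_sdiff.2 ⟨?_, fun h => hpo ?_⟩
    · rw [← show (d : Equiv.Perm GolayPt) • o' = o' from hd2]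
      exact Finset.smul_mem_smul_finset hp'
    · have := (mem_octadFix.1 hd1).2 _ h
      rw [(d : Equiv.Perm GolayPt).injective this] at h
      exact h⟩
  have hinj : Function.Injective f := fun c d h => by
    have h' : (c : Equiv.Perm GolayPt) p = (d : Equiv.Perm GolayPt) p := congrArg Subtype.val h
    refine Subtype.ext (inv_mul_eq_one.1 ?_).symm
    by_contra hne'
    refine hpo ((ho.fix_octadFix (mul_mem (inv_mem d.2.1) c.2.1) hne' p).1 ?_)
    rw [Equiv.Perm.mul_apply, h', Equiv.Perm.coe_inv, Equiv.symm_apply_apply]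
  have h1 := Nat.card_le_card_of_injective f hinj
  rw [Nat.card_eq_fintype_card (α := {x // x ∈ o' \ o}), Fintype.card_coe] at h1
  have h2 := Finset.card_sdiff_add_card_inter o' o
  rw [ho'.mem.2] at h2
  obtain ⟨i, -, hi⟩ := (Nat.dvd_prime_pow Nat.prime_two).1
    (show Nat.card ↥D ∣ 2 ^ 4 by
      have := Subgroup.card_dvd_of_le (inf_le_left : D ≤ octadFix o)
      rwa [natCard_octadFix ho.mem] at this)
  rw [hi] at h1 ⊢
  rcases Nat.lt_or_ge i 3 with h | h
  · exact Nat.pow_le_pow_right (by norm_num) (Nat.le_of_lt_succ h)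
  · have := Nat.pow_le_pow_right (show 1 ≤ 2 by norm_num) h
    omega

end HexOct

theorem exists_hexOct_of_involution {g : Equiv.Perm GolayPt} (hg : g ∈ Spor.M22) (h2 : g * g = 1)
    (h1 : g ≠ 1) : ∃ o, HexOct o ∧ g ∈ octadFix o := by
  haveI : Fact (Nat.Prime 2) := ⟨Nat.prime_two⟩
  obtain ⟨k, hk, h | h⟩ := GolayInvol.involution_cases hg.1.1 (orderOf_eq_prime (by rw [pow_two, h2]) h1)
  · have hfix : ∀ p, g p = p ↔ p ∈ k • (Finset.univ.filter fun q => GolayInvol.repFix q = q) := by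
      intro p
      rw [← h]
      constructor
      · intro hp
        rw [Finset.mem_smul_finset]
        refine ⟨k⁻¹ p, Finset.mem_filter.2 ⟨Finset.mem_univ _, k.injective ?_⟩, by simp⟩
        simpa using hp
      · intro hp
        obtain ⟨q, hq, rfl⟩ := Finset.mem_smul_finset.1 hp
        simpa using (Finset.mem_filter.1 hq).2
    exact ⟨_, ⟨smul_mem_octads hk GolayInvol.fixSet_repFix, (hfix _).1 hg.1.2, (hfix _).1 hg.2⟩,
      mem_octadFix.2 ⟨hg.1.1, fun p hp => (hfix p).2 hp⟩⟩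
  · exfalso
    have ha : g pA = pA := hg.1.2
    rw [← h] at ha
    exact GolayInvol.repFree_ne (k⁻¹ pA) (k.injective (by simpa using ha))

/-- Generators of the stabiliser of two points of the standard octad and a point outside. -/
def hexGens : List ℕ := [0xbbe6662c4790d0d4d2d5541c489420, 0xbb6d481c4b50d0f49a75930242c5c0]

/-- Certificate steps. -/
def hexSteps : List ℕ :=
  [0x400, 0x401, 0x100000, 0x100001, 0x10000, 0x10001, 0x800, 0x801, 0x8000, 0x20000, 0x4000, 0x2000,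
    0x2001, 0x1000]

theorem hex_cert : pointCert [octad0, 1 <<< 23, 1 <<< 0, 1 <<< 4] hexGens 6 hexSteps 0x7dbfc0 = true := by
  decide +kernel

theorem HexOct.exists_point_trans {o : Finset GolayPt} (ho : HexOct o) {p q r : GolayPt} (hp : p ∉ o)
    (hq : q ∉ o) (hr : r ∉ o) (hqp : q ≠ p) (hrp : r ≠ p) : ∃ g ∈ stab0 o, g p = p ∧ g q = r := by
  obtain ⟨y, hy, hin, hval, h6⟩ := exists_frame_of_octad ho.mem (l := [pA, pB]) (by simp [pA_ne_pB])
    (by simp) (by simp [ho.a, ho.b]) hp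
  obtain ⟨t, ht, hto, hty⟩ := map_octad_of_frame ho.mem hy hin
  have t23 : t (pt 23) = pA := (hty 0).trans (hval 0 (by simp))
  have t0 : t (pt 0) = pB := (hty 1).trans (hval 1 (by simp))
  have t4 : t (pt 4) = p := (hty 6).trans h6
  have htar : ∀ i < 24, octad0.testBit i = false → i ≠ 4 → (0x7dbfc0 : ℕ).testBit i = true := by
    decide +kernel
  have hmem : ∀ x, x ∉ o → x ≠ p → t⁻¹ x ∈ pts 0x7dbfc0 := by
    intro x hx hxp
    rw [mem_pts]
    refine htar _ (idx_lt _) (Bool.eq_false_iff.2 fun hb => hx ?_) fun he => hxp ?_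
    · rw [← hto, Finset.mem_smul_finset]
      exact ⟨t⁻¹ x, mem_pts.2 hb, by simp⟩
    · rw [← t4, ← he, pt_idx]; simp
  obtain ⟨g, hg, hgq⟩ := orbit_point hex_cert (hmem q hq hqp) (hmem r hr hrp)
  have hfix : ∀ i < 24, i = 23 ∨ i = 0 ∨ i = 4 → g (pt i) = pt i := fun i hi h => by
    have := hg.2 (1 <<< i) (by rcases h with rfl | rfl | rfl <;> simp)
    rw [pts_single hi] at this
    exact apply_eq_of_smul_single this
  refine ⟨t * g * t⁻¹, ⟨mem_M22_of_fix (mul_mem (mul_mem ht hg.1) (inv_mem ht)) ?_ ?_, ?_⟩, ?_, ?_⟩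
  · show (t * g * t⁻¹) pA = pA
    rw [← t23]; simp [hfix 23 (by norm_num) (Or.inl rfl)]
  · show (t * g * t⁻¹) pB = pB
    rw [← t0]; simp [hfix 0 (by norm_num) (Or.inr (Or.inl rfl))]
  · show (t * g * t⁻¹) • o = o
    rw [← hto, mul_smul, inv_smul_smul, mul_smul, hg.2 octad0 (by simp)]
  · rw [← t4]; simp [hfix 4 (by norm_num) (Or.inr (Or.inr rfl))]
  · rw [Equiv.Perm.mul_apply, Equiv.Perm.mul_apply, hgq]; simp

theorem HexOct.exists_conj_octadFix {o : Finset GolayPt} (ho : HexOct o) {a b : Equiv.Perm GolayPt}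
    (ha : a ∈ octadFix o) (ha1 : a ≠ 1) (hb : b ∈ octadFix o) (hb1 : b ≠ 1) :
    ∃ g ∈ stab0 o, g * a * g⁻¹ = b := by
  obtain ⟨p, hp⟩ := exists_not_mem ho.mem
  have hmv : ∀ c ∈ octadFix o, c ≠ 1 → c p ∉ o ∧ c p ≠ p := fun c hc hc1 =>
    ⟨fun h => hp ((c.injective ((mem_octadFix.1 hc).2 _ h)) ▸ h),
      fun h => hp ((ho.fix_octadFix hc hc1 p).1 h)⟩
  obtain ⟨g, hg, hgp, hgq⟩ := ho.exists_point_trans hp (hmv a ha ha1).1 (hmv b hb hb1).1
    (hmv a ha ha1).2 (hmv b hb hb1).2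
  refine ⟨g, hg, ?_⟩
  have hm := HexOct.conj_mem_fix (stab0_le_octadStab o hg) ha
  refine inv_mul_eq_one.1 ?_ |>.symm
  by_contra hne
  refine hp ((ho.fix_octadFix (mul_mem (inv_mem hb) hm) hne p).1 ?_)
  rw [Equiv.Perm.mul_apply, Equiv.Perm.mul_apply, Equiv.Perm.mul_apply,
    show g⁻¹ p = p from Equiv.Perm.inv_eq_iff_eq.2 hgp.symm, hgq]
  simp

/-- The six further points of an octad through the deleted points. -/
abbrev Six (o : Finset GolayPt) := {x : GolayPt // x ∈ o ∧ x ≠ pA ∧ x ≠ pB}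

theorem mem_six_iff {o : Finset GolayPt} {g : Equiv.Perm GolayPt} (hg : g ∈ stabO o) (x : GolayPt) :
    (g x ∈ o ∧ g x ≠ pA ∧ g x ≠ pB) ↔ (x ∈ o ∧ x ≠ pA ∧ x ≠ pB) := by
  rw [mem_iff_of_mem_octadStab (⟨pairStab_le_M24 hg.1, hg.2⟩ : g ∈ octadStab o)]
  refine and_congr_right fun _ => ?_
  rcases (mem_pairStab.1 hg.1).2 with ⟨h1, h2⟩ | ⟨h1, h2⟩
  · exact ⟨fun h => ⟨fun e => h.1 (e ▸ h1), fun e => h.2 (e ▸ h2)⟩,
      fun h => ⟨fun e => h.1 (g.injective (e.trans h1.symm)), fun e => h.2 (g.injective (e.trans h2.symm))⟩⟩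
  · exact ⟨fun h => ⟨fun e => h.2 (e ▸ h1), fun e => h.1 (e ▸ h2)⟩,
      fun h => ⟨fun e => h.2 (g.injective (e.trans h2.symm)), fun e => h.1 (g.injective (e.trans h1.symm))⟩⟩

/-- The action on the six further points. -/
def sixRes (o : Finset GolayPt) : ↥(stabO o) →* Equiv.Perm (Six o) where
  toFun g := (g : Equiv.Perm GolayPt).subtypePerm (mem_six_iff g.2)
  map_one' := Equiv.ext fun _ => rfl
  map_mul' _ _ := Equiv.ext fun _ => rfl

/-- The action of the stabiliser inside M22 on the six further points. -/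
def sixRes0 (o : Finset GolayPt) : ↥(stab0 o) →* Equiv.Perm (Six o) :=
  (sixRes o).comp (Subgroup.inclusion (stab0_le_stabO o))

theorem sixRes0_apply {o : Finset GolayPt} (g : ↥(stab0 o)) (x : Six o) :
    ((sixRes0 o g x) : GolayPt) = (g : Equiv.Perm GolayPt) x := rfl

theorem HexOct.card_six {o : Finset GolayPt} (ho : HexOct o) : Fintype.card (Six o) = 6 := by
  rw [Fintype.card_subtype]
  rw [show (Finset.univ.filter fun x : GolayPt => x ∈ o ∧ x ≠ pA ∧ x ≠ pB) = (o.erase pA).erase pB by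
    ext; simp; tauto]
  rw [Finset.card_erase_of_mem (Finset.mem_erase.2 ⟨pA_ne_pB.symm, ho.b⟩), Finset.card_erase_of_mem ho.a,
    ho.mem.2]

theorem HexOct.mem_ker_sixRes0 {o : Finset GolayPt} (_ : HexOct o) (g : ↥(stab0 o)) :
    sixRes0 o g = 1 ↔ (g : Equiv.Perm GolayPt) ∈ octadFix o := by
  constructor
  · intro h
    refine mem_octadFix.2 ⟨g.2.1.1.1, fun p hp => ?_⟩
    by_cases h1 : p = pA
    · subst h1; exact g.2.1.1.2
    by_cases h2 : p = pB
    · subst h2; exact g.2.1.2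
    exact congrArg Subtype.val (Equiv.ext_iff.1 h ⟨p, hp, h1, h2⟩)
  · exact fun h => Equiv.ext fun x => Subtype.ext ((mem_octadFix.1 h).2 _ x.2.1)

theorem HexOct.range_sixRes0 {o : Finset GolayPt} (ho : HexOct o) :
    (sixRes0 o).range = alternatingGroup (Six o) := by
  have hk : Nat.card (sixRes0 o).ker = 16 := by
    rw [← natCard_octadFix ho.mem]
    exact Nat.card_congr
      { toFun := fun g => ⟨(g : ↥(stab0 o)), (ho.mem_ker_sixRes0 _).1 g.2⟩
        invFun := fun a => ⟨⟨a, ho.fix_le_stab0 a.2⟩, (ho.mem_ker_sixRes0 _).2 a.2⟩ }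
  have h := (sixRes0 o).ker.index_mul_card
  rw [Subgroup.index_ker, hk, ho.natCard_stab0] at h
  have h2 := (sixRes0 o).range.index_mul_card
  have hperm : Nat.card (Equiv.Perm (Six o)) = 720 := by
    rw [Nat.card_eq_fintype_card, Fintype.card_perm, ho.card_six]
    rfl
  rw [hperm, show Nat.card (sixRes0 o).range = 360 by omega] at h2
  exact Equiv.Perm.eq_alternatingGroup_of_index_eq_two (by omega)

theorem HexOct.exists_even {o : Finset GolayPt} (ho : HexOct o) {e : Equiv.Perm (Six o)}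
    (he : e ∈ alternatingGroup (Six o)) : ∃ g : ↥(stab0 o), sixRes0 o g = e := by
  rw [← ho.range_sixRes0] at he
  exact he

end Cfsg.Agent.J4Type
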