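import Cfsg.Agent.Lib.J4Type.Space
import Cfsg.Agent.Lib.J4Type.OctFacts

/-!
The involution lifts of M22 in the action on `W` and invariant subspaces (helper19).

* `invLift a` : the involution of the action over an involution `a` of M22; `invLift_mul`, `invLift_conj`
* `mv a` : `invLift a - 1` over `K4`
* `finrank_dvd_three_of_invariant` : a subspace invariant under the preimage of a subgroup of M22 of
  index prime to three has dimension divisible by three
-/

set_option autoImplicit false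
set_option linter.style.haveILetI false
set_option linter.unusedSectionVars false
open scoped Pointwise commutatorElement
open Cfsg Subgroup

namespace Cfsg.Agent.J4Type

namespace Setting

variable {G : Type*} [Group G] [Finite G] {z : G} {P : Subgroup G} (S : Setting z P)
include S

/-- The generator inside the centraliser. -/
def genH : ↥(Cz z) := ⟨S.gen, S.gen_mem⟩

theorem omega_eq (v : S.WS) : S.omega v = S.rho S.genH v := rfl

theorem rho_gen_cube : S.rho S.genH ^ 3 = 1 := by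
  rw [← map_pow]
  have : S.genH ^ 3 = 1 := Subtype.ext S.gen_cube
  rw [this, map_one]

theorem rho_of_κ_one {h : ↥(Cz z)} (h1 : S.κ h = 1) : ∃ n : ℕ, S.rho h = S.rho S.genH ^ n := by
  obtain ⟨e, he, n, hn⟩ := (S.κ_ker h).1 h1
  refine ⟨n, ?_⟩
  have : h = ⟨e, Ez_le_Cz z he⟩ * S.genH ^ n := Subtype.ext hn
  rw [this, map_mul, S.rho_of_mem (h := ⟨e, Ez_le_Cz z he⟩) he, one_mul, map_pow]

theorem innerH_commute {h : ↥(Cz z)} (hh : h ∈ S.innerH) : Commute (S.rho h) (S.rho S.genH) :=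
  LinearEquiv.ext fun v => S.rho_inner hh v

theorem gen_pow_eq_one {n : ℕ} (h : (S.rho S.genH ^ n) * (S.rho S.genH ^ n) = 1) :
    S.rho S.genH ^ n = 1 := by
  calc S.rho S.genH ^ n = S.rho S.genH ^ n * ((S.rho S.genH ^ n) * (S.rho S.genH ^ n)) := by rw [h, mul_one]
    _ = (S.rho S.genH ^ 3) ^ n := by
      rw [← pow_add, ← pow_add, ← pow_mul]; congr 1; omega
    _ = 1 := by rw [S.rho_gen_cube, one_pow]

theorem lift_unique {g h : ↥(Cz z)} (hg : g ∈ S.innerH) (he : S.κ g = S.κ h)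
    (g2 : S.rho g * S.rho g = 1) (h2 : S.rho h * S.rho h = 1) : S.rho g = S.rho h := by
  obtain ⟨n, hn⟩ := S.rho_of_κ_one (h := g⁻¹ * h) (by rw [map_mul, map_inv, he, inv_mul_cancel])
  rw [map_mul, map_inv, inv_mul_eq_iff_eq_mul] at hn
  have hc : Commute (S.rho g) (S.rho S.genH ^ n) := (S.innerH_commute hg).pow_right n
  rw [hn, hc.symm.mul_mul_mul_comm, g2, one_mul] at h2
  rw [hn, S.gen_pow_eq_one h2, mul_one]

theorem exists_lift {a : Equiv.Perm GolayPt} (ha : a ∈ Spor.M22) (ha2 : a * a = 1) :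
    ∃ h : ↥(Cz z), S.κ h = a ∧ S.rho h * S.rho h = 1 := by
  obtain ⟨h, rfl⟩ : a ∈ S.κ.range := S.κ_range ▸ m22_le_pairStab ha
  have hh : h ∈ S.innerH := ha
  obtain ⟨n, hn⟩ := S.rho_of_κ_one (h := h * h) (by rw [map_mul, ha2])
  rw [map_mul] at hn
  refine ⟨h * S.genH ^ n, by rw [map_mul, map_pow, show S.κ S.genH = 1 from S.κ_gen, one_pow, mul_one], ?_⟩
  have hc : Commute (S.rho h) (S.rho S.genH ^ n) := (S.innerH_commute hh).pow_right n
  rw [map_mul, map_pow, hc.symm.mul_mul_mul_comm, hn, ← pow_add, ← pow_add, ← mul_one (1 : S.WS ≃ₗ[ZMod 2] S.WS)]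
  rw [show n + (n + n) = 3 * n by omega, pow_mul, S.rho_gen_cube, one_pow, mul_one]

open Classical in
/-- The involution of the action over an involution of M22 (and `1` otherwise). -/
noncomputable def invLift (a : Equiv.Perm GolayPt) : S.WS ≃ₗ[ZMod 2] S.WS :=
  if h : ∃ k : ↥(Cz z), k ∈ S.innerH ∧ S.κ k = a ∧ S.rho k * S.rho k = 1 then S.rho h.choose else 1

theorem invLift_eq {h : ↥(Cz z)} (hh : h ∈ S.innerH) (h2 : S.rho h * S.rho h = 1) :
    S.invLift (S.κ h) = S.rho h := by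
  have hex : ∃ k : ↥(Cz z), k ∈ S.innerH ∧ S.κ k = S.κ h ∧ S.rho k * S.rho k = 1 := ⟨h, hh, rfl, h2⟩
  rw [invLift, dif_pos hex]
  obtain ⟨h1, h3, h4⟩ := hex.choose_spec
  exact S.lift_unique h1 h3 h4 h2

theorem exists_invLift {a : Equiv.Perm GolayPt} (ha : a ∈ Spor.M22) (ha2 : a * a = 1) :
    ∃ h : ↥(Cz z), h ∈ S.innerH ∧ S.κ h = a ∧ S.rho h * S.rho h = 1 ∧ S.invLift a = S.rho h := by
  obtain ⟨h, hk, h2⟩ := S.exists_lift ha ha2
  have hh : h ∈ S.innerH := by
    show S.κ h ∈ Spor.M22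
    rw [hk]; exact ha
  exact ⟨h, hh, hk, h2, hk ▸ S.invLift_eq hh h2⟩

theorem invLift_one : S.invLift 1 = 1 := by
  have := S.invLift_eq (h := 1) (one_mem _) (by rw [map_one, one_mul])
  rwa [map_one, map_one] at this

theorem invLift_omega {a : Equiv.Perm GolayPt} (ha : a ∈ Spor.M22) (ha2 : a * a = 1) (v : S.WS) :
    S.invLift a (S.omega v) = S.omega (S.invLift a v) := by
  obtain ⟨h, hh, -, -, he⟩ := S.exists_invLift ha ha2
  rw [he, S.rho_inner hh]

theorem invLift_invLift {a : Equiv.Perm GolayPt} (ha : a ∈ Spor.M22) (ha2 : a * a = 1) (v : S.WS) :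
    S.invLift a (S.invLift a v) = v := by
  obtain ⟨h, -, -, h2, he⟩ := S.exists_invLift ha ha2
  rw [he, ← LinearEquiv.mul_apply, h2]; rfl

theorem invLift_eq_one {a : Equiv.Perm GolayPt} (ha : a ∈ Spor.M22) (ha2 : a * a = 1)
    (h : S.invLift a = 1) : a = 1 := by
  obtain ⟨k, -, hk, -, he⟩ := S.exists_invLift ha ha2
  rw [he, S.rho_eq_one_iff] at h
  rw [← hk, show k = ⟨(k : G), Ez_le_Cz z h⟩ from rfl, S.κ_E h]

theorem invLift_mul {a b : Equiv.Perm GolayPt} (ha : a ∈ Spor.M22) (ha2 : a * a = 1) (hb : b ∈ Spor.M22)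
    (hb2 : b * b = 1) (hab : a * b = b * a) : S.invLift (a * b) = S.invLift a * S.invLift b := by
  obtain ⟨g, hg, gk, g2, ge⟩ := S.exists_invLift ha ha2
  obtain ⟨h, hh, hk, h2, he⟩ := S.exists_invLift hb hb2
  have hc : Commute (S.rho g) (S.rho h) := by
    obtain ⟨n, hn⟩ := S.rho_of_κ_one (h := g * h * g⁻¹ * h⁻¹) (by
      rw [map_mul, map_mul, map_mul, map_inv, map_inv, gk, hk, hab]; group)
    rw [map_mul, map_mul, map_mul, map_inv, map_inv, mul_inv_eq_iff_eq_mul] at hn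
    have hch : Commute (S.rho S.genH ^ n) (S.rho h) := ((S.innerH_commute hh).pow_right n).symm
    have hsq : S.rho g * S.rho h * (S.rho g)⁻¹ * (S.rho g * S.rho h * (S.rho g)⁻¹) = 1 := by
      calc _ = S.rho g * (S.rho h * S.rho h) * (S.rho g)⁻¹ := by group
        _ = 1 := by rw [h2, mul_one, mul_inv_cancel]
    rw [hn, hch.symm.mul_mul_mul_comm, h2, mul_one] at hsq
    rw [S.gen_pow_eq_one hsq, one_mul, mul_inv_eq_iff_eq_mul] at hn
    exact hn
  have h3 := S.invLift_eq (h := g * h) (mul_mem hg hh) (by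
    rw [map_mul, hc.symm.mul_mul_mul_comm, g2, h2, one_mul])
  rwa [map_mul, map_mul, gk, hk, ← ge, ← he] at h3

theorem invLift_conj (k : ↥(Cz z)) {a : Equiv.Perm GolayPt} (ha : a ∈ Spor.M22) (ha2 : a * a = 1) :
    S.invLift (S.κ k * a * (S.κ k)⁻¹) = S.rho k * S.invLift a * (S.rho k)⁻¹ := by
  obtain ⟨g, -, gk, g2, ge⟩ := S.exists_invLift ha ha2
  have hi : k * g * k⁻¹ ∈ S.innerH := by
    show S.κ (k * g * k⁻¹) ∈ Spor.M22
    rw [map_mul, map_mul, map_inv, gk]
    exact conj_mem_M22 (S.κ_mem k) ha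
  have h3 := S.invLift_eq hi (by
    rw [map_mul, map_mul, map_inv]
    calc _ = S.rho k * (S.rho g * S.rho g) * (S.rho k)⁻¹ := by group
      _ = 1 := by rw [g2, mul_one, mul_inv_cancel])
  rwa [map_mul, map_mul, map_inv, map_mul, map_mul, map_inv, gk, ← ge] at h3

theorem beta_invLift {a : Equiv.Perm GolayPt} (ha : a ∈ Spor.M22) (ha2 : a * a = 1) (v w : S.WS) :
    S.beta (S.invLift a v) w = S.beta v (S.invLift a w) := by
  obtain ⟨h, -, -, h2, he⟩ := S.exists_invLift ha ha2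
  rw [he]
  conv_lhs => rw [← show S.rho h (S.rho h w) = w by rw [← LinearEquiv.mul_apply, h2]; rfl]
  rw [S.beta_rho]

open Classical in
/-- `invLift a - 1` over the field with four elements. -/
noncomputable def mv (a : Equiv.Perm GolayPt) : Module.End K4 S.WS :=
  if h : a ∈ Spor.M22 ∧ a * a = 1 then
    { toFun := fun v => S.invLift a v + v
      map_add' := fun u v => by rw [map_add]; abel
      map_smul' := fun c v => by
        have hz : ∀ w : S.WS, S.invLift a (K4.zeta • w) = K4.zeta • S.invLift a w := fun w => by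
          rw [S.zeta_smul, S.zeta_smul, S.invLift_omega h.1 h.2]
        rcases K4.cases' c with rfl | rfl | rfl | rfl
        · simp
        · simp
        · rw [RingHom.id_apply, hz, smul_add]
        · rw [RingHom.id_apply, add_smul, add_smul, one_smul, one_smul, map_add, hz, smul_add]; abel }
  else 0

theorem mv_apply {a : Equiv.Perm GolayPt} (ha : a ∈ Spor.M22) (ha2 : a * a = 1) (v : S.WS) :
    S.mv a v = S.invLift a v + v := by
  rw [mv, dif_pos ⟨ha, ha2⟩]; rfl

theorem mv_eq_zero_iff {a : Equiv.Perm GolayPt} (ha : a ∈ Spor.M22) (ha2 : a * a = 1) (v : S.WS) :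
    S.mv a v = 0 ↔ S.invLift a v = v := by
  rw [S.mv_apply ha ha2, add_eq_zero_iff_eq_neg, ZModModule.neg_eq_self]

theorem beta_mv {a : Equiv.Perm GolayPt} (ha : a ∈ Spor.M22) (ha2 : a * a = 1) (v w : S.WS) :
    S.beta (S.mv a v) w = S.beta v (S.mv a w) := by
  rw [S.mv_apply ha ha2, S.mv_apply ha ha2, map_add, LinearMap.add_apply, map_add, S.beta_invLift ha ha2]

/-- The preimage of a subgroup of M22. -/
def preM (Y : Subgroup (Equiv.Perm GolayPt)) : Subgroup ↥(Cz z) := Y.comap S.κ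

theorem mem_preM {Y : Subgroup (Equiv.Perm GolayPt)} {h : ↥(Cz z)} : h ∈ S.preM Y ↔ S.κ h ∈ Y := Iff.rfl

theorem gen_mem_preM_commutator {Y : Subgroup (Equiv.Perm GolayPt)}
    (h3 : ¬ 3 ∣ (Y.subgroupOf Spor.M22).index) :
    S.genH ∈ ⁅S.preM (Y ⊓ Spor.M22), S.preM (Y ⊓ Spor.M22)⁆ := by
  let R : Subgroup ↥(Cz z) := S.preM (Y ⊓ Spor.M22) ⊓ (Subgroup.centralizer (P : Set G)).subgroupOf (Cz z)
  have hgC : S.gen ∈ Subgroup.centralizer (P : Set G) := by
    rw [mem_centralizer_iff]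
    intro q hq
    rw [SetLike.mem_coe, ← S.gen_zpowers] at hq
    obtain ⟨n, rfl⟩ := mem_zpowers_iff.1 hq
    exact ((Commute.refl S.gen).zpow_left n).eq
  have hg : S.genH ∈ R := ⟨by
    show S.κ S.genH ∈ Y ⊓ Spor.M22
    rw [show S.κ S.genH = 1 from S.κ_gen]
    exact one_mem _, hgC⟩
  have hRK : ∀ r ∈ R, (r : G) ∈ Kz z P := fun r hr => mem_inf.2 ⟨r.2, hr.2⟩
  have hKinner : ∀ k : ↥(Kz z P), S.κ ⟨(k : G), (mem_inf.1 k.2).1⟩ ∈ Spor.M22 := by
    intro k
    refine (mem_M22_iff (S.κ_mem _)).2 ?_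
    by_contra hne
    have hk := (mem_inf.1 k.2).2
    have h1 := (S.inner _ (centralizer_le_normalizer _ hk)).2 hne
    have h2 : (k : G) * S.gen * (k : G)⁻¹ = S.gen := mul_inv_eq_iff_eq_mul.2
      (mem_centralizer_iff.1 hk S.gen (S.gen_zpowers.le (mem_zpowers _))).symm
    rw [h2] at h1
    have h3' : S.gen ^ 2 = 1 := by rw [sq]; nth_rewrite 2 [h1]; exact mul_inv_cancel _
    have := orderOf_dvd_of_pow_eq_one h3'
    rw [S.gen_ord] at this
    norm_num at this
  let f : ↥(Kz z P) →* ↥Spor.M22 :=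
    (S.κ.comp (Subgroup.inclusion inf_le_left)).codRestrict _ hKinner
  have hf : Function.Surjective f := by
    rintro ⟨g, hg22⟩
    obtain ⟨k, hk, hkg⟩ := S.frattini' (m22_le_pairStab hg22)
    have hc := (S.inner k hk).1 (by rw [hkg]; exact hg22.1.2)
    refine ⟨⟨k, mem_inf.2 ⟨k.2, mem_centralizer_iff.2 fun q hq => ?_⟩⟩, Subtype.ext hkg⟩
    rw [SetLike.mem_coe, ← S.gen_zpowers] at hq
    obtain ⟨n, rfl⟩ := mem_zpowers_iff.1 hq
    exact ((show Commute (k : G) S.gen from hc).zpow_right n).eq.symm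
  have heq : (R.map (Cz z).subtype).subgroupOf (Kz z P) = (Y.subgroupOf Spor.M22).comap f := by
    ext k
    constructor
    · rintro ⟨r, hr, hrk⟩
      show S.κ ⟨(k : G), _⟩ ∈ Y
      have : (⟨(k : G), (mem_inf.1 k.2).1⟩ : ↥(Cz z)) = r := Subtype.ext hrk.symm
      rw [this]
      exact hr.1.1
    · intro hk
      exact ⟨⟨(k : G), (mem_inf.1 k.2).1⟩, ⟨⟨hk, hKinner k⟩, (mem_inf.1 k.2).2⟩, rfl⟩
  have h := S.gen_mem_commutator (R := R) hg hRK (by
    rw [heq, Subgroup.index_comap_of_surjective _ hf]; exact h3)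
  have h2 : S.genH ∈ ⁅R, R⁆ := by
    rw [← Subgroup.map_subtype_commutator]
    exact ⟨_, h, rfl⟩
  exact Subgroup.commutator_mono inf_le_left inf_le_left h2

theorem finrank_dvd_three_of_invariant {Y : Subgroup (Equiv.Perm GolayPt)}
    (h3 : ¬ 3 ∣ (Y.subgroupOf Spor.M22).index) (U : Submodule K4 S.WS)
    (hU : ∀ h : ↥(Cz z), S.κ h ∈ Y → S.κ h ∈ Spor.M22 → ∀ u ∈ U, S.rho h u ∈ U) :
    3 ∣ Module.finrank K4 U := by
  set X := S.preM (Y ⊓ Spor.M22)
  have hgX : S.genH ∈ X := by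
    show S.κ S.genH ∈ Y ⊓ Spor.M22
    rw [show S.κ S.genH = 1 from S.κ_gen]
    exact one_mem _
  let ρU : ↥X →* Module.End K4 U :=
    { toFun := fun h => (S.linK (h := (h : ↥(Cz z))) h.2.2).restrict (fun u hu => hU _ h.2.1 h.2.2 u hu)
      map_one' := LinearMap.ext fun u => Subtype.ext (by
        show S.rho 1 (u : S.WS) = u
        rw [map_one]; rfl)
      map_mul' := fun g h => LinearMap.ext fun u => Subtype.ext (by
        show S.rho ((g : ↥(Cz z)) * h) (u : S.WS) = S.rho g (S.rho h u)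
        rw [map_mul]; rfl) }
  refine finrank_dvd_three ρU (x := ⟨S.genH, hgX⟩) ?_ ?_
  · have h := S.gen_mem_preM_commutator h3
    rw [← Subgroup.map_subtype_commutator] at h
    obtain ⟨x, hx, hxe⟩ := h
    rwa [show (⟨S.genH, hgX⟩ : ↥X) = x from Subtype.ext hxe.symm]
  · refine LinearMap.ext fun u => Subtype.ext ?_
    show S.rho S.genH (u : S.WS) = K4.zeta • (u : S.WS)
    rw [S.zeta_smul]; rfl

end Setting

end Cfsg.Agent.J4Type
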