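import Cfsg.Agent.Lib.J4Type.Scalar
import Cfsg.Agent.Lib.J4Type.OctTwo

/-!
Counts in a plane over the field with four elements and permutations of six letters (helper19).

* `natCard_points`, `natCard_lines` : points and lines in a three-dimensional space
* `exists_even_map` : the alternating group on six letters is four-fold transitive
* `pair_fix_three`, `pair_fix_four` : invariant pairs
* `HexOct.range_eq_alt` : actions of the stabiliser of an octad on six objects
* `coeff_cases` : the last two points of a hyperoval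
-/

set_option autoImplicit false
set_option linter.style.haveILetI false
open Cfsg

namespace Cfsg.Agent.J4Type

open Cfsg.Agent.Golay

section

variable {W : Type*} [AddCommGroup W] [Module K4 W] [Finite W]

theorem natCard_points (U : Submodule K4 W) :
    3 * Nat.card {Q : Submodule K4 W // Q ≤ U ∧ Module.finrank K4 Q = 1} + 1 = 4 ^ Module.finrank K4 U := by
  have e : {Q : Submodule K4 W // Q ≤ U ∧ Module.finrank K4 Q = 1} ≃
      {H : Submodule K4 U // Module.finrank K4 H = 1} :=
    { toFun := fun Q => ⟨Q.1.comap U.subtype, (Submodule.comapSubtypeEquivOfLe Q.2.1).finrank_eq.trans Q.2.2⟩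
      invFun := fun H => ⟨H.1.map U.subtype, Submodule.map_subtype_le _ _,
        (Submodule.finrank_map_subtype_eq U H.1).trans H.2⟩
      left_inv := fun Q => Subtype.ext (by
        show (Q.1.comap U.subtype).map U.subtype = Q.1
        rw [Submodule.map_comap_subtype]
        exact inf_eq_right.2 Q.2.1)
      right_inv := fun H => Subtype.ext (Submodule.comap_map_eq_of_injective U.injective_subtype _) }
  rw [Nat.card_congr (e.trans (Projectivization.equivSubmodule K4 U).symm), ← natCard_eq_four_pow]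
  have h := Projectivization.card' (k := K4) (V := U)
  rw [K4.natCard_K4] at h
  omega

theorem natCard_points_eq (U : Submodule K4 W) {n : ℕ} (h : Module.finrank K4 U = 2 ∧ n = 5 ∨
    Module.finrank K4 U = 3 ∧ n = 21) :
    Nat.card {Q : Submodule K4 W // Q ≤ U ∧ Module.finrank K4 Q = 1} = n := by
  have h1 := natCard_points U
  rcases h with ⟨h2, rfl⟩ | ⟨h2, rfl⟩ <;> rw [h2] at h1 <;> norm_num at h1 ⊢ <;> omega

theorem natCard_lines (U : Submodule K4 W) (h3 : Module.finrank K4 U = 3) :
    Nat.card {L : Submodule K4 W // L ≤ U ∧ Module.finrank K4 L = 2} = 21 := by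
  have e : {L : Submodule K4 W // L ≤ U ∧ Module.finrank K4 L = 2} ≃
      {H : Submodule K4 U // Module.finrank K4 H = 2} :=
    { toFun := fun Q => ⟨Q.1.comap U.subtype, (Submodule.comapSubtypeEquivOfLe Q.2.1).finrank_eq.trans Q.2.2⟩
      invFun := fun H => ⟨H.1.map U.subtype, Submodule.map_subtype_le _ _,
        (Submodule.finrank_map_subtype_eq U H.1).trans H.2⟩
      left_inv := fun Q => Subtype.ext (by
        show (Q.1.comap U.subtype).map U.subtype = Q.1
        rw [Submodule.map_comap_subtype]
        exact inf_eq_right.2 Q.2.1)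
      right_inv := fun H => Subtype.ext (Submodule.comap_map_eq_of_injective U.injective_subtype _) }
  let D := Module.Dual K4 U
  have : Finite D := Module.finite_of_finite K4
  have hD : Module.finrank K4 D = 3 := Subspace.dual_finrank_eq.trans h3
  have e2 : {H : Submodule K4 U // Module.finrank K4 H = 2} ≃
      {H : Submodule K4 D // H ≤ ⊤ ∧ Module.finrank K4 H = 1} :=
    ((Subspace.orderIsoFiniteDimensional (K := K4) (V := U)).toEquiv.trans OrderDual.ofDual).subtypeEquiv
      fun H => by
        have hh := Subspace.finrank_add_finrank_dualAnnihilator_eq H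
        rw [h3] at hh
        show Module.finrank K4 H = 2 ↔ _ ∧ Module.finrank K4 H.dualAnnihilator = 1
        constructor
        · intro h
          exact ⟨le_top, by omega⟩
        · intro h
          have := h.2
          omega
  rw [Nat.card_congr (e.trans e2)]
  exact natCard_points_eq ⊤ (Or.inr ⟨(finrank_top K4 D).trans hD, rfl⟩)

end

/-- Four distinct letters are the images of the first four under an even permutation. -/
theorem exists_even_map (k l m n : Fin 6) (hkl : k ≠ l) (hkm : k ≠ m) (hkn : k ≠ n) (hlm : l ≠ m)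
    (hln : l ≠ n) (hmn : m ≠ n) :
    ∃ π : Equiv.Perm (Fin 6), π ∈ alternatingGroup (Fin 6) ∧ π 0 = k ∧ π 1 = l ∧ π 2 = m ∧ π 3 = n := by
  have step : ∀ (π : Equiv.Perm (Fin 6)) (i j a x : Fin 6), π a = x → x ≠ j → a ≠ i →
      (Equiv.swap (π i) j * π) a = x := by
    intro π i j a x ha hx hai
    rw [Equiv.Perm.mul_apply, Equiv.swap_apply_of_ne_of_ne (fun e => hai (π.injective e)) (ha ▸ hx), ha]
  have hit : ∀ (π : Equiv.Perm (Fin 6)) (i j : Fin 6), (Equiv.swap (π i) j * π) i = j := fun π i j => by
    rw [Equiv.Perm.mul_apply, Equiv.swap_apply_left]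
  let π1 : Equiv.Perm (Fin 6) := Equiv.swap ((1 : Equiv.Perm (Fin 6)) 0) k * 1
  let π2 := Equiv.swap (π1 1) l * π1
  let π3 := Equiv.swap (π2 2) m * π2
  let π4 := Equiv.swap (π3 3) n * π3
  have a0 : π1 0 = k := hit 1 0 k
  have b1 : π2 1 = l := hit π1 1 l
  have b0 : π2 0 = k := step π1 1 l 0 k a0 hkl (by decide)
  have c2 : π3 2 = m := hit π2 2 m
  have c0 : π3 0 = k := step π2 2 m 0 k b0 hkm (by decide)
  have c1 : π3 1 = l := step π2 2 m 1 l b1 hlm (by decide)
  have d3 : π4 3 = n := hit π3 3 n
  have d0 : π4 0 = k := step π3 3 n 0 k c0 hkn (by decide)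
  have d1 : π4 1 = l := step π3 3 n 1 l c1 hln (by decide)
  have d2 : π4 2 = m := step π3 3 n 2 m c2 hmn (by decide)
  by_cases h : π4 ∈ alternatingGroup (Fin 6)
  · exact ⟨π4, h, d0, d1, d2, d3⟩
  · have hs : ∀ a : Fin 6, a ≠ 4 → a ≠ 5 → (π4 * (Equiv.swap 4 5 : Equiv.Perm (Fin 6)) : Equiv.Perm (Fin 6)) a = π4 a := fun a ha hb => by
      rw [Equiv.Perm.mul_apply, Equiv.swap_apply_of_ne_of_ne ha hb]
    refine ⟨π4 * (Equiv.swap 4 5 : Equiv.Perm (Fin 6)), ?_, (hs 0 (by decide) (by decide)).trans d0, (hs 1 (by decide) (by decide)).trans d1,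
      (hs 2 (by decide) (by decide)).trans d2, (hs 3 (by decide) (by decide)).trans d3⟩
    rw [Equiv.Perm.mem_alternatingGroup, Equiv.Perm.sign_mul, Equiv.Perm.sign_swap (by decide)]
    rw [Equiv.Perm.mem_alternatingGroup] at h
    rw [(Int.units_eq_one_or _).resolve_left h]
    rfl

/-- Pairs invariant under the stabiliser of an ordered path of three. -/
theorem pair_fix_three : ∀ p q : Fin 6, p ≠ q →
    (∀ π ∈ ([Equiv.swap 0 2 * Equiv.swap 3 4, Equiv.swap 3 4 * Equiv.swap 4 5] : List (Equiv.Perm (Fin 6))),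
      (π p = p ∧ π q = q) ∨ (π p = q ∧ π q = p)) → (p = 0 ∧ q = 2) ∨ (p = 2 ∧ q = 0) := by
  decide +kernel

/-- Pairs invariant under the stabiliser of two disjoint pairs. -/
theorem pair_fix_four : ∀ p q : Fin 6, p ≠ q →
    (∀ π ∈ ([Equiv.swap 0 1 * Equiv.swap 2 3, Equiv.swap 0 2 * Equiv.swap 1 3,
        Equiv.swap 0 1 * Equiv.swap 4 5] : List (Equiv.Perm (Fin 6))),
      (π p = p ∧ π q = q) ∨ (π p = q ∧ π q = p)) → (p = 4 ∧ q = 5) ∨ (p = 5 ∧ q = 4) := by
  decide +kernel

/-- The coefficients of a further point of a hyperoval. -/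
theorem coeff_cases (a b : K4) (ha0 : a ≠ 0) (hb0 : b ≠ 0) (ha : a ≠ 1) (hb : b ≠ 1) (hab : a ≠ b) :
    (a = K4.zeta ∧ b = K4.zeta + 1) ∨ (a = K4.zeta + 1 ∧ b = K4.zeta) := by
  rcases K4.cases' a with h | h | h | h <;> rcases K4.cases' b with h' | h' | h' | h' <;>
    subst h h' <;> first | exact absurd rfl ha0 | exact absurd rfl hb0 | exact absurd rfl ha |
      exact absurd rfl hb | exact absurd rfl hab | exact Or.inl ⟨rfl, rfl⟩ | exact Or.inr ⟨rfl, rfl⟩

/-- An action of the stabiliser of an octad on six objects, trivial on the octad group, is trivial or the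
alternating group. -/
theorem HexOct.range_eq_alt {o : Finset GolayPt} (ho : HexOct o) (f : ↥(stab0 o) →* Equiv.Perm (Fin 6))
    (hA : ∀ g : ↥(stab0 o), (g : Equiv.Perm GolayPt) ∈ octadFix o → f g = 1) (hne : f ≠ 1) :
    f.range = alternatingGroup (Fin 6) := by
  classical
  have hker : f.ker = (sixRes0 o).ker := by
    refine le_antisymm (fun g hg => (ho.mem_ker_sixRes0 g).2 ?_) fun g hg => hA g ((ho.mem_ker_sixRes0 g).1 hg)
    by_contra hgA
    exact hne (MonoidHom.ker_eq_top_iff.1 (ho.normal_eq_top f.ker (fun x hx => hA x hx) hg hgA))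
  have h2 := f.range.index_mul_card
  have hc : Nat.card f.range = 360 := by
    rw [← Subgroup.index_ker, hker, Subgroup.index_ker, ho.range_sixRes0]
    haveI : Nontrivial (Six o) := Fintype.one_lt_card_iff_nontrivial.1 (by rw [ho.card_six]; norm_num)
    rw [nat_card_alternatingGroup, Nat.card_eq_fintype_card, ho.card_six]; rfl
  rw [hc, Nat.card_eq_fintype_card (α := Equiv.Perm (Fin 6)), Fintype.card_perm, Fintype.card_fin] at h2
  refine Equiv.Perm.eq_alternatingGroup_of_index_eq_two ?_
  norm_num [Nat.factorial] at h2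
  omega

end Cfsg.Agent.J4Type
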