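import Cfsg.Agent.Lib.J4Type.Bound
import Cfsg.Agent.Lib.J4Type.PlaneSix

/-!
The plane of the fixed space of an octad group: six points, their fifteen secants and coordinates (helper19).

* `Setting.sAct` : the stabiliser of the octad on subspaces
* `Setting.Coord`, `Setting.exists_coord` : a labelled hyperoval, the secant through `h i`, `h j` being the
  image of `lab i j`, with equivariance and the product rules
-/

set_option autoImplicit false
set_option maxHeartbeats 1000000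
set_option linter.style.haveILetI false
set_option linter.unusedSectionVars false
open scoped Pointwise
open Cfsg Subgroup

namespace Cfsg.Agent.J4Type.Setting

open Cfsg.Agent.Golay

variable {G : Type*} [Group G] [Finite G] {z : G} {P : Subgroup G} (S : Setting z P)
  {o : Finset GolayPt}

include S

theorem exists_inner_lift (g : ↥(stab0 o)) : ∃ k : ↥(Cz z), k ∈ S.innerH ∧ S.κ k = g := by
  obtain ⟨k, -, hk⟩ := S.frattini' (m22_le_pairStab g.2.1)
  exact ⟨k, by show S.κ k ∈ Spor.M22; rw [hk]; exact g.2.1, hk⟩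

/-- The image of a subspace under an element of the stabiliser of the octad in M22. -/
noncomputable def sAct (g : ↥(stab0 o)) (U : Submodule K4 S.WS) : Submodule K4 S.WS :=
  U.map (S.linK (S.exists_inner_lift g).choose_spec.1)

theorem sAct_eq (g : ↥(stab0 o)) (U : Submodule K4 S.WS) {k : ↥(Cz z)} (hk : k ∈ S.innerH)
    (hkg : S.κ k = g) : S.sAct g U = U.map (S.linK hk) := by
  obtain ⟨hi, hc⟩ := (S.exists_inner_lift g).choose_spec
  set k' := (S.exists_inner_lift g).choose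
  obtain ⟨n, hn⟩ := S.rho_of_κ_one (h := k⁻¹ * k') (by rw [map_mul, map_inv, hkg, hc, inv_mul_cancel])
  have hrk : ∀ v, S.rho k' v = S.rho k ((K4.zeta ^ n) • v) := fun v => by
    have hz : (S.rho S.genH ^ n) v = (K4.zeta ^ n) • v := by
      clear hn
      induction n with
      | zero => simp
      | succ n ih => rw [pow_succ', pow_succ', LinearEquiv.mul_apply, ih, mul_smul, S.zeta_smul, ← S.omega_eq]
    rw [← hz, ← hn, ← LinearEquiv.mul_apply, ← map_mul, mul_inv_cancel_left]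
  have hz0 : K4.zeta ^ n ≠ 0 := pow_ne_zero _ (by decide +kernel)
  ext w
  show w ∈ U.map (S.linK hi) ↔ w ∈ U.map (S.linK hk)
  simp only [Submodule.mem_map, S.linK_apply]
  constructor
  · rintro ⟨v, hv, rfl⟩
    exact ⟨(K4.zeta ^ n) • v, U.smul_mem _ hv, (hrk v).symm⟩
  · rintro ⟨v, hv, rfl⟩
    exact ⟨(K4.zeta ^ n)⁻¹ • v, U.smul_mem _ hv, by rw [hrk, smul_smul, mul_inv_cancel₀ hz0, one_smul]⟩

theorem sAct_one (U : Submodule K4 S.WS) : S.sAct (o := o) 1 U = U := by
  rw [S.sAct_eq 1 U (k := 1) (one_mem _) (map_one _)]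
  convert Submodule.map_id U using 2
  exact LinearMap.ext fun v => by
    show S.rho 1 v = v
    rw [map_one]; rfl

theorem sAct_mul (g g' : ↥(stab0 o)) (U : Submodule K4 S.WS) : S.sAct (g * g') U = S.sAct g (S.sAct g' U) := by
  obtain ⟨k, hk, hkg⟩ := S.exists_inner_lift g
  obtain ⟨k', hk', hkg'⟩ := S.exists_inner_lift g'
  rw [S.sAct_eq g _ hk hkg, S.sAct_eq g' U hk' hkg',
    S.sAct_eq (g * g') U (mul_mem hk hk') (by rw [map_mul, hkg, hkg']; rfl), ← Submodule.map_comp]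
  congr 1
  exact LinearMap.ext fun v => by
    show S.rho (k * k') v = S.rho k (S.rho k' v)
    rw [map_mul]; rfl

theorem finrank_sAct (g : ↥(stab0 o)) (U : Submodule K4 S.WS) :
    Module.finrank K4 (S.sAct g U) = Module.finrank K4 U :=
  ((Submodule.equivMapOfInjective _ (S.linK_injective _) U).finrank_eq).symm

theorem sAct_inf (g : ↥(stab0 o)) (U V : Submodule K4 S.WS) : S.sAct g (U ⊓ V) = S.sAct g U ⊓ S.sAct g V :=
  Submodule.map_inf _ (S.linK_injective _)

theorem sAct_sup (g : ↥(stab0 o)) (U V : Submodule K4 S.WS) : S.sAct g (U ⊔ V) = S.sAct g U ⊔ S.sAct g V :=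
  Submodule.map_sup _ _ _

theorem sAct_mono (g : ↥(stab0 o)) {U V : Submodule K4 S.WS} (h : U ≤ V) : S.sAct g U ≤ S.sAct g V :=
  Submodule.map_mono h

variable (ho : HexOct o)
include ho

theorem sAct_le_Cfix (g : ↥(stab0 o)) {U : Submodule K4 S.WS} (h : U ≤ S.Cfix o) : S.sAct g U ≤ S.Cfix o := by
  obtain ⟨k, hk, hkg⟩ := S.exists_inner_lift g
  rw [S.sAct_eq g U hk hkg]
  rintro _ ⟨v, hv, rfl⟩
  exact S.rho_mem_Cfix ho (hkg ▸ stab0_le_stabO o g.2) (h hv)

theorem sAct_fix {g : ↥(stab0 o)} (hg : (g : Equiv.Perm GolayPt) ∈ octadFix o) {U : Submodule K4 S.WS}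
    (h : U ≤ S.Cfix o) : S.sAct g U = U := by
  obtain ⟨k, hk, hkg, -, hI⟩ := S.exists_invLift (S.fix_M22 ho hg).1 (S.fix_M22 ho hg).2
  rw [S.sAct_eq g U hk hkg]
  ext w
  simp only [Submodule.mem_map, S.linK_apply, ← hI]
  exact ⟨fun ⟨v, hv, e⟩ => e ▸ ((S.mem_Cfix ho).1 (h hv) _ hg).symm ▸ hv,
    fun hw => ⟨w, hw, (S.mem_Cfix ho).1 (h hw) _ hg⟩⟩

theorem sAct_range (g : ↥(stab0 o)) {a : Equiv.Perm GolayPt} (ha : a ∈ octadFix o) :
    S.sAct g (LinearMap.range (S.mv a)) =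
      LinearMap.range (S.mv ((g : Equiv.Perm GolayPt) * a * (g : Equiv.Perm GolayPt)⁻¹)) := by
  obtain ⟨k, hk, hkg⟩ := S.exists_inner_lift g
  rw [S.sAct_eq g _ hk hkg, S.range_mv_conj ho hk (hkg ▸ stab0_le_stabO o g.2) ha, hkg]

theorem no_invariant {U : Submodule K4 S.WS} (hd : Module.finrank K4 U = 1 ∨ Module.finrank K4 U = 2)
    (hU : ∀ g : ↥(stab0 o), S.sAct g U = U) : False := by
  rcases S.finrank_cases ho (U := U) fun k hk u hu => by
      rw [← hU ⟨S.κ k, hk⟩, S.sAct_eq ⟨S.κ k, hk⟩ U (k := k) hk.1 rfl]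
      exact ⟨u, hu, rfl⟩ with e | e | e <;> omega

omit ho in
/-- The action on six subspaces. -/
theorem exists_six_hom (X : Fin 6 → Submodule K4 S.WS) (hX : Function.Injective X)
    (hmaps : ∀ (g : ↥(stab0 o)) (i : Fin 6), ∃ j, S.sAct g (X i) = X j) :
    ∃ f : ↥(stab0 o) →* Equiv.Perm (Fin 6), ∀ g i, X (f g i) = S.sAct g (X i) := by
  classical
  choose j hj using hmaps
  let f : ↥(stab0 o) → Equiv.Perm (Fin 6) := fun g =>
    { toFun := j g
      invFun := j g⁻¹
      left_inv := fun i => hX (by rw [← hj, ← hj, ← sAct_mul, inv_mul_cancel, sAct_one])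
      right_inv := fun i => hX (by rw [← hj, ← hj, ← sAct_mul, mul_inv_cancel, sAct_one]) }
  refine ⟨MonoidHom.mk' f fun g g' => Equiv.ext fun i => hX ?_, fun g i => (hj g i).symm⟩
  show X (j (g * g') i) = X (j g (j g' i))
  rw [← hj, ← hj, ← hj, sAct_mul]

/-- A labelled hyperoval in the fixed space with its secants. -/
structure Coord (o : Finset GolayPt) where
  /-- representatives of the six points -/
  h : Fin 6 → S.WS
  /-- the involution whose image is the secant -/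
  lab : Fin 6 → Fin 6 → Equiv.Perm GolayPt
  mem : ∀ i, h i ∈ S.Cfix o
  indep : LinearIndependent K4 ![h 0, h 1, h 2]
  span_eq : Submodule.span K4 (Set.range ![h 0, h 1, h 2]) = S.Cfix o
  h3 : h 3 = h 0 + h 1 + h 2
  h4 : h 4 = h 0 + K4.zeta • h 1 + (K4.zeta + 1) • h 2
  h5 : h 5 = h 0 + (K4.zeta + 1) • h 1 + K4.zeta • h 2
  lab_mem : ∀ i j, i ≠ j → lab i j ∈ octadFix o ∧ lab i j ≠ 1
  lab_range : ∀ i j, i ≠ j → LinearMap.range (S.mv (lab i j)) = Submodule.span K4 {h i} ⊔ Submodule.span K4 {h j}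
  lab_comm : ∀ i j, i ≠ j → lab i j = lab j i
  lab_inj : ∀ i j k l, i ≠ j → k ≠ l → lab i j = lab k l → (i = k ∧ j = l) ∨ (i = l ∧ j = k)
  lab_surj : ∀ a ∈ octadFix o, a ≠ 1 → ∃ i j, i ≠ j ∧ lab i j = a
  equiv : ∀ π ∈ alternatingGroup (Fin 6), ∃ k : ↥(Cz z), k ∈ S.innerH ∧ S.κ k ∈ stab0 o ∧
    (∀ i, ∃ c : K4, c ≠ 0 ∧ S.rho k (h i) = c • h (π i)) ∧
    ∀ i j, i ≠ j → S.κ k * lab i j * (S.κ k)⁻¹ = lab (π i) (π j)
  perm : ∀ k : ↥(Cz z), k ∈ S.innerH → S.κ k ∈ stab0 o → ∀ i, ∃ j, ∃ c : K4, c ≠ 0 ∧ S.rho k (h i) = c • h j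
  mul_three : ∀ i j k, i ≠ j → j ≠ k → i ≠ k → lab i j * lab j k = lab i k
  mul_four : ∀ i j k l m n, [i, j, k, l, m, n].Nodup → lab i j * lab k l = lab m n

theorem exists_six_points : ∃ X : Fin 6 → Submodule K4 S.WS, Function.Injective X ∧
    (∀ i, X i ≤ S.Cfix o ∧ Module.finrank K4 (X i) = 1) ∧
    (∀ (g : ↥(stab0 o)) (i : Fin 6), ∃ j, S.sAct g (X i) = X j) ∧
    ∀ i j, i ≠ j → ∃ a ∈ octadFix o, a ≠ 1 ∧ LinearMap.range (S.mv a) = X i ⊔ X j := by
  classical
  let Lset := {L : Submodule K4 S.WS // L ≤ S.Cfix o ∧ Module.finrank K4 L = 2}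
  haveI : Finite Lset := Subtype.finite
  have hLcard : Nat.card Lset = 21 := natCard_lines _ (S.finrank_Cfix ho)
  let N := {a : ↥(octadFix o) // (a : Equiv.Perm GolayPt) ≠ 1}
  have hN : Nat.card N = 15 := by
    haveI := Fintype.ofFinite ↥(octadFix o)
    rw [Nat.card_eq_fintype_card, Fintype.card_subtype,
      show (Finset.univ.filter fun c : ↥(octadFix o) => (c : Equiv.Perm GolayPt) ≠ 1) =
        Finset.univ.erase 1 by ext; simp, Finset.card_erase_of_mem (Finset.mem_univ _), Finset.card_univ,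
      ← Nat.card_eq_fintype_card, natCard_octadFix ho.mem]
  let f : N → Lset := fun a =>
    ⟨LinearMap.range (S.mv a.1), S.range_mv_le ho a.1.2, S.finrank_range_mv ho a.1.2 a.2⟩
  have hf : Function.Injective f := fun a b hab => Subtype.ext (Subtype.ext
    (S.range_mv_injective ho a.1.2 a.2 b.1.2 b.2 (congrArg Subtype.val hab)))
  let Rest := {L : Lset // L ∉ Set.range f}
  have hRest : Nat.card Rest = 6 := by
    have h1 := Nat.card_congr (Equiv.sumCompl fun L : Lset => L ∈ Set.range f)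
    rw [Nat.card_sum, hLcard, Nat.card_range_of_injective hf, hN] at h1
    show Nat.card {L : Lset // ¬ L ∈ Set.range f} = 6
    omega
  let eR := Finite.equivFinOfCardEq hRest
  let El : Fin 6 → Submodule K4 S.WS := fun i => ((eR.symm i).1 : Submodule K4 S.WS)
  have hEinj : Function.Injective El := fun i j h => eR.symm.injective (Subtype.ext (Subtype.ext h))
  have hEprop : ∀ i, El i ≤ S.Cfix o ∧ Module.finrank K4 (El i) = 2 := fun i => (eR.symm i).1.2
  have hEnot : ∀ i, ∀ a ∈ octadFix o, a ≠ 1 → LinearMap.range (S.mv a) ≠ El i := fun i a ha ha1 h =>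
    (eR.symm i).2 ⟨⟨⟨a, ha⟩, ha1⟩, Subtype.ext h⟩
  have hline : ∀ L, L ≤ S.Cfix o → Module.finrank K4 L = 2 →
      (∃ a ∈ octadFix o, a ≠ 1 ∧ LinearMap.range (S.mv a) = L) ∨ ∃ i, El i = L := by
    intro L h1 h2
    by_cases hr : (⟨L, h1, h2⟩ : Lset) ∈ Set.range f
    · obtain ⟨a, ha⟩ := hr
      exact Or.inl ⟨_, a.1.2, a.2, congrArg Subtype.val ha⟩
    · exact Or.inr ⟨eR ⟨_, hr⟩, by simp [El]⟩
  have hEmaps : ∀ (g : ↥(stab0 o)) (i : Fin 6), ∃ j, S.sAct g (El i) = El j := by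
    intro g i
    rcases hline _ (S.sAct_le_Cfix ho g (hEprop i).1) ((S.finrank_sAct g _).trans (hEprop i).2) with
      ⟨a, ha, ha1, hr⟩ | ⟨j, hj⟩
    · exfalso
      have h2 := congrArg (S.sAct g⁻¹) hr
      rw [S.sAct_range ho _ ha, ← S.sAct_mul, inv_mul_cancel, S.sAct_one] at h2
      exact hEnot i _ (HexOct.conj_mem_fix (stab0_le_octadStab o (g⁻¹).2) ha)
        (fun e => ha1 (conj_eq_one_iff.1 e)) h2
    · exact ⟨j, hj.symm⟩
  obtain ⟨φ, hφ⟩ := S.exists_six_hom El hEinj hEmaps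
  have hφalt : φ.range = alternatingGroup (Fin 6) := ho.range_eq_alt φ
    (fun g hg => Equiv.ext fun i => hEinj ((hφ g i).trans (S.sAct_fix ho hg (hEprop i).1)))
    fun e => S.no_invariant ho (U := El 0) (Or.inr (hEprop 0).2) fun g => by
      rw [← hφ, e]; rfl
  have hEtrans : ∀ π ∈ alternatingGroup (Fin 6), ∃ g, φ g = π := fun π hπ => MonoidHom.mem_range.1 (by rw [hφalt]; exact hπ)
  -- intersections
  let Q : Fin 6 → Fin 6 → Submodule K4 S.WS := fun i j => El i ⊓ El j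
  have hQ : ∀ i j, i ≠ j → Q i j ≤ S.Cfix o ∧ Module.finrank K4 (Q i j) = 1 := by
    intro i j hij
    refine ⟨inf_le_left.trans (hEprop i).1, ?_⟩
    have h1 := Submodule.finrank_sup_add_finrank_inf_eq (El i) (El j)
    rw [(hEprop i).2, (hEprop j).2] at h1
    have h2 := Submodule.finrank_mono (sup_le (hEprop i).1 (hEprop j).1)
    rw [S.finrank_Cfix ho] at h2
    have h3 : El i < El i ⊔ El j := lt_of_le_of_ne le_sup_left fun e => hij (hEinj
      ((Submodule.eq_of_le_of_finrank_eq (e ▸ le_sup_right) ((hEprop j).2.trans (hEprop i).2.symm)).symm))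
    have h4 := Submodule.finrank_lt_finrank_of_lt h3
    rw [(hEprop i).2] at h4
    show Module.finrank K4 ↥(El i ⊓ El j) = 1
    omega
  have hthree : ∀ i j k, i ≠ j → i ≠ k → j ≠ k → ¬ Q i j ≤ El k := by
    intro i j k hij hik hjk hle
    -- all six lines would pass through one point
    have hfirst : El 0 ⊓ El 1 ≤ El 2 := by
      obtain ⟨n, hn⟩ : ∃ n : Fin 6, n ≠ i ∧ n ≠ j ∧ n ≠ k :=
        (by decide : ∀ i j k : Fin 6, ∃ n, n ≠ i ∧ n ≠ j ∧ n ≠ k) i j k
      obtain ⟨π, hπ, p0, p1, p2, -⟩ := exists_even_map i j k n hij hik hn.1.symm hjk hn.2.1.symm hn.2.2.symm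
      obtain ⟨g, hg⟩ := hEtrans π⁻¹ (inv_mem hπ)
      have hh := S.sAct_mono g hle
      rw [S.sAct_inf, ← hφ, ← hφ, ← hφ, hg] at hh
      simp only [← p0, ← p1, ← p2, Equiv.Perm.coe_inv, Equiv.symm_apply_apply] at hh
      exact hh
    have hall : ∀ a b c, a ≠ b → a ≠ c → b ≠ c → El a ⊓ El b ≤ El c := by
      intro a b c hab hac hbc
      obtain ⟨n, hn⟩ : ∃ n : Fin 6, n ≠ a ∧ n ≠ b ∧ n ≠ c :=
        (by decide : ∀ a b c : Fin 6, ∃ n, n ≠ a ∧ n ≠ b ∧ n ≠ c) a b c
      obtain ⟨π, hπ, p0, p1, p2, -⟩ := exists_even_map a b c n hab hac hn.1.symm hbc hn.2.1.symm hn.2.2.symm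
      obtain ⟨g, hg⟩ := hEtrans π hπ
      have hh := S.sAct_mono g hfirst
      rw [S.sAct_inf, ← hφ, ← hφ, ← hφ, hg, p0, p1, p2] at hh
      exact hh
    have hpt : ∀ a b, a ≠ b → Q a b = Q 0 1 := by
      intro a b hab
      have h01 : ∀ c, Q 0 1 ≤ El c := fun c => by
        by_cases h0 : c = 0
        · exact h0 ▸ inf_le_left
        by_cases h1 : c = 1
        · exact h1 ▸ inf_le_right
        exact hall 0 1 c (by decide) (Ne.symm h0) (Ne.symm h1)
      exact (Submodule.eq_of_le_of_finrank_eq (le_inf (h01 a) (h01 b))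
        ((hQ 0 1 (by decide)).2.trans (hQ a b hab).2.symm)).symm
    refine S.no_invariant ho (U := Q 0 1) (Or.inl (hQ 0 1 (by decide)).2) fun g => ?_
    rw [S.sAct_inf, ← hφ, ← hφ]
    exact hpt _ _ fun e => (by decide : (0 : Fin 6) ≠ 1) ((φ g).injective e)
  -- the points
  let Pset := {X : Submodule K4 S.WS // X ≤ S.Cfix o ∧ Module.finrank K4 X = 1}
  haveI : Finite Pset := Subtype.finite
  have hPcard : Nat.card Pset = 21 := natCard_points_eq _ (Or.inr ⟨S.finrank_Cfix ho, rfl⟩)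
  let Pairs := {p : Fin 6 × Fin 6 // p.1 < p.2}
  let q : Pairs → Pset := fun p => ⟨Q p.1.1 p.1.2, hQ _ _ p.2.ne⟩
  have hq : Function.Injective q := by
    rintro ⟨⟨i, j⟩, hij⟩ ⟨⟨k, l⟩, hkl⟩ h
    have hE : Q i j = Q k l := congrArg Subtype.val h
    have hk : k = i ∨ k = j := by
      by_contra hh
      push Not at hh
      exact hthree i j k hij.ne hh.1.symm hh.2.symm (hE ▸ inf_le_left)
    have hl : l = i ∨ l = j := by
      by_contra hh
      push Not at hh
      exact hthree i j l hij.ne hh.1.symm hh.2.symm (hE ▸ inf_le_right)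
    refine Subtype.ext ?_
    rcases hk with rfl | rfl <;> rcases hl with rfl | rfl
    · exact absurd hkl (lt_irrefl _)
    · rfl
    · exact absurd hkl (lt_asymm hij)
    · exact absurd hkl (lt_irrefl _)
  let RestP := {X : Pset // X ∉ Set.range q}
  have hRestP : Nat.card RestP = 6 := by
    have h1 := Nat.card_congr (Equiv.sumCompl fun L : Pset => L ∈ Set.range q)
    rw [Nat.card_sum, hPcard, Nat.card_range_of_injective hq,
      show Nat.card Pairs = 15 by rw [Nat.card_eq_fintype_card]; rfl] at h1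
    show Nat.card {X : Pset // ¬ X ∈ Set.range q} = 6
    omega
  let eP := Finite.equivFinOfCardEq hRestP
  let X : Fin 6 → Submodule K4 S.WS := fun i => ((eP.symm i).1 : Submodule K4 S.WS)
  have hXinj : Function.Injective X := fun i j h => eP.symm.injective (Subtype.ext (Subtype.ext h))
  have hXprop : ∀ i, X i ≤ S.Cfix o ∧ Module.finrank K4 (X i) = 1 := fun i => (eP.symm i).1.2
  have hXnotQ : ∀ i k l, k ≠ l → X i ≠ Q k l := by
    intro i k l hkl h
    rcases lt_or_gt_of_ne hkl with h' | h'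
    · exact (eP.symm i).2 ⟨⟨(k, l), h'⟩, Subtype.ext h.symm⟩
    · exact (eP.symm i).2 ⟨⟨(l, k), h'⟩, Subtype.ext (by
        show El l ⊓ El k = X i
        rw [h, inf_comm])⟩
  have hpoint : ∀ x : Pset, (∃ i, X i = x) ∨ ∃ k l, k ≠ l ∧ Q k l = x := by
    intro x
    by_cases hr : x ∈ Set.range q
    · obtain ⟨p, hp⟩ := hr
      exact Or.inr ⟨_, _, p.2.ne, congrArg Subtype.val hp⟩
    · exact Or.inl ⟨eP ⟨_, hr⟩, by simp [X]⟩
  have hXmaps : ∀ (g : ↥(stab0 o)) (i : Fin 6), ∃ j, S.sAct g (X i) = X j := by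
    intro g i
    rcases hpoint ⟨_, S.sAct_le_Cfix ho g (hXprop i).1, (S.finrank_sAct g _).trans (hXprop i).2⟩ with
      ⟨j, hj⟩ | ⟨k, l, hkl, hQkl⟩
    · exact ⟨j, hj.symm⟩
    · exfalso
      have h2 : S.sAct g⁻¹ (Q k l) = X i := by
        rw [hQkl]
        show S.sAct g⁻¹ (S.sAct g (X i)) = X i
        rw [← S.sAct_mul, inv_mul_cancel, S.sAct_one]
      rw [S.sAct_inf, ← hφ, ← hφ] at h2
      exact hXnotQ i _ _ (fun e => hkl ((φ g⁻¹).injective e)) h2.symm
  -- each of the six lines carries only intersection points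
  have hXE : ∀ i k, ¬ X i ≤ El k := by
    intro i k hle
    let Pk := {x : Submodule K4 S.WS // x ≤ El k ∧ Module.finrank K4 x = 1}
    let qk : {l : Fin 6 // l ≠ k} → Pk := fun l => ⟨Q k l, inf_le_left, (hQ _ _ (Ne.symm l.2)).2⟩
    have hqk : Function.Injective qk := by
      intro l m h
      by_contra hne
      refine hthree k l m (Ne.symm l.2) (Ne.symm m.2) (fun e => hne (Subtype.ext e)) ?_
      rw [show Q k l = Q k m from congrArg Subtype.val h]
      exact inf_le_right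
    haveI : Finite Pk := Subtype.finite
    have hbij : Function.Bijective qk := by
      refine (Nat.bijective_iff_injective_and_card _).2 ⟨hqk, ?_⟩
      rw [natCard_points_eq _ (Or.inl ⟨(hEprop k).2, rfl⟩), Nat.card_eq_fintype_card,
        Fintype.card_subtype_compl, Fintype.card_fin, Fintype.card_subtype_eq]
    obtain ⟨l, hl⟩ := hbij.2 ⟨X i, hle, (hXprop i).2⟩
    exact hXnotQ i k l (Ne.symm l.2) (congrArg Subtype.val hl).symm
  refine ⟨X, hXinj, hXprop, hXmaps, fun i j hij => ?_⟩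
  have hsup : Module.finrank K4 ↥(X i ⊔ X j) = 2 := by
    have h1 := Submodule.finrank_sup_add_finrank_inf_eq (X i) (X j)
    rw [(hXprop i).2, (hXprop j).2] at h1
    have h2 : Module.finrank K4 ↥(X i ⊓ X j) = 0 := by
      by_contra hh
      have h3 := Submodule.finrank_mono (inf_le_left : X i ⊓ X j ≤ X i)
      rw [(hXprop i).2] at h3
      have e1 := Submodule.eq_of_le_of_finrank_eq (inf_le_left : X i ⊓ X j ≤ X i) (by rw [(hXprop i).2]; omega)
      have e2 := Submodule.eq_of_le_of_finrank_eq (inf_le_right : X i ⊓ X j ≤ X j) (by rw [(hXprop j).2]; omega)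
      exact hij (hXinj (e1.symm.trans e2))
    omega
  rcases hline _ (sup_le (hXprop i).1 (hXprop j).1) hsup with h | ⟨k, hk⟩
  · exact h
  · exact absurd (hk ▸ le_sup_left) (hXE i k)

theorem exists_coord : Nonempty (S.Coord o) := by
  classical
  obtain ⟨X0, hX0inj, hX0prop, hX0maps, hX0line⟩ := S.exists_six_points ho
  obtain ⟨f0, hf0⟩ := S.exists_six_hom X0 hX0inj hX0maps
  have hA0 : f0.range = alternatingGroup (Fin 6) := ho.range_eq_alt f0
    (fun g hg => Equiv.ext fun i => hX0inj ((hf0 g i).trans (S.sAct_fix ho hg (hX0prop i).1)))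
    fun e => S.no_invariant ho (U := X0 0) (Or.inl (hX0prop 0).2) fun g => by rw [← hf0, e]; rfl
  -- no three on a line
  have hcol : ∀ i j k, i ≠ j → i ≠ k → j ≠ k → ¬ X0 k ≤ X0 i ⊔ X0 j := by
    intro i j k hij hik hjk hle
    have hall : ∀ a b c, a ≠ b → a ≠ c → b ≠ c → X0 c ≤ X0 a ⊔ X0 b := by
      intro a b c hab hac hbc
      obtain ⟨n, hn⟩ : ∃ n : Fin 6, n ≠ i ∧ n ≠ j ∧ n ≠ k :=
        (by decide : ∀ i j k : Fin 6, ∃ n, n ≠ i ∧ n ≠ j ∧ n ≠ k) i j k
      obtain ⟨m, hm⟩ : ∃ m : Fin 6, m ≠ a ∧ m ≠ b ∧ m ≠ c :=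
        (by decide : ∀ i j k : Fin 6, ∃ n, n ≠ i ∧ n ≠ j ∧ n ≠ k) a b c
      obtain ⟨π, hπ, p0, p1, p2, -⟩ := exists_even_map i j k n hij hik hn.1.symm hjk hn.2.1.symm hn.2.2.symm
      obtain ⟨σ, hσ, s0, s1, s2, -⟩ := exists_even_map a b c m hab hac hm.1.symm hbc hm.2.1.symm hm.2.2.symm
      obtain ⟨g, hg⟩ : ∃ g, f0 g = σ * π⁻¹ := MonoidHom.mem_range.1 (by rw [hA0]; exact mul_mem hσ (inv_mem hπ))
      have hh := S.sAct_mono g hle
      rw [S.sAct_sup, ← hf0, ← hf0, ← hf0, hg] at hh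
      simpa [← p0, ← p1, ← p2, s0, s1, s2] using hh
    obtain ⟨a, ha, ha1, hr⟩ := hX0line 0 1 (by decide)
    have hL : ∀ c, X0 c ≤ LinearMap.range (S.mv a) := fun c => by
      rw [hr]
      by_cases h0 : c = 0
      · exact h0 ▸ le_sup_left
      by_cases h1 : c = 1
      · exact h1 ▸ le_sup_right
      exact hall 0 1 c (by decide) (Ne.symm h0) (Ne.symm h1)
    refine S.no_invariant ho (U := LinearMap.range (S.mv a)) (Or.inr (S.finrank_range_mv ho ha ha1))
      fun g => Submodule.eq_of_le_of_finrank_eq ?_ (S.finrank_sAct g _)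
    conv_lhs => rw [hr, S.sAct_sup, ← hf0, ← hf0]
    exact sup_le (hL _) (hL _)
  have hne : ∀ i, ∃ v, v ≠ 0 ∧ X0 i = Submodule.span K4 {v} := by
    intro i
    obtain ⟨v, hv, hv0⟩ := Submodule.exists_mem_ne_zero_of_ne_bot (p := X0 i) fun e => by
      have := (hX0prop i).2
      rw [e, finrank_bot] at this
      omega
    exact ⟨v, hv0, (Submodule.eq_of_le_of_finrank_eq ((Submodule.span_singleton_le_iff_mem _ _).2 hv)
      ((finrank_span_singleton hv0).trans (hX0prop i).2.symm)).symm⟩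
  choose w hw0 hwX using hne
  have hwC : ∀ i, w i ∈ S.Cfix o := fun i => (hX0prop i).1 (hwX i ▸ Submodule.mem_span_singleton_self _)
  have hrg : Set.range ![w 0, w 1, w 2] = {w 0, w 1, w 2} := by
    ext x; simp [Matrix.range_cons, Matrix.range_empty]; tauto
  have hind : LinearIndependent K4 ![w 0, w 1, w 2] := by
    rw [linearIndependent_iff_card_eq_finrank_span, Fintype.card_fin]
    unfold Set.finrank
    have hle : X0 0 ⊔ X0 1 < Submodule.span K4 (Set.range ![w 0, w 1, w 2]) := by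
      rw [hrg, hwX 0, hwX 1, ← Submodule.span_union, lt_iff_le_not_ge]
      refine ⟨Submodule.span_mono (by simp [Set.insert_subset_iff]), fun h => ?_⟩
      have h2 := h (Submodule.subset_span (show w 2 ∈ ({w 0, w 1, w 2} : Set S.WS) by simp))
      refine hcol 0 1 2 (by decide) (by decide) (by decide) ?_
      rw [hwX 2, Submodule.span_singleton_le_iff_mem, hwX 0, hwX 1, ← Submodule.span_union]
      exact h2
    have h1 := Submodule.finrank_lt_finrank_of_lt hle
    obtain ⟨a, ha, ha1, hr⟩ := hX0line 0 1 (by decide)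
    rw [← hr, S.finrank_range_mv ho ha ha1] at h1
    have h3 := finrank_range_le_card (R := K4) ![w 0, w 1, w 2]
    rw [Fintype.card_fin] at h3
    unfold Set.finrank at h3
    omega
  have hspan : Submodule.span K4 (Set.range ![w 0, w 1, w 2]) = S.Cfix o := by
    refine Submodule.eq_of_le_of_finrank_eq (Submodule.span_le.2 ?_) ?_
    · rintro _ ⟨i, rfl⟩
      fin_cases i <;> exact hwC _
    · rw [finrank_span_eq_card hind, Fintype.card_fin, S.finrank_Cfix ho]
  have hexp : ∀ i, ∃ a b c : K4, w i = a • w 0 + b • w 1 + c • w 2 := by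
    intro i
    obtain ⟨c, hc⟩ := (Submodule.mem_span_range_iff_exists_fun K4).1 (hspan.symm ▸ hwC i :
      w i ∈ Submodule.span K4 (Set.range ![w 0, w 1, w 2]))
    exact ⟨c 0, c 1, c 2, by rw [← hc, Fin.sum_univ_three]; rfl⟩
  have hnz : ∀ (i : Fin 6) (a b c : K4), i ≠ 0 → i ≠ 1 → i ≠ 2 → w i = a • w 0 + b • w 1 + c • w 2 →
      a ≠ 0 ∧ b ≠ 0 ∧ c ≠ 0 := by
    intro i a b c h0 h1 h2 he
    have hm : ∀ j k : Fin 6, ∀ s t : K4, w i = s • w j + t • w k → X0 i ≤ X0 j ⊔ X0 k := fun j k s t h => by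
      rw [hwX i, Submodule.span_singleton_le_iff_mem, h, hwX j, hwX k]
      exact Submodule.add_mem_sup (Submodule.smul_mem _ _ (Submodule.mem_span_singleton_self _))
        (Submodule.smul_mem _ _ (Submodule.mem_span_singleton_self _))
    refine ⟨fun hz => hcol 1 2 i (by decide) (Ne.symm h1) (Ne.symm h2) (hm 1 2 b c ?_),
      fun hz => hcol 0 2 i (by decide) (Ne.symm h0) (Ne.symm h2) (hm 0 2 a c ?_),
      fun hz => hcol 0 1 i (by decide) (Ne.symm h0) (Ne.symm h1) (hm 0 1 a b ?_)⟩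
    · rw [he, hz, zero_smul, zero_add]
    · rw [he, hz, zero_smul, add_zero]
    · rw [he, hz, zero_smul, add_zero]
  obtain ⟨a3, b3, c3, e3⟩ := hexp 3
  obtain ⟨ha3, hb3, hc3⟩ := hnz 3 a3 b3 c3 (by decide) (by decide) (by decide) e3
  have hcoef : ∀ i : Fin 6, i ≠ 0 → i ≠ 1 → i ≠ 2 → i ≠ 3 → ∃ s β γ : K4, s ≠ 0 ∧
      s • w i = a3 • w 0 + β • (b3 • w 1) + γ • (c3 • w 2) ∧
      ((β = K4.zeta ∧ γ = K4.zeta + 1) ∨ (β = K4.zeta + 1 ∧ γ = K4.zeta)) := by
    intro i h0 h1 h2 h3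
    obtain ⟨a, b, c, he⟩ := hexp i
    obtain ⟨ha, hb, hc⟩ := hnz i a b c h0 h1 h2 he
    have hs : (a3 * a⁻¹) • w i = a3 • w 0 + (a3 * a⁻¹ * b * b3⁻¹) • (b3 • w 1) +
        (a3 * a⁻¹ * c * c3⁻¹) • (c3 • w 2) := by
      rw [he, smul_add, smul_add, smul_smul, smul_smul, smul_smul, smul_smul, smul_smul,
        inv_mul_cancel_right₀ ha, inv_mul_cancel_right₀ hb3, inv_mul_cancel_right₀ hc3]
    set β := a3 * a⁻¹ * b * b3⁻¹
    set γ := a3 * a⁻¹ * c * c3⁻¹
    have hsne : a3 * a⁻¹ ≠ 0 := mul_ne_zero ha3 (inv_ne_zero ha)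
    have hβ0 : β ≠ 0 := mul_ne_zero (mul_ne_zero hsne hb) (inv_ne_zero hb3)
    have hγ0 : γ ≠ 0 := mul_ne_zero (mul_ne_zero hsne hc) (inv_ne_zero hc3)
    clear_value β γ
    have aux : ∀ A B C R : S.WS, A + B + C = A + B + R + (C + R) ∧ A + B + C = A + R + C + (B + R) ∧
        A + B + C = R + B + C + (R + A) := fun A B C R => by
      have hR : R + R = 0 := ZModModule.add_self R
      refine ⟨?_, ?_, ?_⟩
      · rw [show A + B + R + (C + R) = A + B + C + (R + R) by abel, hR, add_zero]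
      · rw [show A + R + C + (B + R) = A + B + C + (R + R) by abel, hR, add_zero]
      · rw [show R + B + C + (R + A) = A + B + C + (R + R) by abel, hR, add_zero]
    have hw3 : ∀ t : K4, ∀ x y : Fin 6, x ≠ 3 → y ≠ 3 → x ≠ i → y ≠ i → x ≠ y → ∀ s' : K4,
        (a3 * a⁻¹) • w i = t • w x + s' • w y → False := by
      intro t x y hx3 hy3 hxi hyi hxy s' h
      refine hcol x y i hxy hxi hyi ?_
      rw [hwX i, Submodule.span_singleton_le_iff_mem, hwX x, hwX y,
        ← Submodule.smul_mem_iff _ hsne, h]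
      exact Submodule.add_mem_sup (Submodule.smul_mem _ _ (Submodule.mem_span_singleton_self _))
        (Submodule.smul_mem _ _ (Submodule.mem_span_singleton_self _))
    refine ⟨_, β, γ, hsne, hs, coeff_cases β γ ?_ ?_ ?_ ?_ ?_⟩
    · exact hβ0
    · exact hγ0
    · intro hh
      refine hcol 3 2 i (by decide) (Ne.symm h3) (Ne.symm h2) ?_
      rw [hwX i, Submodule.span_singleton_le_iff_mem, hwX 3, hwX 2, ← Submodule.smul_mem_iff _ hsne, hs, hh,
        one_smul, show a3 • w 0 + b3 • w 1 + γ • c3 • w 2 = w 3 + (γ * c3 + c3) • w 2 by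
          rw [e3, add_smul, mul_smul]; exact (aux _ _ _ _).1]
      exact Submodule.add_mem_sup (Submodule.mem_span_singleton_self _)
        (Submodule.smul_mem _ _ (Submodule.mem_span_singleton_self _))
    · intro hh
      refine hcol 3 1 i (by decide) (Ne.symm h3) (Ne.symm h1) ?_
      rw [hwX i, Submodule.span_singleton_le_iff_mem, hwX 3, hwX 1, ← Submodule.smul_mem_iff _ hsne, hs, hh,
        one_smul, show a3 • w 0 + β • b3 • w 1 + c3 • w 2 = w 3 + (β * b3 + b3) • w 1 by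
          rw [e3, add_smul, mul_smul]; exact (aux _ _ _ _).2.1]
      exact Submodule.add_mem_sup (Submodule.mem_span_singleton_self _)
        (Submodule.smul_mem _ _ (Submodule.mem_span_singleton_self _))
    · intro hh
      refine hcol 3 0 i (by decide) (Ne.symm h3) (Ne.symm h0) ?_
      rw [hwX i, Submodule.span_singleton_le_iff_mem, hwX 3, hwX 0, ← Submodule.smul_mem_iff _ hsne, hs, hh,
        show a3 • w 0 + γ • b3 • w 1 + γ • c3 • w 2 = γ • w 3 + (γ * a3 + a3) • w 0 by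
          rw [e3, add_smul, smul_add, smul_add, mul_smul]; exact (aux _ _ _ _).2.2]
      exact Submodule.add_mem_sup (Submodule.smul_mem _ _ (Submodule.mem_span_singleton_self _))
        (Submodule.smul_mem _ _ (Submodule.mem_span_singleton_self _))
  obtain ⟨s4, β4, γ4, hs4, e4, hc4⟩ := hcoef 4 (by decide) (by decide) (by decide) (by decide)
  obtain ⟨s5, β5, γ5, hs5, e5, hc5⟩ := hcoef 5 (by decide) (by decide) (by decide) (by decide)
  have hdiff : ¬ (β4 = β5 ∧ γ4 = γ5) := by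
    rintro ⟨rfl, rfl⟩
    refine (by decide : (4 : Fin 6) ≠ 5) (hX0inj ?_)
    rw [hwX 4, hwX 5]
    refine (Submodule.span_singleton_smul_eq (Ne.isUnit hs4) (w 4)).symm.trans ?_
    rw [e4, ← e5]
    exact Submodule.span_singleton_smul_eq (Ne.isUnit hs5) (w 5)
  -- relabel so that `4` has `ζ` first
  obtain ⟨τ, s, hs0, τ0, τ1, τ2, τ3, eq4, eq5⟩ : ∃ (τ : Equiv.Perm (Fin 6)) (s : Fin 2 → K4), (∀ i, s i ≠ 0) ∧
      τ 0 = 0 ∧ τ 1 = 1 ∧ τ 2 = 2 ∧ τ 3 = 3 ∧
      s 0 • w (τ 4) = a3 • w 0 + K4.zeta • (b3 • w 1) + (K4.zeta + 1) • (c3 • w 2) ∧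
      s 1 • w (τ 5) = a3 • w 0 + (K4.zeta + 1) • (b3 • w 1) + K4.zeta • (c3 • w 2) := by
    rcases hc4 with ⟨rfl, rfl⟩ | ⟨rfl, rfl⟩
    · rcases hc5 with ⟨rfl, rfl⟩ | ⟨rfl, rfl⟩
      · exact absurd ⟨rfl, rfl⟩ hdiff
      · exact ⟨1, ![s4, s5], by intro i; fin_cases i <;> assumption, rfl, rfl, rfl, rfl, e4, e5⟩
    · rcases hc5 with ⟨rfl, rfl⟩ | ⟨rfl, rfl⟩
      · exact ⟨Equiv.swap 4 5, ![s5, s4], by intro i; fin_cases i <;> assumption, rfl, rfl, rfl, rfl, e5, e4⟩
      · exact absurd ⟨rfl, rfl⟩ hdiff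
  let sc : Fin 6 → K4 := ![a3, b3, c3, 1, s 0, s 1]
  have hsc : ∀ i, sc i ≠ 0 := by
    intro i
    fin_cases i
    exacts [ha3, hb3, hc3, one_ne_zero, hs0 0, hs0 1]
  let h : Fin 6 → S.WS := fun i => sc i • w (τ i)
  let X : Fin 6 → Submodule K4 S.WS := fun i => Submodule.span K4 {h i}
  have hXeq : ∀ i, X i = X0 (τ i) := fun i => by
    rw [hwX]; exact Submodule.span_singleton_smul_eq (Ne.isUnit (hsc i)) _
  have hXinj : Function.Injective X := fun i j e => τ.injective (hX0inj (by rw [← hXeq, ← hXeq, e]))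
  have hXmaps : ∀ (g : ↥(stab0 o)) (i : Fin 6), ∃ j, S.sAct g (X i) = X j := fun g i => by
    obtain ⟨j, hj⟩ := hX0maps g (τ i)
    exact ⟨τ.symm j, by rw [hXeq, hj, hXeq, Equiv.apply_symm_apply]⟩
  obtain ⟨f, hf⟩ := S.exists_six_hom X hXinj hXmaps
  have hA : f.range = alternatingGroup (Fin 6) := ho.range_eq_alt f
    (fun g hg => Equiv.ext fun i => hXinj ((hf g i).trans (S.sAct_fix ho hg (by rw [hXeq]; exact (hX0prop _).1))))
    fun e => S.no_invariant ho (U := X 0) (Or.inl (by rw [hXeq]; exact (hX0prop _).2)) fun g => by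
      rw [← hf, e]; rfl
  have hcolX : ∀ i j k, i ≠ j → i ≠ k → j ≠ k → ¬ X k ≤ X i ⊔ X j := fun i j k h1 h2 h3 => by
    rw [hXeq, hXeq, hXeq]
    exact hcol _ _ _ (τ.injective.ne h1) (τ.injective.ne h2) (τ.injective.ne h3)
  have hlines : ∀ i j, ∃ a, i ≠ j → a ∈ octadFix o ∧ a ≠ 1 ∧ LinearMap.range (S.mv a) = X i ⊔ X j := by
    intro i j
    by_cases hij : i = j
    · exact ⟨1, fun h => absurd hij h⟩
    · obtain ⟨a, ha, ha1, hr⟩ := hX0line (τ i) (τ j) (τ.injective.ne hij)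
      exact ⟨a, fun _ => ⟨ha, ha1, by rw [hr, hXeq, hXeq]⟩⟩
  choose lab hlab using hlines
  have hcomm : ∀ i j, i ≠ j → lab i j = lab j i := fun i j hij =>
    S.range_mv_injective ho (hlab i j hij).1 (hlab i j hij).2.1 (hlab j i hij.symm).1 (hlab j i hij.symm).2.1
      (by rw [(hlab i j hij).2.2, (hlab j i hij.symm).2.2, sup_comm])
  have hinj : ∀ i j k l, i ≠ j → k ≠ l → lab i j = lab k l → (i = k ∧ j = l) ∨ (i = l ∧ j = k) := by
    intro i j k l hij hkl he
    have hr : X i ⊔ X j = X k ⊔ X l := by rw [← (hlab i j hij).2.2, he, (hlab k l hkl).2.2]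
    have hi : i = k ∨ i = l := by
      by_contra hh
      push Not at hh
      exact hcolX k l i hkl hh.1.symm hh.2.symm (hr ▸ le_sup_left)
    have hj : j = k ∨ j = l := by
      by_contra hh
      push Not at hh
      exact hcolX k l j hkl hh.1.symm hh.2.symm (hr ▸ le_sup_right)
    rcases hi with rfl | rfl <;> rcases hj with rfl | rfl
    · exact absurd rfl hij
    · exact Or.inl ⟨rfl, rfl⟩
    · exact Or.inr ⟨rfl, rfl⟩
    · exact absurd rfl hij
  have hsurj : ∀ a ∈ octadFix o, a ≠ 1 → ∃ i j, i ≠ j ∧ lab i j = a := by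
    let N := {a : ↥(octadFix o) // (a : Equiv.Perm GolayPt) ≠ 1}
    let Pairs := {p : Fin 6 × Fin 6 // p.1 < p.2}
    let φ : Pairs → N := fun p => ⟨⟨_, (hlab _ _ p.2.ne).1⟩, (hlab _ _ p.2.ne).2.1⟩
    have hφ : Function.Bijective φ := by
      refine (Nat.bijective_iff_injective_and_card _).2 ⟨?_, ?_⟩
      · rintro ⟨⟨i, j⟩, hij⟩ ⟨⟨k, l⟩, hkl⟩ he
        rcases hinj i j k l hij.ne hkl.ne (congrArg (fun t : N => ((t : ↥(octadFix o)) : Equiv.Perm GolayPt)) he) with
          ⟨rfl, rfl⟩ | ⟨rfl, rfl⟩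
        · rfl
        · exact absurd hkl (lt_asymm hij)
      · haveI := Fintype.ofFinite ↥(octadFix o)
        rw [show Nat.card Pairs = 15 by rw [Nat.card_eq_fintype_card]; rfl, Nat.card_eq_fintype_card,
          Fintype.card_subtype, show (Finset.univ.filter fun c : ↥(octadFix o) => (c : Equiv.Perm GolayPt) ≠ 1) =
            Finset.univ.erase 1 by ext; simp, Finset.card_erase_of_mem (Finset.mem_univ _), Finset.card_univ,
          ← Nat.card_eq_fintype_card, natCard_octadFix ho.mem]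
    intro a ha ha1
    obtain ⟨p, hp⟩ := hφ.2 ⟨⟨a, ha⟩, ha1⟩
    exact ⟨_, _, p.2.ne, congrArg (fun t : N => ((t : ↥(octadFix o)) : Equiv.Perm GolayPt)) hp⟩
  have hconj : ∀ (g : ↥(stab0 o)) (i j : Fin 6), i ≠ j →
      (g : Equiv.Perm GolayPt) * lab i j * (g : Equiv.Perm GolayPt)⁻¹ = lab (f g i) (f g j) := by
    intro g i j hij
    obtain ⟨ha, ha1, hr⟩ := hlab i j hij
    obtain ⟨hb, hb1, hr'⟩ := hlab (f g i) (f g j) ((f g).injective.ne hij)
    refine S.range_mv_injective ho (HexOct.conj_mem_fix (stab0_le_octadStab o g.2) ha)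
      (fun e => ha1 (conj_eq_one_iff.1 e)) hb hb1 ?_
    rw [← S.sAct_range ho g ha, hr, hr', S.sAct_sup, hf, hf]
  have hperm : ∀ k : ↥(Cz z), k ∈ S.innerH → ∀ hk : S.κ k ∈ stab0 o, ∀ i, ∃ c : K4, c ≠ 0 ∧
      S.rho k (h i) = c • h (f ⟨_, hk⟩ i) := by
    intro k hi hk i
    have hm : S.rho k (h i) ∈ X (f ⟨_, hk⟩ i) := by
      rw [hf, S.sAct_eq _ _ hi rfl]
      exact ⟨h i, Submodule.mem_span_singleton_self _, rfl⟩
    obtain ⟨c, hc⟩ := Submodule.mem_span_singleton.1 hm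
    refine ⟨c, fun h0 => ?_, hc.symm⟩
    rw [h0, zero_smul] at hc
    exact smul_ne_zero (hsc i) (hw0 _) ((LinearEquiv.map_eq_zero_iff _).1 hc.symm)
  -- relations, at the standard position first
  have hmul0 : lab 0 1 * lab 1 2 = lab 0 2 ∧ lab 0 1 * lab 2 3 = lab 4 5 := by
    have key : ∀ i j k l : Fin 6, i ≠ j → k ≠ l → ¬ ((i = k ∧ j = l) ∨ (i = l ∧ j = k)) →
        ∀ L : List (Equiv.Perm (Fin 6)), (∀ π ∈ L, π ∈ alternatingGroup (Fin 6) ∧
          ((lab (π i) (π j) = lab i j ∧ lab (π k) (π l) = lab k l) ∨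
           (lab (π i) (π j) = lab k l ∧ lab (π k) (π l) = lab i j))) →
        ∃ p q, p ≠ q ∧ lab p q = lab i j * lab k l ∧
          ∀ π ∈ L, (π p = p ∧ π q = q) ∨ (π p = q ∧ π q = p) := by
      intro i j k l hij hkl hne L hL
      have hne1 : lab i j * lab k l ≠ 1 := fun e => hne (hinj i j k l hij hkl (by
        rw [eq_inv_of_mul_eq_one_left e]
        exact inv_eq_of_mul_eq_one_right (mul_self_octadFix ho.mem (hlab k l hkl).1)))
      obtain ⟨p, q, hpq, he⟩ := hsurj _ (mul_mem (hlab i j hij).1 (hlab k l hkl).1) hne1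
      refine ⟨p, q, hpq, he, fun π hπ => ?_⟩
      obtain ⟨g, rfl⟩ : ∃ g, f g = π := MonoidHom.mem_range.1 (by rw [hA]; exact (hL π hπ).1)
      refine (hinj _ _ _ _ ((f g).injective.ne hpq) hpq ?_).imp id id
      rw [← hconj g p q hpq, he]
      calc (g : Equiv.Perm GolayPt) * (lab i j * lab k l) * (g : Equiv.Perm GolayPt)⁻¹
          = lab (f g i) (f g j) * lab (f g k) (f g l) := by rw [← hconj g i j hij, ← hconj g k l hkl]; group
        _ = lab i j * lab k l := by
          rcases (hL _ hπ).2 with ⟨e1, e2⟩ | ⟨e1, e2⟩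
          · rw [e1, e2]
          · rw [e1, e2, ho.comm_fix (hlab k l hkl).1 (hlab i j hij).1]
    constructor
    · obtain ⟨p, q, hpq, he, hinv⟩ := key 0 1 1 2 (by decide) (by decide) (by decide)
        [Equiv.swap 0 2 * Equiv.swap 3 4, Equiv.swap 3 4 * Equiv.swap 4 5] (by
          intro π hπ
          simp only [List.mem_cons, List.not_mem_nil, or_false] at hπ
          rcases hπ with rfl | rfl
          · exact ⟨Equiv.Perm.mem_alternatingGroup.2 (by decide), Or.inr ⟨(hcomm _ _ (by decide)).trans (by rfl), (hcomm _ _ (by decide)).trans (by rfl)⟩⟩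
          · exact ⟨Equiv.Perm.mem_alternatingGroup.2 (by decide), Or.inl ⟨rfl, rfl⟩⟩)
      rcases pair_fix_three p q hpq hinv with ⟨rfl, rfl⟩ | ⟨rfl, rfl⟩
      · exact he.symm
      · rw [← he, hcomm 2 0 (by decide)]
    · obtain ⟨p, q, hpq, he, hinv⟩ := key 0 1 2 3 (by decide) (by decide) (by decide)
        [Equiv.swap 0 1 * Equiv.swap 2 3, Equiv.swap 0 2 * Equiv.swap 1 3, Equiv.swap 0 1 * Equiv.swap 4 5] (by
          intro π hπ
          simp only [List.mem_cons, List.not_mem_nil, or_false] at hπ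
          rcases hπ with rfl | rfl | rfl
          · exact ⟨Equiv.Perm.mem_alternatingGroup.2 (by decide), Or.inl ⟨(hcomm _ _ (by decide)).trans (by rfl), (hcomm _ _ (by decide)).trans (by rfl)⟩⟩
          · exact ⟨Equiv.Perm.mem_alternatingGroup.2 (by decide), Or.inr ⟨rfl, rfl⟩⟩
          · exact ⟨Equiv.Perm.mem_alternatingGroup.2 (by decide), Or.inl ⟨(hcomm _ _ (by decide)).trans (by rfl), rfl⟩⟩)
      rcases pair_fix_four p q hpq hinv with ⟨rfl, rfl⟩ | ⟨rfl, rfl⟩
      · exact he.symm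
      · rw [← he, hcomm 5 4 (by decide)]
  refine ⟨⟨h, lab, fun i => Submodule.smul_mem _ _ (hwC _), ?_, ?_, ?_, ?_, ?_,
    fun i j hij => ⟨(hlab i j hij).1, (hlab i j hij).2.1⟩, fun i j hij => (hlab i j hij).2.2, hcomm, hinj, hsurj,
    ?_, fun k hi hk i => ⟨_, hperm k hi hk i⟩, ?_, ?_⟩⟩
  · have he : ![h 0, h 1, h 2] = ![Units.mk0 a3 ha3, Units.mk0 b3 hb3, Units.mk0 c3 hc3] • ![w 0, w 1, w 2] := by
      funext i; fin_cases i <;> simp [h, sc, τ0, τ1, τ2]
    rw [he]
    exact hind.units_smul _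
  · rw [← hspan]
    refine le_antisymm (Submodule.span_le.2 ?_) (Submodule.span_le.2 ?_) <;> rintro _ ⟨i, rfl⟩
    · fin_cases i <;>
        simp only [h, sc, τ0, τ1, τ2, Matrix.cons_val_zero, Matrix.cons_val_one, Matrix.cons_val, Fin.zero_eta,
          Fin.mk_one, Fin.reduceFinMk] <;>
        exact Submodule.smul_mem _ _ (Submodule.subset_span (by simp [hrg]))
    · fin_cases i
      · exact (Submodule.smul_mem_iff _ ha3).1 (Submodule.subset_span ⟨0, by simp [h, sc, τ0]⟩)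
      · exact (Submodule.smul_mem_iff _ hb3).1 (Submodule.subset_span ⟨1, by simp [h, sc, τ1]⟩)
      · exact (Submodule.smul_mem_iff _ hc3).1 (Submodule.subset_span ⟨2, by simp [h, sc, τ2]⟩)
  · simp only [h, sc, τ0, τ1, τ2, τ3]
    simp [e3]
  · simp only [h, sc, τ0, τ1, τ2]
    simpa using eq4
  · simp only [h, sc, τ0, τ1, τ2]
    simpa using eq5
  · intro π hπ
    obtain ⟨g, hg⟩ : ∃ g, f g = π := MonoidHom.mem_range.1 (by rw [hA]; exact hπ)
    obtain ⟨k, hi, hk⟩ := S.exists_inner_lift g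
    have hkst : S.κ k ∈ stab0 o := hk ▸ g.2
    have hfg : f ⟨_, hkst⟩ = π := by rw [← hg]; exact congrArg f (Subtype.ext hk)
    refine ⟨k, hi, hkst, fun i => ?_, fun i j hij => ?_⟩
    · rw [← hfg]; exact hperm k hi hkst i
    · rw [← hfg]; exact hconj ⟨_, hkst⟩ i j hij
  · intro i j k hij hjk hik
    obtain ⟨n, hn⟩ : ∃ n : Fin 6, n ≠ i ∧ n ≠ j ∧ n ≠ k :=
      (by decide : ∀ i j k : Fin 6, ∃ n, n ≠ i ∧ n ≠ j ∧ n ≠ k) i j k
    obtain ⟨π, hπ, p0, p1, p2, -⟩ := exists_even_map i j k n hij hik hn.1.symm hjk hn.2.1.symm hn.2.2.symm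
    obtain ⟨g, hg⟩ : ∃ g, f g = π := MonoidHom.mem_range.1 (by rw [hA]; exact hπ)
    have h1 := hconj g 0 1 (by decide)
    have h2 := hconj g 1 2 (by decide)
    have h3 := hconj g 0 2 (by decide)
    rw [hg, p0, p1] at h1
    rw [hg, p1, p2] at h2
    rw [hg, p0, p2] at h3
    rw [← h1, ← h2, ← h3, ← hmul0.1]
    group
  · intro i j k l m n hnd
    simp only [List.nodup_cons, List.mem_cons, List.not_mem_nil, or_false, not_or, List.nodup_nil, and_true,
      not_false_eq_true] at hnd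
    obtain ⟨⟨hij, hik, hil, him, hin⟩, ⟨hjk, hjl, hjm, hjn⟩, ⟨hkl, hkm, hkn⟩, ⟨hlm, hln⟩, hmn⟩ := hnd
    obtain ⟨π, hπ, p0, p1, p2, p3⟩ := exists_even_map i j k l hij hik hil hjk hjl hkl
    have hrest : (π 4 = m ∧ π 5 = n) ∨ (π 4 = n ∧ π 5 = m) := by
      have hcase : ∀ x, x = i ∨ x = j ∨ x = k ∨ x = l ∨ x = m ∨ x = n := by
        intro x
        have hu : ({i, j, k, l, m, n} : Finset (Fin 6)) = Finset.univ := Finset.eq_univ_of_card _ (by
          simp [Finset.card_insert_of_notMem, hij, hik, hil, him, hin, hjk, hjl, hjm, hjn, hkl, hkm, hkn, hlm, hln, hmn])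
        simpa using (hu.symm ▸ Finset.mem_univ x : x ∈ ({i, j, k, l, m, n} : Finset (Fin 6)))
      have hne : ∀ a, a = 4 ∨ a = 5 → π a = m ∨ π a = n := by
        intro a ha
        have e0 : π a ≠ i := fun e => by rcases ha with rfl | rfl <;> exact absurd (π.injective (e.trans p0.symm)) (by decide)
        have e1 : π a ≠ j := fun e => by rcases ha with rfl | rfl <;> exact absurd (π.injective (e.trans p1.symm)) (by decide)
        have e2 : π a ≠ k := fun e => by rcases ha with rfl | rfl <;> exact absurd (π.injective (e.trans p2.symm)) (by decide)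
        have e3 : π a ≠ l := fun e => by rcases ha with rfl | rfl <;> exact absurd (π.injective (e.trans p3.symm)) (by decide)
        rcases hcase (π a) with e | e | e | e | e | e
        exacts [absurd e e0, absurd e e1, absurd e e2, absurd e e3, Or.inl e, Or.inr e]
      rcases hne 4 (Or.inl rfl) with e | e <;> rcases hne 5 (Or.inr rfl) with e' | e'
      · exact absurd (π.injective (e.trans e'.symm)) (by decide)
      · exact Or.inl ⟨e, e'⟩
      · exact Or.inr ⟨e, e'⟩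
      · exact absurd (π.injective (e.trans e'.symm)) (by decide)
    obtain ⟨g, hg⟩ : ∃ g, f g = π := MonoidHom.mem_range.1 (by rw [hA]; exact hπ)
    have h1 := hconj g 0 1 (by decide)
    have h2 := hconj g 2 3 (by decide)
    have h3 := hconj g 4 5 (by decide)
    rw [hg, p0, p1] at h1
    rw [hg, p2, p3] at h2
    rw [hg, show lab (π 4) (π 5) = lab m n by
      rcases hrest with ⟨e, e'⟩ | ⟨e, e'⟩ <;> rw [e, e']
      exact hcomm n m (Ne.symm hmn)] at h3
    rw [← h1, ← h2, ← h3, ← hmul0.2]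
    group

end Cfsg.Agent.J4Type.Setting
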