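import Cfsg.Agent.Lib.J4Type.OctFacts

/-!
Two octads through the deleted points meeting only there (helper26).

* `exists_pairOct` : such an octad, with an involution swapping the deleted points, stabilising both octads
  and centralising at most four elements of the octad group
* `PairOct.fix_trivial`, `PairOct.natCard_R0`, `PairOct.R0_perfect` : the common stabiliser in M22 is A6,
  a complement to the octad group
-/

set_option autoImplicit false
open scoped Pointwise
open Cfsg MulAction

namespace Cfsg.Agent.J4Type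

open Cfsg.Agent.Golay Cfsg.Agent.GolayOrbits

/-- The octads through bits 23 and 0 meeting `octad0` only there. -/
def coOct : List ℕ :=
  [0xb0a051, 0xd98081, 0x8d0151, 0xe42181, 0xbc1201, 0x81b301, 0x8494c1, 0xd01511, 0xe10641, 0x882691,
    0xc83841, 0xa11891, 0xc48a11, 0x900bc1, 0x952c01, 0xa88d01]

/-- An involution swapping bits 23 and 0, stabilising `octad0` and the first of these. -/
def coInv : ℕ := 0x59e6549d0ac48c44ceb4d0ad18837

theorem coOct_all : allSpan (fun c => !(popcount c == 8) || !(c.testBit 23) || !(c.testBit 0) ||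
    !(popcount (c &&& octad0) == 2) || coOct.contains c) rows 0 = true := by
  decide +kernel

theorem coOct_first : (isCode 0xb0a051 && popcount 0xb0a051 == 8 && (0xb0a051 : ℕ).testBit 23 &&
    (0xb0a051 : ℕ).testBit 0 && (0xb0a051 &&& octad0 == (1 <<< 23 ||| 1 <<< 0))) = true := by
  decide +kernel

theorem coInv_ok : (isAut coInv && fn coInv 23 == 0 && fn coInv 0 == 23 &&
    imgMask coInv octad0 == octad0 && imgMask coInv 0xb0a051 == 0xb0a051 &&
    ((List.range 24).all fun i => fn coInv (fn coInv i) == i)) = true := by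
  decide +kernel

/-- Two octads through the deleted points meeting only there. -/
structure PairOct (o o' : Finset GolayPt) : Prop where
  fst : HexOct o
  snd : HexOct o'
  inter : o ∩ o' = {pA, pB}

/-- The common stabiliser inside M22. -/
def R0 (o o' : Finset GolayPt) : Subgroup (Equiv.Perm GolayPt) :=
  stab0 o ⊓ stabilizer (Equiv.Perm GolayPt) o'

theorem exists_pairOct {o : Finset GolayPt} (ho : HexOct o) :
    ∃ (o' : Finset GolayPt) (g : Equiv.Perm GolayPt), PairOct o o' ∧ g ∈ stabO o ∧ g • o' = o' ∧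
      g pA = pB ∧ g * g = 1 ∧ Nat.card {a : ↥(octadFix o) // g * a = a * g} ≤ 4 := by
  classical
  obtain ⟨t, ht, hto, t23, t0⟩ := exists_map_octad_pair_in ho.mem ho.a ho.b pA_ne_pB
  have hc := coInv_ok
  simp only [Bool.and_eq_true, beq_iff_eq, List.all_eq_true, List.mem_range] at hc
  obtain ⟨⟨⟨⟨⟨haut, h23⟩, h0⟩, hoct⟩, hm⟩, hinv⟩ := hc
  have hv := validPerm_of_isAut haut
  have hf := coOct_first
  simp only [Bool.and_eq_true, beq_iff_eq] at hf
  obtain ⟨⟨⟨⟨hcode, h8⟩, hb23⟩, hb0⟩, hand⟩ := hf
  have hA : t (pt 23) = pA := t23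
  have hB : t (pt 0) = pB := t0
  have hs : toPerm coInv * toPerm coInv = 1 := Equiv.ext fun p => idx_injective (by
    rw [Equiv.Perm.mul_apply, idx_toPerm hv, idx_toPerm hv]; exact hinv _ (idx_lt p))
  have hsA : toPerm coInv (pt 23) = pt 0 := by rw [toPerm_pt hv (by norm_num), h23]
  have hsB : toPerm coInv (pt 0) = pt 23 := by rw [toPerm_pt hv (by norm_num), h0]
  have hsm : ∀ {m : ℕ}, imgMask coInv m = m → toPerm coInv • pts m = pts m := fun {m} h => by
    rw [← pts_imgMask hv, h]
  set g := t * toPerm coInv * t⁻¹ with hg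
  have hgt : ∀ p, g (t p) = t (toPerm coInv p) := fun p => by simp [hg]
  have hgA : g pA = pB := by rw [← hA, hgt, hsA, hB]
  have hgB : g pB = pA := by rw [← hB, hgt, hsB, hA]
  have hgM : g ∈ M24 := mul_mem (mul_mem ht (toPerm_mem_M24 haut)) (inv_mem ht)
  have hgO : ∀ {m : ℕ}, imgMask coInv m = m → g • (t • pts m) = t • pts m := fun {m} h => by
    rw [hg, mul_smul, inv_smul_smul, mul_smul, hsm h]
  have hm8 : pts 0xb0a051 ∈ octads := pts_mem_octads (by
    simp only [Bool.and_eq_true, beq_iff_eq]; exact ⟨hcode, h8⟩)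
  refine ⟨t • pts 0xb0a051, g, ⟨ho, ⟨smul_mem_octads ht hm8, ?_, ?_⟩, ?_⟩,
    ⟨mem_pairStab.2 ⟨hgM, Or.inr ⟨hgA, hgB⟩⟩, ?_⟩, hgO hm, hgA, ?_, ?_⟩
  · rw [← hA]; exact Finset.smul_mem_smul_finset ((mem_pts_iff (by norm_num)).2 hb23)
  · rw [← hB]; exact Finset.smul_mem_smul_finset ((mem_pts_iff (by norm_num)).2 hb0)
  · rw [← hto, ← Finset.smul_finset_inter, Finset.inter_comm, ← pts_and, hand, pts_or,
      pts_single (by norm_num), pts_single (by norm_num), Finset.smul_finset_union,
      Finset.smul_finset_singleton, Finset.smul_finset_singleton, Equiv.Perm.smul_def, Equiv.Perm.smul_def,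
      hA, hB]
    rfl
  · show g • o = o
    rw [← hto]; exact hgO hoct
  · rw [hg]
    calc t * toPerm coInv * t⁻¹ * (t * toPerm coInv * t⁻¹) = t * (toPerm coInv * toPerm coInv) * t⁻¹ := by group
      _ = 1 := by rw [hs]; group
  · -- the fixed points outside the octad
    let Fs : Finset GolayPt := Finset.univ.filter fun q => q ∉ pts octad0 ∧ toPerm coInv q = q
    have hFs : Fs.card = 4 := by
      have e : Fs = Finset.univ.filter fun q : GolayPt =>
          octad0.testBit (idx q) = false ∧ fn coInv (idx q) = idx q := by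
        ext q
        simp only [Fs, Finset.mem_filter, Finset.mem_univ, true_and, mem_pts, Bool.not_eq_true]
        refine and_congr_right fun _ => ?_
        rw [← idx_injective.eq_iff, idx_toPerm hv]
      rw [e]; decide +kernel
    obtain ⟨p, hp⟩ : Fs.Nonempty := Finset.card_pos.1 (by omega)
    have hp' := (Finset.mem_filter.1 hp).2
    have hout : ∀ q, q ∉ pts octad0 → t q ∉ o := fun q hq h => hq (by
      rw [← hto] at h
      exact (Finset.smul_mem_smul_finset_iff t).1 h)
    let f : {a : ↥(octadFix o) // g * a = a * g} → ↥Fs := fun a =>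
      ⟨t⁻¹ ((a : Equiv.Perm GolayPt) (t p)), Finset.mem_filter.2 ⟨Finset.mem_univ _, fun h => by
        have h1 : (a : Equiv.Perm GolayPt) (t p) ∈ o := by
          have h' : (a : Equiv.Perm GolayPt) (t p) ∈ t • pts octad0 :=
            Finset.mem_smul_finset.2 ⟨t⁻¹ ((a : Equiv.Perm GolayPt) (t p)), h, by simp⟩
          exact (congrArg (fun s => (a : Equiv.Perm GolayPt) (t p) ∈ s) hto).mp h'
        have h2 := (mem_octadFix.1 a.1.2).2 _ h1
        rw [(a : Equiv.Perm GolayPt).injective h2] at h1
        exact hout p hp'.1 h1, by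
        apply t.injective
        rw [← hgt]
        simp only [Equiv.Perm.coe_inv, Equiv.apply_symm_apply]
        rw [← Equiv.Perm.mul_apply, a.2, Equiv.Perm.mul_apply, hgt, hp'.2]⟩⟩
    have hinj : Function.Injective f := fun a b h => by
      have h' : (a : Equiv.Perm GolayPt) (t p) = (b : Equiv.Perm GolayPt) (t p) :=
        t⁻¹.injective (congrArg Subtype.val h)
      refine Subtype.ext (Subtype.ext (inv_mul_eq_one.1 ?_).symm)
      by_contra hne
      refine hout p hp'.1 ((ho.fix_octadFix (mul_mem (inv_mem b.1.2) a.1.2) hne _).1 ?_)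
      rw [Equiv.Perm.mul_apply, h', Equiv.Perm.coe_inv, Equiv.symm_apply_apply]
    have h := Nat.card_le_card_of_injective f hinj
    rw [Nat.card_eq_fintype_card (α := ↥Fs), Fintype.card_coe, hFs] at h
    exact h

namespace PairOct

variable {o o' : Finset GolayPt} (h : PairOct o o')
include h

/-- No further element of the octad group stabilises the second octad. -/
theorem fix_trivial {a : Equiv.Perm GolayPt} (ha : a ∈ octadFix o) (hs : a • o' = o') : a = 1 := by
  classical
  by_contra hne
  have hmem : a ∈ octadStab o' := ⟨(mem_octadFix.1 ha).1, hs⟩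
  set r := octadRes o' ⟨a, hmem⟩ with hr
  have hsign : Equiv.Perm.sign r = 1 :=
    Equiv.Perm.mem_alternatingGroup.1 (range_octadRes h.snd.mem ▸ ⟨_, rfl⟩)
  have hr2 : r * r = 1 := by
    have e : (⟨a, hmem⟩ : ↥(octadStab o')) * ⟨a, hmem⟩ = 1 :=
      Subtype.ext (mul_self_octadFix h.fst.mem ha)
    rw [hr, ← map_mul, e, map_one]
  have hsupp : r.support.card = 6 := by
    have e : r.support.map (Function.Embedding.subtype fun y => y ∈ o') = o' \ o := by
      ext y
      simp only [Finset.mem_map, Equiv.Perm.mem_support, Function.Embedding.coe_subtype, Finset.mem_sdiff]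
      constructor
      · rintro ⟨x, hx, rfl⟩
        refine ⟨x.2, fun hxo => hx (Subtype.ext ?_)⟩
        rw [hr, octadRes_apply]
        exact (mem_octadFix.1 ha).2 _ hxo
      · rintro ⟨hy, hyo⟩
        refine ⟨⟨y, hy⟩, fun e => hyo ((h.fst.fix_octadFix ha hne y).1 ?_), rfl⟩
        have := congrArg Subtype.val e
        rwa [hr, octadRes_apply] at this
    have hc := congrArg Finset.card e
    rw [Finset.card_map] at hc
    have h2 := Finset.card_sdiff_add_card_inter o' o
    rw [Finset.inter_comm, h.inter, Finset.card_pair pA_ne_pB, h.snd.mem.2] at h2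
    omega
  have hne1 : r ≠ 1 := fun e => by rw [e, Equiv.Perm.support_one] at hsupp; simp at hsupp
  have hct : r.cycleType = Multiset.replicate 3 2 := by
    haveI : Fact (Nat.Prime 2) := ⟨Nat.prime_two⟩
    have ho2 : orderOf r = 2 := orderOf_eq_prime (by rw [pow_two, hr2]) hne1
    obtain ⟨n, hn⟩ := Equiv.Perm.cycleType_prime_order (σ := r) (by rw [ho2]; exact Nat.prime_two)
    rw [ho2] at hn
    have hs' := Equiv.Perm.sum_cycleType r
    rw [hn, Multiset.sum_replicate, hsupp, smul_eq_mul] at hs'
    rw [hn, show n + 1 = 3 by omega]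
  rw [Equiv.Perm.sign_of_cycleType, hct] at hsign
  simp at hsign
  exact absurd hsign (by decide)

theorem R0_le : R0 o o' ≤ stab0 o := inf_le_left

omit h in
theorem mem_R0 {g : Equiv.Perm GolayPt} : g ∈ R0 o o' ↔ g ∈ stab0 o ∧ g • o' = o' := Iff.rfl

theorem R0_inf {g : Equiv.Perm GolayPt} (hg : g ∈ R0 o o') (ha : g ∈ octadFix o) : g = 1 :=
  h.fix_trivial ha hg.2

/-- The common stabiliser has order 360. -/
theorem natCard_R0 : Nat.card ↥(R0 o o') = 360 := by
  classical
  obtain ⟨t, ht, hto, t23, t0⟩ := exists_map_octad_pair_in h.fst.mem h.fst.a h.fst.b pA_ne_pB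
  let O := MulAction.orbit ↥(stab0 o) o'
  have hsub : O ⊆ ((coOct.toFinset.image fun m => t • pts m : Finset (Finset GolayPt)) : Set (Finset GolayPt)) := by
    rintro s ⟨g, rfl⟩
    set s := (g : Equiv.Perm GolayPt) • o' with hs
    have hgM : (g : Equiv.Perm GolayPt) ∈ M24 := (stab0_le_octadStab o g.2).1
    have hgo : (g : Equiv.Perm GolayPt) • o = o := g.2.2
    have hs8 : s ∈ octads := smul_mem_octads hgM h.snd.mem
    have hsI : o ∩ s = {pA, pB} := by
      have e : o ∩ s = (g : Equiv.Perm GolayPt) • (o ∩ o') := by rw [Finset.smul_finset_inter, hgo, hs]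
      rw [e, h.inter, Finset.smul_finset_insert, Finset.smul_finset_singleton, Equiv.Perm.smul_def,
        Equiv.Perm.smul_def, show (g : Equiv.Perm GolayPt) pA = pA from g.2.1.1.2,
        show (g : Equiv.Perm GolayPt) pB = pB from g.2.1.2]
    have hu : t⁻¹ • s ∈ octads := smul_mem_octads (inv_mem ht) hs8
    have hsA : pA ∈ s ∧ pB ∈ s := by
      refine ⟨Finset.mem_of_mem_inter_right (s₁ := o) ?_, Finset.mem_of_mem_inter_right (s₁ := o) ?_⟩ <;>
        simp [hsI]
    have hk := supports_forall coOct_all hu.1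
    have hmask : ∀ i < 24, t (pt i) ∈ s → (maskOf (t⁻¹ • s)).testBit i = true := fun i hi hti => by
      rw [testBit_maskOf hi, ← Finset.smul_mem_smul_finset_iff t, smul_inv_smul]
      exact hti
    have hpc : popcount (maskOf (t⁻¹ • s) &&& octad0) = 2 := by
      rw [Nat.and_comm, popcount_and_maskOf]
      have e : (t • (pts octad0 ∩ t⁻¹ • s)).card = 2 := by
        rw [Finset.smul_finset_inter, smul_inv_smul, hto, hsI, Finset.card_pair pA_ne_pB]
      rwa [Finset.card_smul_finset] at e
    rw [popcount_maskOf, hu.2, hmask 23 (by norm_num) (by rw [t23]; exact hsA.1),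
      hmask 0 (by norm_num) (by rw [t0]; exact hsA.2), hpc] at hk
    simp only [beq_self_eq_true, Bool.not_true, Bool.false_or, List.contains_iff_mem] at hk
    rw [Finset.coe_image]
    refine ⟨maskOf (t⁻¹ • s), by simpa using hk, ?_⟩
    show t • pts (maskOf (t⁻¹ • s)) = s
    rw [pts_maskOf, smul_inv_smul]
  have hle : O.ncard ≤ 16 := by
    refine (Set.ncard_le_ncard hsub (Finset.finite_toSet _)).trans ?_
    rw [Set.ncard_coe_finset]
    exact Finset.card_image_le.trans (List.toFinset_card_le _)
  have hge : 16 ≤ O.ncard := by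
    rw [← natCard_octadFix h.fst.mem, ← Nat.card_coe_set_eq]
    refine Nat.card_le_card_of_injective
      (fun a : ↥(octadFix o) => (⟨(a : Equiv.Perm GolayPt) • o',
        ⟨⟨a, h.fst.fix_le_stab0 a.2⟩, rfl⟩⟩ : ↥O)) fun a b e => ?_
    have e' : (a : Equiv.Perm GolayPt) • o' = (b : Equiv.Perm GolayPt) • o' := congrArg Subtype.val e
    refine Subtype.ext (inv_mul_eq_one.1 (h.fix_trivial (mul_mem (inv_mem b.2) a.2) ?_)).symm
    rw [mul_smul, e', inv_smul_smul]
  have hidx : (MulAction.stabilizer ↥(stab0 o) o').index = 16 := by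
    rw [index_stabilizer]
    exact le_antisymm hle hge
  have hmul := (MulAction.stabilizer ↥(stab0 o) o').index_mul_card
  rw [hidx, h.fst.natCard_stab0] at hmul
  have e : Nat.card ↥(R0 o o') = Nat.card ↥(MulAction.stabilizer ↥(stab0 o) o') :=
    Nat.card_congr
      { toFun := fun g => ⟨⟨g, g.2.1⟩, g.2.2⟩
        invFun := fun g => ⟨g.1, g.1.2, g.2⟩ }
  omega

/-- The common stabiliser is A6. -/
theorem nonempty_R0_equiv : Nonempty (↥(R0 o o') ≃* ↥(alternatingGroup (Six o))) := by
  let f : ↥(R0 o o') →* ↥(alternatingGroup (Six o)) :=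
    ((sixRes0 o).comp (Subgroup.inclusion h.R0_le)).codRestrict _ fun g => by
      rw [← h.fst.range_sixRes0]; exact ⟨_, rfl⟩
  have hinj : Function.Injective f := (injective_iff_map_eq_one f).2 fun g hg => Subtype.ext
    (h.R0_inf g.2 ((h.fst.mem_ker_sixRes0 _).1 (congrArg Subtype.val hg)))
  have hcard : Nat.card ↥(R0 o o') = Nat.card ↥(alternatingGroup (Six o)) := by
    haveI : Nontrivial (Six o) := Fintype.one_lt_card_iff_nontrivial.1 (by rw [h.fst.card_six]; norm_num)
    rw [h.natCard_R0, Nat.card_eq_fintype_card (α := ↥(alternatingGroup (Six o)))]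
    have := two_mul_card_alternatingGroup (α := Six o)
    rw [Fintype.card_perm, h.fst.card_six, show Nat.factorial 6 = 720 from rfl] at this
    omega
  exact ⟨MulEquiv.ofBijective f ((Nat.bijective_iff_injective_and_card f).2 ⟨hinj, hcard⟩)⟩

/-- The common stabiliser is perfect. -/
theorem R0_perfect : ⁅R0 o o', R0 o o'⁆ = R0 o o' := by
  classical
  obtain ⟨e⟩ := h.nonempty_R0_equiv
  have hA : commutator ↥(alternatingGroup (Six o)) = ⊤ :=
    commutator_alternatingGroup_eq_top (by rw [Nat.card_eq_fintype_card, h.fst.card_six]; norm_num)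
  have hR : commutator ↥(R0 o o') = ⊤ := by
    have h1 : (commutator ↥(alternatingGroup (Six o))).map e.symm.toMonoidHom = commutator ↥(R0 o o') := by
      rw [commutator_def, commutator_def, Subgroup.map_commutator,
        Subgroup.map_top_of_surjective _ e.symm.surjective]
    rw [← h1, hA, Subgroup.map_top_of_surjective _ e.symm.surjective]
  rw [← Subgroup.map_subtype_commutator, hR, ← MonoidHom.range_eq_map, Subgroup.range_subtype]

end PairOct

end Cfsg.Agent.J4Type
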