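import Cfsg.Agent.Lib.J4Type.Orbits

/-!
The class of `z` in `Vo` has 1771 elements (helper19).

* `sylow_count`, `modEq_inf_centralizer` : counting in a group with a subgroup of prime order
* `Setting.ncard_Oz` : the length, with the composition of the set
-/

set_option autoImplicit false
set_option maxHeartbeats 1000000
set_option linter.style.haveILetI false
set_option linter.unusedSectionVars false
open scoped Pointwise commutatorElement
open Cfsg Subgroup

namespace Cfsg.Agent.J4Type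

/-- The count of conjugates of a Sylow subgroup of prime order. -/
theorem sylow_count {G : Type*} [Group G] [Finite G] {p : ℕ} (hp : p.Prime) (N : Subgroup G) {s : G} (hsN : s ∈ N)
    (hs : orderOf s = p) (hp2 : ¬ p ^ 2 ∣ Nat.card ↥N) :
    ∃ n j : ℕ, n % p = 1 ∧ j ∣ p - 1 ∧
      n * (Nat.card ↥(N ⊓ Subgroup.centralizer {s}) * j) = Nat.card ↥N := by
  haveI : Fact p.Prime := ⟨hp⟩
  set s' : ↥N := ⟨s, hsN⟩
  have hs' : orderOf s' = p := by rw [← Subgroup.orderOf_coe]; exact hs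
  set A : Subgroup ↥N := Subgroup.zpowers s' with hAdef
  have hA : Nat.card ↥A = p := (Nat.card_zpowers s').trans hs'
  have hfac : (Nat.card ↥N).factorization p = 1 := by
    refine le_antisymm ?_ ((hp.dvd_iff_one_le_factorization Nat.card_pos.ne').1 (hA ▸ A.card_subgroup_dvd_card))
    by_contra hlt
    exact hp2 ((hp.pow_dvd_iff_le_factorization Nat.card_pos.ne').2 (by omega))
  let T : Sylow p ↥N := Sylow.ofCard A (by rw [hA, hfac, pow_one])
  have hn : Nat.card (Sylow p ↥N) = (Subgroup.normalizer (A : Set ↥N)).index := Sylow.card_eq_index_normalizer T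
  set f := A.normalizerMonoidHom with hf
  have h1 := f.ker.index_mul_card
  have hker : Nat.card ↥f.ker = Nat.card ↥(N ⊓ Subgroup.centralizer {s}) := by
    rw [hf, Subgroup.normalizerMonoidHom_ker,
      Nat.card_congr (Subgroup.subgroupOfEquivOfLe (centralizer_le_normalizer _)).toEquiv]
    refine Nat.card_congr
      { toFun := fun x => ⟨((x : ↥N) : G), (x : ↥N).2, Subgroup.mem_centralizer_singleton_iff.2
          (congrArg Subtype.val (Subgroup.mem_centralizer_iff.1 x.2 s' (Subgroup.mem_zpowers s'))).symm⟩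
        invFun := fun x => ⟨⟨(x : G), x.2.1⟩, Subgroup.mem_centralizer_iff.2 fun a ha => by
          obtain ⟨i, rfl⟩ := Subgroup.mem_zpowers_iff.1 ha
          exact ((Commute.zpow_right (show Commute (⟨(x : G), x.2.1⟩ : ↥N) s' from
            Subtype.ext (Subgroup.mem_centralizer_singleton_iff.1 x.2.2)) i).symm).eq⟩
        left_inv := fun x => rfl
        right_inv := fun x => rfl }
  have hj : f.ker.index ∣ p - 1 := by
    have h2 := f.range.card_subgroup_dvd_card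
    rw [IsCyclic.card_mulAut, hA, Nat.totient_prime hp, ← Subgroup.index_ker] at h2
    exact h2
  refine ⟨Nat.card (Sylow p ↥N), f.ker.index, ?_, hj, ?_⟩
  · have h2 : Nat.card (Sylow p ↥N) ≡ 1 [MOD p] := card_sylow_modEq_one p ↥N
    rw [Nat.ModEq, Nat.mod_eq_of_lt hp.one_lt] at h2
    exact h2
  · rw [hn, ← hker, mul_comm (Nat.card ↥f.ker), h1, Subgroup.index_mul_card]

/-- Fixed points of an element of prime order on a subgroup that it normalises. -/
theorem modEq_inf_centralizer {G : Type*} [Group G] [Finite G] {p : ℕ} (hp : p.Prime) {s : G}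
    (hs : orderOf s = p) (W : Subgroup G) (hn : s ∈ Subgroup.normalizer (W : Set G)) :
    Nat.card ↥W ≡ Nat.card ↥(W ⊓ Subgroup.centralizer {s}) [MOD p] := by
  haveI : Fact p.Prime := ⟨hp⟩
  have hle : Subgroup.zpowers s ≤ Subgroup.normalizer (W : Set G) := (Subgroup.zpowers_le).2 hn
  letI : MulAction ↥(Subgroup.zpowers s) ↥W :=
    { smul := fun a w => ⟨(a : G) * w * (a : G)⁻¹, (Subgroup.mem_normalizer_iff.1 (hle a.2) w).1 w.2⟩
      one_smul := fun w => Subtype.ext (show ((1 : ↥(Subgroup.zpowers s)) : G) * w * _⁻¹ = w by simp)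
      mul_smul := fun a b w => Subtype.ext (show ((a * b : ↥(Subgroup.zpowers s)) : G) * w * _⁻¹ =
        (a : G) * ((b : G) * w * (b : G)⁻¹) * (a : G)⁻¹ by simp [mul_assoc]) }
  have hP : IsPGroup p ↥(Subgroup.zpowers s) :=
    IsPGroup.of_card (n := 1) (by rw [Nat.card_zpowers, hs, pow_one])
  have hsmul : ∀ (a : ↥(Subgroup.zpowers s)) (w : ↥W), ((a • w : ↥W) : G) = (a : G) * w * (a : G)⁻¹ :=
    fun _ _ => rfl
  have hfix : Nat.card (MulAction.fixedPoints ↥(Subgroup.zpowers s) ↥W) =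
      Nat.card ↥(W ⊓ Subgroup.centralizer {s}) :=
    Nat.card_congr
      { toFun := fun w => ⟨((w : ↥W) : G), (w : ↥W).2, Subgroup.mem_centralizer_singleton_iff.2
          (mul_inv_eq_iff_eq_mul.1 (congrArg Subtype.val (w.2 ⟨s, Subgroup.mem_zpowers s⟩))).symm⟩
        invFun := fun w => ⟨⟨(w : G), w.2.1⟩, fun a => Subtype.ext (by
          obtain ⟨i, hi⟩ := Subgroup.mem_zpowers_iff.1 a.2
          rw [hsmul, ← hi, mul_inv_eq_iff_eq_mul]
          exact ((show Commute (w : G) s from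
            Subgroup.mem_centralizer_singleton_iff.1 w.2.2).zpow_right i).symm.eq)⟩
        left_inv := fun w => rfl
        right_inv := fun w => rfl }
  rw [← hfix]
  exact hP.card_modEq_card_fixedPoints ↥W

namespace Setting

open Cfsg.Agent.Golay

variable {G : Type*} [Group G] [Finite G] {z : G} {P : Subgroup G} (S : Setting z P)
  {o : Finset GolayPt} (ho : HexOct o)

include S ho

theorem not_commute_z {p : ℕ} (hp : ¬ p ∣ 2 ^ 21 * 135) {s : G}
    (hsN : s ∈ Subgroup.normalizer (S.Vg ho : Set G)) (hs : orderOf s = p) : s * z ≠ z * s := by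
  intro h
  have hk : (⟨s, mem_Cz.2 h⟩ : ↥(Cz z)) ∈ S.preM (stabO o) := (S.mem_normalizer_iff_κ ho ⟨s, mem_Cz.2 h⟩).1 hsN
  have h1 := Subgroup.orderOf_dvd_natCard (S.preM (stabO o)) hk
  rw [S.natCard_Nh ho, ← Subgroup.orderOf_coe, hs] at h1
  exact hp h1

theorem natCard_Vg : Nat.card ↥(S.Vg ho) = 2 ^ 11 := (S.isElementary_Vo ho).2

theorem mem_Vg_of_comm {x : G} (hx : ∀ v ∈ S.Vg ho, v * x = x * v) : x ∈ S.Vg ho := by
  obtain ⟨h, hh⟩ := S.centralizer_Vo ho (x := x) fun y hy => hx _ ((S.mem_Vg_iff ho y).2 hy)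
  exact (S.mem_Vg_iff ho ⟨x, h⟩).2 hh

/-- A fixed subgroup of order `2 ^ k`, `k < 11`. -/
theorem natCard_fixed {p : ℕ} (hp : p.Prime) (hp' : ¬ p ∣ 2 ^ 21 * 135) {s : G}
    (hsN : s ∈ Subgroup.normalizer (S.Vg ho : Set G)) (hs : orderOf s = p) :
    ∃ k < 11, Nat.card ↥(S.Vg ho ⊓ Subgroup.centralizer {s}) = 2 ^ k ∧ 2 ^ 11 % p = 2 ^ k % p := by
  obtain ⟨k, hk, hc⟩ := (Nat.dvd_prime_pow Nat.prime_two).1
    (S.natCard_Vg ho ▸ Subgroup.card_dvd_of_le (inf_le_left : S.Vg ho ⊓ Subgroup.centralizer {s} ≤ S.Vg ho))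
  refine ⟨k, lt_of_le_of_ne hk fun e => ?_, hc, ?_⟩
  · subst e
    have heq := Subgroup.eq_of_le_of_card_ge (inf_le_left : S.Vg ho ⊓ Subgroup.centralizer {s} ≤ S.Vg ho)
      (by rw [hc, S.natCard_Vg ho])
    have h1 : z ∈ Subgroup.centralizer {s} := (heq.symm ▸ S.z_mem_Vg ho : z ∈ S.Vg ho ⊓ Subgroup.centralizer {s}).2
    exact S.not_commute_z ho hp' hsN hs (Subgroup.mem_centralizer_singleton_iff.1 h1).symm
  · have h := modEq_inf_centralizer hp hs (S.Vg ho) hsN
    rw [S.natCard_Vg ho, hc] at h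
    exact h

theorem exists_orderOf {p : ℕ} (hp : p.Prime) (hdvd : p ∣ (S.Oz ho).ncard) :
    ∃ s ∈ Subgroup.normalizer (S.Vg ho : Set G), orderOf s = p := by
  haveI : Fact p.Prime := ⟨hp⟩
  obtain ⟨s, hs⟩ := exists_prime_orderOf_dvd_card' (G := ↥(Subgroup.normalizer (S.Vg ho : Set G))) p
    (by rw [S.natCard_normalizer_eq ho]; exact hdvd.mul_right _)
  exact ⟨s, s.2, by rw [Subgroup.orderOf_coe, hs]⟩

theorem Oz_conj_zpow {s : G} (hsN : s ∈ Subgroup.normalizer (S.Vg ho : Set G)) (i : ℤ) :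
    s ^ i * z * (s ^ i)⁻¹ ∈ ((↑) '' S.Oz ho : Set G) := by
  rw [S.Oz_image_eq_orbit ho]
  exact ⟨s ^ i, zpow_mem hsN i, rfl⟩

theorem not_127 (c : S.Coord o) (h : (S.Oz ho).ncard = 127) (hU : S.UhSet c ⊆ S.Oz ho)
    (hP : S.UpSet c ⊆ S.Oz ho) : False := by
  classical
  set N := Subgroup.normalizer (S.Vg ho : Set G) with hN
  have hp : Nat.Prime 127 := by norm_num
  obtain ⟨s, hsN, hs⟩ := S.exists_orderOf ho hp (h ▸ dvd_rfl)
  have hp' : ¬ (127 : ℕ) ∣ 2 ^ 21 * 135 := by decide +kernel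
  -- the powers of `s` carry `z` to all its conjugates
  have hsemi : ∀ i : ℤ, s ^ i * z * (s ^ i)⁻¹ = z → (127 : ℤ) ∣ i := by
    intro i hi
    by_contra hd
    obtain ⟨a, b, hab⟩ := ((Nat.prime_iff_prime_int.1 hp).coprime_iff_not_dvd.2 hd)
    have hc : Commute (s ^ i) z := mul_inv_eq_iff_eq_mul.1 hi
    have h127 : s ^ (127 : ℤ) = 1 := by
      rw [show (127 : ℤ) = ((127 : ℕ) : ℤ) from rfl, zpow_natCast, ← hs, pow_orderOf_eq_one]
    have h1 : s = (s ^ i) ^ b := by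
      rw [← zpow_mul]
      conv_lhs => rw [← zpow_one s, ← hab, zpow_add, mul_comm a, zpow_mul]
      norm_num [h127, mul_comm]
    exact S.not_commute_z ho hp' hsN hs (by rw [h1]; exact (hc.zpow_left b).eq)
  let φ : Fin 127 → ↥((↑) '' S.Oz ho : Set G) := fun i => ⟨_, S.Oz_conj_zpow ho hsN (i : ℤ)⟩
  have hinj : Function.Injective φ := by
    intro i j hij
    have h1 : s ^ (i : ℤ) * z * (s ^ (i : ℤ))⁻¹ = s ^ (j : ℤ) * z * (s ^ (j : ℤ))⁻¹ := congrArg Subtype.val hij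
    obtain ⟨d, hd⟩ := hsemi ((j : ℤ) - i) (by
      rw [show ((j : ℤ) - i) = -(i : ℤ) + j by ring, zpow_add, zpow_neg]
      calc _ = (s ^ (i : ℤ))⁻¹ * (s ^ (j : ℤ) * z * (s ^ (j : ℤ))⁻¹) * s ^ (i : ℤ) := by group
        _ = z := by rw [← h1]; group)
    exact Fin.ext (by omega)
  have hsurj : Function.Surjective φ := (hinj.bijective_of_nat_card_le (by
    rw [Nat.card_coe_set_eq, S.ncard_Oz_image ho, h, Nat.card_fin])).2
  -- a centralising element is a power of `s` times an element of `Vg`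
  set D := S.Vg ho ⊓ Subgroup.centralizer {s} with hD
  obtain ⟨k, hk, hDc, hmod⟩ := S.natCard_fixed ho hp hp' hsN hs
  have hC : Nat.card ↥(N ⊓ Subgroup.centralizer {s}) = 127 * 2 ^ k := by
    have hmem : ∀ a ∈ Subgroup.zpowers s, ∀ d ∈ D, a * d ∈ N ⊓ Subgroup.centralizer {s} := fun a ha d hd => by
      refine mul_mem ?_ ⟨Subgroup.le_normalizer hd.1, hd.2⟩
      obtain ⟨i, rfl⟩ := Subgroup.mem_zpowers_iff.1 ha
      exact ⟨zpow_mem hsN i, zpow_mem (Subgroup.mem_centralizer_singleton_iff.2 rfl) i⟩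
    let ψ : ↥(Subgroup.zpowers s) × ↥D → ↥(N ⊓ Subgroup.centralizer {s}) :=
      fun x => ⟨(x.1 : G) * x.2, hmem _ x.1.2 _ x.2.2⟩
    have hcop : (Nat.card ↥(Subgroup.zpowers s)).Coprime (Nat.card ↥D) := by
      rw [Nat.card_zpowers, hs, hDc]
      exact Nat.Coprime.pow_right k (by norm_num)
    have hψi : Function.Injective ψ := fun x y hxy => by
      have h1 : (x.1 : G) * x.2 = (y.1 : G) * y.2 := congrArg Subtype.val hxy
      have h2 : (y.1 : G)⁻¹ * x.1 = (y.2 : G) * (x.2 : G)⁻¹ := by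
        calc (y.1 : G)⁻¹ * x.1 = (y.1 : G)⁻¹ * ((x.1 : G) * x.2) * (x.2 : G)⁻¹ := by group
          _ = _ := by rw [h1]; group
      have h3 : (y.1 : G)⁻¹ * x.1 ∈ Subgroup.zpowers s ⊓ D :=
        Subgroup.mem_inf.2 ⟨mul_mem (inv_mem y.1.2) x.1.2, h2 ▸ mul_mem y.2.2 (inv_mem x.2.2)⟩
      rw [Subgroup.inf_eq_bot_of_coprime hcop, Subgroup.mem_bot] at h3
      have h4 : (x.1 : G) = y.1 := (inv_mul_eq_one.1 h3).symm
      exact Prod.ext (Subtype.ext h4) (Subtype.ext (mul_left_cancel (h4 ▸ h1 : (y.1 : G) * x.2 = y.1 * y.2)))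
    have hψs : Function.Surjective ψ := by
      rintro ⟨g, hgN, hgC⟩
      have hgz : g * z * g⁻¹ ∈ ((↑) '' S.Oz ho : Set G) := by
        rw [S.Oz_image_eq_orbit ho]; exact ⟨g, hgN, rfl⟩
      obtain ⟨i, hi⟩ := hsurj ⟨_, hgz⟩
      have hi' : s ^ (i : ℤ) * z * (s ^ (i : ℤ))⁻¹ = g * z * g⁻¹ := congrArg Subtype.val hi
      set d := (s ^ (i : ℤ))⁻¹ * g with hd
      have hdz : d ∈ Cz z := mem_Cz.2 (by
        calc d * z = (s ^ (i : ℤ))⁻¹ * (g * z * g⁻¹) * g := by rw [hd]; group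
          _ = z * d := by rw [← hi', hd]; group)
      have hdN : d ∈ N := mul_mem (inv_mem (zpow_mem hsN _)) hgN
      have hdC : d ∈ Subgroup.centralizer {s} :=
        mul_mem (inv_mem (zpow_mem (Subgroup.mem_centralizer_singleton_iff.2 rfl) _)) hgC
      have hfix : ∀ x ∈ S.Oz ho, d * (x : G) = (x : G) * d := by
        intro x hx
        obtain ⟨j, hj⟩ := hsurj ⟨_, ⟨x, hx, rfl⟩⟩
        have hj' : s ^ (j : ℤ) * z * (s ^ (j : ℤ))⁻¹ = (x : G) := congrArg Subtype.val hj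
        have hc1 : Commute d (s ^ (j : ℤ)) :=
          (show Commute d s from Subgroup.mem_centralizer_singleton_iff.1 hdC).zpow_right _
        rw [← hj']
        exact ((hc1.mul_right (show Commute d z from mem_Cz.1 hdz)).mul_right hc1.inv_right).eq
      have hdV : (⟨d, hdz⟩ : ↥(Cz z)) ∈ S.Vo ho := by
        refine S.fix_U_mem_Vo ho ((S.mem_normalizer_iff_κ ho _).1 hdN) fun e he => Subtype.ext ?_
        show (e : G) * d = d * e
        rcases S.U_cases ho (c := c) ((S.inE_mem_Vo_iff ho e).2 he) (S.κ_inE e) with h1 | h1 | h1 | h1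
        · rw [show (e : G) = 1 from congrArg Subtype.val h1, one_mul, mul_one]
        · rw [show (e : G) = z from congrArg Subtype.val h1]; exact (mem_Cz.1 hdz).symm
        · exact (hfix _ (hU h1)).symm
        · exact (hfix _ (hP h1)).symm
      exact ⟨(⟨s ^ (i : ℤ), zpow_mem (Subgroup.mem_zpowers s) _⟩,
        ⟨d, (S.mem_Vg_iff ho ⟨d, hdz⟩).2 hdV, hdC⟩), Subtype.ext (show s ^ (i : ℤ) * d = g by rw [hd]; exact mul_inv_cancel_left _ g)⟩
    rw [← Nat.card_congr (Equiv.ofBijective ψ ⟨hψi, hψs⟩), Nat.card_prod, Nat.card_zpowers, hs, hDc]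
  have hcard := S.natCard_normalizer_eq ho
  rw [h, ← hN] at hcard
  obtain ⟨n, j, hn, hj, hnj⟩ := sylow_count hp N hsN hs (by rw [hcard]; decide +kernel)
  rw [hC, hcard] at hnj
  have hk4 : k = 4 := (by decide +kernel : ∀ k < 11, 2 ^ 11 % 127 = 2 ^ k % 127 → k = 4) k hk hmod
  rw [hk4] at hnj
  have hnj' : n * j = 2 ^ 17 * 135 := by
    have e1 : n * (127 * 2 ^ 4 * j) = (n * j) * (127 * 2 ^ 4) := by ring
    rw [e1, show 127 * (2 ^ 21 * 135) = 2 ^ 17 * 135 * (127 * 2 ^ 4) by norm_num] at hnj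
    exact mul_right_cancel₀ (by norm_num) hnj
  have hm := congrArg (· % 127) hnj'
  simp only [Nat.mul_mod n j 127, hn, one_mul, Nat.mod_mod] at hm
  have hj126 : j < 127 := Nat.lt_succ_of_le (Nat.le_of_dvd (by norm_num) hj)
  rw [Nat.mod_eq_of_lt hj126] at hm
  norm_num at hm hj
  subst hm
  norm_num at hj

theorem not_2047 : (S.Oz ho).ncard ≠ 2047 := by
  classical
  intro h
  set N := Subgroup.normalizer (S.Vg ho : Set G) with hN
  have hp : Nat.Prime 89 := by norm_num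
  obtain ⟨s, hsN, hs⟩ := S.exists_orderOf ho hp (h ▸ by norm_num)
  have hp' : ¬ (89 : ℕ) ∣ 2 ^ 21 * 135 := by decide +kernel
  obtain ⟨k, hk, hDc, hmod⟩ := S.natCard_fixed ho hp hp' hsN hs
  have hk0 : k = 0 := (by decide +kernel : ∀ k < 11, 2 ^ 11 % 89 = 2 ^ k % 89 → k = 0) k hk hmod
  rw [hk0, pow_zero] at hDc
  have hD : S.Vg ho ⊓ Subgroup.centralizer {s} = ⊥ := Subgroup.eq_bot_of_card_eq _ hDc
  set C := N ⊓ Subgroup.centralizer {s} with hC
  -- a centralising element fixing a nontrivial element of `Vg` is trivial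
  have hfree : ∀ g ∈ C, ∀ v ∈ S.Vg ho, v ≠ 1 → g * v * g⁻¹ = v → g = 1 := by
    intro g hg v hv hv1 hgv
    set W := S.Vg ho ⊓ Subgroup.centralizer {g} with hW
    have hgs : Commute g s := Subgroup.mem_centralizer_singleton_iff.1 hg.2
    have hsW : s ∈ Subgroup.normalizer (W : Set G) := by
      refine Subgroup.mem_normalizer_fintype fun x hx => ⟨(Subgroup.mem_normalizer_iff.1 hsN x).1 hx.1, ?_⟩
      refine Subgroup.mem_centralizer_singleton_iff.2 ?_
      exact (((hgs.mul_right (show Commute x g from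
        Subgroup.mem_centralizer_singleton_iff.1 hx.2).symm).mul_right hgs.inv_right).symm).eq
    have h1 := modEq_inf_centralizer hp hs W hsW
    have h2 : W ⊓ Subgroup.centralizer {s} = ⊥ :=
      le_bot_iff.1 ((inf_le_inf_right _ inf_le_left).trans hD.le)
    rw [h2, Subgroup.card_bot] at h1
    obtain ⟨l, hl, hlc⟩ := (Nat.dvd_prime_pow Nat.prime_two).1
      (S.natCard_Vg ho ▸ Subgroup.card_dvd_of_le (inf_le_left : W ≤ S.Vg ho))
    rw [hlc] at h1
    rcases (by decide +kernel : ∀ l ≤ 11, 2 ^ l % 89 = 1 % 89 → l = 0 ∨ l = 11) l hl h1 with e | e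
    · rw [e, pow_zero] at hlc
      have hb : W = ⊥ := Subgroup.eq_bot_of_card_eq _ hlc
      have hvW : v ∈ W := ⟨hv, Subgroup.mem_centralizer_singleton_iff.2 (mul_inv_eq_iff_eq_mul.1 hgv).symm⟩
      rw [hb] at hvW
      exact absurd (Subgroup.mem_bot.1 hvW) hv1
    · subst e
      have heq := Subgroup.eq_of_le_of_card_ge (inf_le_left : W ≤ S.Vg ho) (by rw [hlc, S.natCard_Vg ho])
      have hgV : g ∈ S.Vg ho := S.mem_Vg_of_comm ho fun w hw =>
        Subgroup.mem_centralizer_singleton_iff.1 (heq.ge hw).2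
      have h3 : g ∈ S.Vg ho ⊓ Subgroup.centralizer {s} := ⟨hgV, hg.2⟩
      rw [hD] at h3
      exact Subgroup.mem_bot.1 h3
  -- so its order divides the number of nontrivial elements
  let X := {v : G // v ∈ S.Vg ho ∧ v ≠ 1}
  letI : MulAction ↥C X :=
    { smul := fun g v => ⟨(g : G) * v * (g : G)⁻¹, (Subgroup.mem_normalizer_iff.1 g.2.1 _).1 v.2.1,
        fun e => v.2.2 (conj_eq_one_iff.1 e)⟩
      one_smul := fun v => Subtype.ext (show ((1 : ↥C) : G) * v.1 * _⁻¹ = v.1 by simp)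
      mul_smul := fun a b v => Subtype.ext (show ((a * b : ↥C) : G) * v.1 * _⁻¹ =
        (a : G) * ((b : G) * v.1 * (b : G)⁻¹) * (a : G)⁻¹ by simp [mul_assoc]) }
  have horb : ∀ v : X, Nat.card (MulAction.orbit ↥C v) = Nat.card ↥C := fun v => by
    have hst : MulAction.stabilizer ↥C v = ⊥ := (Subgroup.eq_bot_iff_forall _).2 fun g hg =>
      Subtype.ext (hfree g g.2 v v.2.1 v.2.2 (congrArg Subtype.val (hg : g • v = v)))
    rw [Nat.card_coe_set_eq, ← MulAction.index_stabilizer, hst, Subgroup.index_bot]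
  have hX : Nat.card X = 2047 := by
    have h1 : Nat.card X = ((S.Vg ho : Set G) \ {1}).ncard := by
      rw [← Nat.card_coe_set_eq]; rfl
    rw [h1, Set.ncard_sdiff_singleton_of_mem (S.Vg ho).one_mem, ← Nat.card_coe_set_eq]
    show Nat.card ↥(S.Vg ho) - 1 = 2047
    rw [S.natCard_Vg ho]
    norm_num
  have hdiv : Nat.card ↥C ∣ 2047 := by
    haveI : Fintype (MulAction.orbitRel.Quotient ↥C X) := Fintype.ofFinite _
    rw [← hX, Nat.card_congr (MulAction.selfEquivSigmaOrbits ↥C X), Nat.card_sigma]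
    exact Finset.dvd_sum fun v _ => (horb _).symm.dvd
  have hsC : 89 ∣ Nat.card ↥C :=
    hs ▸ Subgroup.orderOf_dvd_natCard C ⟨hsN, Subgroup.mem_centralizer_singleton_iff.2 rfl⟩
  have hcard := S.natCard_normalizer_eq ho
  rw [h, ← hN] at hcard
  obtain ⟨n, j, hn, hj, hnj⟩ := sylow_count hp N hsN hs (by rw [hcard]; decide +kernel)
  have hCc : Nat.card ↥C = 89 ∨ Nat.card ↥C = 2047 :=
    (by decide +kernel : ∀ m ∈ Nat.divisors 2047, 89 ∣ m → m = 89 ∨ m = 2047) _
      (Nat.mem_divisors.2 ⟨hdiv, by norm_num⟩) hsC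
  rw [← hC, hcard] at hnj
  have hj88 : j ∈ Nat.divisors 88 := Nat.mem_divisors.2 ⟨hj, by norm_num⟩
  rcases hCc with e | e <;> rw [e] at hnj
  · have hnj' : n * j = 23 * 2 ^ 21 * 135 := by
      apply mul_right_cancel₀ (show (89 : ℕ) ≠ 0 by norm_num)
      linarith
    have hm := congrArg (· % 89) hnj'
    simp only [Nat.mul_mod n j 89, hn, one_mul, Nat.mod_mod] at hm
    exact (by decide +kernel : ∀ j ∈ Nat.divisors 88, j % 89 ≠ 23 * 2 ^ 21 * 135 % 89) j hj88 hm
  · have hnj' : n * j = 2 ^ 21 * 135 := by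
      apply mul_right_cancel₀ (show (2047 : ℕ) ≠ 0 by norm_num)
      linarith
    have hm := congrArg (· % 89) hnj'
    simp only [Nat.mul_mod n j 89, hn, one_mul, Nat.mod_mod] at hm
    exact (by decide +kernel : ∀ j ∈ Nat.divisors 88, j % 89 ≠ 2 ^ 21 * 135 % 89) j hj88 hm

/-- **The class of `z` in `Vo`**: 1771 elements, all the long ones and half of the short ones. -/
theorem ncard_Oz (hs : IsSimpleGroup G) (hG : ¬ IsMulCommutative G) (c : S.Coord o) :
    (S.Oz ho).ncard = 1771 ∧ S.UhSet c ∩ S.Oz ho = ∅ ∧ S.UpSet c ⊆ S.Oz ho ∧ S.LongSet ho ⊆ S.Oz ho ∧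
      (S.ShortSet ho ∩ S.Oz ho).ncard = 240 := by
  rcases S.ncard_Oz_cases ho hs hG c with ⟨h, hU, hP⟩ | h | h
  · exact (S.not_127 ho c h hU hP).elim
  · exact (S.not_2047 ho h).elim
  · exact h

end Setting

end Cfsg.Agent.J4Type
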