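import Cfsg.Agent.Lib.J4Type.Elem11
import Cfsg.Agent.Lib.J4Type.Lines

/-!
The classes of `Vo` under the stabiliser of its octad in the centraliser of `z` (helper19).

* `Setting.UhSet`, `UpSet`, `ShortSet`, `LongSet` : the four nontrivial kinds, of sizes 36, 90, 480, 1440
* `conjH`, `Uh_trans`, `Up_trans`, `long_trans`, `short_cases` : their fusion
* `yF`, `yF_cent`, `yF_orbit` : the lifts commuting with the generator
* `fix_U_mem_Vo`, `natCard_Nh`
-/

set_option autoImplicit false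
set_option maxHeartbeats 1000000
set_option linter.style.haveILetI false
set_option linter.unusedSectionVars false
open scoped Pointwise commutatorElement
open Cfsg Subgroup

namespace Cfsg.Agent.J4Type.Setting

open Cfsg.Agent.Golay

variable {G : Type*} [Group G] [Finite G] {z : G} {P : Subgroup G} (S : Setting z P)
  {o : Finset GolayPt}

/-- Coordinates of the six points. -/
def hco : Fin 6 → Fin 3 → K4
  | 0 => ![1, 0, 0]
  | 1 => ![0, 1, 0]
  | 2 => ![0, 0, 1]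
  | 3 => ![1, 1, 1]
  | 4 => ![1, K4.zeta, K4.zeta + 1]
  | 5 => ![1, K4.zeta + 1, K4.zeta]

instance : DecidableEq K4 := fun x y => decidable_of_iff (x.a = y.a ∧ x.b = y.b)
  ⟨fun h => by cases x; cases y; simp_all, fun h => h ▸ ⟨rfl, rfl⟩⟩

theorem hco_cases : ∀ a b c : K4, (a = 0 ∧ b = 0 ∧ c = 0) ∨
    (∃ i s, s ≠ 0 ∧ ∀ k, ![a, b, c] k = s * hco i k) ∨
    (∃ i j s t, i ≠ j ∧ s ≠ 0 ∧ t ≠ 0 ∧ ∀ k, ![a, b, c] k = s * hco i k + t * hco j k) := by
  decide +kernel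

theorem hco_scalar : ∀ i j : Fin 6, ∀ s t : K4, s ≠ 0 → (∀ k, s * hco i k = t * hco j k) → i = j ∧ s = t := by
  decide +kernel

theorem scalar_pow : ∀ c : K4, c ≠ 0 → c = 1 ∨ c = K4.zeta ∨ c = K4.zeta * K4.zeta := by decide +kernel

include S

/-- Conjugation under the elements stabilising the octad. -/
def conjH (o : Finset GolayPt) (x y : ↥(Cz z)) : Prop :=
  ∃ n : ↥(Cz z), S.κ n ∈ stabO o ∧ n * x * n⁻¹ = y

theorem conjH_trans {x y w : ↥(Cz z)} (h : S.conjH o x y) (h' : S.conjH o y w) : S.conjH o x w := by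
  obtain ⟨n, hn, rfl⟩ := h
  obtain ⟨m, hm, rfl⟩ := h'
  exact ⟨m * n, by rw [map_mul]; exact mul_mem hm hn, by group⟩

theorem conjH_symm {x y : ↥(Cz z)} (h : S.conjH o x y) : S.conjH o y x := by
  obtain ⟨n, hn, rfl⟩ := h
  exact ⟨n⁻¹, by rw [map_inv]; exact inv_mem hn, by group⟩

theorem conjH_refl (x : ↥(Cz z)) : S.conjH o x x := ⟨1, by rw [map_one]; exact one_mem _, by group⟩

theorem κ_inE (e : ↥(Ez z)) : S.κ (inE e) = 1 := S.κ_E e.2

theorem κ_z : S.κ ⟨z, self_mem_Cz z⟩ = 1 := S.κ_E S.z_mem_E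

variable {c : S.Coord o}

/-- A vector of the fixed space from its coordinates. -/
noncomputable def cvec (c : S.Coord o) (x : Fin 3 → K4) : S.WS := x 0 • c.h 0 + x 1 • c.h 1 + x 2 • c.h 2

theorem cvec_hco (c : S.Coord o) (i : Fin 6) : c.h i = S.cvec c (hco i) := by
  fin_cases i <;> simp [cvec, hco, c.h3, c.h4, c.h5]

theorem cvec_injective (c : S.Coord o) : Function.Injective (S.cvec c) := by
  intro x y h
  have h1 : ∑ k, x k • (![c.h 0, c.h 1, c.h 2]) k = ∑ k, y k • (![c.h 0, c.h 1, c.h 2]) k := by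
    rw [Fin.sum_univ_three, Fin.sum_univ_three]; exact h
  exact funext (Fintype.linearIndependent_iffₛ.1 c.indep x y h1)

theorem exists_cvec (c : S.Coord o) {v : S.WS} (hv : v ∈ S.Cfix o) : ∃ x, S.cvec c x = v := by
  rw [← c.span_eq, Submodule.mem_span_range_iff_exists_fun] at hv
  obtain ⟨x, hx⟩ := hv
  exact ⟨x, by rw [← hx, Fin.sum_univ_three]; rfl⟩

theorem smul_cvec (c : S.Coord o) (s : K4) (x : Fin 3 → K4) : s • S.cvec c x = S.cvec c (fun k => s * x k) := by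
  simp [cvec, smul_add, smul_smul]

theorem cvec_add (c : S.Coord o) (x y : Fin 3 → K4) : S.cvec c x + S.cvec c y = S.cvec c (fun k => x k + y k) := by
  simp only [cvec, add_smul]; abel

theorem vec_cases (c : S.Coord o) {v : S.WS} (hv : v ∈ S.Cfix o) (hv0 : v ≠ 0) :
    (∃ i, ∃ s : K4, s ≠ 0 ∧ v = s • c.h i) ∨ ∃ i j, ∃ s t : K4, i ≠ j ∧ s ≠ 0 ∧ t ≠ 0 ∧ v = s • c.h i + t • c.h j := by
  obtain ⟨x, rfl⟩ := S.exists_cvec c hv
  rcases hco_cases (x 0) (x 1) (x 2) with ⟨a, b, d⟩ | ⟨i, s, hs, h⟩ | ⟨i, j, s, t, hij, hs, ht, h⟩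
  · exact absurd (by simp [cvec, a, b, d]) hv0
  · refine Or.inl ⟨i, s, hs, ?_⟩
    rw [S.cvec_hco, S.smul_cvec]
    exact congrArg _ (funext fun k => by rw [← h k]; fin_cases k <;> rfl)
  · refine Or.inr ⟨i, j, s, t, hij, hs, ht, ?_⟩
    rw [S.cvec_hco c i, S.cvec_hco c j, S.smul_cvec, S.smul_cvec, S.cvec_add]
    exact congrArg _ (funext fun k => by rw [← h k]; fin_cases k <;> rfl)

theorem smul_h_inj (c : S.Coord o) {i j : Fin 6} {s t : K4} (hs : s ≠ 0) (h : s • c.h i = t • c.h j) :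
    i = j ∧ s = t := by
  rw [S.cvec_hco c i, S.cvec_hco c j, S.smul_cvec, S.smul_cvec] at h
  exact hco_scalar i j s t hs fun k => congrFun (S.cvec_injective c h) k

theorem h_ne_zero (c : S.Coord o) (i : Fin 6) : c.h i ≠ 0 := by
  intro h
  obtain ⟨j, hj⟩ : ∃ j, j ≠ i := exists_ne i
  exact hj (S.smul_h_inj c (i := i) (j := j) (s := 1) (t := 0) one_ne_zero (by rw [h, smul_zero, zero_smul])).1.symm

theorem exists_scalar {v : S.WS} {s : K4} (hs : s ≠ 0) :
    ∃ k : ↥(Cz z), S.κ k = 1 ∧ S.rho k v = s • v := by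
  have hg : S.κ S.genH = 1 := S.κ_gen
  rcases scalar_pow s hs with rfl | rfl | rfl
  · exact ⟨1, map_one _, by rw [map_one, one_smul]; rfl⟩
  · exact ⟨S.genH, hg, by rw [S.zeta_smul]; rfl⟩
  · refine ⟨S.genH * S.genH, by rw [map_mul, hg, mul_one], ?_⟩
    rw [map_mul, mul_smul, S.zeta_smul, S.zeta_smul]; rfl

variable (ho : HexOct o)
include ho

theorem natCard_Nh : Nat.card ↥(S.preM (stabO o)) = 2 ^ 21 * 135 := by
  have h := (S.preM (stabO o)).index_mul_card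
  rw [S.card_Cz, show (S.preM (stabO o)).index = 77 by
    rw [preM, Subgroup.index_comap, S.κ_range]; exact ho.index_stabO] at h
  omega

/-- Elements over the octad group conjugate as soon as their images in the module are. -/
theorem U_conj {e e' : ↥(Ez z)} (h0 : S.pr e' ≠ 0) {n : ↥(Cz z)} (hn : S.κ n ∈ stabO o)
    (h : S.rho n (S.pr e) = S.pr e') : S.conjH o (inE e) (inE e') := by
  rw [S.rho_pr, S.pr_eq_iff] at h
  rcases h with h | h
  · exact ⟨n, hn, Subtype.ext h⟩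
  · replace h : (n : G) * e * (n : G)⁻¹ = e' * z := h
    obtain ⟨w, hw⟩ : ∃ w, S.beta w (S.pr e') = 1 := by
      by_contra hh
      push Not at hh
      exact h0 (S.beta_nondeg _ fun w => by
        rw [S.beta_comm]
        exact (LargeExtraspecial.OutForm.two_cases _).resolve_right (hh w))
    obtain ⟨f, rfl⟩ := S.pr_surjective w
    have h1 := (S.beta_pr_one f e').1 hw
    refine ⟨inE f * n, by rw [map_mul, S.κ_inE, one_mul]; exact hn, Subtype.ext ?_⟩
    show (f : G) * n * e * ((f : G) * n)⁻¹ = e'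
    calc (f : G) * n * e * ((f : G) * n)⁻¹ = (f : G) * ((n : G) * e * (n : G)⁻¹) * (f : G)⁻¹ := by group
      _ = ((f : G) * e' * (f : G)⁻¹) * ((f : G) * z * (f : G)⁻¹) := by rw [h]; group
      _ = _ := by
        rw [h1, mul_inv_eq_iff_eq_mul.2 (S.data.z_central f f.2), mul_assoc, S.z_sq, mul_one]

omit ho in
/-- The elements over a point of the hyperoval. -/
def UhSet (c : S.Coord o) : Set ↥(Cz z) :=
  {x | ∃ e : ↥(Ez z), inE e = x ∧ ∃ i s, s ≠ (0 : K4) ∧ S.pr e = s • c.h i}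

omit ho in
/-- The elements over the other points. -/
def UpSet (c : S.Coord o) : Set ↥(Cz z) :=
  {x | ∃ e : ↥(Ez z), inE e = x ∧ ∃ i j s t, i ≠ j ∧ s ≠ (0 : K4) ∧ t ≠ (0 : K4) ∧
    S.pr e = s • c.h i + t • c.h j}

theorem Uh_trans {x y : ↥(Cz z)} (hx : x ∈ S.UhSet c) (hy : y ∈ S.UhSet c) : S.conjH o x y := by
  obtain ⟨e, rfl, i, s, hs, he⟩ := hx
  obtain ⟨e', rfl, j, t, ht, he'⟩ := hy
  obtain ⟨π, hπ, hij⟩ : ∃ π ∈ alternatingGroup (Fin 6), π i = j := by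
    obtain ⟨l, m, n, h1, h2, h3, h4, h5, h6⟩ := (by decide : ∀ j : Fin 6,
      ∃ l m n, j ≠ l ∧ j ≠ m ∧ j ≠ n ∧ l ≠ m ∧ l ≠ n ∧ m ≠ n) j
    obtain ⟨l', m', n', h1', h2', h3', h4', h5', h6'⟩ := (by decide : ∀ j : Fin 6,
      ∃ l m n, j ≠ l ∧ j ≠ m ∧ j ≠ n ∧ l ≠ m ∧ l ≠ n ∧ m ≠ n) i
    obtain ⟨π, hπ, p0, -⟩ := exists_even_map j l m n h1 h2 h3 h4 h5 h6
    obtain ⟨σ, hσ, s0, -⟩ := exists_even_map i l' m' n' h1' h2' h3' h4' h5' h6'
    exact ⟨π * σ⁻¹, mul_mem hπ (inv_mem hσ), by rw [Equiv.Perm.mul_apply, ← s0]; simpa using p0⟩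
  obtain ⟨k, hi, hk, hmap, -⟩ := c.equiv π hπ
  obtain ⟨d, hd, hkd⟩ := hmap i
  rw [hij] at hkd
  obtain ⟨g, hg, hgv⟩ := S.exists_scalar (v := (s * d) • c.h j) (s := t * (s * d)⁻¹)
    (mul_ne_zero ht (inv_ne_zero (mul_ne_zero hs hd)))
  refine S.U_conj ho (n := g * k) (by rw [he']; exact smul_ne_zero ht (S.h_ne_zero c j))
    (by rw [map_mul, hg, one_mul]; exact stab0_le_stabO o hk) ?_
  rw [he, he', map_mul, LinearEquiv.mul_apply,
    show S.rho k (s • c.h i) = s • S.rho k (c.h i) from map_smul (S.linK hi) s _, hkd, smul_smul, hgv,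
    smul_smul, inv_mul_cancel_right₀ (mul_ne_zero hs hd)]

/-- Three points of a secant outside the hyperoval are permuted. -/
theorem Up_std (t : K4) (ht : t ≠ 0) : ∃ (k : ↥(Cz z)) (s : K4), s ≠ 0 ∧ S.κ k ∈ stabO o ∧
    S.rho k (c.h 0 + c.h 1) = s • (c.h 0 + t • c.h 1) := by
  obtain ⟨k, hi, hk, hmap, -⟩ := c.equiv (Equiv.swap 2 3 * Equiv.swap 3 4)
    (Equiv.Perm.mem_alternatingGroup.2 (by decide +kernel))
  obtain ⟨d0, hd0, e0⟩ := hmap 0
  obtain ⟨d1, hd1, e1⟩ := hmap 1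
  obtain ⟨d2, hd2, e2⟩ := hmap 2
  obtain ⟨d3, hd3, e3⟩ := hmap 3
  rw [show (Equiv.swap (2 : Fin 6) 3 * Equiv.swap 3 4 : Equiv.Perm (Fin 6)) (0 : Fin 6) = (0 : Fin 6) by decide +kernel] at e0
  rw [show (Equiv.swap (2 : Fin 6) 3 * Equiv.swap 3 4 : Equiv.Perm (Fin 6)) (1 : Fin 6) = (1 : Fin 6) by decide +kernel] at e1
  rw [show (Equiv.swap (2 : Fin 6) 3 * Equiv.swap 3 4 : Equiv.Perm (Fin 6)) (2 : Fin 6) = (3 : Fin 6) by decide +kernel] at e2
  rw [show (Equiv.swap (2 : Fin 6) 3 * Equiv.swap 3 4 : Equiv.Perm (Fin 6)) (3 : Fin 6) = (4 : Fin 6) by decide +kernel] at e3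
  have hlin : ∀ v w : S.WS, S.rho k (v + w) = S.rho k v + S.rho k w := map_add _
  have h : d0 • c.h 0 + d1 • c.h 1 + d2 • c.h 3 = d3 • c.h 4 := by rw [← e3, c.h3, hlin, hlin, e0, e1, e2, c.h3]
  rw [c.h3, c.h4] at h
  have hh : S.cvec c ![d0 + d2, d1 + d2, d2] =
      S.cvec c ![d3, d3 * K4.zeta, d3 * (K4.zeta + 1)] := by
    simp only [cvec, Matrix.cons_val_zero, Matrix.cons_val_one, Matrix.cons_val]
    simp only [smul_add, smul_smul] at h
    rw [← h]
    simp only [add_smul]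
    abel
  have hx := S.cvec_injective c hh
  have q0 : d0 + d2 = d3 := congrFun hx 0
  have q1 : d1 + d2 = d3 * K4.zeta := congrFun hx 1
  have q2 : d2 = d3 * (K4.zeta + 1) := congrFun hx 2
  have key : ∀ d0 d1 d2 d3 : K4, d0 + d2 = d3 → d1 + d2 = d3 * K4.zeta → d2 = d3 * (K4.zeta + 1) →
      d1 = d0 * (K4.zeta + 1) := by decide +kernel
  have hd : d1 = d0 * (K4.zeta + 1) := key d0 d1 d2 d3 q0 q1 q2
  have hpow : ∀ m : ℕ, ∃ s : K4, s ≠ 0 ∧
      S.rho (k ^ m) (c.h 0 + c.h 1) = s • (c.h 0 + (K4.zeta + 1) ^ m • c.h 1) := by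
    intro m
    induction m with
    | zero => exact ⟨1, one_ne_zero, by rw [pow_zero, map_one, pow_zero, one_smul, one_smul]; rfl⟩
    | succ m ih =>
      obtain ⟨s, hs, hm⟩ := ih
      refine ⟨s * d0, mul_ne_zero hs hd0, ?_⟩
      rw [pow_succ', map_mul, LinearEquiv.mul_apply, hm,
        show S.rho k (s • (c.h 0 + (K4.zeta + 1) ^ m • c.h 1)) = s • S.rho k (c.h 0 + (K4.zeta + 1) ^ m • c.h 1)
          from map_smul (S.linK hi) s _,
        hlin, show S.rho k ((K4.zeta + 1) ^ m • c.h 1) = (K4.zeta + 1) ^ m • S.rho k (c.h 1) from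
          map_smul (S.linK hi) _ _, e0, e1, hd]
      simp only [smul_add, smul_smul]
      congr 2
      ring
  have hcase : ∀ t : K4, t ≠ 0 → t = (K4.zeta + 1) ^ 0 ∨ t = (K4.zeta + 1) ^ 1 ∨ t = (K4.zeta + 1) ^ 2 := by
    decide +kernel
  have hst : S.κ k ∈ stabO o := stab0_le_stabO o hk
  rcases hcase t ht with e | e | e
  · obtain ⟨s, hs, hm⟩ := hpow 0
    exact ⟨k ^ 0, s, hs, by rw [map_pow]; exact pow_mem hst _, by rw [hm, ← e]⟩
  · obtain ⟨s, hs, hm⟩ := hpow 1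
    exact ⟨k ^ 1, s, hs, by rw [map_pow]; exact pow_mem hst _, by rw [hm, ← e]⟩
  · obtain ⟨s, hs, hm⟩ := hpow 2
    exact ⟨k ^ 2, s, hs, by rw [map_pow]; exact pow_mem hst _, by rw [hm, ← e]⟩

theorem Up_trans {x y : ↥(Cz z)} (hx : x ∈ S.UpSet c) (hy : y ∈ S.UpSet c) : S.conjH o x y := by
  -- every such vector is a scalar multiple of an image of `h 0 + h 1`
  have hall : ∀ i j s t, i ≠ j → s ≠ (0 : K4) → t ≠ (0 : K4) →
      ∃ k : ↥(Cz z), S.κ k ∈ stabO o ∧ S.rho k (c.h 0 + c.h 1) = s • c.h i + t • c.h j := by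
    intro i j s t hij hs ht
    obtain ⟨l, m, hl1, hl2, hm1, hm2, hlm⟩ := (by decide : ∀ i j : Fin 6,
      ∃ l m, i ≠ l ∧ j ≠ l ∧ i ≠ m ∧ j ≠ m ∧ l ≠ m) i j
    obtain ⟨π, hπ, p0, p1, -⟩ := exists_even_map i j l m hij hl1 hm1 hl2 hm2 hlm
    obtain ⟨k, hi, hk, hmap, -⟩ := c.equiv π hπ
    obtain ⟨d0, hd0, e0⟩ := hmap 0
    obtain ⟨d1, hd1, e1⟩ := hmap 1
    rw [p0] at e0; rw [p1] at e1
    obtain ⟨k', r, hr, hk', hv⟩ := S.Up_std ho (c := c) (t * d1⁻¹ * (s * d0⁻¹)⁻¹)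
      (mul_ne_zero (mul_ne_zero ht (inv_ne_zero hd1)) (inv_ne_zero (mul_ne_zero hs (inv_ne_zero hd0))))
    obtain ⟨g, hg, hgv⟩ := S.exists_scalar (v := (r * d0) • c.h i + (r * (t * d1⁻¹ * (s * d0⁻¹)⁻¹) * d1) • c.h j)
      (s := s * (r * d0)⁻¹) (mul_ne_zero hs (inv_ne_zero (mul_ne_zero hr hd0)))
    refine ⟨g * (k * k'), by rw [map_mul, map_mul, hg, one_mul]; exact mul_mem (stab0_le_stabO o hk) hk', ?_⟩
    have h1 : S.rho (k * k') (c.h 0 + c.h 1) =
        (r * d0) • c.h i + (r * (t * d1⁻¹ * (s * d0⁻¹)⁻¹) * d1) • c.h j := by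
      rw [map_mul, LinearEquiv.mul_apply, hv, show ∀ a v, S.rho k (a • v) = a • S.rho k v from
        fun a v => map_smul (S.linK hi) a v, map_add, show ∀ a v, S.rho k (a • v) = a • S.rho k v from
        fun a v => map_smul (S.linK hi) a v, e0, e1, smul_add, smul_smul, smul_smul, smul_smul]
    rw [map_mul, LinearEquiv.mul_apply, h1, hgv, smul_add, smul_smul, smul_smul]
    congr 2
    · field_simp
    · field_simp
  obtain ⟨e, rfl, i, j, s, t, hij, hs, ht, he⟩ := hx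
  obtain ⟨e', rfl, i', j', s', t', hij', hs', ht', he'⟩ := hy
  obtain ⟨k, hk, hkv⟩ := hall i j s t hij hs ht
  obtain ⟨k', hk', hkv'⟩ := hall i' j' s' t' hij' hs' ht'
  refine S.U_conj ho (n := k' * k⁻¹) ?_ (by rw [map_mul, map_inv]; exact mul_mem hk' (inv_mem hk)) ?_
  · rw [he']
    intro h0
    have h1 : s' • c.h i' = t' • c.h j' := by
      rw [eq_neg_of_add_eq_zero_left h0, ZModModule.neg_eq_self]
    exact hij' (S.smul_h_inj c hs' h1).1
  · rw [he, he', ← hkv, ← hkv', map_mul, LinearEquiv.mul_apply, ← LinearEquiv.mul_apply (S.rho k⁻¹), ← map_mul,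
      inv_mul_cancel, map_one]
    rfl

theorem U_cases {x : ↥(Cz z)} (hx : x ∈ S.Vo ho) (hk : S.κ x = 1) :
    x = 1 ∨ x = ⟨z, self_mem_Cz z⟩ ∨ x ∈ S.UhSet c ∨ x ∈ S.UpSet c := by
  have hE := S.mem_E_of_mem_Vo ho hx hk
  have he : S.pr ⟨x, hE⟩ ∈ S.Cfix o := (S.inE_mem_Vo_iff ho ⟨x, hE⟩).1 hx
  by_cases h0 : S.pr ⟨x, hE⟩ = 0
  · rcases (S.pr_eq_zero _).1 h0 with h | h
    · exact Or.inl (Subtype.ext h)
    · exact Or.inr (Or.inl (Subtype.ext h))
  · rcases S.vec_cases c he h0 with ⟨i, s, hs, h⟩ | ⟨i, j, s, t, hij, hs, ht, h⟩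
    · exact Or.inr (Or.inr (Or.inl ⟨⟨x, hE⟩, rfl, i, s, hs, h⟩))
    · exact Or.inr (Or.inr (Or.inr ⟨⟨x, hE⟩, rfl, i, j, s, t, hij, hs, ht, h⟩))

theorem Uh_subset {x : ↥(Cz z)} (hx : x ∈ S.UhSet c) :
    x ∈ S.Vo ho ∧ S.κ x = 1 ∧ x ≠ 1 ∧ x ≠ ⟨z, self_mem_Cz z⟩ := by
  obtain ⟨e, rfl, i, s, hs, he⟩ := hx
  have hne : S.pr e ≠ 0 := by rw [he]; exact smul_ne_zero hs (S.h_ne_zero c i)
  exact ⟨(S.inE_mem_Vo_iff ho e).2 (he ▸ Submodule.smul_mem _ _ (c.mem i)), S.κ_inE e,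
    fun h => hne ((S.pr_eq_zero e).2 (Or.inl (congrArg Subtype.val h :))),
    fun h => hne ((S.pr_eq_zero e).2 (Or.inr (congrArg Subtype.val h :)))⟩

theorem Up_subset {x : ↥(Cz z)} (hx : x ∈ S.UpSet c) :
    x ∈ S.Vo ho ∧ S.κ x = 1 ∧ x ≠ 1 ∧ x ≠ ⟨z, self_mem_Cz z⟩ := by
  obtain ⟨e, rfl, i, j, s, t, hij, hs, ht, he⟩ := hx
  have hne : S.pr e ≠ 0 := by
    rw [he]
    intro h0
    exact hij (S.smul_h_inj c hs (t := t) (j := j) (by
      rw [eq_neg_of_add_eq_zero_left h0, ZModModule.neg_eq_self])).1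
  exact ⟨(S.inE_mem_Vo_iff ho e).2 (he ▸ add_mem (Submodule.smul_mem _ _ (c.mem i))
      (Submodule.smul_mem _ _ (c.mem j))), S.κ_inE e,
    fun h => hne ((S.pr_eq_zero e).2 (Or.inl (congrArg Subtype.val h :))),
    fun h => hne ((S.pr_eq_zero e).2 (Or.inr (congrArg Subtype.val h :)))⟩

theorem Uh_Up_disjoint {x : ↥(Cz z)} (hx : x ∈ S.UhSet c) : x ∉ S.UpSet c := by
  rintro ⟨e', he', i, j, s, t, hij, hs, ht, hp⟩
  obtain ⟨e, rfl, l, r, hr, hq⟩ := hx
  have hee : e' = e := Subtype.ext (congrArg Subtype.val he' :)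
  subst hee
  rw [hq, S.cvec_hco c l, S.cvec_hco c i, S.cvec_hco c j, S.smul_cvec, S.smul_cvec, S.smul_cvec, S.cvec_add] at hp
  have key : ∀ l i j : Fin 6, ∀ r s t : K4, i ≠ j → r ≠ 0 → s ≠ 0 → t ≠ 0 →
      ¬ ∀ k, r * hco l k = s * hco i k + t * hco j k := by decide +kernel
  exact key l i j r s t hij hr hs ht fun k => congrFun (S.cvec_injective c hp) k

theorem ncard_Uh : (S.UhSet c).ncard = 36 := by
  classical
  let T := {p : Fin 6 × K4 // p.2 ≠ 0}
  have hT : Nat.card T = 18 := by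
    rw [show Nat.card T = Nat.card (Fin 6 × {s : K4 // s ≠ 0}) from Nat.card_congr
      { toFun := fun p => (p.1.1, ⟨p.1.2, p.2⟩), invFun := fun p => ⟨(p.1, p.2.1), p.2.2⟩ },
      Nat.card_prod, Nat.card_eq_fintype_card, Nat.card_eq_fintype_card (α := {s : K4 // s ≠ 0}),
      show Fintype.card {s : K4 // s ≠ 0} = 3 by decide +kernel]
    simp
  have hs := S.pr_surjective
  choose sec hsec using hs
  let φ : T × Bool → ↥(S.UhSet c) := fun p =>
    ⟨(bif p.2 then inE (sec (p.1.1.2 • c.h p.1.1.1) * ⟨z, S.z_mem_E⟩) else inE (sec (p.1.1.2 • c.h p.1.1.1))), by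
      rcases p with ⟨⟨⟨i, s⟩, hs⟩, b⟩
      cases b
      · exact ⟨_, rfl, i, s, hs, hsec _⟩
      · exact ⟨_, rfl, i, s, hs, by
          rw [S.pr_mul, hsec, (S.pr_eq_zero ⟨z, S.z_mem_E⟩).2 (Or.inr rfl), add_zero]⟩⟩
  have hpr : ∀ p : T × Bool, ∃ e, inE e = (φ p : ↥(Cz z)) ∧ S.pr e = p.1.1.2 • c.h p.1.1.1 ∧
      (e = sec (S.pr e) ↔ p.2 = false) := by
    rintro ⟨⟨⟨i, s⟩, hs⟩, b⟩
    have hz : S.pr (sec (s • c.h i) * ⟨z, S.z_mem_E⟩) = s • c.h i := by
      rw [S.pr_mul, hsec, (S.pr_eq_zero ⟨z, S.z_mem_E⟩).2 (Or.inr rfl), add_zero]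
    cases b
    · exact ⟨_, rfl, hsec _, by rw [hsec]; simp⟩
    · refine ⟨_, rfl, hz, ?_⟩
      rw [hz]
      exact iff_of_false (fun e => S.z_ne (congrArg Subtype.val (mul_eq_left.1 e) :)) (by simp)
  have hinj : Function.Injective φ := by
    intro p q h
    obtain ⟨e, he, hp, hpb⟩ := hpr p
    obtain ⟨e', he', hq, hqb⟩ := hpr q
    have hee : e = e' := Subtype.ext (congrArg Subtype.val (he.trans ((congrArg Subtype.val h).trans he'.symm)) :)
    subst hee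
    obtain ⟨h1, h2⟩ := S.smul_h_inj c p.1.2 (hp.symm.trans hq)
    refine Prod.ext (Subtype.ext (Prod.ext h1 h2)) ?_
    have := hpb.symm.trans hqb
    revert this
    cases p.2 <;> cases q.2 <;> simp
  have hsurj : Function.Surjective φ := by
    rintro ⟨_, e, rfl, i, s, hs, he⟩
    rcases (S.pr_eq_iff e (sec (s • c.h i))).1 (by rw [he, hsec]) with h | h
    · exact ⟨(⟨(i, s), hs⟩, false), Subtype.ext (Subtype.ext h.symm)⟩
    · exact ⟨(⟨(i, s), hs⟩, true), Subtype.ext (Subtype.ext h.symm)⟩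
  rw [← Nat.card_coe_set_eq, ← Nat.card_congr (Equiv.ofBijective φ ⟨hinj, hsurj⟩), Nat.card_prod, hT]
  simp

theorem ncard_Up : (S.UpSet c).ncard = 90 := by
  classical
  let U : Set ↥(Cz z) := {x | x ∈ S.Vo ho ∧ S.κ x = 1}
  have hU : U.ncard = 128 := by
    rw [← Nat.card_coe_set_eq]
    exact S.natCard_coset ho (one_mem _)
  have hd : Disjoint (S.UhSet c) (S.UpSet c) := Set.disjoint_left.2 fun x hx => S.Uh_Up_disjoint ho hx
  let zH : ↥(Cz z) := ⟨z, self_mem_Cz z⟩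
  have heq : U = {1, zH} ∪ (S.UhSet c ∪ S.UpSet c) := by
    ext x
    constructor
    · rintro ⟨hx, hk⟩
      rcases S.U_cases ho (c := c) hx hk with h | h | h | h
      · exact Or.inl (Or.inl h)
      · exact Or.inl (Or.inr h)
      · exact Or.inr (Or.inl h)
      · exact Or.inr (Or.inr h)
    · rintro ((rfl | rfl) | (h | h))
      · exact ⟨one_mem _, map_one _⟩
      · exact ⟨S.z_mem_Vo ho, S.κ_z⟩
      · exact ⟨(S.Uh_subset ho h).1, (S.Uh_subset ho h).2.1⟩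
      · exact ⟨(S.Up_subset ho h).1, (S.Up_subset ho h).2.1⟩
  have h2 : ({1, zH} : Set ↥(Cz z)).ncard = 2 := Set.ncard_pair fun h => S.z_ne (congrArg Subtype.val h).symm
  have hd2 : Disjoint ({1, zH} : Set ↥(Cz z)) (S.UhSet c ∪ S.UpSet c) := Set.disjoint_left.2 fun x hx h => by
    rcases h with h | h <;> rcases hx with rfl | rfl
    · exact (S.Uh_subset ho h).2.2.1 rfl
    · exact (S.Uh_subset ho h).2.2.2 rfl
    · exact (S.Up_subset ho h).2.2.1 rfl
    · exact (S.Up_subset ho h).2.2.2 rfl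
  rw [heq, Set.ncard_union_eq hd2, Set.ncard_union_eq hd, h2, S.ncard_Uh ho] at hU
  omega

/-! ### The cosets -/

open Classical in
omit ho in
/-- A lift of an element of the octad group commuting with the generator. -/
noncomputable def yF (ho : HexOct o) (a : Equiv.Perm GolayPt) : ↥(Cz z) :=
  if h : a ∈ octadFix o then (S.exists_fixed_coset ho h).choose else 1

theorem yF_spec {a : Equiv.Perm GolayPt} (ha : a ∈ octadFix o) :
    S.yF ho a ∈ S.Vo ho ∧ S.κ (S.yF ho a) = a ∧ (S.yF ho a : G) * S.gen = S.gen * S.yF ho a := by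
  rw [yF, dif_pos ha]
  exact (S.exists_fixed_coset ho ha).choose_spec

omit ho in
theorem conj_fix_z (h : ↥(Cz z)) : (h : G) * z * (h : G)⁻¹ = z := mul_inv_eq_iff_eq_mul.2 (mem_Cz.1 h.2)

/-- Moving by `E` goes into the line. -/
theorem conj_yF_cases {a : Equiv.Perm GolayPt} (ha : a ∈ octadFix o) (f : ↥(Ez z)) :
    ∃ d : ↥(Ez z), S.pr d = S.mv a (S.pr f) ∧ (f : G) * S.yF ho a * (f : G)⁻¹ = S.yF ho a * d := by
  obtain ⟨hy, hk, -⟩ := S.yF_spec ho ha
  set y := S.yF ho a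
  let f' : ↥(Ez z) := ⟨(y : G)⁻¹ * f * y, by simpa using conj_mem_Ez (inv_mem y.2) f.2⟩
  refine ⟨f' * f⁻¹, ?_, by simp [f', mul_assoc]⟩
  have hyi : y⁻¹ = y := inv_eq_of_mul_eq_one_right (S.Vo_sq ho hy)
  have e : S.pr f' = S.rho y (S.pr f) := by
    rw [S.rho_pr]
    congr 1
    refine Subtype.ext ?_
    show (y : G)⁻¹ * f * y = (y : G) * f * (y : G)⁻¹
    rw [show (y : G)⁻¹ = y from congrArg Subtype.val hyi]
  rw [S.pr_mul, S.pr_inv, e, ((S.mem_Vo ho).1 hy).1.2, hk, S.mv_apply (S.fix_M22 ho ha).1 (S.fix_M22 ho ha).2]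

/-- The kernel of `mv a` centralises the lift commuting with the generator. -/
theorem yF_cent {a : Equiv.Perm GolayPt} (ha : a ∈ octadFix o) {f : ↥(Ez z)} (hf : S.mv a (S.pr f) = 0) :
    (f : G) * S.yF ho a = S.yF ho a * f := by
  set y : G := (S.yF ho a : G)
  have hyg : y * S.gen = S.gen * y := (S.yF_spec ho ha).2.2
  have hcase : ∀ f : ↥(Ez z), S.mv a (S.pr f) = 0 →
      (f : G) * y * (f : G)⁻¹ = y ∨ (f : G) * y * (f : G)⁻¹ = y * z := by
    intro f hf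
    obtain ⟨d, hd, he⟩ := S.conj_yF_cases ho ha f
    rw [hf, S.pr_eq_zero] at hd
    rcases hd with hd | hd <;> rw [hd] at he
    · exact Or.inl (by rw [he, mul_one])
    · exact Or.inr he
  rcases hcase f hf with h | h
  · exact mul_inv_eq_iff_eq_mul.1 h
  exfalso
  let g1 : ↥(Ez z) := ⟨S.gen * f * S.gen⁻¹, conj_mem_Ez S.gen_mem f.2⟩
  let g2 : ↥(Ez z) := ⟨S.gen * g1 * S.gen⁻¹, conj_mem_Ez S.gen_mem g1.2⟩
  have hzy : y * z = z * y := mem_Cz.1 (S.yF ho a).2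
  have hgz : S.gen * z * S.gen⁻¹ = z := mul_inv_eq_iff_eq_mul.2 (mem_Cz.1 S.gen_mem)
  have hconj : ∀ u : ↥(Ez z), (u : G) * y * (u : G)⁻¹ = y * z →
      (S.gen * u * S.gen⁻¹) * y * (S.gen * u * S.gen⁻¹)⁻¹ = y * z := by
    intro u hu
    have hg' : S.gen⁻¹ * y * S.gen = y := by rw [mul_assoc, hyg]; group
    calc (S.gen * u * S.gen⁻¹) * y * (S.gen * u * S.gen⁻¹)⁻¹
        = S.gen * ((u : G) * (S.gen⁻¹ * y * S.gen) * (u : G)⁻¹) * S.gen⁻¹ := by group
      _ = (S.gen * y * S.gen⁻¹) * (S.gen * z * S.gen⁻¹) := by rw [hg', hu]; group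
      _ = y * z := by rw [hgz, ← hyg, mul_inv_cancel_right]
  have h1 : (g1 : G) * y * (g1 : G)⁻¹ = y * z := hconj f h
  have h2 : (g2 : G) * y * (g2 : G)⁻¹ = y * z := hconj g1 h1
  have hsum : S.pr (g2 * g1 * f) = 0 := by
    have e1 : S.pr g1 = S.omega (S.pr f) := (S.rho_pr S.genH f).symm
    have e2 : S.pr g2 = S.omega (S.omega (S.pr f)) := by rw [← e1]; exact (S.rho_pr S.genH g1).symm
    rw [S.pr_mul, S.pr_mul, e1, e2]
    exact DFunLike.congr_fun S.omega_relation (S.pr f)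
  have h3 : ((g2 * g1 * f : ↥(Ez z)) : G) * y * ((g2 * g1 * f : ↥(Ez z)) : G)⁻¹ = y := by
    rcases (S.pr_eq_zero _).1 hsum with e | e <;> rw [e]
    · simp
    · rw [← hzy, mul_inv_cancel_right]
  have hz' : ∀ u : ↥(Ez z), (u : G) * z * (u : G)⁻¹ = z := fun u =>
    mul_inv_eq_iff_eq_mul.2 (S.data.z_central u u.2)
  have h4 : ((g2 * g1 * f : ↥(Ez z)) : G) * y * ((g2 * g1 * f : ↥(Ez z)) : G)⁻¹ = y * z * z * z := by
    calc _ = (g2 : G) * ((g1 : G) * ((f : G) * y * (f : G)⁻¹) * (g1 : G)⁻¹) * (g2 : G)⁻¹ := by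
          simp only [Subgroup.coe_mul, mul_inv_rev, mul_assoc]
      _ = ((g2 : G) * ((g1 : G) * y * (g1 : G)⁻¹) * (g2 : G)⁻¹) *
          ((g2 : G) * ((g1 : G) * z * (g1 : G)⁻¹) * (g2 : G)⁻¹) := by rw [h]; group
      _ = (((g2 : G) * y * (g2 : G)⁻¹) * ((g2 : G) * z * (g2 : G)⁻¹)) * ((g2 : G) * z * (g2 : G)⁻¹) := by
          rw [h1, hz' g1]; group
      _ = _ := by rw [h2, hz' g2]
  rw [h3, mul_assoc (y * z), S.z_sq, mul_one] at h4
  exact S.z_ne (mul_eq_left.1 h4.symm)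

/-- The orbit of `E` on the lift: one element over each vector of the line. -/
theorem yF_orbit {a : Equiv.Perm GolayPt} (ha : a ∈ octadFix o) (f f' : ↥(Ez z))
    (h : S.mv a (S.pr f) = S.mv a (S.pr f')) :
    (f : G) * S.yF ho a * (f : G)⁻¹ = (f' : G) * S.yF ho a * (f' : G)⁻¹ := by
  have hc : (((f⁻¹ * f' : ↥(Ez z))) : G) * S.yF ho a = S.yF ho a * ((f⁻¹ * f' : ↥(Ez z)) : G) :=
    S.yF_cent ho ha (by rw [S.pr_mul, S.pr_inv, map_add, h, ZModModule.add_self])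
  rw [Subgroup.coe_mul, InvMemClass.coe_inv] at hc
  calc (f : G) * S.yF ho a * (f : G)⁻¹ = (f : G) * (((f : G)⁻¹ * f') * S.yF ho a * ((f : G)⁻¹ * f')⁻¹) * (f : G)⁻¹ := by
        rw [hc]; group
    _ = _ := by group

omit ho in
/-- Elements over an element of the octad group, in the coset of the line. -/
def ShortSet (ho : HexOct o) : Set ↥(Cz z) :=
  {x | x ∈ S.Vo ho ∧ S.κ x ≠ 1 ∧ ∃ e : ↥(Ez z), S.yF ho (S.κ x) * inE e = x ∧
    S.pr e ∈ LinearMap.range (S.mv (S.κ x))}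

omit ho in
/-- The other elements outside `E`. -/
def LongSet (ho : HexOct o) : Set ↥(Cz z) :=
  {x | x ∈ S.Vo ho ∧ S.κ x ≠ 1 ∧ ∃ e : ↥(Ez z), S.yF ho (S.κ x) * inE e = x ∧
    S.pr e ∉ LinearMap.range (S.mv (S.κ x))}

theorem coset_decomp {x : ↥(Cz z)} (hx : x ∈ S.Vo ho) :
    ∃ e : ↥(Ez z), S.yF ho (S.κ x) * inE e = x ∧ S.pr e ∈ S.Cfix o := by
  have ha := ((S.mem_Vo ho).1 hx).1.1
  obtain ⟨hy, hk, -⟩ := S.yF_spec ho ha
  have hu : (S.yF ho (S.κ x))⁻¹ * x ∈ S.Vo ho := mul_mem (inv_mem hy) hx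
  have hE := S.mem_E_of_mem_Vo ho hu (by rw [map_mul, map_inv, hk, inv_mul_cancel])
  exact ⟨⟨_, hE⟩, by
    show S.yF ho (S.κ x) * ((S.yF ho (S.κ x))⁻¹ * x) = x
    rw [mul_inv_cancel_left], (S.inE_mem_Vo_iff ho _).1 hu⟩

theorem coset_cases {x : ↥(Cz z)} (hx : x ∈ S.Vo ho) (hk : S.κ x ≠ 1) :
    x ∈ S.ShortSet ho ∨ x ∈ S.LongSet ho := by
  obtain ⟨e, he, -⟩ := S.coset_decomp ho hx
  by_cases h : S.pr e ∈ LinearMap.range (S.mv (S.κ x))
  · exact Or.inl ⟨hx, hk, e, he, h⟩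
  · exact Or.inr ⟨hx, hk, e, he, h⟩

theorem short_long_disjoint {x : ↥(Cz z)} (hx : x ∈ S.ShortSet ho) : x ∉ S.LongSet ho := by
  rintro ⟨-, -, e', he', hn⟩
  obtain ⟨-, -, e, he, hm⟩ := hx
  have : inE e = inE e' := mul_left_cancel (he.trans he'.symm)
  refine hn ?_
  rw [← show e = e' from Subtype.ext (congrArg Subtype.val this :)]
  exact hm

/-- The kernel of `mv a` is the orthogonal space of its image. -/
theorem exists_ker_beta {a : Equiv.Perm GolayPt} (ha : a ∈ octadFix o) (ha1 : a ≠ 1) {w : S.WS}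
    (hw : w ∉ LinearMap.range (S.mv a)) : ∃ k, S.mv a k = 0 ∧ S.beta k w = 1 := by
  by_contra hh
  push Not at hh
  let M : Submodule (ZMod 2) S.WS :=
    { toAddSubmonoid := (LinearMap.ker (S.mv a)).toAddSubmonoid
      smul_mem' := fun t v hv => by
        rcases LargeExtraspecial.OutForm.two_cases t with rfl | rfl
        · rw [zero_smul]; exact (LinearMap.ker (S.mv a)).zero_mem
        · rw [one_smul]; exact hv }
  have hnd : S.beta.Nondegenerate := ⟨fun v h => S.beta_nondeg v h,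
    fun v h => S.beta_nondeg v fun w => (S.beta_comm v w).trans (h w)⟩
  have hW : Module.finrank (ZMod 2) S.WS = 12 := by
    have h := Module.natCard_eq_pow_finrank (K := ZMod 2) (V := S.WS)
    rw [S.card_WS, Nat.card_zmod] at h
    exact (Nat.pow_right_injective (le_refl 2) h).symm
  have hM : Module.finrank (ZMod 2) M = 8 := by
    have h := Module.natCard_eq_pow_finrank (K := ZMod 2) (V := ↥M)
    rw [show Nat.card ↥M = 256 by
      show Nat.card ↥(LinearMap.ker (S.mv a)) = 256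
      rw [natCard_eq_four_pow, S.finrank_ker_mv ho ha ha1]; norm_num, Nat.card_zmod,
      show 256 = 2 ^ 8 by norm_num] at h
    exact (Nat.pow_right_injective (le_refl 2) h).symm
  have hsub : (LinearMap.range (S.mv a) : Set S.WS) ⊆ (S.beta.orthogonal M : Set S.WS) := by
    rintro _ ⟨u, rfl⟩ v hv
    show S.beta v (S.mv a u) = 0
    rw [← S.beta_mv (S.fix_M22 ho ha).1 (S.fix_M22 ho ha).2, LinearMap.mem_ker.1 hv, map_zero,
      LinearMap.zero_apply]
  have heq : (LinearMap.range (S.mv a) : Set S.WS) = (S.beta.orthogonal M : Set S.WS) := by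
    refine Set.eq_of_subset_of_ncard_le hsub ?_ (Set.toFinite _)
    rw [← Nat.card_coe_set_eq, ← Nat.card_coe_set_eq]
    show Nat.card ↥(S.beta.orthogonal M) ≤ Nat.card ↥(LinearMap.range (S.mv a))
    rw [natCard_eq_four_pow (U := ↥(LinearMap.range (S.mv a))), S.finrank_range_mv ho ha ha1, Module.natCard_eq_pow_finrank (K := ZMod 2),
      Nat.card_zmod, LinearMap.BilinForm.finrank_orthogonal hnd, hW, hM]
    norm_num
  refine hw ?_
  rw [← SetLike.mem_coe, heq]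
  intro v hv
  exact (LargeExtraspecial.OutForm.two_cases _).resolve_right (hh v (LinearMap.mem_ker.1 hv))

/-- Short elements are conjugate to a lift or to its product with `z`. -/
theorem short_cases {a : Equiv.Perm GolayPt} (ha : a ∈ octadFix o) (ha1 : a ≠ 1) {x : ↥(Cz z)}
    (hx : x ∈ S.ShortSet ho) : S.conjH o (S.yF ho a) x ∨ S.conjH o (S.yF ho a * ⟨z, self_mem_Cz z⟩) x := by
  obtain ⟨hxV, hk1, e, he, hm⟩ := hx
  have hb := ((S.mem_Vo ho).1 hxV).1.1
  obtain ⟨g, hg, hgab⟩ := ho.exists_conj_octadFix ha ha1 hb hk1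
  obtain ⟨k, hkn, hkk⟩ := S.frattini' (m22_le_pairStab hg.1)
  have hkg : Commute (k : G) S.gen := (S.inner k hkn).1 (by rw [hkk]; exact hg.1.1.2)
  have hkst : S.κ k ∈ stabO o := hkk ▸ stab0_le_stabO o hg
  obtain ⟨hy, hyk, hyg⟩ := S.yF_spec ho ha
  obtain ⟨hy', hyk', hyg'⟩ := S.yF_spec ho hb
  set b := S.κ x
  -- conjugation carries lift to lift up to `z`
  have h1 : k * S.yF ho a * k⁻¹ = S.yF ho b ∨ k * S.yF ho a * k⁻¹ = S.yF ho b * ⟨z, self_mem_Cz z⟩ := by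
    set w := k * S.yF ho a * k⁻¹
    have hw : w ∈ S.Vo ho := S.conj_mem_Vo ho hkst hy
    have hwk : S.κ w = b := by simp only [w, map_mul, map_inv, hkk, hyk]; exact hgab
    have hwg : Commute (w : G) S.gen := (hkg.mul_left hyg).mul_left hkg.inv_left
    have hu : (S.yF ho b)⁻¹ * w ∈ S.Vo ho := mul_mem (inv_mem hy') hw
    have hE := S.mem_E_of_mem_Vo ho hu (by rw [map_mul, map_inv, hyk', hwk, inv_mul_cancel])
    rcases S.fix _ hE ((show Commute (S.yF ho b : G) S.gen from hyg').inv_left.mul_left hwg).eq with e1 | e1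
    · exact Or.inl (inv_mul_eq_one.1 (Subtype.ext e1 : (S.yF ho b)⁻¹ * w = 1)).symm
    · exact Or.inr (inv_mul_eq_iff_eq_mul.1 (Subtype.ext e1 : (S.yF ho b)⁻¹ * w = ⟨z, self_mem_Cz z⟩))
  obtain ⟨u, hu⟩ := hm
  obtain ⟨f, rfl⟩ := S.pr_surjective u
  obtain ⟨d, hd, hfd⟩ := S.conj_yF_cases ho hb f
  have hfd' : inE f * S.yF ho b * (inE f)⁻¹ = S.yF ho b * inE d := Subtype.ext hfd
  let zH : ↥(Cz z) := ⟨z, self_mem_Cz z⟩
  have hzc : ∀ w : ↥(Cz z), w * zH * w⁻¹ = zH := fun w => Subtype.ext (S.conj_fix_z w)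
  have hzz : zH * zH = 1 := Subtype.ext S.z_sq
  have hstf : S.κ (inE f * k) ∈ stabO o := by rw [map_mul, S.κ_inE, one_mul]; exact hkst
  have hsplit : ∀ p q : ↥(Cz z), (inE f * k) * (p * q) * (inE f * k)⁻¹ =
      (inE f * k) * p * (inE f * k)⁻¹ * ((inE f * k) * q * (inE f * k)⁻¹) := fun p q => by group
  have himg : (inE f * k) * S.yF ho a * (inE f * k)⁻¹ = x ∨
      (inE f * k) * S.yF ho a * (inE f * k)⁻¹ = x * zH := by
    have hde : inE d = inE e ∨ inE d = inE e * zH := by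
      rcases (S.pr_eq_iff d e).1 (hd.trans hu) with h | h
      · exact Or.inl (Subtype.ext h)
      · exact Or.inr (Subtype.ext h)
    rcases h1 with h1 | h1
    · rw [show (inE f * k) * S.yF ho a * (inE f * k)⁻¹ = inE f * (k * S.yF ho a * k⁻¹) * (inE f)⁻¹ by group,
        h1, hfd']
      rcases hde with h | h <;> rw [h]
      · exact Or.inl he
      · exact Or.inr (by rw [← mul_assoc, he])
    · rw [show (inE f * k) * S.yF ho a * (inE f * k)⁻¹ = inE f * (k * S.yF ho a * k⁻¹) * (inE f)⁻¹ by group, h1,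
        show inE f * (S.yF ho b * zH) * (inE f)⁻¹ = inE f * S.yF ho b * (inE f)⁻¹ * (inE f * zH * (inE f)⁻¹) by group,
        hzc, hfd']
      rcases hde with h | h <;> rw [h]
      · exact Or.inr (by rw [he])
      · exact Or.inl (by rw [← mul_assoc, he, mul_assoc, hzz, mul_one])
  rcases himg with h | h
  · exact Or.inl ⟨_, hstf, h⟩
  · refine Or.inr ⟨_, hstf, ?_⟩
    rw [hsplit, hzc, h, mul_assoc, hzz, mul_one]

/-- The short elements over one element reachable from a lift: at least sixteen. -/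
theorem short_orbit_large {y : ↥(Cz z)} (hy : y ∈ S.ShortSet ho) :
    240 ≤ {x : ↥(Cz z) | S.conjH o y x}.ncard := by
  classical
  have hxV := hy.1
  have ha := ((S.mem_Vo ho).1 hxV).1.1
  have ha1 := hy.2.1
  set a := S.κ y
  let N := {b : ↥(octadFix o) // (b : Equiv.Perm GolayPt) ≠ 1}
  have hN : Nat.card N = 15 := by
    haveI := Fintype.ofFinite ↥(octadFix o)
    rw [Nat.card_eq_fintype_card, Fintype.card_subtype,
      show (Finset.univ.filter fun c : ↥(octadFix o) => (c : Equiv.Perm GolayPt) ≠ 1) =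
        Finset.univ.erase 1 by ext; simp, Finset.card_erase_of_mem (Finset.mem_univ _), Finset.card_univ,
      ← Nat.card_eq_fintype_card, natCard_octadFix ho.mem]
  -- over each element of the octad group, a conjugate, moved by `E`
  have hone : ∀ b : N, ∃ x : ↥(Cz z), S.conjH o y x ∧ S.κ x = (b : ↥(octadFix o)) := fun b => by
    obtain ⟨g, hg, hgab⟩ := ho.exists_conj_octadFix ha ha1 b.1.2 b.2
    obtain ⟨k, -, hkk⟩ := S.frattini' (m22_le_pairStab hg.1)
    exact ⟨k * y * k⁻¹, ⟨k, hkk ▸ stab0_le_stabO o hg, rfl⟩, by rw [map_mul, map_mul, map_inv, hkk]; exact hgab⟩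
  choose rep hrep hrepk using hone
  let L : N → Type _ := fun b => ↥(LinearMap.range (S.mv ((b : ↥(octadFix o)) : Equiv.Perm GolayPt)))
  have hpre : ∀ (b : N) (l : L b), ∃ f : ↥(Ez z), S.mv ((b : ↥(octadFix o)) : Equiv.Perm GolayPt) (S.pr f) = l.1 := by
    rintro b ⟨l, u, hu⟩
    obtain ⟨f, rfl⟩ := S.pr_surjective u
    exact ⟨f, hu⟩
  choose pre hpre using hpre
  let φ : (Σ b : N, L b) → ↥{x : ↥(Cz z) | S.conjH o y x} := fun p =>
    ⟨inE (pre p.1 p.2) * rep p.1 * (inE (pre p.1 p.2))⁻¹,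
      S.conjH_trans (hrep p.1) ⟨inE _, by rw [S.κ_inE]; exact one_mem _, rfl⟩⟩
  have hrepV : ∀ b, rep b ∈ S.Vo ho := fun b => by
    obtain ⟨n, hn, e⟩ := hrep b
    rw [← e]; exact S.conj_mem_Vo ho hn hxV
  have hd : ∀ (b : N) (f : ↥(Ez z)), ∃ d : ↥(Ez z),
      S.pr d = S.mv ((b : ↥(octadFix o)) : Equiv.Perm GolayPt) (S.pr f) ∧
      inE f * rep b * (inE f)⁻¹ = rep b * inE d := by
    intro b f
    let f' : ↥(Ez z) := ⟨(rep b : G)⁻¹ * f * rep b, by simpa using conj_mem_Ez (inv_mem (rep b).2) f.2⟩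
    refine ⟨f' * f⁻¹, ?_, Subtype.ext (by simp [f', mul_assoc])⟩
    have hyi : (rep b)⁻¹ = rep b := inv_eq_of_mul_eq_one_right (S.Vo_sq ho (hrepV b))
    have e : S.pr f' = S.rho (rep b) (S.pr f) := by
      rw [S.rho_pr]
      congr 1
      refine Subtype.ext ?_
      show (rep b : G)⁻¹ * f * rep b = (rep b : G) * f * (rep b : G)⁻¹
      rw [show (rep b : G)⁻¹ = rep b from congrArg Subtype.val hyi]
    rw [S.pr_mul, S.pr_inv, e, ((S.mem_Vo ho).1 (hrepV b)).1.2, hrepk,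
      S.mv_apply (S.fix_M22 ho b.1.2).1 (S.fix_M22 ho b.1.2).2]
  have hinj : Function.Injective φ := by
    rintro ⟨b, l⟩ ⟨b', l'⟩ h
    have h' : inE (pre b l) * rep b * (inE (pre b l))⁻¹ = inE (pre b' l') * rep b' * (inE (pre b' l'))⁻¹ :=
      congrArg Subtype.val h
    have hb : b = b' := by
      have := congrArg S.κ h'
      simp only [map_mul, map_inv, S.κ_inE, hrepk, one_mul, inv_one, mul_one] at this
      exact Subtype.ext (Subtype.ext this)
    subst hb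
    obtain ⟨d, hd1, hd2⟩ := hd b (pre b l)
    obtain ⟨d', hd1', hd2'⟩ := hd b (pre b l')
    rw [hd2, hd2'] at h'
    have hdd : d = d' := Subtype.ext (congrArg Subtype.val (mul_left_cancel h') :)
    rw [hdd] at hd1
    have : l = l' := Subtype.ext (by rw [← hpre b l, ← hd1, hd1', hpre b l'])
    rw [this]
  rw [← Nat.card_coe_set_eq]
  refine le_trans (le_of_eq ?_) (Nat.card_le_card_of_injective φ hinj)
  haveI : Fintype N := Fintype.ofFinite N
  rw [Nat.card_sigma, Finset.sum_congr rfl fun b _ => show Nat.card (L b) = 16 by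
      show Nat.card ↥(LinearMap.range (S.mv ((b : ↥(octadFix o)) : Equiv.Perm GolayPt))) = 16
      rw [natCard_eq_four_pow, S.finrank_range_mv ho b.1.2 b.2]; norm_num,
    Finset.sum_const, Finset.card_univ, ← Nat.card_eq_fintype_card, hN]
  rfl

/-- The long elements form one class. -/
theorem long_trans {x x' : ↥(Cz z)} (hx : x ∈ S.LongSet ho) (hx' : x' ∈ S.LongSet ho) : S.conjH o x x' := by
  obtain ⟨hxV, hxk, e, he, hm⟩ := hx
  obtain ⟨hxV', hxk', e', he', hm'⟩ := hx'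
  have ha := ((S.mem_Vo ho).1 hxV).1.1
  have hb := ((S.mem_Vo ho).1 hxV').1.1
  set b := S.κ x'
  obtain ⟨g, hg, hgab⟩ := ho.exists_conj_octadFix ha hxk hb hxk'
  obtain ⟨k, -, hkk⟩ := S.frattini' (m22_le_pairStab hg.1)
  have hkst : S.κ k ∈ stabO o := hkk ▸ stab0_le_stabO o hg
  have hki : k ∈ S.innerH := by show S.κ k ∈ Spor.M22; rw [hkk]; exact hg.1
  obtain ⟨hy, hyk, -⟩ := S.yF_spec ho ha
  obtain ⟨hy', hyk', -⟩ := S.yF_spec ho hb
  obtain ⟨r, hr, hrC⟩ := S.coset_decomp ho (S.conj_mem_Vo ho hkst hxV)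
  have hκ1 : S.κ (k * x * k⁻¹) = b := by rw [map_mul, map_mul, map_inv, hkk]; exact hgab
  rw [hκ1] at hr
  refine S.conjH_trans ⟨k, hkst, rfl⟩ ?_
  have hrC' : S.pr e' ∈ S.Cfix o := by
    obtain ⟨e2, he2, hC⟩ := S.coset_decomp ho hxV'
    rwa [show e' = e2 from Subtype.ext (congrArg Subtype.val (mul_left_cancel (he'.trans he2.symm)) :)]
  have hrL : S.pr r ∉ LinearMap.range (S.mv b) := by
    intro hh
    apply hm
    -- pull back
    obtain ⟨s0, hs0, hs0C⟩ := S.coset_decomp ho (S.conj_mem_Vo ho hkst hy)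
    have hκy : S.κ (k * S.yF ho (S.κ x) * k⁻¹) = b := by rw [map_mul, map_mul, map_inv, hkk, hyk]; exact hgab
    rw [hκy] at hs0
    let ek : ↥(Ez z) := ⟨(k : G) * e * (k : G)⁻¹, conj_mem_Ez k.2 e.2⟩
    have hrr : r = s0 * ek := by
      refine Subtype.ext (congrArg Subtype.val (mul_left_cancel (a := S.yF ho b) (b := inE r)
        (c := inE s0 * inE ek) ?_) :)
      rw [← mul_assoc, hr, hs0]
      conv_lhs => rw [← he]
      exact Subtype.ext (by simp [ek, mul_assoc])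
    have hs0m : S.pr s0 ∈ LinearMap.range (S.mv b) := by
      obtain ⟨y0, hy0⟩ : ∃ y0 : ↥(Ez z), True := ⟨1, trivial⟩
      have hg1 : S.pr s0 = 0 ∨ S.pr s0 ∈ LinearMap.range (S.mv b) := by
        obtain ⟨kn, hknn, hknk⟩ := S.frattini' (S.κ_mem k)
        have hkg : Commute (kn : G) S.gen := (S.inner kn hknn).1 (by rw [hknk, hkk]; exact hg.1.1.2)
        obtain ⟨n0, hn0⟩ := S.rho_of_κ_one (h := kn⁻¹ * k) (by rw [map_mul, map_inv, hknk, inv_mul_cancel])
        have hE' : ∃ (f : ↥(Ez z)) (n : ℕ), (k : G) = (kn : G) * (f : G) * S.gen ^ n := by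
          obtain ⟨f, hf, n, hn⟩ := (S.κ_ker (kn⁻¹ * k)).1 (by rw [map_mul, map_inv, hknk, inv_mul_cancel])
          refine ⟨⟨f, hf⟩, n, ?_⟩
          have : (kn : G)⁻¹ * k = f * S.gen ^ n := hn
          rw [mul_assoc, ← this, mul_inv_cancel_left]
        obtain ⟨f, n, hkf⟩ := hE'
        have hyg := (S.yF_spec ho ha).2.2
        obtain ⟨d, hd, hfd⟩ := S.conj_yF_cases ho ha f
        let dk : ↥(Ez z) := ⟨(kn : G) * d * (kn : G)⁻¹, conj_mem_Ez kn.2 d.2⟩
        have hkn' : S.κ kn ∈ stabO o := hknk ▸ hkst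
        have hw : ((k * S.yF ho (S.κ x) * k⁻¹ : ↥(Cz z)) : G) =
            ((kn * S.yF ho (S.κ x) * kn⁻¹ : ↥(Cz z)) : G) * dk := by
          have hgn : S.gen ^ n * (S.yF ho (S.κ x) : G) * (S.gen ^ n)⁻¹ = S.yF ho (S.κ x) :=
            mul_inv_eq_iff_eq_mul.2 ((show Commute (S.gen) (S.yF ho (S.κ x) : G) from hyg.symm).pow_left n).eq
          simp only [Subgroup.coe_mul, InvMemClass.coe_inv, dk, hkf]
          calc (kn : G) * f * S.gen ^ n * (S.yF ho (S.κ x) : G) * ((kn : G) * f * S.gen ^ n)⁻¹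
              = (kn : G) * ((f : G) * (S.gen ^ n * (S.yF ho (S.κ x) : G) * (S.gen ^ n)⁻¹) * (f : G)⁻¹) *
                (kn : G)⁻¹ := by group
            _ = _ := by rw [hgn, hfd]; group
        set w := kn * S.yF ho (S.κ x) * kn⁻¹
        have hwV : w ∈ S.Vo ho := S.conj_mem_Vo ho hkn' hy
        have hwk : S.κ w = b := by simp only [w, map_mul, map_inv, hknk, hkk, hyk]; exact hgab
        have hwg : Commute (w : G) S.gen := (hkg.mul_left hyg).mul_left hkg.inv_left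
        have hu : (S.yF ho b)⁻¹ * w ∈ S.Vo ho := mul_mem (inv_mem hy') hwV
        have hE := S.mem_E_of_mem_Vo ho hu (by rw [map_mul, map_inv, hyk', hwk, inv_mul_cancel])
        have hfix := S.fix _ hE
          ((show Commute (S.yF ho b : G) S.gen from (S.yF_spec ho hb).2.2).inv_left.mul_left hwg).eq
        have hs : s0 = ⟨_, hE⟩ * dk := by
          refine Subtype.ext ?_
          have h3 : (S.yF ho b : G) * s0 = (w : G) * dk := (congrArg Subtype.val hs0).trans hw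
          show (s0 : G) = (S.yF ho b : G)⁻¹ * w * dk
          rw [mul_assoc, ← h3, inv_mul_cancel_left]
        right
        rw [hs, S.pr_mul, (S.pr_eq_zero ⟨_, hE⟩).2 hfix, zero_add]
        have hdk : S.pr dk = S.rho kn (S.pr d) := (S.rho_pr kn d).symm
        rw [hdk, hd, ← hgab, ← hknk.trans hkk, S.rho_mv ho kn hkn' ha]
        exact ⟨_, rfl⟩
      rcases hg1 with h | h
      · rw [h]; exact zero_mem _
      · exact h
    have hek : S.pr ek ∈ LinearMap.range (S.mv b) := by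
      have : S.pr ek = S.pr r + S.pr s0 := by
        rw [hrr, S.pr_mul, add_comm (S.pr s0), add_assoc, ZModModule.add_self, add_zero]
      rw [this]; exact add_mem hh hs0m
    rw [show S.pr ek = S.linK hki (S.pr e) from (S.rho_pr k e).symm, ← hgab, ← hkk,
      ← S.range_mv_conj ho hki hkst ha, Submodule.mem_map] at hek
    obtain ⟨v, hv, hv'⟩ := hek
    rwa [S.linK_injective hki hv'] at hv
  -- now over the same element of the octad group
  set x1 := k * x * k⁻¹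
  obtain ⟨t, ht0, ht⟩ : ∃ t : K4, t ≠ 0 ∧ S.pr e' + t • S.pr r ∈ LinearMap.range (S.mv b) := by
    let L := LinearMap.range (S.mv b)
    have hLC : L ≤ S.Cfix o := S.range_mv_le ho hb
    have hsup : L ⊔ Submodule.span K4 {S.pr r} = S.Cfix o := by
      refine Submodule.eq_of_le_of_finrank_le (sup_le hLC ((Submodule.span_singleton_le_iff_mem _ _).2 hrC)) ?_
      rw [S.finrank_Cfix ho]
      have h1 : L < L ⊔ Submodule.span K4 {S.pr r} := lt_of_le_not_ge le_sup_left fun h =>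
        hrL (h (Submodule.mem_sup_right (Submodule.mem_span_singleton_self _)))
      have := Submodule.finrank_lt_finrank_of_lt h1
      rw [S.finrank_range_mv ho hb hxk'] at this
      omega
    obtain ⟨l, hl, s, hs, hls⟩ := Submodule.mem_sup.1 (hsup.symm ▸ hrC')
    obtain ⟨t, rfl⟩ := Submodule.mem_span_singleton.1 hs
    refine ⟨t, fun h0 => hm' ?_, ?_⟩
    · rw [← hls, h0, zero_smul, add_zero]; exact hl
    · rw [← hls, add_assoc, ZModModule.add_self, add_zero]; exact hl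
  obtain ⟨g0, hg0, hg0r⟩ := S.exists_scalar (v := S.pr r) ht0
  have hg0s : S.κ g0 ∈ stabO o := by rw [hg0]; exact one_mem _
  obtain ⟨r1, hr1, hr1C⟩ := S.coset_decomp ho (S.conj_mem_Vo ho hg0s (S.conj_mem_Vo ho hkst hxV))
  have hκ2 : S.κ (g0 * x1 * g0⁻¹) = b := by rw [map_mul, map_mul, map_inv, hg0, one_mul, inv_one, mul_one, hκ1]
  rw [hκ2] at hr1
  refine S.conjH_trans ⟨g0, hg0s, rfl⟩ ?_
  obtain ⟨f0, hf0, n, hn⟩ := (S.κ_ker g0).1 hg0
  obtain ⟨d, hd, hfd⟩ := S.conj_yF_cases ho hb ⟨f0, hf0⟩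
  have hr1pr : S.pr e' + S.pr r1 ∈ LinearMap.range (S.mv b) := by
    have hgn : S.gen ^ n * (S.yF ho b : G) * (S.gen ^ n)⁻¹ = S.yF ho b :=
      mul_inv_eq_iff_eq_mul.2 ((show Commute S.gen (S.yF ho b : G) from (S.yF_spec ho hb).2.2.symm).pow_left n).eq
    let rg : ↥(Ez z) := ⟨(g0 : G) * r * (g0 : G)⁻¹, conj_mem_Ez g0.2 r.2⟩
    have hrr : r1 = d * rg := by
      refine Subtype.ext ?_
      have h3 : (S.yF ho b : G) * r1 = (g0 : G) * ((S.yF ho b : G) * r) * (g0 : G)⁻¹ :=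
        (congrArg Subtype.val hr1).trans (by rw [show k * x * k⁻¹ = S.yF ho b * inE r from hr.symm]; rfl)
      apply mul_left_cancel (a := (S.yF ho b : G))
      rw [h3]
      show (g0 : G) * ((S.yF ho b : G) * r) * (g0 : G)⁻¹ = (S.yF ho b : G) * ((d : G) * ((g0 : G) * r * (g0 : G)⁻¹))
      calc (g0 : G) * ((S.yF ho b : G) * r) * (g0 : G)⁻¹
          = ((g0 : G) * (S.yF ho b : G) * (g0 : G)⁻¹) * ((g0 : G) * r * (g0 : G)⁻¹) := by group
        _ = _ := by
          rw [show (g0 : G) * (S.yF ho b : G) * (g0 : G)⁻¹ =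
            f0 * (S.gen ^ n * (S.yF ho b : G) * (S.gen ^ n)⁻¹) * f0⁻¹ by rw [hn]; group, hgn, hfd, mul_assoc]
    rw [hrr, S.pr_mul, show S.pr rg = S.rho g0 (S.pr r) from (S.rho_pr g0 r).symm, hg0r, add_left_comm]
    exact add_mem (hd ▸ ⟨_, rfl⟩) ht
  obtain ⟨u, hu⟩ := hr1pr
  obtain ⟨f, rfl⟩ := S.pr_surjective u
  obtain ⟨kk, hkk0, hkk1⟩ := S.exists_ker_beta ho hb hxk' (w := S.pr r1) (by
    intro hh
    apply hm'
    have := add_mem (show S.pr e' + S.pr r1 ∈ LinearMap.range (S.mv b) from hu ▸ ⟨_, rfl⟩) hh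
    rwa [add_assoc, ZModModule.add_self, add_zero] at this)
  obtain ⟨fk, rfl⟩ := S.pr_surjective kk
  obtain ⟨d', hd', hfd'⟩ := S.conj_yF_cases ho hb f
  set x2 := g0 * x1 * g0⁻¹
  have hmove : (f : G) * x2 * (f : G)⁻¹ = (x' : G) ∨ (f : G) * x2 * (f : G)⁻¹ = (x' : G) * z := by
    let fr : ↥(Ez z) := d' * ⟨(f : G) * r1 * (f : G)⁻¹, conj_mem_Ez (Ez_le_Cz z f.2) r1.2⟩
    have h4 : (f : G) * x2 * (f : G)⁻¹ = (S.yF ho b : G) * fr := by
      rw [show (x2 : G) = (S.yF ho b : G) * r1 from (congrArg Subtype.val hr1).symm]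
      calc (f : G) * ((S.yF ho b : G) * r1) * (f : G)⁻¹
          = ((f : G) * (S.yF ho b : G) * (f : G)⁻¹) * ((f : G) * r1 * (f : G)⁻¹) := by group
        _ = _ := by rw [hfd']; simp [fr, mul_assoc]
    have hp : S.pr fr = S.pr e' := by
      rw [S.pr_mul, hd', hu, show S.pr (⟨(f : G) * r1 * (f : G)⁻¹, conj_mem_Ez (Ez_le_Cz z f.2) r1.2⟩ : ↥(Ez z)) =
        S.rho (inE f) (S.pr r1) from (S.rho_pr (inE f) r1).symm, S.rho_of_mem (h := inE f) f.2]
      show S.pr e' + S.pr r1 + S.pr r1 = S.pr e'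
      rw [add_assoc, ZModModule.add_self, add_zero]
    have hx'e : (x' : G) = (S.yF ho b : G) * e' := (congrArg Subtype.val he').symm
    rcases (S.pr_eq_iff fr e').1 hp with h | h
    · exact Or.inl (by rw [h4, h, hx'e])
    · exact Or.inr (by rw [h4, h, hx'e, mul_assoc])
  rcases hmove with h | h
  · exact ⟨inE f, by rw [S.κ_inE]; exact one_mem _, Subtype.ext h⟩
  · refine ⟨inE f * inE fk, by rw [map_mul, S.κ_inE, S.κ_inE, mul_one]; exact one_mem _, Subtype.ext ?_⟩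
    have hfk : (fk : G) * x2 * (fk : G)⁻¹ = (x2 : G) * z := by
      rw [show (x2 : G) = (S.yF ho b : G) * r1 from (congrArg Subtype.val hr1).symm]
      calc (fk : G) * ((S.yF ho b : G) * r1) * (fk : G)⁻¹
          = ((fk : G) * (S.yF ho b : G) * (fk : G)⁻¹) * ((fk : G) * r1 * (fk : G)⁻¹) := by group
        _ = _ := by
          rw [mul_inv_eq_iff_eq_mul.2 (S.yF_cent ho hb hkk0), (S.beta_pr_one fk r1).1 hkk1, mul_assoc]
    show (f : G) * fk * x2 * ((f : G) * fk)⁻¹ = x'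
    calc (f : G) * fk * x2 * ((f : G) * fk)⁻¹ = (f : G) * ((fk : G) * x2 * (fk : G)⁻¹) * (f : G)⁻¹ := by group
      _ = ((f : G) * x2 * (f : G)⁻¹) * ((f : G) * z * (f : G)⁻¹) := by rw [hfk]; group
      _ = x' := by rw [h, mul_inv_eq_iff_eq_mul.2 (S.data.z_central f f.2), mul_assoc, S.z_sq, mul_one]

theorem ncard_Short : (S.ShortSet ho).ncard = 480 := by
  classical
  let N := {b : ↥(octadFix o) // (b : Equiv.Perm GolayPt) ≠ 1}
  haveI : Fintype N := Fintype.ofFinite N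
  have hN : Fintype.card N = 15 := by
    haveI := Fintype.ofFinite ↥(octadFix o)
    rw [Fintype.card_subtype, show (Finset.univ.filter fun c : ↥(octadFix o) => (c : Equiv.Perm GolayPt) ≠ 1) =
        Finset.univ.erase 1 by ext; simp, Finset.card_erase_of_mem (Finset.mem_univ _), Finset.card_univ,
      ← Nat.card_eq_fintype_card, natCard_octadFix ho.mem]
  let R : N → Type _ := fun b => {e : ↥(Ez z) // S.pr e ∈ LinearMap.range (S.mv ((b : ↥(octadFix o)) : Equiv.Perm GolayPt))}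
  have hk : ∀ (b : N) (e : ↥(Ez z)), S.κ (S.yF ho ((b : ↥(octadFix o)) : Equiv.Perm GolayPt) * inE e) =
      (b : ↥(octadFix o)) := fun b e => by rw [map_mul, (S.yF_spec ho b.1.2).2.1, S.κ_inE, mul_one]
  let φ : (Σ b : N, R b) → ↥(S.ShortSet ho) := fun p =>
    ⟨S.yF ho ((p.1 : ↥(octadFix o)) : Equiv.Perm GolayPt) * inE p.2.1,
      mul_mem (S.yF_spec ho p.1.1.2).1 ((S.inE_mem_Vo_iff ho _).2 (S.range_mv_le ho p.1.1.2 p.2.2)),
      by rw [hk]; exact p.1.2, p.2.1, by rw [hk], by rw [hk]; exact p.2.2⟩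
  have hφ : Function.Bijective φ := by
    constructor
    · rintro ⟨b, e⟩ ⟨b', e'⟩ h
      have h' : S.yF ho ((b : ↥(octadFix o)) : Equiv.Perm GolayPt) * inE e.1 =
          S.yF ho ((b' : ↥(octadFix o)) : Equiv.Perm GolayPt) * inE e'.1 := congrArg Subtype.val h
      have hb : b = b' := by
        have := congrArg S.κ h'
        rw [hk, hk] at this
        exact Subtype.ext (Subtype.ext this)
      subst hb
      have : e = e' := Subtype.ext (Subtype.ext (congrArg Subtype.val (mul_left_cancel h') :))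
      rw [this]
    · rintro ⟨x, hx, hxk, e, he, hm⟩
      exact ⟨⟨⟨⟨S.κ x, ((S.mem_Vo ho).1 hx).1.1⟩, hxk⟩, ⟨e, hm⟩⟩, Subtype.ext he⟩
  rw [← Nat.card_coe_set_eq, ← Nat.card_congr (Equiv.ofBijective φ hφ), Nat.card_sigma,
    Finset.sum_congr rfl fun b _ => show Nat.card (R b) = 32 by
      show Nat.card {e : ↥(Ez z) // S.pr e ∈ LinearMap.range (S.mv ((b : ↥(octadFix o)) : Equiv.Perm GolayPt))} = 32
      rw [S.natCard_pr_mem, natCard_eq_four_pow, S.finrank_range_mv ho b.1.2 b.2]; norm_num,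
    Finset.sum_const, Finset.card_univ, hN]
  rfl

theorem ncard_Long : (S.LongSet ho).ncard = 1440 := by
  let A : Set ↥(Cz z) := {x | x ∈ S.Vo ho ∧ S.κ x = 1}
  have hA : A.ncard = 128 := by rw [← Nat.card_coe_set_eq]; exact S.natCard_coset ho (one_mem _)
  have hV : (S.Vo ho : Set ↥(Cz z)).ncard = 2 ^ 11 := by rw [← Nat.card_coe_set_eq]; exact S.natCard_Vo ho
  have heq : (S.Vo ho : Set ↥(Cz z)) = A ∪ (S.ShortSet ho ∪ S.LongSet ho) := by
    ext x
    constructor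
    · intro hx
      by_cases hk : S.κ x = 1
      · exact Or.inl ⟨hx, hk⟩
      · exact Or.inr (S.coset_cases ho hx hk)
    · rintro (h | h | h) <;> exact h.1
  rw [heq, Set.ncard_union_eq (Set.disjoint_left.2 fun x hx h => by
      rcases h with h | h <;> exact h.2.1 hx.2),
    Set.ncard_union_eq (Set.disjoint_left.2 fun x hx => S.short_long_disjoint ho hx), hA, S.ncard_Short ho] at hV
  norm_num at hV ⊢
  omega

/-- An element of the stabiliser centralising the preimage of the fixed space lies in `Vo`. -/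
theorem fix_U_mem_Vo {h : ↥(Cz z)} (hh : S.κ h ∈ stabO o)
    (hc : ∀ e : ↥(Ez z), S.pr e ∈ S.Cfix o → inE e * h = h * inE e) : h ∈ S.Vo ho := by
  have hfix : ∀ v ∈ S.Cfix o, S.rho h v = v := by
    intro v hv
    obtain ⟨e, rfl⟩ := S.pr_surjective v
    rw [S.rho_fix_iff]
    exact Or.inl (mul_inv_eq_iff_eq_mul.2 (congrArg Subtype.val (hc e hv)).symm)
  obtain ⟨v, hv, hv0⟩ : ∃ v ∈ S.Cfix o, v ≠ 0 := Submodule.exists_mem_ne_zero_of_ne_bot fun e => by
    have := S.finrank_Cfix ho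
    rw [e, finrank_bot] at this
    omega
  have hi : h ∈ S.innerH := by
    by_contra hn
    have hw : S.omega v ∈ S.Cfix o := by rw [← S.zeta_smul]; exact Submodule.smul_mem _ _ hv
    have h1 := S.rho_outer hn v
    rw [hfix v hv, hfix _ hw, S.omega_sum] at h1
    exact hv0 (add_eq_left.1 h1.symm)
  have hA : S.κ h ∈ octadFix o := by
    by_contra hA
    obtain ⟨w, hw, hne⟩ := S.exists_Cfix_ne ho (h := h) ⟨hi, hh.2⟩ hA
    exact hne (hfix w hw)
  refine (S.mem_Vo ho).2 ⟨⟨hA, ?_⟩, hc⟩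
  obtain ⟨h', -, hk', -, hI⟩ := S.exists_invLift (S.fix_M22 ho hA).1 (S.fix_M22 ho hA).2
  obtain ⟨f, hf, n, hn⟩ := (S.κ_ker (h'⁻¹ * h)).1 (by rw [map_mul, map_inv, hk', inv_mul_cancel])
  have heq : S.rho h = S.rho h' * S.rho S.genH ^ n := by
    have hh' : h = h' * (inE ⟨f, hf⟩ * S.genH ^ n) := by
      rw [show inE ⟨f, hf⟩ * S.genH ^ n = h'⁻¹ * h from Subtype.ext hn.symm, mul_inv_cancel_left]
    rw [hh', map_mul, map_mul, S.rho_of_mem (h := inE ⟨f, hf⟩) hf, one_mul, map_pow]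
  have h4 : (S.rho S.genH ^ n) v = v := by
    apply (S.rho h').injective
    rw [← LinearEquiv.mul_apply, ← heq, hfix v hv, ← hI, (S.mem_Cfix ho).1 hv _ hA]
  have hn1 : S.rho S.genH ^ n = 1 := by
    have hn3 := Nat.mod_add_div n 3
    rw [← hn3, pow_add, pow_mul, S.rho_gen_cube, one_pow, mul_one] at h4 ⊢
    have := Nat.mod_lt n (show 0 < 3 by norm_num)
    obtain e | e | e : n % 3 = 0 ∨ n % 3 = 1 ∨ n % 3 = 2 := by omega
    · rw [e, pow_zero]
    · rw [e, pow_one] at h4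
      exact absurd (S.omega_fix h4) hv0
    · rw [e, sq, LinearEquiv.mul_apply] at h4
      have h5 : S.omega (S.omega v) = v := h4
      rw [S.omega_sum] at h5
      have h7 : S.omega v = 0 := add_eq_right.1 h5
      have h6 := S.omega_sum v
      rw [h7, map_zero, zero_add] at h6
      exact absurd h6.symm hv0
  rw [heq, hn1, mul_one, hI]

end Cfsg.Agent.J4Type.Setting
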