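import Cfsg.Agent.Lib.J4Type.VModel
import Cfsg.Agent.Lib.J4Type.InvolData
import Cfsg.Agent.Lib.GolayInvol.Basic

/-!
Groups of Janko-four type: the involutions of the split local subgroup `2^11 : M24` (helper26).

* `VModel.exists_three_comm` : every involution of the normaliser of `V` commutes with an element of order three;
* `VModel.exists_three_local` : some element of order three commutes with a conjugate of `t` and with two
  distinct conjugates of `s` lying in `V`.
-/

set_option autoImplicit false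
set_option linter.unusedSectionVars false

open scoped Pointwise

namespace Cfsg.Agent.J4Type

open Cfsg Cfsg.Agent.Golay Cfsg.Agent.GolayInvol MulAction

/-- A code of an element of order three commuting with the one coded by `x`. -/
def threeOK (x s : ℕ) : Bool :=
  isAut s &&
    ((List.range 24).all fun i => fn s (fn s (fn s i)) == i && fn s (fn x i) == fn x (fn s i)) &&
    !((List.range 24).all fun i => fn s i == i)

/-- The check on the classes over the representative coded by `x`. -/
def clsOK (x : ℕ) (cls : List (ℕ × ℕ)) (ys : List ℕ) : Bool :=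
  (cls.all fun c => threeOK x c.2 && isCode (c.1 ^^^ imgMask c.2 c.1) && popcount c.1 % 2 == 0 &&
      decide (c.1 < 16777216)) &&
    (ys.all fun y => popcount y % 2 == 0 && decide (y < 16777216)) &&
    allBits (fun h => popcount (h <<< 12) % 2 == 1 || !isCode ((h <<< 12) ^^^ imgMask x (h <<< 12)) ||
      cls.any fun c => ys.any fun y => isCode ((h <<< 12) ^^^ c.1 ^^^ (y ^^^ imgMask x y))) 12 0

theorem clsFix_ok : clsOK invRepFix clsFix comFix = true := by decide +kernel

theorem clsFree_ok : clsOK invRepFree clsFree comFree = true := by decide +kernel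

/-- The check on the local data. -/
def localOK : Bool :=
  threeOK locThree locThree &&
    isCode (locDuad ^^^ imgMask locThree locDuad) && isCode (locFour.1 ^^^ imgMask locThree locFour.1) &&
    isCode (locFour.2 ^^^ imgMask locThree locFour.2) &&
    locDuad == (1 <<< 2 ^^^ 1 <<< 3) &&
    popcount locFour.1 % 2 == 0 && popcount locFour.2 % 2 == 0 &&
    decide (locFour.1 < 16777216) && decide (locFour.2 < 16777216) &&
    !isCode locFour.1 && !isCode locFour.2 && !isCode (locFour.1 ^^^ locFour.2) &&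
    (List.range 24).all fun i => (List.range 24).all fun j =>
      i == j || (!isCode (locFour.1 ^^^ (1 <<< i ^^^ 1 <<< j)) && !isCode (locFour.2 ^^^ (1 <<< i ^^^ 1 <<< j)))

theorem local_ok : localOK = true := by decide +kernel

theorem word_single (a : GolayPt) : word (1 <<< idx a) = Pi.single a 1 := by
  funext p
  simp only [word, Nat.one_shiftLeft, Nat.testBit_two_pow, decide_eq_true_eq, Pi.single_apply]
  by_cases h : p = a
  · simp [h]
  · rw [if_neg h, if_neg fun e => h (idx_injective e).symm]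

theorem word_pair (a b : GolayPt) : word (1 <<< idx a ^^^ 1 <<< idx b) = GolayModule.pair a b := by
  rw [word_xor, word_single, word_single]; rfl

theorem ev_word {m : ℕ} (h : popcount m % 2 = 0) : Ev (word m) := by
  have e : ∑ p, word m p = ((pts m).card : ZMod 2) := by
    simp only [word, Finset.sum_boole]
    rfl
  unfold Ev
  rw [e, card_pts, ← ZMod.natCast_mod, h, Nat.cast_zero]

theorem popcount_even {m : ℕ} (h : Ev (word m)) : popcount m % 2 = 0 := by
  have e : ∑ p, word m p = ((pts m).card : ZMod 2) := by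
    simp only [word, Finset.sum_boole]
    rfl
  unfold Ev at h
  rw [e, card_pts, ZMod.natCast_eq_zero_iff_even, Nat.even_iff] at h
  exact h

/-- The element of M24 coded by a checked number. -/
noncomputable def autEl {d : ℕ} (h : isAut d = true) : ↥M24 := ⟨toPerm d, toPerm_mem_M24 h⟩

theorem sh_word {d : ℕ} (h : isAut d = true) (m : ℕ) : sh (autEl h) (word m) = word (imgMask d m) := by
  apply eq_of_support₂_eq
  ext p
  rw [support₂_word, pts_imgMask (validPerm_of_isAut h), ← Finset.inv_smul_mem_iff, mem_pts]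
  show _ ↔ Nat.testBit m (idx ((toPerm d).symm p)) = true
  simp only [support₂, sh, autEl, word]
  refine Finset.mem_filter.trans ?_
  by_cases hb : Nat.testBit m (idx ((toPerm d).symm p)) = true <;> simp [hb]

theorem threeOK_spec {x s : ℕ} (h : threeOK x s = true) (hx : isAut x = true) :
    ∃ hs : isAut s = true, orderOf (autEl hs) = 3 ∧ autEl hs * autEl hx = autEl hx * autEl hs := by
  simp only [threeOK, Bool.and_eq_true, List.all_eq_true, List.mem_range, beq_iff_eq,
    Bool.not_eq_true', List.all_eq_false] at h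
  obtain ⟨⟨hs, hall⟩, i, hi, hne⟩ := h
  have hv := validPerm_of_isAut hs
  have hxv := validPerm_of_isAut hx
  refine ⟨hs, ?_, Subtype.ext (Equiv.ext fun p => idx_injective ?_)⟩
  · haveI : Fact (Nat.Prime 3) := ⟨by norm_num⟩
    rw [← Subgroup.orderOf_coe]
    refine orderOf_eq_prime (Equiv.ext fun p => idx_injective ?_) fun e => ?_
    · show idx ((toPerm s ^ 3) p) = idx p
      rw [pow_succ, pow_succ, pow_one, Equiv.Perm.mul_apply, Equiv.Perm.mul_apply, idx_toPerm hv,
        idx_toPerm hv, idx_toPerm hv]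
      exact (hall _ (idx_lt p)).1
    · have hp := congrArg idx (Equiv.ext_iff.1 (show toPerm s = 1 from e) (pt i))
      rw [idx_toPerm hv, Equiv.Perm.one_apply, idx_pt hi] at hp
      simp [hp] at hne
  · show idx ((toPerm s * toPerm x) p) = idx ((toPerm x * toPerm s) p)
    rw [Equiv.Perm.mul_apply, Equiv.Perm.mul_apply, idx_toPerm hv, idx_toPerm hxv, idx_toPerm hxv,
      idx_toPerm hv]
    exact (hall _ (idx_lt p)).2

/-- Every word is a word supported on the high twelve bits modulo the code. -/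
theorem exists_high (w : Wd) : ∃ h < 4096, w + word (h <<< 12) ∈ golayCode := by
  set m := maskOf (support₂ w) with hm
  have hlt : m < 2 ^ 24 := maskOf_lt _
  set r := m ^^^ enc (m % 4096) with hr
  have hrlt : r < 2 ^ 24 := Nat.xor_lt_two_pow hlt (enc_lt _)
  have hlow : r % 4096 = 0 := by
    have e := Nat.xor_mod_two_pow (a := m) (b := enc (m % 4096)) (n := 12)
    rw [show (2 : ℕ) ^ 12 = 4096 from rfl, enc_mod (Nat.mod_lt _ (by norm_num)), Nat.xor_self] at e
    rw [hr]; exact e
  refine ⟨r / 4096, by omega, ?_⟩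
  rw [show (r / 4096) <<< 12 = r by rw [Nat.shiftLeft_eq]; omega, hr, word_xor,
    word_maskOf_support₂, ← add_assoc, GolayModule.add_self_word, zero_add]
  exact word_enc_mem _

variable {G : Type*} [Group G] [Finite G] {D : SplitData G}

namespace SplitData

theorem el_one : D.el 1 = 1 := by simp [el]

theorem orderOf_el (σ : ↥M24) : orderOf (D.el σ) = orderOf σ := by
  rw [el, Subgroup.orderOf_coe, MulEquiv.orderOf_eq]

theorem el_apply (k : ↥D.K) : D.el (D.e k) = (k : G) := by simp [el]

/-- A member of `V` commutes with an element of order three. -/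
theorem exists_three_of_mem {v : G} (hv : v ∈ D.V) :
    ∃ w : G, orderOf w = 3 ∧ w * v = v * w := by
  haveI : Fact (Nat.Prime 3) := ⟨by norm_num⟩
  suffices h : 3 ∣ Nat.card ↥(D.stab v) by
    obtain ⟨σ, hσ, ho⟩ := Index.exists_prime_elem h
    refine ⟨D.el σ, (D.orderOf_el σ).trans ((Subgroup.orderOf_coe σ).symm.trans ho), ?_⟩
    conv_rhs => rw [← D.mem_stab.1 hσ]
    group
  rcases D.eq_one_or hv with rfl | ⟨σ, rfl⟩ | ⟨σ, rfl⟩
  · have h := D.card_stab_mul 1
    rw [show (Set.range fun σ : ↥M24 => D.el σ * 1 * (D.el σ)⁻¹) = {1} by simp [Set.range_const],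
      Set.ncard_singleton] at h
    omega
  · have h := D.card_stab_mul (D.el σ * D.t * (D.el σ)⁻¹)
    rw [show (Set.range fun τ : ↥M24 => D.el τ * (D.el σ * D.t * (D.el σ)⁻¹) * (D.el τ)⁻¹) =
      Set.range fun τ : ↥M24 => D.el τ * D.t * (D.el τ)⁻¹ by
        simp only [D.conj_conj]
        exact (Equiv.mulRight σ).surjective.range_comp fun τ => D.el τ * D.t * (D.el τ)⁻¹,
      D.t_range] at h
    omega
  · have h := D.card_stab_mul (D.el σ * D.s * (D.el σ)⁻¹)
    rw [show (Set.range fun τ : ↥M24 => D.el τ * (D.el σ * D.s * (D.el σ)⁻¹) * (D.el τ)⁻¹) =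
      Set.range fun τ : ↥M24 => D.el τ * D.s * (D.el τ)⁻¹ by
        simp only [D.conj_conj]
        exact (Equiv.mulRight σ).surjective.range_comp fun τ => D.el τ * D.s * (D.el τ)⁻¹,
      D.s_range] at h
    omega

end SplitData

namespace VModel

variable (M : VModel D)

include M

theorem comm_el {σ : ↥M24} {w : Wd} (hw : Ev w) (h : w + sh σ w ∈ golayCode) :
    D.el σ * M.phi w = M.phi w * D.el σ := by
  have he : M.phi (sh σ w) = M.phi w := by
    have h1 := (M.ker _ (ev_add hw ((sum_sh σ w).trans hw))).2 h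
    rw [M.map_add] at h1
    rw [← inv_eq_of_mul_eq_one_right h1, D.inv_eq (M.mem _)]
  conv_rhs => rw [← he, ← M.equiv σ w hw]
  group

/-- An involution over a representative commutes with an element of order three. -/
theorem exists_three_rep {x : ℕ} (hx : isAut x = true) {cls : List (ℕ × ℕ)} {ys : List ℕ}
    (hok : clsOK x cls ys = true) {v : G} (hv : v ∈ D.V)
    (h2 : (v * D.el (autEl hx)) * (v * D.el (autEl hx)) = 1) (hx2 : autEl hx * autEl hx = 1) :
    ∃ w : G, orderOf w = 3 ∧ w * (v * D.el (autEl hx)) = (v * D.el (autEl hx)) * w := by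
  obtain ⟨w0, hw0, rfl⟩ := M.surj v hv
  obtain ⟨h, hh, hcode⟩ := exists_high w0
  set m := h <<< 12 with hm
  have hmlt : m < 2 ^ 24 := by rw [hm, Nat.shiftLeft_eq]; omega
  have hev : Ev (word m) := by
    have hc : Ev (w0 + word m) := by
      obtain ⟨y, -, hy⟩ := mem_golayCode_iff.1 hcode
      rw [← hy]
      refine ev_word ?_
      have hall : allSpan (fun c => popcount c % 2 == 0) rows 0 = true := by decide +kernel
      simpa using allSpan_rows hall y
    have := ev_add hw0 hc
    rwa [← add_assoc, GolayModule.add_self_word, zero_add] at this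
  have hphi : M.phi w0 = M.phi (word m) := by
    have h1 := (M.ker _ (ev_add hw0 hev)).2 hcode
    rw [M.map_add] at h1
    rw [mul_eq_one_iff_eq_inv.1 h1, D.inv_eq (M.mem _)]
  rw [hphi] at h2 ⊢
  have hxx : D.el (autEl hx) * D.el (autEl hx) = 1 := by rw [← D.el_mul, hx2, SplitData.el_one]
  have hfix : isCode (m ^^^ imgMask x m) = true := by
    rw [← word_mem_golayCode_iff (Nat.xor_lt_two_pow hmlt (imgMask_lt (validPerm_of_isAut hx) m)),
      word_xor, ← sh_word hx, ← M.ker _ (ev_add hev ((sum_sh _ _).trans hev)), M.map_add,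
      ← M.equiv _ _ hev]
    calc M.phi (word m) * (D.el (autEl hx) * M.phi (word m) * (D.el (autEl hx))⁻¹)
        = (M.phi (word m) * D.el (autEl hx)) * (M.phi (word m) * D.el (autEl hx)) *
            (D.el (autEl hx) * D.el (autEl hx))⁻¹ := by group
      _ = 1 := by rw [h2, hxx, inv_one, one_mul]
  simp only [clsOK, Bool.and_eq_true] at hok
  obtain ⟨⟨hcls, hys⟩, hrest⟩ := hok
  have hh' := forall_lt_two_pow hrest (k := 12) hh
  simp only [← hm, hfix, Bool.or_eq_true, beq_iff_eq, Bool.not_true, Bool.false_eq_true, or_false,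
    List.any_eq_true] at hh'
  rcases hh' with hodd | ⟨c, hc, y, hy, hcy⟩
  · rw [popcount_even hev] at hodd; omega
  have hc' := List.all_eq_true.1 hcls c hc
  simp only [Bool.and_eq_true, beq_iff_eq, decide_eq_true_eq] at hc'
  obtain ⟨⟨⟨hthree, hcfix⟩, hcev⟩, hclt⟩ := hc'
  have hy' := List.all_eq_true.1 hys y hy
  simp only [Bool.and_eq_true, beq_iff_eq, decide_eq_true_eq] at hy'
  have hEc := ev_word hcev
  have hEy := ev_word hy'.1
  have hEiy : Ev (sh (autEl hx) (word y)) := (sum_sh _ _).trans hEy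
  obtain ⟨hs, hord, hcomm⟩ := threeOK_spec hthree hx
  have hsc : D.el (autEl hs) * M.phi (word c.1) = M.phi (word c.1) * D.el (autEl hs) := by
    refine M.comm_el hEc ?_
    rw [sh_word hs, ← word_xor, word_mem_golayCode_iff
      (Nat.xor_lt_two_pow hclt (imgMask_lt (validPerm_of_isAut hs) _))]
    exact hcfix
  have hsx : D.el (autEl hs) * D.el (autEl hx) = D.el (autEl hx) * D.el (autEl hs) := by
    rw [← D.el_mul, hcomm, D.el_mul]
  -- the word is the class word times a commutator
  set q := M.phi (word y) with hq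
  have hval : M.phi (word m) * D.el (autEl hx) =
      q * (M.phi (word c.1) * D.el (autEl hx)) * q⁻¹ := by
    have hlt : m ^^^ c.1 ^^^ (y ^^^ imgMask x y) < 2 ^ 24 := Nat.xor_lt_two_pow
      (Nat.xor_lt_two_pow hmlt hclt) (Nat.xor_lt_two_pow hy'.2 (imgMask_lt (validPerm_of_isAut hx) _))
    have h1 := (word_mem_golayCode_iff hlt).2 hcy
    rw [word_xor, word_xor, word_xor, ← sh_word hx,
      ← M.ker _ (ev_add (ev_add hev hEc) (ev_add hEy hEiy)), M.map_add, M.map_add, M.map_add,
      ← M.equiv _ _ hEy, mul_eq_one_iff_eq_inv] at h1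
    have hmem : q * (D.el (autEl hx) * q * (D.el (autEl hx))⁻¹) ∈ D.V :=
      mul_mem (M.mem _) (D.conj_mem (D.el_norm _) (M.mem _))
    rw [D.inv_eq hmem] at h1
    have h2' : M.phi (word m) = q * (D.el (autEl hx) * q * (D.el (autEl hx))⁻¹) * M.phi (word c.1) := by
      calc M.phi (word m) = M.phi (word m) * M.phi (word c.1) * (M.phi (word c.1))⁻¹ := by group
        _ = _ := by rw [h1, D.inv_eq (M.mem _)]
    rw [h2', D.inv_eq (show q ∈ D.V from M.mem _)]
    rw [show q * (D.el (autEl hx) * q * (D.el (autEl hx))⁻¹) * M.phi (word c.1) =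
      q * (M.phi (word c.1) * (D.el (autEl hx) * q * (D.el (autEl hx))⁻¹)) by
        rw [mul_assoc, D.comm (D.conj_mem (D.el_norm _) (M.mem (word y))) (M.mem (word c.1))]]
    group
  refine ⟨q * D.el (autEl hs) * q⁻¹, ?_, ?_⟩
  · rw [show q * D.el (autEl hs) * q⁻¹ = MulAut.conj q (D.el (autEl hs)) from rfl,
      MulEquiv.orderOf_eq, D.orderOf_el, hord]
  · rw [hval]
    calc q * D.el (autEl hs) * q⁻¹ * (q * (M.phi (word c.1) * D.el (autEl hx)) * q⁻¹)
        = q * (D.el (autEl hs) * M.phi (word c.1) * D.el (autEl hx)) * q⁻¹ := by group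
      _ = q * (M.phi (word c.1) * (D.el (autEl hs) * D.el (autEl hx))) * q⁻¹ := by
          rw [hsc, mul_assoc (M.phi (word c.1))]
      _ = _ := by rw [hsx]; group

/-- **Every involution of the normaliser of `V` commutes with an element of order three.** -/
theorem exists_three_comm {u : G} (hu : u ∈ Subgroup.normalizer (D.V : Set G)) (h2 : u * u = 1) :
    ∃ w : G, orderOf w = 3 ∧ w * u = u * w := by
  obtain ⟨v, hv, k, rfl⟩ := D.exists_mul hu
  by_cases hk : k = 1
  · subst hk
    rw [OneMemClass.coe_one, mul_one]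
    exact D.exists_three_of_mem hv
  have hkk : k * k = 1 := by
    have hkN := D.K_le k.2
    have hV : ((k : G) * k) ∈ D.V := by
      have e : (k : G) * k = (v * ((k : G) * v * (k : G)⁻¹))⁻¹ * ((v * k) * (v * k)) := by group
      rw [e, h2, mul_one]
      exact inv_mem (mul_mem hv (D.conj_mem hkN hv))
    have h : (k : G) * k ∈ D.K ⊓ D.V := ⟨mul_mem k.2 k.2, hV⟩
    rw [D.inf, Subgroup.mem_bot] at h
    exact Subtype.ext h
  have hord : orderOf ((D.e k : ↥M24) : Equiv.Perm GolayPt) = 2 := by
    haveI : Fact (Nat.Prime 2) := ⟨by norm_num⟩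
    rw [Subgroup.orderOf_coe]
    exact orderOf_eq_prime (by rw [pow_two, ← map_mul, hkk, map_one])
      fun e => hk (D.e.injective (e.trans (map_one D.e).symm))
  obtain ⟨g, hg, hgk⟩ := GolayInvol.involution_cases (D.e k).2 hord
  have key : ∀ {x : ℕ} {cls : List (ℕ × ℕ)} {ys : List ℕ} (hx : isAut x = true),
      clsOK x cls ys = true → g * toPerm x * g⁻¹ = ((D.e k : ↥M24) : Equiv.Perm GolayPt) →
      ∃ w : G, orderOf w = 3 ∧ w * (v * k) = v * k * w := by
    intro x cls ys hx hok he
    set c := D.el ⟨g, hg⟩ with hc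
    have hek : (⟨g, hg⟩ : ↥M24) * autEl hx * (⟨g, hg⟩ : ↥M24)⁻¹ = D.e k := Subtype.ext he
    have hkc : (k : G) = c * D.el (autEl hx) * c⁻¹ := by
      rw [← D.el_apply k, ← hek, D.el_mul, D.el_mul, D.el_inv]
    have hx2 : autEl hx * autEl hx = 1 := by
      have : autEl hx = (⟨g, hg⟩ : ↥M24)⁻¹ * D.e k * ⟨g, hg⟩ := by rw [← hek]; group
      rw [this, show ∀ a b : ↥M24, a⁻¹ * b * a * (a⁻¹ * b * a) = a⁻¹ * (b * b) * a by
        intro a b; group, ← map_mul, hkk, map_one]
      group
    have hv' : c⁻¹ * v * c ∈ D.V := by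
      have := D.conj_mem (inv_mem (D.el_norm ⟨g, hg⟩)) hv
      rwa [inv_inv] at this
    have hu' : v * (k : G) = c * (c⁻¹ * v * c * D.el (autEl hx)) * c⁻¹ := by rw [hkc]; group
    obtain ⟨w, hw, hwc⟩ := M.exists_three_rep hx hok hv'
      (by
        have := h2
        rw [hu'] at this
        calc _ = c⁻¹ * (c * (c⁻¹ * v * c * D.el (autEl hx)) * c⁻¹ *
              (c * (c⁻¹ * v * c * D.el (autEl hx)) * c⁻¹)) * c := by group
          _ = 1 := by rw [this]; group) hx2
    refine ⟨MulAut.conj c w, by rw [MulEquiv.orderOf_eq, hw], ?_⟩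
    rw [hu', ← MulAut.conj_apply c, ← map_mul, ← map_mul, hwc]
  rcases hgk with h | h
  · exact key (Bool.and_eq_true_iff.1 GolayInvol.rep_aut).1 clsFix_ok h
  · exact key (Bool.and_eq_true_iff.1 GolayInvol.rep_aut).2 clsFree_ok h

/-- **An element of order three centralising members of `V` of both kinds.** -/
theorem exists_three_local : ∃ w t1 s1 s2 : G, orderOf w = 3 ∧ w * t1 = t1 * w ∧ w * s1 = s1 * w ∧
    w * s2 = s2 * w ∧ t1 ∈ D.V ∧ s1 ∈ D.V ∧ s2 ∈ D.V ∧ (∃ σ, D.el σ * D.t * (D.el σ)⁻¹ = t1) ∧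
    (∃ σ, D.el σ * D.s * (D.el σ)⁻¹ = s1) ∧ (∃ σ, D.el σ * D.s * (D.el σ)⁻¹ = s2) ∧ s1 ≠ s2 := by
  have h := local_ok
  simp only [localOK, Bool.and_eq_true, beq_iff_eq, decide_eq_true_eq, Bool.not_eq_true'] at h
  obtain ⟨⟨⟨⟨⟨⟨⟨⟨⟨⟨⟨⟨hthree, hd0⟩, hf1⟩, hf2⟩, hduad⟩, he1⟩, he2⟩, hl1⟩, hl2⟩, hn1⟩, hn2⟩, hn12⟩,
    hpairs⟩ := h
  have hs : isAut locThree = true := by
    simp only [threeOK, Bool.and_eq_true] at hthree
    exact hthree.1.1
  obtain ⟨hs', hord, -⟩ := threeOK_spec hthree hs
  have hdlt : locDuad < 2 ^ 24 := by rw [hduad]; decide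
  have hE0 : Ev (word locDuad) := ev_word (by rw [hduad]; decide +kernel)
  have hcomm : ∀ {m : ℕ}, m < 2 ^ 24 → Ev (word m) → isCode (m ^^^ imgMask locThree m) = true →
      D.el (autEl hs') * M.phi (word m) = M.phi (word m) * D.el (autEl hs') := fun {m} hm hE hc => by
    refine M.comm_el hE ?_
    rw [sh_word hs', ← word_xor, word_mem_golayCode_iff
      (Nat.xor_lt_two_pow hm (imgMask_lt (validPerm_of_isAut hs') _))]
    exact hc
  have hs_orb : ∀ {m : ℕ}, m < 2 ^ 24 → Ev (word m) → isCode m = false →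
      (∀ i < 24, ∀ j < 24, i ≠ j → isCode (m ^^^ (1 <<< i ^^^ 1 <<< j)) = false) →
      ∃ σ, D.el σ * D.s * (D.el σ)⁻¹ = M.phi (word m) := by
    intro m hm hE hno hnp
    rcases D.eq_one_or (M.mem (word m)) with h | ⟨σ, h⟩ | h
    · rw [M.ker _ hE, word_mem_golayCode_iff hm, hno] at h
      exact absurd h (by simp)
    · obtain ⟨a, b, hab, hcode⟩ := M.eq_duad hE h.symm
      rw [← word_pair, ← word_xor, word_mem_golayCode_iff
        (Nat.xor_lt_two_pow hm (Nat.xor_lt_two_pow
          (by rw [Nat.one_shiftLeft]; exact Nat.pow_lt_pow_right (by norm_num) (idx_lt a))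
          (by rw [Nat.one_shiftLeft]; exact Nat.pow_lt_pow_right (by norm_num) (idx_lt b)))),
        hnp _ (idx_lt a) _ (idx_lt b) fun e => hab (idx_injective e)] at hcode
      exact absurd hcode (by simp)
    · exact h
  have hp := fun i (hi : i < 24) j (hj : j < 24) (hij : i ≠ j) => by
    have h1 := List.all_eq_true.1 (List.all_eq_true.1 hpairs i (List.mem_range.2 hi)) j (List.mem_range.2 hj)
    simp only [Bool.or_eq_true, beq_iff_eq, hij, false_or, Bool.and_eq_true, Bool.not_eq_true'] at h1
    exact h1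
  refine ⟨D.el (autEl hs'), M.phi (word locDuad), M.phi (word locFour.1), M.phi (word locFour.2),
    (D.orderOf_el _).trans hord, hcomm hdlt hE0 hd0, hcomm hl1 (ev_word he1) hf1,
    hcomm hl2 (ev_word he2) hf2, M.mem _, M.mem _, M.mem _, ?_,
    hs_orb hl1 (ev_word he1) hn1 (fun i hi j hj hij => (hp i hi j hj hij).1),
    hs_orb hl2 (ev_word he2) hn2 (fun i hi j hj hij => (hp i hi j hj hij).2), ?_⟩
  · have e : word locDuad = GolayModule.pair (pt 2) (pt 3) := by
      rw [hduad, ← word_pair, idx_pt (by norm_num), idx_pt (by norm_num)]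
    rw [e]
    exact M.duad _ _ (by decide)
  · intro e
    have h1 : M.phi (word locFour.1 + word locFour.2) = 1 := by
      rw [M.map_add, e, D.sq_one (M.mem _)]
    rw [M.ker _ (ev_add (ev_word he1) (ev_word he2)), ← word_xor,
      word_mem_golayCode_iff (Nat.xor_lt_two_pow hl1 hl2), hn12] at h1
    exact absurd h1 (by simp)

end VModel

end Cfsg.Agent.J4Type
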