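import Cfsg.Agent.Lib.J4Type.PentadCentral
import Cfsg.Agent.Lib.J4Type.SecondClass

/-!
Groups of Janko-four type, pentad local (helper8): the common context and the projection `N(V) → M24`.

* `SplitData.conjD`, `VModel.conjM` : conjugates;
* `PCtx`, `exists_pctx` : the context, from the statement shapes of S5563-S5568;
* `pr`, `card_comap` : the projection and orders of preimages;
* `card_NZ_NV`, `card_Cz_NV`, `card_Cz_NZ_NV`, `card_CZ_NV` : the four orders in `N(V)`.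
-/

set_option autoImplicit false
set_option linter.unusedSectionVars false

open scoped Pointwise

namespace Cfsg.Agent.J4Type.Pentad

open Cfsg Cfsg.Agent.Golay MulAction Subgroup

variable {G : Type*} [Group G] [Finite G]

/-- Conjugation as a homomorphism. -/
abbrev cj (g : G) : G →* G := (MulAut.conj g).toMonoidHom

theorem cj_inj (g : G) : Function.Injective (cj g) := (MulAut.conj g).injective

theorem ncard_orbit_map (V : Subgroup G) (g x : G) :
    Set.ncard {v : G | ∃ n ∈ normalizer (V.map (cj g) : Set G), n * cj g x * n⁻¹ = v} =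
      Set.ncard {v : G | ∃ n ∈ normalizer (V : Set G), n * x * n⁻¹ = v} := by
  rw [← Set.ncard_image_of_injective {v : G | ∃ n ∈ normalizer (V : Set G), n * x * n⁻¹ = v} (cj_inj g)]
  congr 1
  rw [← map_equiv_normalizer_eq V (MulAut.conj g)]
  ext v
  constructor
  · rintro ⟨_, ⟨n, hn, rfl⟩, rfl⟩
    exact ⟨n * x * n⁻¹, ⟨n, hn, rfl⟩, by simp only [map_mul, map_inv, cj, MulEquiv.coe_toMonoidHom]⟩
  · rintro ⟨_, ⟨n, hn, rfl⟩, rfl⟩
    exact ⟨cj g n, mem_map_of_mem _ hn, by simp only [map_mul, map_inv, cj, MulEquiv.coe_toMonoidHom]⟩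

/-- A conjugate of the split data. -/
noncomputable def conjD (D : SplitData G) (g : G) : SplitData G where
  V := D.V.map (cj g)
  K := D.K.map (cj g)
  e := (D.K.equivMapOfInjective (cj g) (cj_inj g)).symm.trans D.e
  t := cj g D.t
  s := cj g D.s
  elem := elem_map D.elem g
  card := by rw [card_map_of_injective (cj_inj g), D.card]
  cent := by
    intro x hx
    refine ⟨g⁻¹ * x * g, D.cent fun v hv => ?_, by simp [mul_assoc]⟩
    have h := hx (cj g v) (mem_map_of_mem _ hv)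
    simp only [MulEquiv.coe_toMonoidHom, MulAut.conj_apply] at h
    calc v * (g⁻¹ * x * g) = g⁻¹ * (g * v * g⁻¹ * x) * g := by group
      _ = g⁻¹ * (x * (g * v * g⁻¹)) * g := by rw [h]
      _ = g⁻¹ * x * g * v := by group
  K_le := by rw [← map_equiv_normalizer_eq D.V (MulAut.conj g)]; exact map_mono D.K_le
  inf := by rw [← map_inf _ _ _ (cj_inj g), D.inf, Subgroup.map_bot]
  sup := by rw [← Subgroup.map_sup, D.sup]; exact map_equiv_normalizer_eq D.V (MulAut.conj g)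
  t_mem := mem_map_of_mem _ D.t_mem
  s_mem := mem_map_of_mem _ D.s_mem
  t_orbit := (ncard_orbit_map D.V g D.t).trans D.t_orbit
  s_orbit := (ncard_orbit_map D.V g D.s).trans D.s_orbit
  not_conj := by
    intro n hn h
    rw [← map_equiv_normalizer_eq D.V (MulAut.conj g)] at hn
    obtain ⟨m, hm, rfl⟩ := hn
    refine D.not_conj m hm (cj_inj g ?_)
    rw [map_mul, map_mul, map_inv]
    exact h

theorem conjD_el (D : SplitData G) (g : G) (σ : ↥M24) : (conjD D g).el σ = cj g (D.el σ) :=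
  coe_equivMapOfInjective_apply D.K (cj g) (cj_inj g) (D.e.symm σ)

/-- A conjugate of the model. -/
noncomputable def conjM {D : SplitData G} (M : VModel D) (g : G) : VModel (conjD D g) where
  phi w := cj g (M.phi w)
  mem w := mem_map_of_mem _ (M.mem w)
  map_add v w := by rw [M.map_add, map_mul]
  equiv σ w hw := by rw [conjD_el, ← map_inv, ← map_mul, ← map_mul, M.equiv σ w hw]
  surj := by
    rintro _ ⟨x, hx, rfl⟩
    obtain ⟨w, hw, rfl⟩ := M.surj x hx
    exact ⟨w, hw, rfl⟩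
  ker w hw := by rw [map_eq_one_iff _ (cj_inj g)]; exact M.ker w hw
  duad a b hab := by
    obtain ⟨σ, hσ⟩ := M.duad a b hab
    exact ⟨σ, by rw [conjD_el, show (conjD D g).t = cj g D.t from rfl, ← map_inv, ← map_mul, ← map_mul, hσ]⟩
  duad_all σ := by
    obtain ⟨a, b, hab, h⟩ := M.duad_all σ
    exact ⟨a, b, hab, by rw [conjD_el, show (conjD D g).t = cj g D.t from rfl, ← map_inv, ← map_mul, ← map_mul, ← h]⟩

/-- The context of the pentad local. -/
structure PCtx (z : G) (P : Subgroup G) where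
  /-- the setting at `(z, P)` -/
  S : Setting z P
  /-- the split local -/
  D : SplitData G
  /-- its model -/
  M : VModel D
  zel_z : zel M 0 = z
  not_conj_t : ¬ IsConj z D.t
  cent_t : centralizer ({D.t} : Set G) ≤ normalizer (D.V : Set G)
  three : ∀ x y : G, orderOf x = 3 → orderOf y = 3 → IsConj x y
  norm_P : normalizer (P : Set G) ≤ Cz z
  uniq : ∀ (A : Subgroup G) (T : Sylow 2 G), A ≤ (T : Subgroup G) → D.V ≤ (T : Subgroup G) →
    IsElementaryAbelian 2 A → Nat.card ↥A = 2 ^ 11 → A = D.V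
  sylow_three : ∀ R : Sylow 3 G, (R : Subgroup G) ≤ Cz z →
    IsExtraspecial 3 ↥(R : Subgroup G) ∧ Nat.card ↥(R : Subgroup G) = 27

theorem exists_pctx {z : G} {P : Subgroup G} (hJ : IsOfJankoFourTypeWith z P)
    (huniq : ∀ T : Sylow 2 G, ∃! V : Subgroup G, V ≤ (T : Subgroup G) ∧ Cfsg.IsElementaryAbelian 2 V ∧
      Nat.card ↥V = 2 ^ 11)
    (hloc : ∀ V : Subgroup G, Cfsg.IsElementaryAbelian 2 V → Nat.card ↥V = 2 ^ 11 →
      Subgroup.centralizer (V : Set G) ≤ V ∧ ∃ K : Subgroup G, K ≤ Subgroup.normalizer (V : Set G) ∧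
        K ⊓ V = ⊥ ∧ K ⊔ V = Subgroup.normalizer (V : Set G) ∧ Cfsg.Spor.IsoM24 ↥K)
    (horb : ∀ V : Subgroup G, Cfsg.IsElementaryAbelian 2 V → Nat.card ↥V = 2 ^ 11 →
      ∃ z' t : G, z' ∈ V ∧ t ∈ V ∧ t ≠ 1 ∧ IsConj z z' ∧ ¬ IsConj z t ∧
      Set.ncard {v : G | ∃ n ∈ Subgroup.normalizer (V : Set G), n * z' * n⁻¹ = v} = 1771 ∧
      Set.ncard {v : G | ∃ n ∈ Subgroup.normalizer (V : Set G), n * t * n⁻¹ = v} = 276 ∧
      Subgroup.centralizer ({t} : Set G) ≤ Subgroup.normalizer (V : Set G))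
    (hthree : ∀ x y : G, orderOf x = 3 → orderOf y = 3 → IsConj x y)
    (hnormP : Subgroup.normalizer (P : Set G) ≤ Subgroup.centralizer ({z} : Set G))
    (hsyl : ∀ R : Sylow 3 G, (R : Subgroup G) ≤ Subgroup.centralizer ({z} : Set G) →
      IsExtraspecial 3 ↥(R : Subgroup G) ∧ Nat.card ↥(R : Subgroup G) = 27) :
    Nonempty (PCtx z P) := by
  obtain ⟨S⟩ := exists_setting hJ
  obtain ⟨T⟩ := (Sylow.nonempty : Nonempty (Sylow 2 G))
  obtain ⟨V, ⟨-, hV, hcard⟩, -⟩ := huniq T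
  obtain ⟨D, hzs, hzt, hC⟩ := SecondClass.exists_splitData hV hcard (hloc V hV hcard) (horb V hV hcard)
  obtain ⟨M⟩ := exists_vModel D
  obtain ⟨σ, hσ⟩ := zel_long M 0
  have hconj : IsConj (zel M 0) z := by
    rw [← hσ]
    exact (isConj_iff.2 ⟨(D.el σ)⁻¹, by group⟩ : IsConj _ D.s).trans hzs.symm
  obtain ⟨g, hg⟩ := isConj_iff.1 hconj
  refine ⟨⟨S, conjD D g, conjM M g, hg, fun h => hzt (h.trans ?_), ?_, hthree, hnormP,
    fun A T hA hV' hel hc => (huniq T).unique ⟨hA, hel, hc⟩ ⟨hV', (conjD D g).elem, (conjD D g).card⟩, hsyl⟩⟩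
  · exact isConj_iff.2 ⟨g⁻¹, by show g⁻¹ * (g * D.t * g⁻¹) * g⁻¹⁻¹ = D.t; group⟩
  · intro x hx
    show x ∈ normalizer ((D.V.map (cj g) : Subgroup G) : Set G)
    rw [← map_equiv_normalizer_eq D.V (MulAut.conj g)]
    have hxt : x * (g * D.t * g⁻¹) = g * D.t * g⁻¹ * x := mem_centralizer_singleton_iff.1 hx
    refine ⟨g⁻¹ * x * g, hC (mem_centralizer_singleton_iff.2 ?_), by simp [mul_assoc]⟩
    calc g⁻¹ * x * g * D.t = g⁻¹ * (x * (g * D.t * g⁻¹)) * g := by group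
      _ = g⁻¹ * (g * D.t * g⁻¹ * x) * g := by rw [hxt]
      _ = _ := by group

/-! ### The projection -/

variable (D : SplitData G)

/-- `N(V)`. -/
abbrev NV : Subgroup G := normalizer (D.V : Set G)

theorem mul_unique {v w : G} {σ τ : ↥M24} (hv : v ∈ D.V) (hw : w ∈ D.V) (h : v * D.el σ = w * D.el τ) : σ = τ := by
  have h1 : D.el σ * (D.el τ)⁻¹ ∈ D.K ⊓ D.V := by
    refine Subgroup.mem_inf.2 ⟨mul_mem (D.el_mem σ) (inv_mem (D.el_mem τ)), ?_⟩
    have e : D.el σ * (D.el τ)⁻¹ = v⁻¹ * w := by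
      calc D.el σ * (D.el τ)⁻¹ = v⁻¹ * (v * D.el σ) * (D.el τ)⁻¹ := by group
        _ = _ := by rw [h]; group
    rw [e]
    exact mul_mem (inv_mem hv) hw
  rw [D.inf, mem_bot, mul_inv_eq_one] at h1
  exact D.e.symm.injective (Subtype.ext h1)

theorem exists_el {n : G} (hn : n ∈ NV D) : ∃ σ : ↥M24, ∃ v ∈ D.V, n = v * D.el σ := by
  obtain ⟨v, hv, k, rfl⟩ := D.exists_mul hn
  exact ⟨D.e k, v, hv, by rw [D.el_apply]⟩

/-- The projection onto M24. -/
noncomputable def pr : ↥(NV D) →* ↥M24 :=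
  MonoidHom.mk' (fun n => (exists_el D n.2).choose) fun a b => by
    obtain ⟨v, hv, ea⟩ := (exists_el D a.2).choose_spec
    obtain ⟨w, hw, eb⟩ := (exists_el D b.2).choose_spec
    obtain ⟨u, hu, eab⟩ := (exists_el D (a * b).2).choose_spec
    set σ := (exists_el D a.2).choose
    set τ := (exists_el D b.2).choose
    have hm : v * (D.el σ * w * (D.el σ)⁻¹) ∈ D.V := mul_mem hv (D.conj_mem (D.el_norm σ) hw)
    refine mul_unique D hu hm ?_
    rw [← eab, D.el_mul]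
    show (a : G) * b = _
    rw [ea, eb]
    group

theorem pr_eq {n : ↥(NV D)} {v : G} {σ : ↥M24} (hv : v ∈ D.V) (h : (n : G) = v * D.el σ) : pr D n = σ := by
  obtain ⟨w, hw, e⟩ := (exists_el D n.2).choose_spec
  exact mul_unique D hw hv (e.symm.trans h)

theorem pr_el (σ : ↥M24) : pr D ⟨D.el σ, D.el_norm σ⟩ = σ := pr_eq D (one_mem _) (one_mul _).symm

theorem V_le : D.V ≤ NV D := le_normalizer

theorem pr_eq_one {n : ↥(NV D)} : pr D n = 1 ↔ (n : G) ∈ D.V := by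
  constructor
  · intro h
    obtain ⟨σ, v, hv, e⟩ := exists_el D n.2
    rw [pr_eq D hv e] at h
    rwa [e, h, D.el_one, mul_one]
  · intro h
    exact pr_eq D h (by rw [D.el_one, mul_one])

theorem pr_surjective : Function.Surjective (pr D) := fun σ => ⟨_, pr_el D σ⟩

/-- Conjugation on `V` factors through the projection. -/
theorem conj_eq_el (n : ↥(NV D)) {v : G} (hv : v ∈ D.V) :
    (n : G) * v * (n : G)⁻¹ = D.el (pr D n) * v * (D.el (pr D n))⁻¹ := by
  obtain ⟨σ, w, hw, e⟩ := exists_el D n.2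
  rw [pr_eq D hw e, e,
    show w * D.el σ * v * (w * D.el σ)⁻¹ = w * (D.el σ * v * (D.el σ)⁻¹) * w⁻¹ by group,
    D.comm hw (D.conj_mem (D.el_norm σ) hv), mul_inv_cancel_right]

theorem card_ker_pr : Nat.card (pr D).ker = 2 ^ 11 := by
  rw [← D.card]
  exact Nat.card_congr
    { toFun := fun n => ⟨n.1.1, (pr_eq_one D).1 n.2⟩
      invFun := fun v => ⟨⟨v.1, V_le D v.2⟩, (pr_eq_one D).2 v.2⟩
      left_inv := fun _ => rfl
      right_inv := fun _ => rfl }

/-- The preimage of a subgroup of M24. -/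
noncomputable def pre (K : Subgroup ↥M24) : Subgroup G := (K.comap (pr D)).map (NV D).subtype

theorem mem_pre {K : Subgroup ↥M24} {n : G} : n ∈ pre D K ↔ ∃ h : n ∈ NV D, pr D ⟨n, h⟩ ∈ K := by
  constructor
  · rintro ⟨m, hm, rfl⟩; exact ⟨m.2, hm⟩
  · rintro ⟨h, hm⟩; exact ⟨⟨n, h⟩, hm, rfl⟩

theorem card_comap (K : Subgroup ↥M24) : Nat.card ↥(pre D K) = 2 ^ 11 * Nat.card ↥K := by
  rw [pre, card_map_of_injective (subtype_injective _)]
  let f : ↥(K.comap (pr D)) →* ↥K := (pr D).subgroupComap K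
  have hf : Function.Surjective f := (pr D).subgroupComap_surjective_of_surjective K (pr_surjective D)
  have hk : Nat.card f.ker = 2 ^ 11 := by
    rw [← card_ker_pr D]
    exact Nat.card_congr
      { toFun := fun n => ⟨n.1.1, congrArg Subtype.val (MonoidHom.mem_ker.1 n.2)⟩
        invFun := fun n => ⟨⟨n.1, by rw [mem_comap, MonoidHom.mem_ker.1 n.2]; exact one_mem K⟩,
          MonoidHom.mem_ker.2 (Subtype.ext (MonoidHom.mem_ker.1 n.2))⟩
        left_inv := fun _ => rfl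
        right_inv := fun _ => rfl }
  rw [← f.ker.card_mul_index, Subgroup.index_ker, MonoidHom.range_eq_top.2 hf, card_top, hk]

/-! ### The orders in `N(V)` -/

theorem labPerm_transitive (i : Fin 7) : ∃ g : ↥H0, labPerm g 0 = i := by
  have hit : ∀ n : ℕ, ((labPerm (g7 ^ n) 0 : Fin 7) : ℕ) = (labImg d7)^[n] 0 := by
    intro n
    induction n with
    | zero => simp
    | succ n ih =>
      rw [pow_succ', map_mul, Equiv.Perm.mul_apply, g7_lab, ih, Function.iterate_succ_apply']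
  have hall : ∀ i : Fin 7, ∃ n : Fin 7, (labImg d7)^[(n : ℕ)] 0 = i.val := by decide +kernel
  obtain ⟨n, hn⟩ := hall i
  exact ⟨g7 ^ (n : ℕ), Fin.ext ((hit n).trans hn)⟩

theorem card_stab_inf : Nat.card ↥((G0 : Subgroup ↥M24) ⊓ stabilizer ↥M24 (sxt 0)) = 9216 := by
  classical
  have horb : MulAction.orbit ↥G0 (sxt 0) = Set.range sxt := by
    ext X
    constructor
    · rintro ⟨g, rfl⟩
      exact ⟨labPerm ⟨g, mem_H0 g⟩ 0, sxt_labPerm ⟨g, mem_H0 g⟩ 0⟩
    · rintro ⟨i, rfl⟩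
      obtain ⟨g, rfl⟩ := labPerm_transitive i
      exact ⟨g.1, (sxt_labPerm g 0).symm⟩
  have h := (stabilizer ↥G0 (sxt 0)).card_mul_index
  rw [index_stabilizer, horb, Set.ncard_range_of_injective sxt_injective, Nat.card_fin,
    natCard_stabilizer_trio trio0_mem] at h
  have e : Nat.card ↥((G0 : Subgroup ↥M24) ⊓ stabilizer ↥M24 (sxt 0)) = Nat.card ↥(stabilizer ↥G0 (sxt 0)) :=
    Nat.card_congr
      { toFun := fun σ => ⟨⟨σ.1, (Subgroup.mem_inf.1 σ.2).1⟩, (Subgroup.mem_inf.1 σ.2).2⟩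
        invFun := fun σ => ⟨σ.1.1, Subgroup.mem_inf.2 ⟨σ.1.2, σ.2⟩⟩
        left_inv := fun _ => rfl
        right_inv := fun _ => rfl }
  omega

/-- The elements fixing each refining sextet. -/
noncomputable def Fk : Subgroup ↥M24 := matHom.ker.map ((G0 : Subgroup ↥M24).subtype.comp H0.subtype)

theorem mem_Fk {σ : ↥M24} : σ ∈ Fk ↔ ∃ g : ↥H0, matHom g = 1 ∧ g.1.1 = σ :=
  ⟨fun ⟨g, hg, e⟩ => ⟨g, hg, e⟩, fun ⟨g, hg, e⟩ => ⟨g, hg, e⟩⟩

theorem card_Fk : Nat.card ↥Fk = 384 := by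
  rw [Fk, ← Nat.card_congr (Subgroup.equivMapOfInjective _ _
    (Subtype.val_injective.comp Subtype.val_injective)).toEquiv]
  have h := matHom.ker.card_mul_index
  have hs : Function.Surjective matHom := fun A => by
    obtain ⟨g, hg, -⟩ := matHom_surjective_fixing A
    exact ⟨g, hg⟩
  have hH : Nat.card ↥H0 = 64512 := by
    rw [trio_kernel.1, card_top]; exact natCard_stabilizer_trio trio0_mem
  rw [Subgroup.index_ker, MonoidHom.range_eq_top.2 hs, card_top, natCard_gl32, hH] at h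
  omega

variable {D} (M : VModel D)

/-- The elements of `N(V)` normalising `Zc`. -/
theorem mem_NZ_NV {n : G} : n ∈ normalizer (Zc M : Set G) ⊓ NV D ↔ n ∈ pre D G0 := by
  rw [mem_inf, mem_pre]
  constructor
  · rintro ⟨hZ, hV⟩
    refine ⟨hV, (conjZ_iff M _).1 fun x hx => ?_⟩
    rw [← conj_eq_el D ⟨n, hV⟩ (Zc_le M hx)]
    exact (mem_normalizer_iff.1 hZ x).1 hx
  · rintro ⟨hV, h⟩
    refine ⟨mem_normalizer_fintype fun x hx => ?_, hV⟩
    rw [show n * x * n⁻¹ = _ from conj_eq_el D ⟨n, hV⟩ (Zc_le M hx)]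
    exact (conjZ_iff M _).2 h x hx

theorem mem_Cz_NV {n : G} : n ∈ centralizer ({zel M 0} : Set G) ⊓ NV D ↔ n ∈ pre D (stabilizer ↥M24 (sxt 0)) := by
  rw [mem_inf, mem_pre]
  constructor
  · rintro ⟨hZ, hV⟩
    refine ⟨hV, ?_⟩
    rw [← stab_zel M 0, SplitData.mem_stab, ← conj_eq_el D ⟨n, hV⟩ (zel_mem M 0)]
    exact mul_inv_eq_iff_eq_mul.2 (mem_centralizer_singleton_iff.1 hZ)
  · rintro ⟨hV, h⟩
    refine ⟨mem_centralizer_singleton_iff.2 (mul_inv_eq_iff_eq_mul.1 ?_), hV⟩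
    rw [← stab_zel M 0, SplitData.mem_stab] at h
    rwa [show n * zel M 0 * n⁻¹ = _ from conj_eq_el D ⟨n, hV⟩ (zel_mem M 0)]

theorem mem_CZ_NV {n : G} : n ∈ centralizer (Zc M : Set G) ⊓ NV D ↔ n ∈ pre D Fk := by
  rw [mem_inf, mem_pre]
  constructor
  · rintro ⟨hZ, hV⟩
    refine ⟨hV, ?_⟩
    have hfix : ∀ x ∈ Zc M, D.el (pr D ⟨n, hV⟩) * x * (D.el (pr D ⟨n, hV⟩))⁻¹ = x := fun x hx => by
      rw [← conj_eq_el D ⟨n, hV⟩ (Zc_le M hx)]
      exact mul_inv_eq_iff_eq_mul.2 (mem_centralizer_iff.1 hZ x hx).symm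
    have hg : pr D ⟨n, hV⟩ ∈ G0 := (conjZ_iff M _).1 fun x hx => by rw [hfix x hx]; exact hx
    refine mem_Fk.2 ⟨⟨⟨_, hg⟩, mem_H0 _⟩, ?_, rfl⟩
    rw [← map_one matHom]
    refine matHom_eq_of_labPerm (Equiv.ext fun i => zel_injective M ?_)
    rw [← zel_conj M ⟨⟨_, hg⟩, mem_H0 _⟩ i, map_one]
    exact hfix _ (zel_mem_Zc M i)
  · rintro ⟨hV, h⟩
    refine ⟨mem_centralizer_iff.2 fun x hx => ?_, hV⟩
    obtain ⟨g, hg, e⟩ := mem_Fk.1 h
    have hfix : n * x * n⁻¹ = x := by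
      rw [show n * x * n⁻¹ = _ from conj_eq_el D ⟨n, hV⟩ (Zc_le M hx), ← e]
      rcases (mem_Zc M).1 hx with rfl | ⟨i, rfl⟩
      · simp
      · rw [zel_conj M g i, labPerm_eq_of_matHom (hg.trans (map_one matHom).symm), map_one]; rfl
    exact (mul_inv_eq_iff_eq_mul.1 hfix).symm

theorem card_NZ_NV : Nat.card ↥(normalizer (Zc M : Set G) ⊓ NV D) = 2 ^ 11 * 64512 := by
  rw [show normalizer (Zc M : Set G) ⊓ NV D = pre D G0 from SetLike.ext fun _ => mem_NZ_NV M,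
    card_comap, natCard_stabilizer_trio trio0_mem]

theorem card_Cz_NV : Nat.card ↥(centralizer ({zel M 0} : Set G) ⊓ NV D) = 2 ^ 11 * 138240 := by
  rw [show centralizer ({zel M 0} : Set G) ⊓ NV D = pre D (stabilizer ↥M24 (sxt 0)) from
    SetLike.ext fun _ => mem_Cz_NV M, card_comap, natCard_stabilizer_sextet (sxt_sextet 0)]

theorem card_CZ_NV : Nat.card ↥(centralizer (Zc M : Set G) ⊓ NV D) = 2 ^ 11 * 384 := by
  rw [show centralizer (Zc M : Set G) ⊓ NV D = pre D Fk from SetLike.ext fun _ => mem_CZ_NV M,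
    card_comap, card_Fk]

theorem card_Cz_NZ_NV :
    Nat.card ↥(centralizer ({zel M 0} : Set G) ⊓ normalizer (Zc M : Set G) ⊓ NV D) = 2 ^ 11 * 9216 := by
  have e : centralizer ({zel M 0} : Set G) ⊓ normalizer (Zc M : Set G) ⊓ NV D =
      pre D ((G0 : Subgroup ↥M24) ⊓ stabilizer ↥M24 (sxt 0)) := by
    refine SetLike.ext fun n => ?_
    rw [mem_pre]
    constructor
    · rintro ⟨⟨h1, h2⟩, h3⟩
      obtain ⟨h, ha⟩ := (mem_pre D).1 ((mem_NZ_NV M).1 (Subgroup.mem_inf.2 ⟨h2, h3⟩))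
      obtain ⟨_, hb⟩ := (mem_pre D).1 ((mem_Cz_NV M).1 (Subgroup.mem_inf.2 ⟨h1, h3⟩))
      exact ⟨h, Subgroup.mem_inf.2 ⟨ha, hb⟩⟩
    · rintro ⟨h, hab⟩
      obtain ⟨ha, hb⟩ := Subgroup.mem_inf.1 hab
      exact Subgroup.mem_inf.2 ⟨Subgroup.mem_inf.2
        ⟨(Subgroup.mem_inf.1 ((mem_Cz_NV M).2 ((mem_pre D).2 ⟨h, hb⟩))).1,
          (Subgroup.mem_inf.1 ((mem_NZ_NV M).2 ((mem_pre D).2 ⟨h, ha⟩))).1⟩, h⟩
  rw [e, card_comap, card_stab_inf]

end Cfsg.Agent.J4Type.Pentad
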