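import Cfsg.Agent.Lib.J4Type.PentadCount

/-!
Groups of Janko-four type, pentad local (helper8): centralisers in `C(z)` of elements of orders 5 and 7.

* `card_cent_five_le`, `card_cent_seven_le` : orders at most 960 and 84;
* `no_eight` : no subgroup of order 8 of `C_H(P)` commutes with an element of order 5 of `C_H(P)`;
* `not_inverted` : no element of `C(z)` inverts an element of order 7.
-/

set_option autoImplicit false
set_option linter.unusedSectionVars false

open scoped Pointwise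

namespace Cfsg.Agent.J4Type.Pentad

open Cfsg Subgroup

variable {G : Type*} [Group G] [Finite G] {z : G} {P : Subgroup G}

/-- An element of order at least 5 of `C(z)` keeps its order under `κ`. -/
theorem orderOf_κ (S : Setting z P) {s : ↥(Cz z)} {p : ℕ} [Fact p.Prime] (hp : 5 ≤ p) (ho : orderOf (s : G) = p) :
    orderOf (S.κ s) = p := by
  have hpow : (S.κ s) ^ p = 1 := by
    rw [← map_pow, show s ^ p = 1 from Subtype.ext (ho ▸ pow_orderOf_eq_one (s : G)), map_one]
  refine orderOf_eq_prime hpow fun h => ?_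
  have hd : orderOf s ∣ Nat.card S.κ.ker := by
    rw [← orderOf_mk s (MonoidHom.mem_ker.2 h)]
    exact orderOf_dvd_natCard _
  rw [← Subgroup.orderOf_coe, ho, S.card_ker] at hd
  rcases (Fact.out : p.Prime).dvd_mul.1 hd with h2 | h3
  · have := (Nat.prime_dvd_prime_iff_eq Fact.out Nat.prime_two).1 ((Fact.out : p.Prime).dvd_of_dvd_pow h2)
    omega
  · have := (Nat.prime_dvd_prime_iff_eq Fact.out Nat.prime_three).1 h3
    omega

theorem comm_gen_pow {s g : G} (h : s * g = g * s) (n : ℕ) : Commute s (g ^ n) :=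
  (show Commute s g from h).pow_right n

/-- The bound from the kernel and the duad stabiliser. -/
theorem card_cent_le (S : Setting z P) {s : G} (hs : s ∈ Cz z) (hc : s * S.gen = S.gen * s) :
    Nat.card ↥(Cz z ⊓ centralizer ({s} : Set G)) ≤ Nat.card ↥(Ez z ⊓ centralizer ({s} : Set G)) * 3 *
      Nat.card ↥(pairStab ⊓ centralizer ({S.κ ⟨s, hs⟩} : Set (Equiv.Perm GolayPt))) := by
  classical
  set X := (centralizer ({s} : Set G)).subgroupOf (Cz z)
  let f : ↥X →* ↥(pairStab ⊓ centralizer ({S.κ ⟨s, hs⟩} : Set (Equiv.Perm GolayPt))) :=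
    (S.κ.comp X.subtype).codRestrict _ fun x => Subgroup.mem_inf.2 ⟨S.κ_mem _, mem_centralizer_singleton_iff.2 (by
      show S.κ (x : ↥(Cz z)) * S.κ ⟨s, hs⟩ = S.κ ⟨s, hs⟩ * S.κ (x : ↥(Cz z))
      rw [← map_mul, ← map_mul]
      exact congrArg S.κ (Subtype.ext (mem_centralizer_singleton_iff.1 x.2)))⟩
  have hX : Nat.card ↥X = Nat.card ↥(Cz z ⊓ centralizer ({s} : Set G)) := by
    rw [← Nat.card_congr (subgroupOfEquivOfLe (inf_le_left : Cz z ⊓ centralizer ({s} : Set G) ≤ Cz z)).toEquiv,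
      inf_subgroupOf_left]
  have hker : Nat.card f.ker ≤ Nat.card ↥(Ez z ⊓ centralizer ({s} : Set G)) * 3 := by
    have hex : ∀ x : f.ker, ∃ e ∈ Ez z ⊓ centralizer ({s} : Set G), ∃ n < 3, ((x : ↥X) : G) = e * S.gen ^ n := by
      intro x
      have h1 : S.κ ((x : ↥X) : ↥(Cz z)) = 1 := congrArg Subtype.val (MonoidHom.mem_ker.1 x.2)
      obtain ⟨e, he, n, hn⟩ := (S.κ_ker _).1 h1
      refine ⟨e, Subgroup.mem_inf.2 ⟨he, mem_centralizer_singleton_iff.2 ?_⟩, n % 3, Nat.mod_lt _ (by norm_num), ?_⟩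
      · have hxs : ((x : ↥X) : G) * s = s * ((x : ↥X) : G) :=
          mem_centralizer_singleton_iff.1 (x : ↥X).2
        have he' : e = ((x : ↥X) : G) * (S.gen ^ n)⁻¹ := eq_mul_inv_of_mul_eq hn.symm
        rw [he']
        exact ((show Commute ((x : ↥X) : G) s from hxs).mul_left ((comm_gen_pow hc n).symm.inv_left)).eq
      · rw [hn]
        congr 1
        exact pow_eq_pow_mod n S.gen_cube
    choose e he n hn hx using hex
    have := Nat.card_le_card_of_injective
      (fun x : f.ker => ((⟨e x, he x⟩ : ↥(Ez z ⊓ centralizer ({s} : Set G))), (⟨n x, hn x⟩ : Fin 3))) fun a b h => by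
        simp only [Prod.mk.injEq, Subtype.mk.injEq, Fin.mk.injEq] at h
        exact Subtype.ext (Subtype.ext (Subtype.ext (by rw [hx a, hx b, h.1, h.2])))
    rwa [Nat.card_prod, Nat.card_fin] at this
  rw [← hX, ← f.ker.card_mul_index, Subgroup.index_ker]
  exact Nat.mul_le_mul hker (Nat.card_le_card_of_injective _ (Subtype.val_injective (p := (· ∈ f.range))))

theorem card_cent_eq_conj {h s : G} (hh : h ∈ Cz z) :
    Nat.card ↥(Cz z ⊓ centralizer ({h * s * h⁻¹} : Set G)) = Nat.card ↥(Cz z ⊓ centralizer ({s} : Set G)) := by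
  refine Nat.card_congr
    { toFun := fun x => ⟨h⁻¹ * x * h, Subgroup.mem_inf.2 ⟨mul_mem (mul_mem (inv_mem hh) (Subgroup.mem_inf.1 x.2).1) hh, ?_⟩⟩
      invFun := fun x => ⟨h * x * h⁻¹, Subgroup.mem_inf.2 ⟨mul_mem (mul_mem hh (Subgroup.mem_inf.1 x.2).1) (inv_mem hh), ?_⟩⟩
      left_inv := fun x => Subtype.ext (by group)
      right_inv := fun x => Subtype.ext (by group) }
  · have := (show Commute (x : G) (h * s * h⁻¹) from mem_centralizer_singleton_iff.1 x.2.2).map
      (MulAut.conj h⁻¹).toMonoidHom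
    simp only [MulEquiv.coe_toMonoidHom, MulAut.conj_apply, inv_inv] at this
    refine mem_centralizer_singleton_iff.2 ?_
    simpa [mul_assoc] using this.eq
  · refine mem_centralizer_singleton_iff.2 ?_
    exact ((show Commute (x : G) s from mem_centralizer_singleton_iff.1 x.2.2).map (MulAut.conj h).toMonoidHom).eq

/-- The centraliser in `C(z)` of an element of order 5. -/
theorem card_cent_five_le (S : Setting z P) {s : G} (hs : s ∈ Cz z) (ho : orderOf s = 5) :
    Nat.card ↥(Cz z ⊓ centralizer ({s} : Set G)) ≤ 960 := by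
  have : Fact (Nat.Prime 5) := ⟨by norm_num⟩
  obtain ⟨h, hh, hc⟩ := exists_comm_gen S (Or.inl rfl) hs ho
  have hs' : h * s * h⁻¹ ∈ Cz z := mul_mem (mul_mem hh hs) (inv_mem hh)
  rw [← card_cent_eq_conj hh]
  have h1 := card_cent_le S hs' hc
  rw [(fixed_five S hs' ((orderOf_conj' h s).trans ho)).1] at h1
  have h2 := card_cent_five (S.κ_mem ⟨_, hs'⟩)
    (orderOf_κ S (le_refl 5) ((orderOf_conj' h s).trans ho))
  exact h1.trans ((Nat.mul_le_mul_left _ h2).trans (by norm_num))

/-- The centraliser in `C(z)` of an element of order 7. -/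
theorem card_cent_seven_le (S : Setting z P) {s : G} (hs : s ∈ Cz z) (ho : orderOf s = 7) :
    Nat.card ↥(Cz z ⊓ centralizer ({s} : Set G)) ≤ 84 := by
  have : Fact (Nat.Prime 7) := ⟨by norm_num⟩
  obtain ⟨h, hh, hc⟩ := exists_comm_gen S (Or.inr (Or.inl rfl)) hs ho
  have hs' : h * s * h⁻¹ ∈ Cz z := mul_mem (mul_mem hh hs) (inv_mem hh)
  rw [← card_cent_eq_conj hh]
  have h1 := card_cent_le S hs' hc
  rw [fixed_seven S hs' ((orderOf_conj' h s).trans ho)] at h1
  have h2 := card_cent_seven (S.κ_mem ⟨_, hs'⟩)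
    (orderOf_κ S (by norm_num) ((orderOf_conj' h s).trans ho))
  exact h1.trans ((Nat.mul_le_mul_left _ h2).trans (by norm_num))

/-- No subgroup of order 8 of `C_H(P)` commutes with an element of order 5 of it. -/
theorem no_eight (S : Setting z P) {X : Subgroup G} {q : G} (hX : Nat.card ↥X = 8) (hXle : X ≤ Kz z P)
    (hq : q ∈ Kz z P) (ho : orderOf q = 5) (hc : ∀ x ∈ X, x * q = q * x) : False := by
  classical
  have : Fact (Nat.Prime 5) := ⟨by norm_num⟩
  have hqg : q * S.gen = S.gen * q :=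
    (mem_centralizer_iff.1 hq.2 S.gen (S.gen_zpowers.le (mem_zpowers _))).symm
  set C := Kz z P ⊓ centralizer ({q} : Set G) with hCdef
  let ι : ↥C →* ↥(Cz z) := inclusion (inf_le_left.trans inf_le_left)
  have hι : ∀ x : ↥C, ((ι x : ↥(Cz z)) : G) = x := fun _ => rfl
  let f : ↥C →* ↥(pairStab ⊓ centralizer ({S.κ ⟨q, hq.1⟩} : Set (Equiv.Perm GolayPt))) :=
    (S.κ.comp ι).codRestrict _ fun x => Subgroup.mem_inf.2 ⟨S.κ_mem _, mem_centralizer_singleton_iff.2 (by
      show S.κ (ι x) * S.κ ⟨q, hq.1⟩ = S.κ ⟨q, hq.1⟩ * S.κ (ι x)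
      rw [← map_mul, ← map_mul]
      refine congrArg S.κ (Subtype.ext ?_)
      simp only [Subgroup.coe_mul, hι]
      exact mem_centralizer_singleton_iff.1 (Subgroup.mem_inf.1 x.2).2)⟩
  have hker : Nat.card f.ker ≤ 6 := by
    have hex : ∀ x : f.ker, ∃ e, (e = 1 ∨ e = z) ∧ ∃ n < 3, ((x : ↥C) : G) = e * S.gen ^ n := by
      intro x
      have h1 : S.κ (ι (x : ↥C)) = 1 := congrArg Subtype.val (MonoidHom.mem_ker.1 x.2)
      obtain ⟨e, he, n, hn⟩ := (S.κ_ker _).1 h1
      refine ⟨e, S.fix e he ?_, n % 3, Nat.mod_lt _ (by norm_num), ?_⟩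
      · have hn' : ((x : ↥C) : G) = e * S.gen ^ n := (hι _).symm.trans hn
        have hxg : ((x : ↥C) : G) * S.gen = S.gen * ((x : ↥C) : G) :=
          (mem_centralizer_iff.1 (x : ↥C).2.1.2 S.gen (S.gen_zpowers.le (mem_zpowers _))).symm
        rw [eq_mul_inv_of_mul_eq hn'.symm]
        exact ((show Commute ((x : ↥C) : G) S.gen from hxg).mul_left
          ((Commute.pow_self S.gen n).inv_left)).eq
      · show ((x : ↥C) : G) = e * S.gen ^ (n % 3)
        rw [← pow_eq_pow_mod n S.gen_cube]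
        exact (hι _).symm.trans hn
    choose e he n hn hx using hex
    have := Nat.card_le_card_of_injective
      (fun x : f.ker => ((decide (e x = 1) : Bool), (⟨n x, hn x⟩ : Fin 3))) fun a b h => by
        simp only [Prod.mk.injEq, Fin.mk.injEq, decide_eq_decide] at h
        have hab : e a = e b := by
          rcases he a with ha | ha <;> rcases he b with hb | hb
          · rw [ha, hb]
          · exact absurd (hb.symm.trans (h.1.1 ha)) S.z_ne
          · exact absurd (ha.symm.trans (h.1.2 hb)) S.z_ne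
          · rw [ha, hb]
        exact Subtype.ext (Subtype.ext (by rw [hx a, hx b, hab, h.2]))
    rwa [Nat.card_prod, Nat.card_eq_fintype_card (α := Bool), Fintype.card_bool, Nat.card_fin] at this
  have hC : Nat.card ↥C ≤ 60 := by
    rw [← f.ker.card_mul_index, Subgroup.index_ker]
    exact Nat.mul_le_mul hker ((Nat.card_le_card_of_injective _ (Subtype.val_injective (p := (· ∈ f.range)))).trans
      (card_cent_five (S.κ_mem _) (orderOf_κ S (le_refl 5) ho)))
  have d8 : 8 ∣ Nat.card ↥C :=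
    hX ▸ Subgroup.card_dvd_of_le fun x hx => Subgroup.mem_inf.2 ⟨hXle hx, mem_centralizer_singleton_iff.2 (hc x hx)⟩
  have d5 : 5 ∣ Nat.card ↥C := by
    rw [← ho, ← orderOf_mk q (show q ∈ C from Subgroup.mem_inf.2 ⟨hq, mem_centralizer_singleton_iff.2 rfl⟩)]
    exact orderOf_dvd_natCard _
  have d3 : 3 ∣ Nat.card ↥C := by
    have hg : S.gen ∈ C := by
      refine Subgroup.mem_inf.2 ⟨Subgroup.mem_inf.2 ⟨S.gen_mem, mem_centralizer_iff.2 fun y hy => ?_⟩,
        mem_centralizer_singleton_iff.2 hqg.symm⟩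
      rw [SetLike.mem_coe, ← S.gen_zpowers, mem_zpowers_iff] at hy
      obtain ⟨k, rfl⟩ := hy
      exact (Commute.zpow_self S.gen k).eq
    rw [← S.gen_ord, ← orderOf_mk S.gen hg]
    exact orderOf_dvd_natCard _
  have h24 : 120 ∣ Nat.card ↥C := Nat.Coprime.mul_dvd_of_dvd_of_dvd (by norm_num : Nat.Coprime 24 5)
    (Nat.Coprime.mul_dvd_of_dvd_of_dvd (by norm_num : Nat.Coprime 8 3) d8 d3) d5
  have := Nat.le_of_dvd Nat.card_pos h24
  omega

/-- No element of `C(z)` inverts an element of order 7. -/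
theorem not_inverted (S : Setting z P) {h s : G} (hh : h ∈ Cz z) (hs : s ∈ Cz z) (ho : orderOf s = 7) :
    h * s * h⁻¹ ≠ s⁻¹ := by
  intro e
  have : Fact (Nat.Prime 7) := ⟨by norm_num⟩
  have hσ : orderOf (⟨S.κ ⟨s, hs⟩, (S.κ_mem _).1⟩ : ↥M24) = 7 := by
    rw [Subgroup.orderOf_mk]; exact orderOf_κ S (by norm_num) ho
  refine not_inverting_seven (σ := ⟨S.κ ⟨h, hh⟩, (S.κ_mem _).1⟩) hσ (Subtype.ext ?_)
  show S.κ ⟨h, hh⟩ * S.κ ⟨s, hs⟩ * (S.κ ⟨h, hh⟩)⁻¹ = (S.κ ⟨s, hs⟩)⁻¹
  rw [← map_inv, ← map_mul, ← map_mul, ← map_inv]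
  exact congrArg S.κ (Subtype.ext e)

end Cfsg.Agent.J4Type.Pentad
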