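import Cfsg.Agent.Lib.J4Type.PentadSeven

/-!
Groups of Janko-four type, pentad local (helper8): complements.

* `exists_linear_group` : a copy of `L₃(2)` in `N(L)`;
* `no_complement` : `L` has no complement in `N(L)`.
-/

set_option autoImplicit false
set_option linter.unusedSectionVars false

open scoped Pointwise

namespace Cfsg.Agent.J4Type.Pentad

open Cfsg Cfsg.Agent.Golay MulAction Subgroup

/-- The trio elements fixing two points of different octads. -/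
def twoPoints : Subgroup ↥M24 :=
  (G0 : Subgroup ↥M24) ⊓ stabilizer ↥M24 (pt 5) ⊓ stabilizer ↥M24 (pt 12)

theorem mem_twoPoints {σ : ↥M24} : σ ∈ twoPoints ↔
    σ ∈ (G0 : Subgroup ↥M24) ∧ (σ : Equiv.Perm GolayPt) (pt 5) = pt 5 ∧ (σ : Equiv.Perm GolayPt) (pt 12) = pt 12 := by
  rw [twoPoints, Subgroup.mem_inf, Subgroup.mem_inf, mem_stabilizer_iff, mem_stabilizer_iff, and_assoc]
  exact Iff.rfl

theorem perm_three_two_fixed : ∀ a : Equiv.Perm (Fin 3), a 0 = 0 → a 2 = 2 → a = 1 := by decide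

/-- An element of `twoPoints` is determined by its action on the sextets. -/
theorem twoPoints_ext {g h : ↥H0} (hg : g.1.1 ∈ twoPoints) (hh : h.1.1 ∈ twoPoints) (e : matHom g = matHom h) :
    g.1.1 = h.1.1 := by
  obtain ⟨-, g5, g12⟩ := mem_twoPoints.1 hg
  obtain ⟨-, h5, h12⟩ := mem_twoPoints.1 hh
  have ho : ∀ k : ↥H0, (k.1.1 : Equiv.Perm GolayPt) (pt 5) = pt 5 → (k.1.1 : Equiv.Perm GolayPt) (pt 12) = pt 12 →
      octHom k = 1 := fun k k5 k12 =>
    perm_three_two_fixed _ (pt_octad _ _ 0 fixed_octad_index.1 k5) (pt_octad _ _ 2 fixed_octad_index.2.2 k12)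
  have hR : (g⁻¹ * h).1.1 ∈ Rk := mem_Rk_iff.2 ⟨g⁻¹ * h, Prod.ext
    (show matHom (g⁻¹ * h) = 1 by rw [map_mul, map_inv, e, inv_mul_cancel])
    (show octHom (g⁻¹ * h) = 1 by rw [map_mul, map_inv, ho g g5 g12, ho h h5 h12, inv_one, one_mul]), rfl⟩
  have hf : ∀ {i : ℕ}, (g.1.1 : Equiv.Perm GolayPt) (pt i) = pt i → (h.1.1 : Equiv.Perm GolayPt) (pt i) = pt i →
      ((g⁻¹ * h).1.1 : Equiv.Perm GolayPt) (pt i) = pt i := fun {i} gi hi => by
    show (g.1.1 : Equiv.Perm GolayPt)⁻¹ ((h.1.1 : Equiv.Perm GolayPt) (pt i)) = pt i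
    rw [hi, Equiv.Perm.inv_eq_iff_eq, gi]
  exact inv_mul_eq_one.1 (Rk_regular hR (hf g5 h5) (hf g12 h12))

/-- `R` is transitive on the pairs of points of the two octads. -/
theorem Rk_pairs {a b : GolayPt} (ha : a ∈ pts (trio0.getD (0 : Fin 3).val 0))
    (hb : b ∈ pts (trio0.getD (2 : Fin 3).val 0)) :
    ∃ σ ∈ Rk, (σ : Equiv.Perm GolayPt) (pt 5) = a ∧ (σ : Equiv.Perm GolayPt) (pt 12) = b := by
  classical
  set A := pts (trio0.getD (0 : Fin 3).val 0)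
  set B := pts (trio0.getD (2 : Fin 3).val 0)
  have hmem : ∀ σ : ↥Rk, (σ.1 : Equiv.Perm GolayPt) (pt 5) ∈ A ∧ (σ.1 : Equiv.Perm GolayPt) (pt 12) ∈ B := by
    intro σ
    obtain ⟨g, hg, e⟩ := mem_Rk_iff.1 σ.2
    have ho : octHom g = 1 := congrArg Prod.snd hg
    have key : ∀ (i : Fin 3) (p : GolayPt), p ∈ pts (trio0.getD i.val 0) →
        (σ.1 : Equiv.Perm GolayPt) p ∈ pts (trio0.getD i.val 0) := by
      intro i p hp
      have h := octHom_spec g i
      rw [ho, Equiv.Perm.one_apply] at h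
      rw [← e, h]
      exact Finset.smul_mem_smul_finset hp
    exact ⟨key 0 _ fixed_octad_index.1, key 2 _ fixed_octad_index.2.2⟩
  let f : ↥Rk → ↥(A ×ˢ B) := fun σ => ⟨((σ.1 : Equiv.Perm GolayPt) (pt 5), (σ.1 : Equiv.Perm GolayPt) (pt 12)),
    Finset.mem_product.2 (hmem σ)⟩
  have hf : Function.Injective f := fun σ τ e => by
    have e' := congrArg Subtype.val e
    have hc : ∀ p : GolayPt, (σ.1 : Equiv.Perm GolayPt) p = (τ.1 : Equiv.Perm GolayPt) p →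
        ((σ.1⁻¹ * τ.1 : ↥M24) : Equiv.Perm GolayPt) p = p := fun p hp => by
      show (σ.1 : Equiv.Perm GolayPt)⁻¹ ((τ.1 : Equiv.Perm GolayPt) p) = p
      rw [← hp]
      exact Equiv.symm_apply_apply _ _
    exact Subtype.ext (inv_mul_eq_one.1 (Rk_regular (mul_mem (inv_mem σ.2) τ.2)
      (hc _ (congrArg Prod.fst e')) (hc _ (congrArg Prod.snd e'))))
  have hAB : (A ×ˢ B).card = 64 := by decide +kernel
  have hb' := (Nat.bijective_iff_injective_and_card f).2 ⟨hf, by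
    rw [card_Rk, Nat.card_eq_fintype_card, Fintype.card_coe, hAB]⟩
  obtain ⟨σ, hσ⟩ := hb'.2 ⟨(a, b), Finset.mem_product.2 ⟨ha, hb⟩⟩
  have e := congrArg Subtype.val hσ
  exact ⟨σ.1, σ.2, congrArg Prod.fst e, congrArg Prod.snd e⟩

/-- `twoPoints → GL₃(2)`. -/
noncomputable def twoHom : ↥twoPoints →* GL (Fin 3) (ZMod 2) :=
  matHom.comp (((Subgroup.inclusion (inf_le_left.trans inf_le_left : twoPoints ≤ (G0 : Subgroup ↥M24))).codRestrict
    H0 fun _ => mem_H0 _))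

theorem twoHom_bijective : Function.Bijective twoHom := by
  constructor
  · intro σ τ e
    exact Subtype.ext (twoPoints_ext
      (g := ⟨⟨σ.1, (mem_twoPoints.1 σ.2).1⟩, mem_H0 _⟩) (h := ⟨⟨τ.1, (mem_twoPoints.1 τ.2).1⟩, mem_H0 _⟩)
      σ.2 τ.2 e)
  · intro A
    obtain ⟨g, hg, ho⟩ := matHom_surjective_fixing A
    have key : ∀ (i : Fin 3) (p : GolayPt), p ∈ pts (trio0.getD i.val 0) →
        (g.1.1 : Equiv.Perm GolayPt) p ∈ pts (trio0.getD i.val 0) := by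
      intro i p hp
      have h := octHom_spec g i
      rw [ho, Equiv.Perm.one_apply] at h
      rw [h]
      exact Finset.smul_mem_smul_finset hp
    obtain ⟨σ, hσ, h5, h12⟩ := Rk_pairs (key 0 _ fixed_octad_index.1) (key 2 _ fixed_octad_index.2.2)
    obtain ⟨r, hr, rfl⟩ := mem_Rk_iff.1 hσ
    have hmem : (r⁻¹ * g).1.1 ∈ twoPoints := mem_twoPoints.2 ⟨(r⁻¹ * g).1.2, by
      show (r.1.1 : Equiv.Perm GolayPt)⁻¹ ((g.1.1 : Equiv.Perm GolayPt) (pt 5)) = pt 5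
      rw [← h5]
      exact Equiv.symm_apply_apply _ _, by
      show (r.1.1 : Equiv.Perm GolayPt)⁻¹ ((g.1.1 : Equiv.Perm GolayPt) (pt 12)) = pt 12
      rw [← h12]
      exact Equiv.symm_apply_apply _ _⟩
    refine ⟨⟨_, hmem⟩, ?_⟩
    show matHom (r⁻¹ * g) = A
    rw [map_mul, map_inv, show matHom r = 1 from congrArg Prod.fst hr, inv_one, one_mul, hg]

variable {G : Type*} [Group G] [Finite G] {z : G} {P : Subgroup G} (C : PCtx z P)

/-- A copy of `L₃(2)` in `N(L)`. -/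
theorem exists_linear_group : ∃ K : Subgroup G, K ≤ normalizer (C.L : Set G) ∧
    Nonempty (↥K ≃* Matrix.SpecialLinearGroup (Fin 3) (ZMod 2)) := by
  let el : ↥twoPoints →* G :=
    { toFun := fun σ => C.D.el σ.1
      map_one' := C.D.el_one
      map_mul' := fun a b => C.D.el_mul a.1 b.1 }
  have hel : Function.Injective el := fun a b e => Subtype.ext (by
    have h := congrArg (fun n : ↥(NV C.D) => pr C.D n)
      (show (⟨C.D.el a.1, C.D.el_norm _⟩ : ↥(NV C.D)) = ⟨C.D.el b.1, C.D.el_norm _⟩ from Subtype.ext e)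
    simpa only [pr_el] using h)
  refine ⟨el.range, ?_, ⟨(MonoidHom.ofInjective hel).symm.trans
    ((MulEquiv.ofBijective twoHom twoHom_bijective).trans glEquiv)⟩⟩
  rintro _ ⟨σ, rfl⟩
  rw [normalizer_L]
  exact (Subgroup.mem_inf.1 (el_mem C ⟨⟨σ.1, (mem_twoPoints.1 σ.2).1⟩, mem_H0 _⟩)).1

/-- `L` has no complement in `N(Zc)`. -/
theorem no_complement_NZ (K : Subgroup G) (hK : K ≤ C.NZ) (hinf : K ⊓ C.L = ⊥)
    (hmul : ∀ n ∈ C.NZ, ∃ l ∈ C.L, ∃ k ∈ K, n = l * k) : False := by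
  classical
  have hlift : ∀ v, ∃ k : ↥C.NZ, (k : G) ∈ K ∧ Psi C k = v := fun v => by
    obtain ⟨n, rfl⟩ := Psi_surjective C v
    obtain ⟨l, hl, k, hk, e⟩ := hmul n n.2
    refine ⟨⟨k, hK hk⟩, hk, ((Psi_eq_iff C).2 ?_)⟩
    show k⁻¹ * (n : G) ∈ C.L
    rw [e]
    have h := L_conj C (inv_mem (hK hk)) hl
    rw [inv_inv] at h
    simpa [mul_assoc] using h
  have hinj : ∀ {a b : ↥C.NZ}, (a : G) ∈ K → (b : G) ∈ K → Psi C a = Psi C b → a = b := fun {a b} ha hb e => by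
    have h : (a : G)⁻¹ * (b : G) ∈ K ⊓ C.L :=
      Subgroup.mem_inf.2 ⟨mul_mem (inv_mem ha) hb, (Psi_eq_iff C).1 e⟩
    rw [hinf, mem_bot] at h
    exact Subtype.ext (inv_mul_eq_one.1 h)
  obtain ⟨k7, hk7, hk7e⟩ := hlift (Psi C ⟨s7 C, s7_mem_NZ C⟩)
  obtain ⟨x, hx, hxs⟩ := exists_conj_coset C (s7_mem_NZ C) (fun c hc h => cent_L_s7 C hc h) k7.2 hk7e
  have hxN := L_le_NZ C hx
  set u : ↥C.CS := ⟨_, duad_CS C (Or.inl ⟨rfl, rfl⟩)⟩
  set u' : ↥C.CS := ⟨_, duad_CS C (Or.inr (Or.inl ⟨rfl, rfl⟩))⟩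
  obtain ⟨k, hk, hke⟩ := hlift (1, matHom (h0Elem dw dw_ok.1))
  have hkx : ∀ c : ↥C.CS, ((x⁻¹ * (k : G) * x) * c) = c * (x⁻¹ * (k : G) * x) := by
    intro c
    set c0 : ↥C.NZ := ⟨(c : G), CS_le_NZ C c.2⟩
    obtain ⟨kc, hkc, hkce⟩ := hlift (Psi C c0)
    have hc0 : Psi C c0 = (pentS C c, 1) := Prod.ext rfl ((rho_eq_one C).2 ((mem_CS C).1 c.2).1)
    set s0 : ↥C.NZ := ⟨s7 C, s7_mem_NZ C⟩
    have hs0 : Psi C s0 = (1, matHom g7) := Prod.ext (pent_s7 C) (rho_s7 C)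
    have hcomm7 : kc * k7 = k7 * kc := hinj (mul_mem hkc hk7) (mul_mem hk7 hkc) (by
      rw [map_mul, map_mul, hkce, hk7e, hc0, hs0, Prod.mk_mul_mk, Prod.mk_mul_mk, one_mul, mul_one, one_mul,
        mul_one])
    have hcommk : kc * k = k * kc := hinj (mul_mem hkc hk) (mul_mem hk hkc) (by
      rw [map_mul, map_mul, hkce, hke, hc0, Prod.mk_mul_mk, Prod.mk_mul_mk, one_mul, mul_one, one_mul, mul_one])
    have h7 : (kc : G) * (x * s7 C * x⁻¹) = x * s7 C * x⁻¹ * (kc : G) := by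
      rw [hxs]; exact congrArg Subtype.val hcomm7
    have hmem : x⁻¹ * (kc : G) * x ∈ C.CS := by
      refine (mem_CS C).2 ⟨?_, ?_⟩
      · have h1 : (kc : G) ∈ C.CZ := (rho_eq_one C).1 (congrArg Prod.snd (hkce.trans hc0))
        exact mul_mem (mul_mem (inv_mem (L_le_CZ C hx)) h1) (L_le_CZ C hx)
      · calc x⁻¹ * (kc : G) * x * s7 C = x⁻¹ * ((kc : G) * (x * s7 C * x⁻¹)) * x := by group
          _ = x⁻¹ * (x * s7 C * x⁻¹ * (kc : G)) * x := by rw [h7]
          _ = _ := by group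
    have e : (⟨_, hmem⟩ : ↥C.CS) = c := by
      refine pentS_injective C ?_
      set x0 : ↥C.NZ := ⟨x, hxN⟩
      have hx0 : pent C x0 = 1 := congrArg Prod.fst ((Psi_eq_one C).2 hx : Psi C x0 = 1)
      show pent C (x0⁻¹ * kc * x0) = pent C c0
      rw [map_mul, map_mul, map_inv, hx0, inv_one, one_mul, mul_one]
      exact congrArg Prod.fst hkce
    have hck : (kc : G) * (k : G) = (k : G) * (kc : G) := congrArg Subtype.val hcommk
    rw [show (c : G) = x⁻¹ * (kc : G) * x from (congrArg Subtype.val e).symm]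
    calc x⁻¹ * (k : G) * x * (x⁻¹ * (kc : G) * x) = x⁻¹ * ((k : G) * (kc : G)) * x := by group
      _ = x⁻¹ * ((kc : G) * (k : G)) * x := by rw [hck]
      _ = _ := by group
  set w := x⁻¹ * (k : G) * x
  have hab := pt_ne (show 5 < 24 by norm_num) (show 12 < 24 by norm_num) (by norm_num)
  have hab' := pt_ne (show 5 < 24 by norm_num) (show 13 < 24 by norm_num) (by norm_num)
  have hwN : w ∈ NV C.D := duad_cent C hab (hkx u)
  have h1 := pr_duad C hab hwN (hkx u)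
  have h2 := pr_duad C hab' hwN (hkx u')
  set τ := pr C.D ⟨w, hwN⟩ with hτ
  have hwZ : w ∈ C.NZ := mul_mem (mul_mem (inv_mem hxN) k.2) hxN
  have hG : τ ∈ (G0 : Subgroup ↥M24) := by
    obtain ⟨_, h⟩ := (mem_pre C.D).1 ((mem_NZ_NV C.M).1 (Subgroup.mem_inf.2 ⟨hwZ, hwN⟩))
    exact h
  have hfix : (τ : Equiv.Perm GolayPt) (pt 5) = pt 5 ∧ (τ : Equiv.Perm GolayPt) (pt 12) = pt 12 ∧
      (τ : Equiv.Perm GolayPt) (pt 13) = pt 13 := by
    simp only [Finset.smul_finset_insert, Finset.smul_finset_singleton, Equiv.Perm.smul_def] at h1 h2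
    set p := (τ : Equiv.Perm GolayPt)
    have a5 : p (pt 5) = pt 5 ∨ p (pt 5) = pt 12 := by
      have : p (pt 5) ∈ ({pt 5, pt 12} : Finset GolayPt) := h1 ▸ Finset.mem_insert_self _ _
      simpa using this
    have b5 : p (pt 5) = pt 5 ∨ p (pt 5) = pt 13 := by
      have : p (pt 5) ∈ ({pt 5, pt 13} : Finset GolayPt) := h2 ▸ Finset.mem_insert_self _ _
      simpa using this
    have a12 : p (pt 12) = pt 5 ∨ p (pt 12) = pt 12 := by
      have : p (pt 12) ∈ ({pt 5, pt 12} : Finset GolayPt) :=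
        h1 ▸ Finset.mem_insert_of_mem (Finset.mem_singleton_self _)
      simpa using this
    have b13 : p (pt 13) = pt 5 ∨ p (pt 13) = pt 13 := by
      have : p (pt 13) ∈ ({pt 5, pt 13} : Finset GolayPt) :=
        h2 ▸ Finset.mem_insert_of_mem (Finset.mem_singleton_self _)
      simpa using this
    have e5 : p (pt 5) = pt 5 := by
      rcases a5 with e | e
      · exact e
      rcases b5 with e' | e'
      · exact e'
      exact absurd (e.symm.trans e') (pt_ne (by norm_num) (by norm_num) (by norm_num))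
    refine ⟨e5, ?_, ?_⟩
    · rcases a12 with e | e
      · exact absurd (p.injective (e.trans e5.symm)) hab.symm
      · exact e
    · rcases b13 with e | e
      · exact absurd (p.injective (e.trans e5.symm)) hab'.symm
      · exact e
  have hmat : matHom ⟨⟨τ, hG⟩, mem_H0 _⟩ = matHom (h0Elem dw dw_ok.1) := by
    have e1 : rho C ⟨w, hwZ⟩ = matHom ⟨⟨τ, hG⟩, mem_H0 _⟩ := by
      refine rho_eq C fun i => ?_
      rw [← zel_conj C.M ⟨⟨τ, hG⟩, mem_H0 _⟩ i]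
      exact conj_eq_el C.D ⟨w, hwN⟩ (zel_mem C.M i)
    have e2 : rho C ⟨w, hwZ⟩ = matHom (h0Elem dw dw_ok.1) := by
      set x0 : ↥C.NZ := ⟨x, hxN⟩
      have hx0 : rho C x0 = 1 := congrArg Prod.snd ((Psi_eq_one C).2 hx : Psi C x0 = 1)
      rw [show (⟨w, hwZ⟩ : ↥C.NZ) = x0⁻¹ * k * x0 from rfl, map_mul, map_mul, map_inv, hx0, inv_one, one_mul,
        mul_one]
      exact congrArg Prod.snd hke
    exact e1.symm.trans e2
  have hτw : τ = ew := twoPoints_ext (g := ⟨⟨τ, hG⟩, mem_H0 _⟩) (h := h0Elem dw dw_ok.1)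
    (mem_twoPoints.2 ⟨hG, hfix.1, hfix.2.1⟩) (mem_twoPoints.2 ⟨ew_mem, ew_fix.1, ew_fix.2.1⟩) hmat
  exact ew_fix.2.2 (hτw ▸ hfix.2.2)

/-- `L` has no complement in its normaliser. -/
theorem no_complement (K : Subgroup ↥(normalizer (C.L : Set G))) :
    ¬ (C.L.subgroupOf (normalizer (C.L : Set G))).IsComplement' K := fun hK => by
  refine no_complement_NZ C (K.map (normalizer (C.L : Set G)).subtype) ?_ ?_ fun n hn => ?_
  · exact (map_subtype_le K).trans (normalizer_L C).le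
  · rw [eq_bot_iff]
    intro x hx
    obtain ⟨⟨m, hm, rfl⟩, hL⟩ := Subgroup.mem_inf.1 hx
    have h : m ∈ C.L.subgroupOf (normalizer (C.L : Set G)) ⊓ K := Subgroup.mem_inf.2 ⟨mem_subgroupOf.2 hL, hm⟩
    rw [hK.disjoint.eq_bot, mem_bot] at h
    rw [mem_bot, h]
    rfl
  · obtain ⟨⟨l, k⟩, e⟩ := hK.2 ⟨n, (normalizer_L C).ge hn⟩
    exact ⟨_, mem_subgroupOf.1 l.2, _, mem_map_of_mem _ k.2, (congrArg Subtype.val e).symm⟩

end Cfsg.Agent.J4Type.Pentad
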