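import Cfsg.Agent.Lib.J4Type.PentadLabels
import Cfsg.Agent.Lib.J4Type.PairStab
import Cfsg.Agent.Lib.OrderM22.M22Facts

/-!
Groups of Janko-four type, pentad local (helper8): elements of order 5 and 7 of the duad stabiliser `Aut M22`.

* `card_cent_five`, `card_cent_seven` : centralisers of orders at most 10 and 14;
* `not_inverting_seven` : no element of M24 inverts an element of order 7;
* `exists_conj_e7` : elements of order 7 are conjugate to generators of the group of `e7`.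
-/

set_option autoImplicit false
set_option linter.unusedSectionVars false

open scoped Pointwise

namespace Cfsg.Agent.J4Type.Pentad

open Cfsg Cfsg.Agent.Golay MulAction

theorem exists_conj_e7 {g : ↥M24} (hg : orderOf g = 7) :
    ∃ τ : ↥M24, ∃ m : ℕ, τ * g * τ⁻¹ = e7 ^ m ∧ ∃ k : ℕ, (e7 ^ m) ^ k = e7 := by
  have : Fact (Nat.Prime 7) := ⟨by norm_num⟩
  have hf : (Nat.card ↥M24).factorization 7 = 1 := by
    rw [natCard_M24, show 244823040 = 7 ^ 1 * 34974720 by norm_num,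
      Nat.factorization_mul (by norm_num) (by norm_num), Finsupp.add_apply,
      Nat.Prime.factorization_pow (by norm_num : Nat.Prime 7),
      Nat.factorization_eq_zero_of_not_dvd (by norm_num)]
    simp
  let S₁ : Sylow 7 ↥M24 := Sylow.ofCard (Subgroup.zpowers g) (by rw [hf, Nat.card_zpowers, hg, pow_one])
  let S₂ : Sylow 7 ↥M24 :=
    Sylow.ofCard (Subgroup.zpowers e7) (by rw [hf, Nat.card_zpowers, orderOf_e7, pow_one])
  obtain ⟨τ, hτ⟩ := MulAction.exists_smul_eq ↥M24 S₁ S₂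
  have hmem : τ * g * τ⁻¹ ∈ (S₂ : Subgroup ↥M24) := by
    rw [← hτ, Sylow.coe_subgroup_smul]
    exact Subgroup.smul_mem_pointwise_smul g (MulAut.conj τ) _ (Subgroup.mem_zpowers g)
  have hfin : IsOfFinOrder e7 := isOfFinOrder_of_finite _
  obtain ⟨m, hm⟩ := (hfin.mem_powers_iff_mem_zpowers).2 (show τ * g * τ⁻¹ ∈ Subgroup.zpowers e7 from hmem)
  have ho : orderOf (τ * g * τ⁻¹) = 7 := by
    rw [← hg]; exact orderOf_injective (MulAut.conj τ).toMonoidHom (MulAut.conj τ).injective g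
  have hgen : Subgroup.zpowers (τ * g * τ⁻¹) = Subgroup.zpowers e7 := by
    refine Subgroup.eq_of_le_of_card_ge (Subgroup.zpowers_le.2 hmem) ?_
    rw [Nat.card_zpowers, Nat.card_zpowers, ho, orderOf_e7]
  obtain ⟨k, hk⟩ := ((isOfFinOrder_of_finite (τ * g * τ⁻¹)).mem_powers_iff_mem_zpowers).2
    (hgen ▸ Subgroup.mem_zpowers e7)
  have hm' : e7 ^ m = τ * g * τ⁻¹ := hm
  exact ⟨τ, m, hm'.symm, k, hm' ▸ hk⟩

/-- No element of M24 inverts an element of order 7. -/
theorem not_inverting_seven {g σ : ↥M24} (hg : orderOf g = 7) : σ * g * σ⁻¹ ≠ g⁻¹ := by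
  intro h
  obtain ⟨τ, m, hm, k, hk⟩ := exists_conj_e7 hg
  refine no_inverting (σ := τ * σ * τ⁻¹) ?_
  have e : (τ * σ * τ⁻¹) * (e7 ^ m) * (τ * σ * τ⁻¹)⁻¹ = (e7 ^ m)⁻¹ := by
    rw [← hm, show τ * σ * τ⁻¹ * (τ * g * τ⁻¹) * (τ * σ * τ⁻¹)⁻¹ = τ * (σ * g * σ⁻¹) * τ⁻¹ by group, h]
    group
  calc τ * σ * τ⁻¹ * e7 * (τ * σ * τ⁻¹)⁻¹
      = (τ * σ * τ⁻¹ * (e7 ^ m) * (τ * σ * τ⁻¹)⁻¹) ^ k := by rw [conj_pow, hk]
    _ = e7⁻¹ := by rw [e, inv_pow, hk]

theorem fix_of_odd {g : Equiv.Perm GolayPt} (hg : g ∈ pairStab) {p : ℕ} (hp : Odd p) (h : g ^ p = 1) :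
    g pA = pA ∧ g pB = pB := by
  rcases (mem_pairStab.1 hg).2 with h' | ⟨h1, h2⟩
  · exact h'
  exfalso
  obtain ⟨q, rfl⟩ := hp
  have hsq : (g ^ 2) pA = pA := by rw [sq, Equiv.Perm.mul_apply, h1, h2]
  have : (g ^ (2 * q + 1)) pA = pB := by
    rw [pow_succ', Equiv.Perm.mul_apply, pow_mul,
      Equiv.Perm.pow_apply_eq_self_of_apply_eq_self hsq, h1]
  rw [h, Equiv.Perm.one_apply] at this
  exact pA_ne_pB this

/-- The centraliser of an element of order 5 of the duad stabiliser. -/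
theorem card_cent_five {g : Equiv.Perm GolayPt} (hg : g ∈ pairStab) (ho : orderOf g = 5) :
    Nat.card ↥(pairStab ⊓ Subgroup.centralizer ({g} : Set (Equiv.Perm GolayPt))) ≤ 10 := by
  obtain ⟨hga, -⟩ := fix_of_odd hg (by decide : Odd 5) (ho ▸ pow_orderOf_eq_one g)
  have hgM : g ∈ Spor.M22 := (mem_M22_iff hg).2 hga
  have h5 := OrderM22.centralizer_five_m22 ⟨g, hgM⟩ (by rw [Subgroup.orderOf_mk, ho])
  classical
  let C := ↥(pairStab ⊓ Subgroup.centralizer ({g} : Set (Equiv.Perm GolayPt)))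
  let C5 := ↥(Subgroup.centralizer ({⟨g, hgM⟩} : Set ↥Spor.M22))
  by_cases hall : ∀ c : C, (c : Equiv.Perm GolayPt) pA = pA
  · let f : C → C5 := fun c => ⟨⟨c, (mem_M22_iff c.2.1).2 (hall c)⟩,
      Subgroup.mem_centralizer_singleton_iff.2 (Subtype.ext (Subgroup.mem_centralizer_singleton_iff.1 c.2.2))⟩
    have hf : Function.Injective f := fun a b e => Subtype.ext (congrArg (fun x : C5 => (x.1 : Equiv.Perm GolayPt)) e)
    exact (Nat.card_le_card_of_injective f hf).trans (h5.le.trans (by norm_num))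
  push Not at hall
  obtain ⟨c₀, hc₀⟩ := hall
  have hsw : ∀ c : C, (c : Equiv.Perm GolayPt) pA ≠ pA → (c : Equiv.Perm GolayPt) pA = pB ∧ (c : Equiv.Perm GolayPt) pB = pA :=
    fun c hc => ((mem_pairStab.1 c.2.1).2).resolve_left fun h => hc h.1
  let red : C → C := fun c => if (c : Equiv.Perm GolayPt) pA = pA then c else c₀ * c
  have hred : ∀ c, (red c : Equiv.Perm GolayPt) pA = pA := by
    intro c
    simp only [red]
    split
    · assumption
    · next h =>
      show ((c₀ : Equiv.Perm GolayPt) * (c : Equiv.Perm GolayPt)) pA = pA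
      rw [Equiv.Perm.mul_apply, (hsw c h).1, (hsw c₀ hc₀).2]
  let f : C → C5 × Bool := fun c => (⟨⟨red c, (mem_M22_iff (red c).2.1).2 (hred c)⟩,
    Subgroup.mem_centralizer_singleton_iff.2 (Subtype.ext (Subgroup.mem_centralizer_singleton_iff.1 (red c).2.2))⟩,
    decide ((c : Equiv.Perm GolayPt) pA = pA))
  have hf : Function.Injective f := by
    intro a b e
    have e1 : red a = red b := Subtype.ext (congrArg (fun x : C5 × Bool => (x.1.1 : Equiv.Perm GolayPt)) e)
    have e2 := congrArg Prod.snd e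
    simp only [f, decide_eq_decide] at e2
    simp only [red] at e1
    by_cases ha : (a : Equiv.Perm GolayPt) pA = pA
    · rwa [if_pos ha, if_pos (e2.1 ha)] at e1
    · rw [if_neg ha, if_neg fun hb => ha (e2.2 hb)] at e1
      exact mul_left_cancel e1
  have := Nat.card_le_card_of_injective f hf
  rw [Nat.card_prod, h5, Nat.card_eq_fintype_card (α := Bool), Fintype.card_bool] at this
  exact this

/-- The centraliser of an element of order 7 of the duad stabiliser. -/
theorem card_cent_seven {g : Equiv.Perm GolayPt} (hg : g ∈ pairStab) (ho : orderOf g = 7) :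
    Nat.card ↥(pairStab ⊓ Subgroup.centralizer ({g} : Set (Equiv.Perm GolayPt))) ≤ 14 := by
  classical
  obtain ⟨hga, hgb⟩ := fix_of_odd hg (by decide : Odd 7) (ho ▸ pow_orderOf_eq_one g)
  obtain ⟨τ, m, hm, k, hk⟩ := exists_conj_e7 (g := (⟨g, hg.1⟩ : ↥M24)) (by rw [Subgroup.orderOf_mk, ho])
  have key : ∀ p : GolayPt, g p = p → ∃ a, (a = 5 ∨ a = 12 ∨ a = 13) ∧ (τ : Equiv.Perm GolayPt) p = pt a := by
    intro p hp
    have hfix : (τ * ⟨g, hg.1⟩ * τ⁻¹ : ↥M24) ∈ stabilizer ↥M24 ((τ : Equiv.Perm GolayPt) p) := by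
      rw [mem_stabilizer_iff]
      show ((τ : Equiv.Perm GolayPt) * g * (τ : Equiv.Perm GolayPt)⁻¹) ((τ : Equiv.Perm GolayPt) p) = _
      simp [hp]
    rw [hm] at hfix
    have h7 := pow_mem hfix k
    rw [hk, mem_stabilizer_iff] at h7
    have h7' : (e7 : Equiv.Perm GolayPt) ((τ : Equiv.Perm GolayPt) p) = (τ : Equiv.Perm GolayPt) p := h7
    rw [← pt_idx ((τ : Equiv.Perm GolayPt) p)] at h7'
    exact ⟨_, (e7_fix (idx_lt _)).1 h7', (pt_idx _).symm⟩
  obtain ⟨a, ha, hta⟩ := key pA hga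
  obtain ⟨b, hb, htb⟩ := key pB hgb
  have hab : a ≠ b := fun e => pA_ne_pB ((τ : Equiv.Perm GolayPt).injective (by rw [hta, htb, e]))
  refine le_trans ?_ (card_cent_e7_pair ha hb hab)
  let f : ↥(pairStab ⊓ Subgroup.centralizer ({g} : Set (Equiv.Perm GolayPt))) →
      {σ : ↥M24 // σ * e7 = e7 * σ ∧
        (σ : Equiv.Perm GolayPt) • ({pt a, pt b} : Finset GolayPt) = {pt a, pt b}} :=
    fun c => ⟨τ * ⟨c, c.2.1.1⟩ * τ⁻¹, by
      have hc : Commute (⟨c, c.2.1.1⟩ : ↥M24) ⟨g, hg.1⟩ :=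
        Subtype.ext (Subgroup.mem_centralizer_singleton_iff.1 c.2.2)
      have h := (hc.map (MulAut.conj τ).toMonoidHom).pow_right k
      simp only [MulEquiv.coe_toMonoidHom, MulAut.conj_apply, hm, hk] at h
      exact h.eq, by
      have e : ({pt a, pt b} : Finset GolayPt) = (τ : Equiv.Perm GolayPt) • ({pA, pB} : Finset GolayPt) := by
        rw [Finset.smul_finset_insert, Finset.smul_finset_singleton, Equiv.Perm.smul_def, Equiv.Perm.smul_def,
          hta, htb]
      rw [e, Subgroup.coe_mul, Subgroup.coe_mul, Subgroup.coe_inv, mul_smul, mul_smul, inv_smul_smul]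
      congr 1
      exact c.2.1.2⟩
  refine Nat.card_le_card_of_injective f fun c d e => Subtype.ext ?_
  have e' := congrArg Subtype.val e
  simp only [f, mul_left_inj, mul_right_inj] at e'
  exact congrArg (fun x : ↥M24 => (x : Equiv.Perm GolayPt)) e'

end Cfsg.Agent.J4Type.Pentad
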