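import Cfsg.Agent.Lib.J4Type.Setup
import Cfsg.Agent.Lib.J4Type.PentadPairStab

/-!
Groups of Janko-four type, pentad local (helper8): square roots of 1 in `E` and fixed points of odd elements.

* `root_sq` : the square-root count of an extraspecial subgroup;
* `roots_E` : `E` has 4160 square roots of 1;
* `fixed_five`, `fixed_seven`, `fixed_eleven` : fixed points in `E` of elements of orders 5, 7, 11;
* `card_cent_five_le`, `card_cent_seven_le` : their centralisers in `C(z)` have orders at most 960 and 84;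
* `no_eight` : no subgroup of order 8 of `C_H(P)` commutes with an element of order 5.
-/

set_option autoImplicit false
set_option linter.unusedSectionVars false

open scoped Pointwise commutatorElement

namespace Cfsg.Agent.J4Type.Pentad

open Cfsg Subgroup

variable {G : Type*} [Group G] [Finite G]

/-- The square roots of 1 in a subgroup. -/
def roots (C : Subgroup G) : Set G := {x | x ∈ C ∧ x * x = 1}

/-- The number of square roots of 1 in a nondegenerate subgroup. -/
theorem root_sq {Q C : Subgroup G} {z : G} (D : LargeExtraspecial.Data Q z) (hC : C ≤ Q) (hzC : z ∈ C)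
    (hnd : ∀ u ∈ C, u ≠ 1 → u ≠ z → ∃ x ∈ C, x * u ≠ u * x) :
    (2 * ((roots C).ncard : ℤ) - Nat.card ↥C) ^ 2 = 2 * Nat.card ↥C := by
  classical
  have : Fintype ↥C := Fintype.ofFinite _
  let f : ↥C → ℤ := fun x => if (x : G) * x = 1 then 1 else -1
  let χ : ↥C → ↥C → ℤ := fun x u => if (x : G) * u = u * x then 1 else -1
  have hmul : ∀ x u : ↥C, f (x * u) = f x * f u * χ x u := by
    intro x u
    have hx := hC x.2
    have hu := hC u.2
    by_cases hc : (x : G) * u = u * x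
    · have e : ((x * u : ↥C) : G) * (x * u : ↥C) = ((x : G) * x) * ((u : G) * u) := by
        show (x : G) * u * ((x : G) * u) = _
        calc (x : G) * u * ((x : G) * u) = (x : G) * ((u : G) * x) * u := by group
          _ = (x : G) * ((x : G) * u) * u := by rw [hc]
          _ = _ := by group
      rcases D.sq hx with a | a <;> rcases D.sq hu with b | b <;>
        simp only [f, χ, if_pos hc, e, a, b] <;> simp [D.z_ne, D.z_sq]
    · have hz' : ⁅(x : G), (u : G)⁆ = z := (D.comm _ hx _ hu).resolve_left fun h =>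
        hc (commutatorElement_eq_one_iff_mul_comm.1 h)
      have e1 : (u : G) * x = z * ((x : G) * u) := by
        have h1 : (x : G) * u = z * ((u : G) * x) := by rw [← hz', commutatorElement_def]; group
        rw [h1, ← mul_assoc, D.z_sq, one_mul]
      have e : ((x * u : ↥C) : G) * (x * u : ↥C) = z * (((x : G) * x) * ((u : G) * u)) := by
        show (x : G) * u * ((x : G) * u) = _
        calc (x : G) * u * ((x : G) * u) = (x : G) * ((u : G) * x) * u := by group
          _ = (x : G) * (z * ((x : G) * u)) * u := by rw [e1]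
          _ = ((x : G) * z) * ((x : G) * u * u) := by group
          _ = z * (x : G) * ((x : G) * u * u) := by rw [D.z_central _ hx]
          _ = _ := by group
      rcases D.sq hx with a | a <;> rcases D.sq hu with b | b <;>
        simp only [f, χ, if_neg hc, e, a, b] <;> simp [D.z_ne, D.z_sq]
  have hf1 : ∀ x : ↥C, f x * f x = 1 := fun x => by simp only [f]; split <;> norm_num
  have horth : ∀ u : ↥C, u ≠ 1 → (u : G) ≠ z → ∑ x, χ x u = 0 := by
    intro u h1 h2
    obtain ⟨x₀, hx₀, hne⟩ := hnd u u.2 (fun h => h1 (Subtype.ext h)) h2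
    have hflip : ∀ x : ↥C, χ (⟨x₀, hx₀⟩ * x) u = - χ x u := by
      intro x
      have hl := D.comm_mul_left (hC hx₀) (hC x.2) (hC u.2)
      rw [(D.comm _ (hC hx₀) _ (hC u.2)).resolve_left
        fun h => hne (commutatorElement_eq_one_iff_mul_comm.1 h)] at hl
      by_cases hc : (x : G) * u = u * x
      · have : ¬ (x₀ * (x : G)) * u = u * (x₀ * x) := fun h => by
          rw [commutatorElement_eq_one_iff_mul_comm.2 h, commutatorElement_eq_one_iff_mul_comm.2 hc,
            mul_one] at hl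
          exact D.z_ne hl.symm
        simp [χ, hc, this]
      · have : (x₀ * (x : G)) * u = u * (x₀ * x) := commutatorElement_eq_one_iff_mul_comm.1 (by
          rw [hl, (D.comm _ (hC x.2) _ (hC u.2)).resolve_left
            fun h => hc (commutatorElement_eq_one_iff_mul_comm.1 h), D.z_sq])
        simp [χ, hc, this]
    have := Equiv.sum_comp (Equiv.mulLeft (⟨x₀, hx₀⟩ : ↥C)) (fun x => χ x u)
    simp only [Equiv.coe_mulLeft, hflip, Finset.sum_neg_distrib] at this
    omega
  have hsum : ∑ x, f x = 2 * ((roots C).ncard : ℤ) - Nat.card ↥C := by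
    have hN : (roots C).ncard = (Finset.univ.filter fun x : ↥C => (x : G) * x = 1).card := by
      rw [← Set.ncard_coe_finset, ← Set.ncard_image_of_injective _ Subtype.val_injective]
      congr 1
      ext y
      simp [roots, and_comm]
    simp only [f, Finset.sum_ite, Finset.sum_const, Nat.smul_one_eq_cast, smul_neg, hN, Nat.card_eq_fintype_card]
    have := Finset.card_filter_add_card_filter_not (s := (Finset.univ : Finset ↥C))
      (fun x : ↥C => (x : G) * x = 1)
    rw [Finset.card_univ] at this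
    omega
  have hexp : (∑ x, f x) ^ 2 = ∑ u, f u * ∑ x, χ x u := by
    rw [sq, Finset.sum_mul_sum]
    calc ∑ x, ∑ y, f x * f y = ∑ x, ∑ u, f x * f (x * u) :=
          Finset.sum_congr rfl fun x _ => (Equiv.sum_comp (Equiv.mulLeft x) (fun y => f x * f y)).symm
      _ = ∑ x, ∑ u, f u * χ x u := by
          refine Finset.sum_congr rfl fun x _ => Finset.sum_congr rfl fun u _ => ?_
          rw [hmul, ← mul_assoc, ← mul_assoc, hf1, one_mul]
      _ = _ := by rw [Finset.sum_comm]; simp only [Finset.mul_sum]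
  rw [← hsum, hexp]
  have hne1 : (1 : ↥C) ≠ ⟨z, hzC⟩ := fun h => D.z_ne (congrArg Subtype.val h).symm
  rw [Fintype.sum_eq_add 1 (⟨z, hzC⟩ : ↥C) hne1 fun u hu => by
    rw [horth u hu.1 fun h => hu.2 (Subtype.ext h), mul_zero]]
  have hcz : ∀ x : ↥C, (x : G) * z = z * x := fun x => D.z_central _ (hC x.2)
  simp [f, χ, D.z_sq, hcz, Nat.card_eq_fintype_card]
  ring

/-- An invariant set and its fixed points modulo the order. -/
theorem ncard_modEq {X : Set G} {s : G} {p : ℕ} [Fact p.Prime] (hs : s ^ p = 1)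
    (hX : ∀ x ∈ X, s * x * s⁻¹ ∈ X) : X.ncard ≡ {x | x ∈ X ∧ s * x = x * s}.ncard [MOD p] := by
  classical
  have : Fintype ↥X := Fintype.ofFinite _
  let φ : Function.End ↥X := fun x => ⟨s * x * s⁻¹, hX x x.2⟩
  have hpow : ∀ (n : ℕ) (x : ↥X), (((φ ^ n) x : ↥X) : G) = s ^ n * x * (s ^ n)⁻¹ := by
    intro n
    induction n with
    | zero => intro x; show (x : G) = _; simp
    | succ n ih =>
      intro x
      rw [pow_succ']
      show s * (((φ ^ n) x : ↥X) : G) * s⁻¹ = _
      rw [ih, pow_succ']; group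
  have h := Equiv.Perm.card_fixedPoints_modEq (p := p) (n := 1) (f := φ) (by
    rw [pow_one]
    funext x
    refine Subtype.ext ?_
    rw [hpow, hs]
    show 1 * (x : G) * 1⁻¹ = x
    group)
  rw [← Nat.card_coe_set_eq, Nat.card_eq_fintype_card]
  refine h.trans (congrArg (· % p) ?_)
  rw [← Nat.card_eq_fintype_card, ← Nat.card_coe_set_eq]
  exact Nat.card_congr
    { toFun := fun x => ⟨x.1.1, x.1.2, by
        have e : s * (x.1 : G) * s⁻¹ = x.1 := congrArg Subtype.val x.2
        calc s * (x.1 : G) = s * (x.1 : G) * s⁻¹ * s := by group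
          _ = _ := by rw [e]⟩
      invFun := fun x => ⟨⟨x.1, x.2.1⟩, Subtype.ext (show s * x.1 * s⁻¹ = x.1 by rw [x.2.2, mul_inv_cancel_right])⟩
      left_inv := fun x => rfl
      right_inv := fun x => rfl }

/-- Solutions of the root equation. -/
theorem root_table {k a : ℕ} (hk : k < 14) (ha : a < 129) (h : a * a = 2 ^ (k + 1)) :
    (k = 1 ∧ a = 2) ∨ (k = 3 ∧ a = 4) ∨ (k = 5 ∧ a = 8) ∨ (k = 7 ∧ a = 16) ∨ (k = 9 ∧ a = 32) ∨
      (k = 11 ∧ a = 64) ∨ (k = 13 ∧ a = 128) := by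
  have key : ∀ k : Fin 14, ∀ a : Fin 129, (a : ℕ) * a = 2 ^ ((k : ℕ) + 1) →
      ((k : ℕ), (a : ℕ)) ∈ [(1, 2), (3, 4), (5, 8), (7, 16), (9, 32), (11, 64), (13, 128)] := by decide +kernel
  simpa using key ⟨k, hk⟩ ⟨a, ha⟩ h

theorem root_solve {N c : ℕ} (hc : c ∣ 2 ^ 13) (h : (2 * (N : ℤ) - c) ^ 2 = 2 * c) :
    (c = 2 ∧ (N = 0 ∨ N = 2)) ∨ (c = 8 ∧ (N = 2 ∨ N = 6)) ∨ (c = 32 ∧ (N = 12 ∨ N = 20)) ∨
    (c = 128 ∧ (N = 56 ∨ N = 72)) ∨ (c = 512 ∧ (N = 240 ∨ N = 272)) ∨
    (c = 2048 ∧ (N = 992 ∨ N = 1056)) ∨ (c = 8192 ∧ (N = 4032 ∨ N = 4160)) := by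
  obtain ⟨k, hk, rfl⟩ := (Nat.dvd_prime_pow Nat.prime_two).1 hc
  set a := (2 * (N : ℤ) - (2 ^ k : ℕ)).natAbs with ha
  have e : a * a = 2 ^ (k + 1) := by
    have : ((a * a : ℕ) : ℤ) = ((2 ^ (k + 1) : ℕ) : ℤ) := by
      push_cast
      rw [ha, Int.natAbs_mul_self', ← sq, pow_succ' (2 : ℤ) k]
      push_cast at h ⊢
      exact h
    exact_mod_cast this
  have hlt : a < 129 := by
    have h14 : 2 ^ (k + 1) ≤ 2 ^ 14 := Nat.pow_le_pow_right (by norm_num) (by omega)
    rw [← e] at h14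
    by_contra hge
    push Not at hge
    have := Nat.mul_le_mul hge hge
    omega
  rcases root_table (by omega) hlt e with ⟨rfl, h'⟩ | ⟨rfl, h'⟩ | ⟨rfl, h'⟩ | ⟨rfl, h'⟩ | ⟨rfl, h'⟩ |
    ⟨rfl, h'⟩ | ⟨rfl, h'⟩ <;> norm_num at ha ⊢ <;> omega

/-- The fixed points of a coprime automorphism are nondegenerate. -/
theorem fixed_nondeg {Q : Subgroup G} {z s : G} {p : ℕ} [Fact p.Prime] (D : LargeExtraspecial.Data Q z)
    (hQ : Nat.card ↥Q = 2 ^ 13) (hp : p ≠ 2) (hs : s ^ p = 1) (hsz : s * z = z * s) :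
    ∀ u ∈ Q ⊓ centralizer ({s} : Set G), u ≠ 1 → u ≠ z → ∃ x ∈ Q ⊓ centralizer ({s} : Set G), x * u ≠ u * x := by
  classical
  rintro u ⟨huQ, hus⟩ h1 h2
  replace hus : u * s = s * u := mem_centralizer_singleton_iff.1 hus
  obtain ⟨x₀, hx₀, hx₀u⟩ := D.exists_conj_eq huQ h1 h2
  set K := Q ⊓ centralizer ({u} : Set G) with hK
  set A := {x : G | x ∈ Q ∧ x * u ≠ u * x} with hA
  have hne₀ : x₀ * u ≠ u * x₀ := fun h => D.z_ne (by
    rw [h, mul_inv_cancel_right] at hx₀u
    simpa using hx₀u.symm)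
  have heq : A = (fun x => x₀ * x) '' (K : Set G) := by
    ext x
    constructor
    · rintro ⟨hxQ, hxu⟩
      refine ⟨x₀⁻¹ * x, Subgroup.mem_inf.2 ⟨mul_mem (inv_mem hx₀) hxQ, mem_centralizer_singleton_iff.2 ?_⟩, by simp⟩
      apply commutatorElement_eq_one_iff_mul_comm.1
      have e := D.comm_mul_left (inv_mem hx₀) hxQ huQ
      have e0 := D.comm_mul_left (inv_mem hx₀) hx₀ huQ
      rw [inv_mul_cancel, commutatorElement_one_left] at e0
      rw [e, eq_inv_of_mul_eq_one_left e0.symm,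
        (D.comm _ hxQ _ huQ).resolve_left fun h => hxu (commutatorElement_eq_one_iff_mul_comm.1 h),
        (D.comm _ hx₀ _ huQ).resolve_left fun h => hne₀ (commutatorElement_eq_one_iff_mul_comm.1 h),
        inv_mul_cancel]
    · rintro ⟨k, ⟨hkQ, hku⟩, rfl⟩
      refine ⟨mul_mem hx₀ hkQ, fun h => hne₀ ?_⟩
      have hk : k * u = u * k := mem_centralizer_singleton_iff.1 hku
      calc x₀ * u = x₀ * (k * u) * k⁻¹ * 1 := by rw [hk]; group
        _ = u * (x₀ * k) * k⁻¹ := by rw [← mul_assoc x₀, h]; group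
        _ = u * x₀ := by group
  have hcard : ¬ p ∣ A.ncard := by
    rw [heq, Set.ncard_image_of_injective _ (mul_right_injective x₀), ← Nat.card_coe_set_eq]
    intro hd
    have hdQ : p ∣ 2 ^ 13 := hQ ▸ hd.trans (Subgroup.card_dvd_of_le (inf_le_left : K ≤ Q))
    exact hp ((Nat.prime_dvd_prime_iff_eq Fact.out Nat.prime_two).1 ((Fact.out : p.Prime).dvd_of_dvd_pow hdQ))
  have hinv : ∀ x ∈ A, s * x * s⁻¹ ∈ A := by
    rintro x ⟨hxQ, hxu⟩
    refine ⟨D.norm s hsz x hxQ, fun h => hxu ?_⟩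
    have hsu : Commute s u := hus.symm
    calc x * u = x * (s⁻¹ * u * s) := by rw [mul_assoc s⁻¹, ← hsu.eq, inv_mul_cancel_left]
      _ = s⁻¹ * (s * x * s⁻¹ * u) * s := by group
      _ = s⁻¹ * (u * (s * x * s⁻¹)) * s := by rw [h]
      _ = (s⁻¹ * u * s) * x := by group
      _ = u * x := by rw [mul_assoc s⁻¹, ← hsu.eq, inv_mul_cancel_left]
  have hmod := ncard_modEq hs hinv
  obtain ⟨x, ⟨hxQ, hxu⟩, hxs⟩ : {x | x ∈ A ∧ s * x = x * s}.Nonempty := by
    by_contra hemp
    rw [Set.not_nonempty_iff_eq_empty] at hemp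
    rw [hemp, Set.ncard_empty] at hmod
    exact hcard (Nat.modEq_zero_iff_dvd.1 hmod)
  exact ⟨x, ⟨hxQ, mem_centralizer_singleton_iff.2 hxs.symm⟩, hxu⟩

variable {z : G} {P : Subgroup G}

theorem roots_gen (S : Setting z P) {C : Subgroup G} (hC : C ≤ Ez z) (hzC : z ∈ C)
    (hinv : ∀ x ∈ C, S.gen * x * S.gen⁻¹ ∈ C) : (roots C).ncard % 3 = 2 := by
  have : Fact (Nat.Prime 3) := ⟨Nat.prime_three⟩
  have h := ncard_modEq (X := roots C) S.gen_cube fun x hx => ⟨hinv x hx.1, by
    calc S.gen * x * S.gen⁻¹ * (S.gen * x * S.gen⁻¹) = S.gen * (x * x) * S.gen⁻¹ := by group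
      _ = 1 := by rw [hx.2]; group⟩
  have hset : {x | x ∈ roots C ∧ S.gen * x = x * S.gen} = {1, z} := by
    ext x
    constructor
    · rintro ⟨⟨hx, -⟩, hc⟩
      exact S.fix x (hC hx) hc.symm
    · rintro (rfl | rfl)
      · exact ⟨⟨one_mem _, one_mul 1⟩, by simp⟩
      · exact ⟨⟨hzC, S.z_sq⟩, mem_Cz.1 S.gen_mem⟩
  rw [hset, Set.ncard_pair S.z_ne.symm] at h
  exact h

theorem roots_E (S : Setting z P) : (roots (Ez z)).ncard = 4160 := by
  have h := root_sq S.data le_rfl S.z_mem_E fun u hu h1 h2 => by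
    obtain ⟨x, hx, he⟩ := S.data.exists_conj_eq hu h1 h2
    exact ⟨x, hx, fun h => S.z_ne (by rw [h, mul_inv_cancel_right] at he; simpa using he.symm)⟩
  rw [S.card_E] at h
  have h3 := roots_gen S le_rfl S.z_mem_E fun x hx => conj_mem_Ez S.gen_mem hx
  rcases root_solve (dvd_refl _) h with h' | h' | h' | h' | h' | h' | h' <;> omega

theorem fixed_key (S : Setting z P) {s : G} {p : ℕ} [Fact p.Prime] (hp : 5 ≤ p) (hs : s ∈ Cz z)
    (ho : orderOf s = p) (hcomm : s * S.gen = S.gen * s) :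
    (2 * ((roots (Ez z ⊓ centralizer ({s} : Set G))).ncard : ℤ) - Nat.card ↥(Ez z ⊓ centralizer ({s} : Set G))) ^ 2 =
        2 * Nat.card ↥(Ez z ⊓ centralizer ({s} : Set G)) ∧
      Nat.card ↥(Ez z ⊓ centralizer ({s} : Set G)) % p = 8192 % p ∧
      Nat.card ↥(Ez z ⊓ centralizer ({s} : Set G)) ≠ 8192 ∧
      (roots (Ez z ⊓ centralizer ({s} : Set G))).ncard % p = 4160 % p ∧
      (roots (Ez z ⊓ centralizer ({s} : Set G))).ncard % 3 = 2 := by
  set C := Ez z ⊓ centralizer ({s} : Set G) with hC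
  have hsp : s ^ p = 1 := ho ▸ pow_orderOf_eq_one s
  have hzC : z ∈ C := ⟨S.z_mem_E, mem_centralizer_singleton_iff.2 (mem_Cz.1 hs).symm⟩
  refine ⟨root_sq S.data inf_le_left hzC (fixed_nondeg S.data S.card_E (by omega) hsp (mem_Cz.1 hs)), ?_, ?_, ?_, ?_⟩
  · have h := ncard_modEq (X := (Ez z : Set G)) hsp fun x hx => conj_mem_Ez hs hx
    rw [← Nat.card_coe_set_eq, SetLike.coe_sort_coe, S.card_E] at h
    have e : {x | x ∈ (Ez z : Set G) ∧ s * x = x * s} = (C : Set G) := by
      ext x; simp [hC, mem_centralizer_singleton_iff, eq_comm]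
    rw [e, ← Nat.card_coe_set_eq, SetLike.coe_sort_coe] at h
    exact h.symm
  · intro h8
    have hCE : C = Ez z := Subgroup.eq_of_le_of_card_ge inf_le_left (by rw [S.card_E, h8]; norm_num)
    have hsE : s ∈ Ez z := S.cent_E s hs fun e he =>
      mem_centralizer_singleton_iff.1 (hCE ▸ he : e ∈ C).2
    have hd := orderOf_dvd_natCard (⟨s, hsE⟩ : ↥(Ez z))
    rw [orderOf_mk, ho, S.card_E] at hd
    have := (Nat.prime_dvd_prime_iff_eq Fact.out Nat.prime_two).1 ((Fact.out : p.Prime).dvd_of_dvd_pow hd)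
    omega
  · have h := ncard_modEq (X := roots (Ez z)) hsp fun x hx => ⟨conj_mem_Ez hs hx.1, by
      calc s * x * s⁻¹ * (s * x * s⁻¹) = s * (x * x) * s⁻¹ := by group
        _ = 1 := by rw [hx.2]; group⟩
    have e : {x | x ∈ roots (Ez z) ∧ s * x = x * s} = roots C := by
      ext x
      simp only [roots, hC, mem_inf, mem_centralizer_singleton_iff, Set.mem_ofPred_eq]
      constructor
      · rintro ⟨⟨a, b⟩, c⟩; exact ⟨⟨a, c.symm⟩, b⟩
      · rintro ⟨⟨a, c⟩, b⟩; exact ⟨⟨a, b⟩, c.symm⟩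
    rw [e, roots_E S] at h
    exact h.symm
  · refine roots_gen S inf_le_left hzC fun x hx => ⟨conj_mem_Ez S.gen_mem hx.1, mem_centralizer_singleton_iff.2 ?_⟩
    have hxs : Commute x s := mem_centralizer_singleton_iff.1 hx.2
    exact (((show Commute S.gen s from hcomm.symm).mul_left hxs).mul_left (Commute.inv_left hcomm.symm)).eq

/-- An element of prime order at least 5 of `C(z)` has a conjugate commuting with `gen`. -/
theorem exists_comm_gen (S : Setting z P) {s : G} {p : ℕ} [Fact p.Prime] (hp : p = 5 ∨ p = 7 ∨ p = 11)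
    (hs : s ∈ Cz z) (ho : orderOf s = p) :
    ∃ h ∈ Cz z, (h * s * h⁻¹) * S.gen = S.gen * (h * s * h⁻¹) := by
  classical
  set NP := Cz z ⊓ normalizer (P : Set G) with hNP
  have hpN : p ∣ Nat.card ↥NP := by
    let ι : ↥NP →* ↥(Cz z) := Subgroup.inclusion inf_le_left
    have hle : pairStab ≤ (S.κ.comp ι).range := fun g hg => by
      obtain ⟨k, hk, rfl⟩ := S.frattini' hg
      exact ⟨⟨k, k.2, hk⟩, rfl⟩
    have h := (Subgroup.card_dvd_of_le hle).trans (Subgroup.card_range_dvd (S.κ.comp ι))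
    rw [natCard_pairStab] at h
    exact dvd_trans (by rcases hp with rfl | rfl | rfl <;> norm_num) h
  obtain ⟨⟨s', hs'⟩, ho'⟩ := exists_prime_orderOf_dvd_card' (G := ↥NP) p hpN
  rw [orderOf_mk] at ho'
  have hfac : (Nat.card ↥(Cz z)).factorization p = 1 := by
    rw [S.card_Cz, show (10395 : ℕ) = 3 ^ 3 * 5 ^ 1 * 7 ^ 1 * 11 ^ 1 by norm_num,
      Nat.factorization_mul (by norm_num) (by norm_num), Nat.factorization_mul (by norm_num) (by norm_num),
      Nat.factorization_mul (by norm_num) (by norm_num), Nat.factorization_mul (by norm_num) (by norm_num)]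
    simp only [Finsupp.add_apply, Nat.Prime.factorization_pow Nat.prime_two,
      Nat.Prime.factorization_pow Nat.prime_three, Nat.Prime.factorization_pow (by norm_num : Nat.Prime 5),
      Nat.Prime.factorization_pow (by norm_num : Nat.Prime 7), Nat.Prime.factorization_pow (by norm_num : Nat.Prime 11)]
    rcases hp with rfl | rfl | rfl <;> simp
  let S₁ : Sylow p ↥(Cz z) := Sylow.ofCard (zpowers ⟨s, hs⟩)
    (by rw [hfac, Nat.card_zpowers, orderOf_mk, ho, pow_one])
  let S₂ : Sylow p ↥(Cz z) := Sylow.ofCard (zpowers ⟨s', hs'.1⟩)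
    (by rw [hfac, Nat.card_zpowers, orderOf_mk, ho', pow_one])
  obtain ⟨g, hg⟩ := MulAction.exists_smul_eq ↥(Cz z) S₁ S₂
  have hmem : g * ⟨s, hs⟩ * g⁻¹ ∈ (S₂ : Subgroup ↥(Cz z)) := by
    rw [← hg, Sylow.coe_subgroup_smul]
    exact Subgroup.smul_mem_pointwise_smul _ (MulAut.conj g) _ (mem_zpowers _)
  obtain ⟨n, hn⟩ := mem_zpowers_iff.1 (show g * ⟨s, hs⟩ * g⁻¹ ∈ zpowers (⟨s', hs'.1⟩ : ↥(Cz z)) from hmem)
  refine ⟨g, g.2, ?_⟩
  have e : (g : G) * s * (g : G)⁻¹ = s' ^ n := by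
    have := congrArg Subtype.val hn
    simpa using this.symm
  rw [e]
  have hc : s' * S.gen = S.gen * s' := by
    rcases conj_gen_cases S.gen_ord (by rw [S.gen_zpowers]; exact hs'.2) with h | h
    · exact mul_inv_eq_iff_eq_mul.1 h
    · exfalso
      have hpow : ∀ k : ℕ, Odd k → s' ^ k * S.gen * (s' ^ k)⁻¹ = S.gen⁻¹ := by
        rintro k ⟨j, rfl⟩
        induction j with
        | zero => simpa using h
        | succ j ih =>
          have h' : s' * S.gen⁻¹ * s'⁻¹ = S.gen := by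
            have := congrArg (·⁻¹) h
            simpa [mul_assoc] using this
          calc s' ^ (2 * (j + 1) + 1) * S.gen * (s' ^ (2 * (j + 1) + 1))⁻¹
              = s' * (s' * (s' ^ (2 * j + 1) * S.gen * (s' ^ (2 * j + 1))⁻¹) * s'⁻¹) * s'⁻¹ := by
                rw [show 2 * (j + 1) + 1 = (2 * j + 1) + 1 + 1 by ring, pow_succ', pow_succ']; group
            _ = _ := by rw [ih, h', h]
      have := hpow p (by rcases hp with rfl | rfl | rfl <;> decide)
      rw [← ho', pow_orderOf_eq_one, one_mul, inv_one, mul_one] at this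
      have h2 : orderOf S.gen ∣ 2 := orderOf_dvd_of_pow_eq_one (by
        rw [pow_two]; nth_rw 1 [this]; rw [inv_mul_cancel])
      rw [S.gen_ord] at h2
      norm_num at h2
  exact ((show Commute s' S.gen from hc).zpow_left n).eq

theorem card_cent_conj {h s : G} (hh : h ∈ Cz z) :
    Nat.card ↥(Ez z ⊓ centralizer ({h * s * h⁻¹} : Set G)) = Nat.card ↥(Ez z ⊓ centralizer ({s} : Set G)) := by
  refine Nat.card_congr
    { toFun := fun x => ⟨h⁻¹ * x * h, ?_, ?_⟩
      invFun := fun x => ⟨h * x * h⁻¹, ?_, ?_⟩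
      left_inv := fun x => Subtype.ext (by group)
      right_inv := fun x => Subtype.ext (by group) }
  · simpa using conj_mem_Ez (inv_mem hh) x.2.1
  · have := (show Commute (x : G) (h * s * h⁻¹) from mem_centralizer_singleton_iff.1 x.2.2).map
      (MulAut.conj h⁻¹).toMonoidHom
    simp only [MulEquiv.coe_toMonoidHom, MulAut.conj_apply, inv_inv] at this
    refine mem_centralizer_singleton_iff.2 ?_
    simpa [mul_assoc] using this.eq
  · exact conj_mem_Ez hh x.2.1
  · refine mem_centralizer_singleton_iff.2 ?_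
    exact ((show Commute (x : G) s from mem_centralizer_singleton_iff.1 x.2.2).map (MulAut.conj h).toMonoidHom).eq

theorem roots_conj {h s : G} (hh : h ∈ Cz z) :
    (roots (Ez z ⊓ centralizer ({h * s * h⁻¹} : Set G))).ncard = (roots (Ez z ⊓ centralizer ({s} : Set G))).ncard := by
  rw [← Set.ncard_image_of_injective (roots (Ez z ⊓ centralizer ({s} : Set G))) (MulAut.conj h).injective]
  congr 1
  ext y
  simp only [roots, mem_inf, mem_centralizer_singleton_iff, Set.mem_ofPred_eq, Set.mem_image, MulAut.conj_apply]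
  constructor
  · rintro ⟨⟨hy, hc⟩, h2⟩
    refine ⟨h⁻¹ * y * h, ⟨⟨by simpa using conj_mem_Ez (inv_mem hh) hy, ?_⟩, ?_⟩, by group⟩
    · calc h⁻¹ * y * h * s = h⁻¹ * (y * (h * s * h⁻¹)) * h := by group
        _ = h⁻¹ * (h * s * h⁻¹ * y) * h := by rw [hc]
        _ = _ := by group
    · calc h⁻¹ * y * h * (h⁻¹ * y * h) = h⁻¹ * (y * y) * h := by group
        _ = 1 := by rw [h2]; group
  · rintro ⟨x, ⟨⟨hx, hc⟩, h2⟩, rfl⟩
    refine ⟨⟨conj_mem_Ez hh hx, ?_⟩, ?_⟩
    · calc h * x * h⁻¹ * (h * s * h⁻¹) = h * (x * s) * h⁻¹ := by group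
        _ = h * (s * x) * h⁻¹ := by rw [hc]
        _ = _ := by group
    · calc h * x * h⁻¹ * (h * x * h⁻¹) = h * (x * x) * h⁻¹ := by group
        _ = 1 := by rw [h2]; group

theorem orderOf_conj' (h s : G) : orderOf (h * s * h⁻¹) = orderOf s :=
  orderOf_injective (MulAut.conj h).toMonoidHom (MulAut.conj h).injective s

/-- An element of order 5 of `C(z)` fixes 32 elements of `E`, twenty of them square roots of 1. -/
theorem fixed_five (S : Setting z P) {s : G} (hs : s ∈ Cz z) (ho : orderOf s = 5) :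
    Nat.card ↥(Ez z ⊓ centralizer ({s} : Set G)) = 32 ∧
      (roots (Ez z ⊓ centralizer ({s} : Set G))).ncard = 20 := by
  have : Fact (Nat.Prime 5) := ⟨by norm_num⟩
  obtain ⟨h, hh, hc⟩ := exists_comm_gen S (Or.inl rfl) hs ho
  obtain ⟨he, h5, hne, hr5, hr3⟩ := fixed_key S (by norm_num) (mul_mem (mul_mem hh hs) (inv_mem hh))
    ((orderOf_conj' h s).trans ho) hc
  rw [card_cent_conj hh, roots_conj hh] at *
  have hd : Nat.card ↥(Ez z ⊓ centralizer ({s} : Set G)) ∣ 2 ^ 13 :=
    S.card_E ▸ Subgroup.card_dvd_of_le inf_le_left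
  rcases root_solve hd he with h' | h' | h' | h' | h' | h' | h' <;> omega

/-- An element of order 7 of `C(z)` fixes only `⟨z⟩` in `E`. -/
theorem fixed_seven (S : Setting z P) {s : G} (hs : s ∈ Cz z) (ho : orderOf s = 7) :
    Nat.card ↥(Ez z ⊓ centralizer ({s} : Set G)) = 2 := by
  have : Fact (Nat.Prime 7) := ⟨by norm_num⟩
  obtain ⟨h, hh, hc⟩ := exists_comm_gen S (Or.inr (Or.inl rfl)) hs ho
  obtain ⟨he, h5, hne, hr5, hr3⟩ := fixed_key S (by norm_num) (mul_mem (mul_mem hh hs) (inv_mem hh))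
    ((orderOf_conj' h s).trans ho) hc
  rw [card_cent_conj hh, roots_conj hh] at *
  have hd : Nat.card ↥(Ez z ⊓ centralizer ({s} : Set G)) ∣ 2 ^ 13 :=
    S.card_E ▸ Subgroup.card_dvd_of_le inf_le_left
  rcases root_solve hd he with h' | h' | h' | h' | h' | h' | h' <;> omega

/-- An element of order 7 or 11 of `C(z)` fixes no involution of `E` but `z`. -/
theorem fixed_involution (S : Setting z P) {s a : G} {p : ℕ} (hp : p = 7 ∨ p = 11) (hs : s ∈ Cz z)
    (ho : orderOf s = p) (ha : a ∈ Ez z) (ha2 : a * a = 1) (hc : s * a = a * s) : a = 1 ∨ a = z := by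
  have : Fact p.Prime := ⟨by rcases hp with rfl | rfl <;> norm_num⟩
  obtain ⟨h, hh, hcg⟩ := exists_comm_gen S (Or.inr hp) hs ho
  obtain ⟨he, h5, hne, hr5, hr3⟩ := fixed_key S (by rcases hp with rfl | rfl <;> norm_num)
    (mul_mem (mul_mem hh hs) (inv_mem hh)) ((orderOf_conj' h s).trans ho) hcg
  rw [card_cent_conj hh, roots_conj hh] at *
  have hd : Nat.card ↥(Ez z ⊓ centralizer ({s} : Set G)) ∣ 2 ^ 13 :=
    S.card_E ▸ Subgroup.card_dvd_of_le inf_le_left
  have hN : (roots (Ez z ⊓ centralizer ({s} : Set G))).ncard = 2 := by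
    rcases hp with rfl | rfl <;> rcases root_solve hd he with h' | h' | h' | h' | h' | h' | h' <;> omega
  have hsub : ({1, z} : Set G) ⊆ roots (Ez z ⊓ centralizer ({s} : Set G)) := by
    rintro x (rfl | rfl)
    · exact ⟨one_mem _, one_mul 1⟩
    · exact ⟨⟨S.z_mem_E, mem_centralizer_singleton_iff.2 (mem_Cz.1 hs).symm⟩, S.z_sq⟩
  have heq := Set.eq_of_subset_of_ncard_le hsub (by rw [hN, Set.ncard_pair S.z_ne.symm]) (Set.toFinite _)
  have hm : a ∈ roots (Ez z ⊓ centralizer ({s} : Set G)) :=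
    ⟨⟨ha, mem_centralizer_singleton_iff.2 hc.symm⟩, ha2⟩
  rw [← heq] at hm
  exact hm

end Cfsg.Agent.J4Type.Pentad
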