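import Cfsg.Agent.Lib.Golay.TrioStab
import Cfsg.Agent.Lib.Golay.SextetStab

/-!
Groups of Janko-four type, pentad local (helper8): kernel checks on the classes of words modulo the Golay
code.  A class is named by the twelve high bits of its representative with low bits zero.

* `cls`, `act` : the class of a mask and the action of a coded permutation;
* the elements `d7` (order 7), `d3` (order 3), `dw`, `d5` (order 5) and their fixed classes.
-/

set_option autoImplicit false
set_option maxRecDepth 40000

namespace Cfsg.Agent.J4Type.Pentad

open Cfsg Cfsg.Agent.Golay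

/-- The class of a mask. -/
def cls (m : ℕ) : ℕ := (m ^^^ enc (m % 4096)) >>> 12

/-- The action of a coded permutation on the classes. -/
def act (d h : ℕ) : ℕ := cls (imgMask d (h <<< 12))

/-- The class of a pair of point numbers. -/
def dcls (i j : ℕ) : ℕ := cls ((1 <<< i) ||| (1 <<< j))

/-- The parity of the number of bits. -/
def evenB (h : ℕ) : Bool := popcount h % 2 == 0

/-- The seven sextets refining the trio, as classes. -/
def zcs : List ℕ := [3259, 904, 3891, 1409, 2362, 1545, 2738]

/-- The class `0` and the seven sextets. -/
def zset : List ℕ := 0 :: zcs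

/-- Six generators of the kernel on the octads and sextets. -/
def rgens : List ℕ :=
  [0x126faa8a6a08eb649096c2360b877, 0x2e95798aa98924b41a744a2c0b877, 0x31f3a1ca9a8956236069222b0b877,
   0x3d845c0b2b0915998ed4aa340b877, 0x926fa99caa452b641a744856016e3, 0x1126fac072a010b618ed4a8368dcae]

/-- An element of order 7 of the trio group fixing the octads. -/
def d7 : ℕ := 0x8d08f5a448addacb4a07328b30046e

/-- An element fixing two of the fixed points of `d7` and the octads, moving the third. -/
def dw : ℕ := 0xbaeb47a869980ecb4a066a0a48882e

/-- An element of order 3 permuting the octads and fixing the sextets. -/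
def d3 : ℕ := 0x45c0e2924b09d8315676a3d316c0ca

/-- An element of order 5 fixing the points 0 and 23. -/
def d5 : ℕ := 0xbadcd349f6610e9454459d2011c540

/-- Pairs of points in one octad, each with a third point and the number of a kernel element fixing the
latter and moving the first to the second. -/
def witnesses : List (ℕ × ℕ × ℕ × ℕ) :=
  [(0, 1, 6, 26), (0, 2, 6, 45), (0, 3, 6, 11), (0, 5, 6, 48), (0, 14, 6, 17), (0, 17, 6, 36), (0, 23, 6, 6),
   (6, 7, 4, 55), (6, 8, 4, 15), (6, 9, 4, 23), (6, 10, 4, 31), (6, 13, 4, 7), (6, 16, 4, 39), (6, 18, 4, 47),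
   (4, 11, 0, 58), (4, 12, 0, 57), (4, 15, 0, 61), (4, 19, 0, 62), (4, 20, 0, 59), (4, 21, 0, 60), (4, 22, 0, 56)]

/-- The kernel test over all classes. -/
def overClasses (p : ℕ → Bool) : Bool := allBits (fun h => !evenB h || p h) 12 0

theorem zcs_ok : (List.range 7).all (fun i => (trioSextets.getD i []).all fun a => cls a == zcs.getD i 0) = true ∧
    distinctBits 12 zcs = true ∧ zcs.all (fun h => h != 0 && Nat.blt h 4096 && evenB h) = true ∧
    zset.all (fun a => zset.all fun b => zset.contains (a ^^^ b)) = true := by
  decide +kernel

theorem rgens_mem : rgens.all (fun d => trioNormal.contains d) = true := by decide +kernel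

theorem fixed_rgens : overClasses (fun h => !(rgens.all fun d => act d h == h) || zset.contains h) = true := by
  decide +kernel

theorem fixed_normal : trioNormal.all (fun d => zset.all fun h => act d h == h) = true := by decide +kernel

theorem pair_octad : witnesses.all (fun w =>
    act (trioNormal.getD w.2.2.2 0) (dcls w.1 w.2.2.1) ^^^ dcls w.1 w.2.2.1 == dcls w.1 w.2.1 &&
    Nat.blt w.2.2.2 64) = true := by
  decide +kernel

theorem pair_commutator : trioNormal.all (fun d => witnesses.all fun w =>
    zset.contains (act d (dcls w.1 w.2.1) ^^^ dcls w.1 w.2.1)) = true := by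
  decide +kernel

theorem d7_ok : h0Ok d7 = true ∧ (List.range 3).all (fun i => octImg d7 i == i) = true ∧
    (List.range 24).all (fun i => fn d7 (fn d7 (fn d7 (fn d7 (fn d7 (fn d7 (fn d7 i)))))) == i) = true ∧
    (List.range 24).all (fun i => (fn d7 i == i) == ([5, 12, 13].contains i)) = true := by
  decide +kernel

theorem fixed_d7 : overClasses (fun h => (act d7 h == h) == ([0, 3, 2916, 2919].contains h)) = true := by
  decide +kernel

theorem d7_pairs : dcls 5 12 = 2919 ∧ dcls 5 13 = 2916 ∧ dcls 12 13 = 3 := by decide +kernel

theorem d7_free : trioNormal.all (fun d =>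
    (List.range 24).all (fun i => fn d i == i) || !(List.range 24).all fun i => fn d (fn d7 i) == fn d7 (fn d i)) =
      true := by
  decide +kernel

theorem d7_octads : allSpan (fun m => !(popcount m == 8 && imgMask d7 m == m) || trio0.contains m) rows 0 = true := by
  decide +kernel

theorem d3_ok : h0Ok d3 = true ∧ (List.range 7).all (fun i => labImg d3 i == i) = true ∧
    (List.range 3).all (fun i => octImg d3 i != i) = true ∧
    (List.range 24).all (fun i => fn d3 (fn d3 (fn d3 i)) == i) = true := by
  decide +kernel

theorem d3_free : trioNormal.all (fun d =>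
    (List.range 24).all (fun i => fn d i == i) || !(List.range 24).all fun i => fn d (fn d3 i) == fn d3 (fn d i)) =
      true := by
  decide +kernel

theorem dw_ok : h0Ok dw = true ∧ (List.range 3).all (fun i => octImg dw i == i) = true ∧
    fn dw 5 = 5 ∧ fn dw 12 = 12 ∧ fn dw 13 ≠ 13 := by
  decide +kernel

theorem regular_pairs : distinctBits 10 (trioNormal.map fun d => fn d 5 + 32 * fn d 12) = true := by decide +kernel

theorem d5_ok : isAut d5 = true ∧ fn d5 0 = 0 ∧ fn d5 23 = 23 ∧
    (List.range 24).all (fun i => fn d5 (fn d5 (fn d5 (fn d5 (fn d5 i)))) == i) = true ∧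
    (List.range 24).all (fun i => (fn d5 i == i) == ([0, 3, 18, 23].contains i)) = true := by
  decide +kernel

theorem fixed_d5 : overClasses (fun h =>
    !(act d5 h == h) || [0, 726, 1141, 1699, 2112, 2710, 3125, 3811].contains h) = true := by
  decide +kernel

theorem trio_sextet : trio0.all (fun o => (trioSextets.getD 0 []).any fun a => (trioSextets.getD 0 []).any fun b =>
    (a ||| b) == o) = true ∧
    (trioSextets.getD 0 []).all (fun a => (trioSextets.getD 1 []).all fun b => Nat.ble (popcount (a &&& b)) 2) =
      true ∧ (List.range 7).all (fun i => sextetOk (trioSextets.getD i [])) = true := by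
  decide +kernel

theorem label_commute : (trioLinear.filter fun d => (List.range 7).all fun i =>
    labImg d (labImg d7 i) == labImg d7 (labImg d i)).length = 7 ∧
    trioLinear.all (fun d => (List.range 7).any fun i => labImg d7 (labImg d (labImg d7 i)) != labImg d i) = true := by
  decide +kernel

end Cfsg.Agent.J4Type.Pentad
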