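import Cfsg.Agent.Lib.J4Type.PentadTrio

/-!
Groups of Janko-four type, pentad local (helper8): elements of the trio group and their fixed points in `V`.

* `wel` : pairs within an octad: commutators of `Rk`, moved into `Zc` by it, with trivial joint centraliser;
* `e7`, `e3`, `ew`, `e5` : the elements of orders 7, 3, 2, 5 used for the odd local subgroups;
* `eq_one_of_sextets` : an element of order dividing 3 fixing the tetrads of two refining sextets.
-/

set_option autoImplicit false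
set_option linter.unusedSectionVars false
set_option maxRecDepth 40000

open scoped Pointwise symmDiff

namespace Cfsg.Agent.J4Type.Pentad

open Cfsg Cfsg.Agent.Golay MulAction

theorem pts_pair {i j : ℕ} (hi : i < 24) (hj : j < 24) :
    pts ((1 <<< i) ||| (1 <<< j)) = {pt i, pt j} := by
  ext p
  simp only [mem_pts, Nat.testBit_or, Nat.one_shiftLeft, Nat.testBit_two_pow, Bool.or_eq_true,
    decide_eq_true_eq, Finset.mem_insert, Finset.mem_singleton]
  constructor
  · rintro (h | h) <;> rw [h, pt_idx] <;> simp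
  · rintro (h | h) <;> rw [h, idx_pt (by assumption)] <;> simp

theorem evenB_pair : ∀ i < 24, ∀ j < 24, i ≠ j → evenB ((1 <<< i) ||| (1 <<< j)) = true := by decide +kernel

theorem witness_bounds : ∀ w ∈ witnesses, w.1 < 24 ∧ w.2.1 < 24 ∧ w.2.2.1 < 24 ∧
    w.1 ≠ w.2.1 ∧ w.1 ≠ w.2.2.1 ∧ w.2.2.2 < 64 := by decide +kernel

theorem witness_cover : ∀ i < 24, ∃ w ∈ witnesses, ∃ w' ∈ witnesses,
    w.1 = w'.1 ∧ w.2.1 ≠ w'.2.1 ∧ (w.1 = i ∨ w.2.1 = i) := by decide +kernel

theorem pt_ne {i j : ℕ} (hi : i < 24) (hj : j < 24) (h : i ≠ j) : pt i ≠ pt j := fun e =>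
  h (by rw [← idx_pt hi, ← idx_pt hj, e])

/-- The element of order 7 of the trio group. -/
noncomputable def e7 : ↥M24 := pe d7 (isAut_of_h0Ok d7_ok.1)

/-- The element permuting the octads. -/
noncomputable def e3 : ↥M24 := pe d3 (isAut_of_h0Ok d3_ok.1)

/-- The element moving the third fixed point. -/
noncomputable def ew : ↥M24 := pe dw (isAut_of_h0Ok dw_ok.1)

/-- The element of order 5. -/
noncomputable def e5 : ↥M24 := pe d5 d5_ok.1

theorem mem_G0_of_code {d : ℕ} (h : h0Ok d = true) : pe d (isAut_of_h0Ok h) ∈ G0 := (h0Elem d h).1.2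

theorem pe_apply {d : ℕ} (hd : isAut d = true) {i : ℕ} (hi : i < 24) :
    ((pe d hd : ↥M24) : Equiv.Perm GolayPt) (pt i) = pt (fn d i) := by
  rw [pe_coe, toPerm_pt (validPerm_of_isAut hd) hi]

theorem perm_ext_pt {σ τ : ↥M24} (h : ∀ i < 24, (σ : Equiv.Perm GolayPt) (pt i) = (τ : Equiv.Perm GolayPt) (pt i)) :
    σ = τ := by
  refine Subtype.ext (Equiv.ext fun p => ?_)
  have := h (idx p) (idx_lt p)
  rwa [pt_idx] at this

theorem fn_lt {d : ℕ} (hd : isAut d = true) {i : ℕ} (hi : i < 24) : fn d i < 24 :=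
  fn_lt_of_valid (validPerm_of_isAut hd) hi

theorem apply_eq_iff {d : ℕ} (hd : isAut d = true) {i : ℕ} (hi : i < 24) :
    ((pe d hd : ↥M24) : Equiv.Perm GolayPt) (pt i) = pt i ↔ fn d i = i := by
  rw [pe_apply hd hi]
  exact ⟨fun h => by rw [← idx_pt (fn_lt hd hi), h, idx_pt hi], fun h => by rw [h]⟩

theorem pow_seven_e7 : e7 ^ 7 = 1 := by
  refine perm_ext_pt fun i hi => ?_
  have h := List.all_eq_true.1 d7_ok.2.2.1 i (List.mem_range.2 hi)
  rw [beq_iff_eq] at h
  have hd := isAut_of_h0Ok d7_ok.1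
  have step : ∀ (n : ℕ), ((e7 ^ n : ↥M24) : Equiv.Perm GolayPt) (pt i) = pt ((fn d7)^[n] i) ∧ (fn d7)^[n] i < 24 := by
    intro n
    induction n with
    | zero => exact ⟨by simp, hi⟩
    | succ n ih =>
      refine ⟨?_, by rw [Function.iterate_succ_apply']; exact fn_lt hd ih.2⟩
      rw [pow_succ', Function.iterate_succ_apply', Subgroup.coe_mul, Equiv.Perm.mul_apply, ih.1]
      exact pe_apply hd ih.2
  rw [(step 7).1]
  simp only [Function.iterate_succ_apply', Function.iterate_zero_apply]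
  rw [h]
  simp

theorem e7_fix {i : ℕ} (hi : i < 24) :
    (e7 : Equiv.Perm GolayPt) (pt i) = pt i ↔ i = 5 ∨ i = 12 ∨ i = 13 := by
  rw [e7, apply_eq_iff _ hi]
  have h := List.all_eq_true.1 d7_ok.2.2.2 i (List.mem_range.2 hi)
  rw [beq_iff_eq] at h
  have h' : (fn d7 i == i) = true ↔ ([5, 12, 13].contains i) = true := by rw [h]
  simpa using h'

theorem orderOf_e7 : orderOf e7 = 7 := by
  have : Fact (Nat.Prime 7) := ⟨by norm_num⟩
  refine orderOf_eq_prime pow_seven_e7 fun h => ?_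
  have h1 : (e7 : Equiv.Perm GolayPt) (pt 0) = pt 0 := by rw [h]; rfl
  rw [e7_fix (by norm_num)] at h1
  omega

theorem cube_e3 : e3 ^ 3 = 1 := by
  refine perm_ext_pt fun i hi => ?_
  have hd := isAut_of_h0Ok d3_ok.1
  have h := List.all_eq_true.1 d3_ok.2.2.2 i (List.mem_range.2 hi)
  rw [beq_iff_eq] at h
  rw [pow_succ, pow_succ, pow_one, Subgroup.coe_mul, Subgroup.coe_mul, Equiv.Perm.mul_apply,
    Equiv.Perm.mul_apply, e3, pe_apply hd hi, pe_apply hd (fn_lt hd hi), pe_apply hd (fn_lt hd (fn_lt hd hi)), h]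
  simp

theorem orderOf_e3 : orderOf e3 = 3 := by
  have : Fact (Nat.Prime 3) := ⟨by norm_num⟩
  refine orderOf_eq_prime cube_e3 fun h => ?_
  have h1 : ((e3 : Equiv.Perm GolayPt)) (pt 0) = pt 0 := by rw [h]; rfl
  rw [e3, apply_eq_iff _ (by norm_num)] at h1
  revert h1
  decide +kernel

theorem pow_five_e5 : e5 ^ 5 = 1 := by
  refine perm_ext_pt fun i hi => ?_
  have hd := d5_ok.1
  have h := List.all_eq_true.1 d5_ok.2.2.2.1 i (List.mem_range.2 hi)
  rw [beq_iff_eq] at h
  have step : ∀ (n : ℕ), ((e5 ^ n : ↥M24) : Equiv.Perm GolayPt) (pt i) = pt ((fn d5)^[n] i) ∧ (fn d5)^[n] i < 24 := by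
    intro n
    induction n with
    | zero => exact ⟨by simp, hi⟩
    | succ n ih =>
      refine ⟨?_, by rw [Function.iterate_succ_apply']; exact fn_lt hd ih.2⟩
      rw [pow_succ', Function.iterate_succ_apply', Subgroup.coe_mul, Equiv.Perm.mul_apply, ih.1]
      exact pe_apply hd ih.2
  rw [(step 5).1]
  simp only [Function.iterate_succ_apply', Function.iterate_zero_apply]
  rw [h]
  simp

theorem orderOf_e5 : orderOf e5 = 5 := by
  have : Fact (Nat.Prime 5) := ⟨by norm_num⟩
  refine orderOf_eq_prime pow_five_e5 fun h => ?_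
  have h1 : ((e5 : Equiv.Perm GolayPt)) (pt 1) = pt 1 := by rw [h]; rfl
  rw [e5, apply_eq_iff _ (by norm_num)] at h1
  revert h1
  decide +kernel

theorem e5_fix : (e5 : Equiv.Perm GolayPt) (pt 0) = pt 0 ∧ (e5 : Equiv.Perm GolayPt) (pt 23) = pt 23 :=
  ⟨(apply_eq_iff d5_ok.1 (by norm_num)).2 d5_ok.2.1, (apply_eq_iff d5_ok.1 (by norm_num)).2 d5_ok.2.2.1⟩

/-- No kernel element but `1` commutes with a tabulated element that is free. -/
theorem free_of_check {e : ℕ} (he : isAut e = true)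
    (h : trioNormal.all (fun d => (List.range 24).all (fun i => fn d i == i) ||
      !(List.range 24).all fun i => fn d (fn e i) == fn e (fn d i)) = true)
    {σ : ↥M24} (hσ : σ ∈ Rk) (hc : σ * pe e he = pe e he * σ) : σ = 1 := by
  obtain ⟨d, hd, hda, rfl⟩ := exists_code hσ
  have hh := List.all_eq_true.1 h d hd
  rw [Bool.or_eq_true] at hh
  rcases hh with h1 | h2
  · refine perm_ext_pt fun i hi => ?_
    rw [(apply_eq_iff hda hi).2 (beq_iff_eq.1 (List.all_eq_true.1 h1 i (List.mem_range.2 hi)))]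
    simp
  · exfalso
    rw [Bool.not_eq_true', ← Bool.not_eq_true] at h2
    refine h2 (List.all_eq_true.2 fun i hi => beq_iff_eq.2 ?_)
    rw [List.mem_range] at hi
    have e1 := congrArg (fun x : ↥M24 => (x : Equiv.Perm GolayPt) (pt i)) hc
    simp only [Subgroup.coe_mul, Equiv.Perm.mul_apply, pe_apply he hi, pe_apply hda hi,
      pe_apply hda (fn_lt he hi), pe_apply he (fn_lt hda hi)] at e1
    rw [← idx_pt (fn_lt hda (fn_lt he hi)), e1, idx_pt (fn_lt he (fn_lt hda hi))]

theorem e7_free {σ : ↥M24} (hσ : σ ∈ Rk) (hc : σ * e7 = e7 * σ) : σ = 1 :=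
  free_of_check _ d7_free hσ hc

theorem e3_free {σ : ↥M24} (hσ : σ ∈ Rk) (hc : σ * e3 = e3 * σ) : σ = 1 :=
  free_of_check _ d3_free hσ hc

theorem e7_mem : e7 ∈ G0 := mem_G0_of_code d7_ok.1

theorem e3_mem : e3 ∈ G0 := mem_G0_of_code d3_ok.1

theorem ew_mem : ew ∈ G0 := mem_G0_of_code dw_ok.1

theorem octHom_code {d : ℕ} (h : h0Ok d = true) (ho : (List.range 3).all (fun i => octImg d i == i) = true) :
    octHom (h0Elem d h) = 1 := Equiv.ext fun i => Fin.ext (by
  rw [octHom_h0Elem, beq_iff_eq.1 (List.all_eq_true.1 ho i.val (List.mem_range.2 i.isLt))]; rfl)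

theorem e3_matHom : matHom (h0Elem d3 d3_ok.1) = 1 := by
  rw [← map_one matHom]
  refine matHom_eq_of_labPerm (Equiv.ext fun i => Fin.ext ?_)
  rw [labPerm_h0Elem, map_one, beq_iff_eq.1 (List.all_eq_true.1 d3_ok.2.1 i.val (List.mem_range.2 i.isLt))]
  rfl

theorem e3_moves (i : Fin 3) : octHom (h0Elem d3 d3_ok.1) i ≠ i := fun h => by
  have h' := octHom_h0Elem d3 d3_ok.1 i
  rw [h] at h'
  have h2 := List.all_eq_true.1 d3_ok.2.2.1 i.val (List.mem_range.2 i.isLt)
  simp [← h'] at h2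

theorem ew_fix : (ew : Equiv.Perm GolayPt) (pt 5) = pt 5 ∧ (ew : Equiv.Perm GolayPt) (pt 12) = pt 12 ∧
    (ew : Equiv.Perm GolayPt) (pt 13) ≠ pt 13 :=
  ⟨(apply_eq_iff _ (by norm_num)).2 dw_ok.2.2.1, (apply_eq_iff _ (by norm_num)).2 dw_ok.2.2.2.1,
    fun h => dw_ok.2.2.2.2 ((apply_eq_iff _ (by norm_num)).1 h)⟩

theorem Rk_regular {σ : ↥M24} (hσ : σ ∈ Rk) (h1 : (σ : Equiv.Perm GolayPt) (pt 5) = pt 5)
    (h2 : (σ : Equiv.Perm GolayPt) (pt 12) = pt 12) : σ = 1 := by
  obtain ⟨d, hd, hda, rfl⟩ := exists_code hσ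
  obtain ⟨d0, hd0, hda0, e0⟩ := exists_code (one_mem Rk)
  have hk := nodup_of_distinctBits _ _ regular_pairs
  have f5 := (apply_eq_iff hda (i := 5) (by norm_num)).1 h1
  have f12 := (apply_eq_iff hda (i := 12) (by norm_num)).1 h2
  have g5 := (apply_eq_iff hda0 (i := 5) (by norm_num)).1 (by rw [← e0]; rfl)
  have g12 := (apply_eq_iff hda0 (i := 12) (by norm_num)).1 (by rw [← e0]; rfl)
  have := List.inj_on_of_nodup_map hk hd hd0 (by simp only [f5, f12, g5, g12])
  subst this
  rw [e0]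

/-- Octads fixed by the element of order 7 are those of the trio. -/
theorem e7_octads {o : Finset GolayPt} (ho : o ∈ octads) (hfix : (e7 : Equiv.Perm GolayPt) • o = o) :
    o ∈ toFinS trio0 := by
  have h := supports_forall d7_octads ho.1
  have hd := validPerm_of_isAut (isAut_of_h0Ok d7_ok.1)
  have h8 : popcount (maskOf o) = 8 := (popcount_maskOf o).trans ho.2
  have him : imgMask d7 (maskOf o) = maskOf o := by
    refine pts_injOn (imgMask_lt hd _) (maskOf_lt o) ?_
    rw [pts_imgMask hd, pts_maskOf]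
    rw [e7, pe_coe] at hfix
    exact hfix
  simp only [h8, him, beq_self_eq_true, Bool.and_self, Bool.not_true, Bool.false_or] at h
  exact mem_toFinS.2 ⟨_, List.contains_iff_mem.1 h, pts_maskOf o⟩

/-- An element fixing the tetrads of the first sextet is in the trio group. -/
theorem mem_G0_of_tetrads {σ : ↥M24} (h : ∀ t ∈ sxt 0, (σ : Equiv.Perm GolayPt) • t = t) : σ ∈ G0 := by
  refine mem_stabilizer_iff.2 (smul_eq_self_of_maps fun o ho => ?_)
  obtain ⟨m, hm, rfl⟩ := mem_toFinS.1 ho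
  have hu := List.all_eq_true.1 trio_sextet.1 m hm
  simp only [List.any_eq_true, beq_iff_eq] at hu
  obtain ⟨a, ha, b, hb, rfl⟩ := hu
  rw [pts_or, Finset.smul_finset_union, h _ (mem_toFinS.2 ⟨a, ha, rfl⟩), h _ (mem_toFinS.2 ⟨b, hb, rfl⟩),
    ← pts_or]
  exact ho

/-- An element of order dividing 3 fixing the tetrads of the first sextet and the second sextet. -/
theorem eq_one_of_sextets {σ : ↥M24} (h3 : σ ^ 3 = 1) (h0 : ∀ t ∈ sxt 0, (σ : Equiv.Perm GolayPt) • t = t)
    (h1 : (σ : Equiv.Perm GolayPt) • sxt 1 = sxt 1) : σ = 1 := by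
  classical
  set g : Equiv.Perm GolayPt := (σ : Equiv.Perm GolayPt) with hg
  refine Subtype.ext (Equiv.ext fun x => ?_)
  by_contra hx
  have hx' : g x ≠ x := hx
  have hg3 : ∀ y, g (g (g y)) = y := fun y => by
    have := congrArg (fun τ : ↥M24 => (τ : Equiv.Perm GolayPt) y) h3
    simpa [pow_succ, Subgroup.coe_mul, Equiv.Perm.mul_apply] using this
  -- the tetrad of the first sextet at `x`
  have cover : ∀ (i : Fin 7) (y : GolayPt), ∃ t ∈ sxt i, y ∈ t := fun i y => by
    have hS := sxt_sextet i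
    have hsum : ((sxt i).biUnion id).card = 24 := by
      rw [Finset.card_biUnion (t := id) fun t ht u hu hne => sextet_disjoint hS ht hu hne]
      simp only [id]
      rw [Finset.sum_congr rfl fun t ht => tetrad_card ht]
      simp [(sxt_props i).1]
    have huniv : (sxt i).biUnion id = Finset.univ := Finset.eq_univ_of_card _ (hsum.trans rfl)
    have hy : y ∈ (sxt i).biUnion id := huniv ▸ Finset.mem_univ y
    simpa using hy
  obtain ⟨t, ht, hxt⟩ := cover 0 x
  have inv : ∀ y ∈ t, g y ∈ t := fun y hy => by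
    have := Finset.smul_mem_smul_finset (a := g) hy
    rwa [h0 t ht] at this
  have hsmall : ∀ u ∈ sxt 1, (t ∩ u).card ≤ 2 := fun u hu => by
    obtain ⟨a, ha, rfl⟩ := mem_toFinS.1 ht
    obtain ⟨b, hb, rfl⟩ := mem_toFinS.1 hu
    rw [← pts_and, card_pts]
    exact Nat.le_of_ble_eq_true (List.all_eq_true.1 (List.all_eq_true.1 trio_sextet.2.1 a ha) b hb)
  -- two of the three points share a tetrad of the second sextet
  have trip : ∀ y, y ∈ t → g y ≠ y → ∀ u ∈ sxt 1, ¬ (y ∈ u ∧ g y ∈ u) := by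
    intro y hy hne u hu ⟨hyu, hgu⟩
    have hu' : g • u ∈ sxt 1 := h1 ▸ Finset.smul_mem_smul_finset hu
    have hgu' : g y ∈ g • u := Finset.smul_mem_smul_finset hyu
    have heq : g • u = u := by
      by_contra hne'
      exact Finset.disjoint_left.1 (sextet_disjoint (sxt_sextet 1) hu' hu hne') hgu' hgu
    have hg2 : g (g y) ∈ u := heq ▸ Finset.smul_mem_smul_finset hgu
    have hne2 : g (g y) ≠ y := fun e => hne (by conv_lhs => rw [← e]; rw [hg3])
    have hsub : ({y, g y, g (g y)} : Finset GolayPt) ⊆ t ∩ u := by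
      intro z hz
      simp only [Finset.mem_insert, Finset.mem_singleton] at hz
      rcases hz with rfl | rfl | rfl <;>
        simp [hy, inv _ hy, inv _ (inv _ hy), hyu, hgu, hg2]
    have h3' : ({y, g y, g (g y)} : Finset GolayPt).card = 3 :=
      Finset.card_eq_three.2 ⟨y, g y, g (g y), hne.symm, hne2.symm, fun e => hne (g.injective e).symm, rfl⟩
    have := Finset.card_le_card hsub
    have := hsmall u hu
    omega
  obtain ⟨u, hu, hxu⟩ := cover 1 x
  obtain ⟨u', hu', hyu⟩ := cover 1 (g x)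
  obtain ⟨u'', hu'', hzu⟩ := cover 1 (g (g x))
  have hy' : g (g x) ≠ g x := fun e => hx' (g.injective e)
  have hz' : g (g (g x)) ≠ g (g x) := fun e => hy' (g.injective e)
  -- three tetrads meet `t` in the three points, one also in the fourth
  have hd1 : u ≠ u' := fun e => trip x hxt hx' u hu ⟨hxu, e ▸ hyu⟩
  have hd2 : u' ≠ u'' := fun e => trip _ (inv _ hxt) hy' u' hu' ⟨hyu, e ▸ hzu⟩
  have hd3 : u'' ≠ u := fun e => trip _ (inv _ (inv _ hxt)) hz' u'' hu''
    ⟨hzu, by rw [hg3]; exact e ▸ hxu⟩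
  obtain ⟨⟨a, ha, rfl⟩, ⟨b, hb, rfl⟩, ⟨b', hb', rfl⟩, ⟨b'', hb'', rfl⟩⟩ :=
    (⟨mem_toFinS.1 ht, mem_toFinS.1 hu, mem_toFinS.1 hu', mem_toFinS.1 hu''⟩ : _ ∧ _ ∧ _ ∧ _)
  have hcnt : ((trioSextets.getD 1 []).filter fun c => (a &&& c) != 0).length ≤ 2 := by
    have hall : ∀ c ∈ trioSextets.getD 0 [],
        ((trioSextets.getD 1 []).filter fun e => (c &&& e) != 0).length ≤ 2 := by decide +kernel
    exact hall a ha
  have hin : ∀ c, c ∈ trioSextets.getD 1 [] → ∀ y, y ∈ pts a → y ∈ pts c →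
      c ∈ (trioSextets.getD 1 []).filter fun c => (a &&& c) != 0 := by
    intro c hc y hy1 hy2
    refine List.mem_filter.2 ⟨hc, bne_iff_ne.2 fun e => ?_⟩
    have : y ∈ pts (a &&& c) := by rw [pts_and]; exact Finset.mem_inter.2 ⟨hy1, hy2⟩
    rw [e, pts_zero] at this
    exact Finset.notMem_empty _ this
  have hsub : ({b, b', b''} : Finset ℕ) ⊆
      ((trioSextets.getD 1 []).filter fun c => (a &&& c) != 0).toFinset := by
    intro c hc
    simp only [Finset.mem_insert, Finset.mem_singleton] at hc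
    rw [List.mem_toFinset]
    rcases hc with rfl | rfl | rfl
    · exact hin _ hb x hxt hxu
    · exact hin _ hb' _ (inv _ hxt) hyu
    · exact hin _ hb'' _ (inv _ (inv _ hxt)) hzu
  have h3' : ({b, b', b''} : Finset ℕ).card = 3 :=
    Finset.card_eq_three.2 ⟨b, b', b'', fun e => hd1 (by rw [e]), fun e => hd3 (by rw [e]),
      fun e => hd2 (by rw [e]), rfl⟩
  have := (Finset.card_le_card hsub).trans (List.toFinset_card_le _)
  omega

variable {G : Type*} [Group G] [Finite G] {D : SplitData G} (M : VModel D)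

/-- The element of a tabulated pair within an octad. -/
def wel (w : ℕ × ℕ × ℕ × ℕ) : G := psi M (dcls w.1 w.2.1)

theorem psi_dcls {i j : ℕ} (hi : i < 24) (hj : j < 24) (h : i ≠ j) :
    psi M (dcls i j) = vset M {pt i, pt j} := by
  rw [dcls, ← vset_pts M (evenB_pair i hi j hj h), pts_pair hi hj]

theorem dcls_ok {i j : ℕ} (hi : i < 24) (hj : j < 24) (h : i ≠ j) :
    dcls i j < 4096 ∧ evenB (dcls i j) = true := by
  have hlt : (1 <<< i) ||| (1 <<< j) < 2 ^ 24 :=
    Nat.or_lt_two_pow (by rw [Nat.one_shiftLeft]; exact Nat.pow_lt_pow_right (by norm_num) hi)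
      (by rw [Nat.one_shiftLeft]; exact Nat.pow_lt_pow_right (by norm_num) hj)
  exact ⟨cls_lt hlt, evenB_cls' hlt (evenB_pair i hi j hj h)⟩

theorem wel_commutator {w : ℕ × ℕ × ℕ × ℕ} (hw : w ∈ witnesses) :
    ∃ σ ∈ Rk, ∃ v ∈ D.V, wel M w = D.el σ * v * (D.el σ)⁻¹ * v := by
  obtain ⟨h1, h2, h3, -, h13, h4⟩ := witness_bounds w hw
  have hd : trioNormal.getD w.2.2.2 0 ∈ trioNormal := by
    rw [List.getD_eq_getElem _ 0 (by rw [trio_lengths.1]; exact h4)]
    exact List.getElem_mem _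
  obtain ⟨hok, hR⟩ := normal_mem hd
  refine ⟨_, hR, psi M (dcls w.1 w.2.2.1), psi_mem M _, ?_⟩
  obtain ⟨hlt, hev⟩ := dcls_ok h1 h3 h13
  have hc := List.all_eq_true.1 pair_octad w hw
  rw [Bool.and_eq_true, beq_iff_eq] at hc
  rw [psi_act M _ hlt hev, ← psi_xor, hc.1, wel]

theorem wel_conj {w : ℕ × ℕ × ℕ × ℕ} (hw : w ∈ witnesses) {σ : ↥M24} (hσ : σ ∈ Rk) :
    D.el σ * wel M w * (D.el σ)⁻¹ * wel M w ∈ Zc M := by
  obtain ⟨d, hd, hda, rfl⟩ := exists_code hσ
  obtain ⟨h1, h2, -, h12, -, -⟩ := witness_bounds w hw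
  obtain ⟨hlt, hev⟩ := dcls_ok h1 h2 h12
  rw [wel, psi_act M hda hlt hev, ← psi_xor]
  exact psi_mem_Zc M (List.contains_iff_mem.1 (List.all_eq_true.1 (List.all_eq_true.1 pair_commutator d hd) w hw))

/-- Only `1` fixes all the tabulated pairs. -/
theorem eq_one_of_fix_wel {σ : ↥M24} (h : ∀ w ∈ witnesses, D.el σ * wel M w * (D.el σ)⁻¹ = wel M w) : σ = 1 := by
  have hset : ∀ w ∈ witnesses, (σ : Equiv.Perm GolayPt) • ({pt w.1, pt w.2.1} : Finset GolayPt) =
      {pt w.1, pt w.2.1} := by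
    intro w hw
    obtain ⟨h1, h2, -, h12, -, -⟩ := witness_bounds w hw
    have hc : ({pt w.1, pt w.2.1} : Finset GolayPt).card = 2 := Finset.card_pair (pt_ne h1 h2 h12)
    have e := h w hw
    rw [wel, psi_dcls M h1 h2 h12, vset_smul M σ (by rw [hc])] at e
    exact vset_eq_short M (by rw [Finset.card_smul_finset, hc]) (by rw [hc])
      (by rw [Finset.card_smul_finset, hc]; norm_num) e
  have key : ∀ {a b : GolayPt}, (σ : Equiv.Perm GolayPt) • ({a, b} : Finset GolayPt) = {a, b} →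
      (σ : Equiv.Perm GolayPt) a = a ∨ (σ : Equiv.Perm GolayPt) a = b := by
    intro a b hab
    have : (σ : Equiv.Perm GolayPt) a ∈ ({a, b} : Finset GolayPt) :=
      hab ▸ Finset.smul_mem_smul_finset (a := (σ : Equiv.Perm GolayPt)) (Finset.mem_insert_self a {b})
    simpa using this
  refine perm_ext_pt fun i hi => ?_
  simp only [OneMemClass.coe_one, Equiv.Perm.one_apply]
  obtain ⟨w, hw, w', hw', e1, hne, hcase⟩ := witness_cover i hi
  obtain ⟨h1, h2, -, h12, -, -⟩ := witness_bounds w hw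
  obtain ⟨-, h2', -, -, -, -⟩ := witness_bounds w' hw'
  have ha : (σ : Equiv.Perm GolayPt) (pt w.1) = pt w.1 := by
    rcases key (hset w hw) with e | e
    · exact e
    · have hs' := hset w' hw'
      rw [← e1] at hs'
      rcases key hs' with e' | e'
      · exact e'
      · exact absurd (e.symm.trans e') (pt_ne h2 h2' hne)
  rcases hcase with rfl | rfl
  · exact ha
  · have hs : (σ : Equiv.Perm GolayPt) • ({pt w.2.1, pt w.1} : Finset GolayPt) = {pt w.2.1, pt w.1} := by
      rw [Finset.pair_comm]; exact hset w hw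
    rcases key hs with e | e
    · exact e
    · exact absurd ((σ : Equiv.Perm GolayPt).injective (e.trans ha.symm)) (pt_ne h2 h1 h12.symm)

/-- The fixed points of the element of order 7 in `V`. -/
theorem e7_fixed {x : G} (hx : x ∈ D.V) :
    D.el e7 * x * (D.el e7)⁻¹ = x ↔ x = 1 ∨ x = vset M {pt 5, pt 12} ∨ x = vset M {pt 5, pt 13} ∨
      x = vset M {pt 12, pt 13} := by
  rw [← psi_dcls M (by norm_num) (by norm_num) (by norm_num), ← psi_dcls M (by norm_num) (by norm_num) (by norm_num),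
    ← psi_dcls M (by norm_num) (by norm_num) (by norm_num), d7_pairs.1, d7_pairs.2.1, d7_pairs.2.2]
  obtain ⟨h, hh, he, rfl⟩ := psi_surj M hx
  rw [e7, psi_fixed_iff M _ hh he]
  have hc := of_overClasses fixed_d7 hh he
  rw [beq_iff_eq] at hc
  have hiff : act d7 h = h ↔ h = 0 ∨ h = 3 ∨ h = 2916 ∨ h = 2919 := by
    have h' : (act d7 h == h) = true ↔ ([0, 3, 2916, 2919].contains h) = true := by rw [hc]
    simpa using h'
  rw [hiff]
  constructor
  · rintro (rfl | rfl | rfl | rfl)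
    · exact Or.inl (psi_zero M)
    · exact Or.inr (Or.inr (Or.inr rfl))
    · exact Or.inr (Or.inr (Or.inl rfl))
    · exact Or.inr (Or.inl rfl)
  · have inj : ∀ k, k < 4096 → evenB k = true → psi M h = psi M k → h = k := fun k hk hk' e =>
      psi_injective M hh hk he hk' e
    rintro (e | e | e | e)
    · exact Or.inl (inj 0 (by norm_num) (by decide +kernel) (e.trans (psi_zero M).symm))
    · exact Or.inr (Or.inr (Or.inr (inj _ (by norm_num) (by decide +kernel) e)))
    · exact Or.inr (Or.inr (Or.inl (inj _ (by norm_num) (by decide +kernel) e)))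
    · exact Or.inr (Or.inl (inj _ (by norm_num) (by decide +kernel) e))

include M in
/-- The element of order 5 fixes at most eight elements of `V`, among them a sextet. -/
theorem e5_fixed_card : Set.ncard {x : G | x ∈ D.V ∧ D.el e5 * x * (D.el e5)⁻¹ = x} ≤ 8 := by
  classical
  let L : List ℕ := [0, 726, 1141, 1699, 2112, 2710, 3125, 3811]
  have hsub : {x : G | x ∈ D.V ∧ D.el e5 * x * (D.el e5)⁻¹ = x} ⊆ ↑((L.map (psi M)).toFinset) := by
    rintro x ⟨hx, hfix⟩
    obtain ⟨h, hh, he, rfl⟩ := psi_surj M hx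
    rw [e5, psi_fixed_iff M _ hh he] at hfix
    have hc := of_overClasses fixed_d5 hh he
    simp only [hfix, beq_self_eq_true, Bool.not_true, Bool.false_or] at hc
    rw [Finset.mem_coe, List.mem_toFinset]
    exact List.mem_map_of_mem (List.contains_iff_mem.1 hc)
  refine (Set.ncard_le_ncard hsub (Set.toFinite _)).trans ?_
  rw [Set.ncard_coe_finset]
  exact (List.toFinset_card_le _).trans (by simp [L])

end Cfsg.Agent.J4Type.Pentad
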