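import Cfsg.Agent.Lib.J4Type.PentadFiveNorm
import Cfsg.Agent.Lib.J4Type.PentadCompl

/-!
Groups of Janko-four type, pentad local (helper8): the three statements from the context.

* `order_five_local`, `order_seven_local`, `pentad_local` : S5572, S5573, S5574 given a `PCtx`.
-/

set_option autoImplicit false
set_option linter.unusedSectionVars false

open scoped Pointwise

namespace Cfsg.Agent.J4Type.Pentad

open Cfsg Cfsg.Agent.Golay MulAction Subgroup

theorem centralizer_zpowers {H : Type*} [Group H] (q : H) :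
    centralizer (zpowers q : Set H) = centralizer ({q} : Set H) := by
  refine le_antisymm (centralizer_le (Set.singleton_subset_iff.2 (mem_zpowers q))) fun c hc =>
    mem_centralizer_iff.2 fun x hx => ?_
  obtain ⟨k, rfl⟩ := hx
  exact ((show Commute c q from mem_centralizer_singleton_iff.1 hc).zpow_right k).symm.eq

theorem map_centralizer {H : Type*} [Group H] (e : H ≃* H) (A : Subgroup H) :
    (centralizer (A : Set H)).map e.toMonoidHom = centralizer (A.map e.toMonoidHom : Set H) := by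
  ext x
  constructor
  · rintro ⟨c, hc, rfl⟩
    refine mem_centralizer_iff.2 ?_
    rintro _ ⟨a, ha, rfl⟩
    rw [← map_mul, ← map_mul, mem_centralizer_iff.1 hc a ha]
  · intro hx
    refine ⟨e.symm x, mem_centralizer_iff.2 fun a ha => e.injective ?_, e.apply_symm_apply x⟩
    rw [map_mul, map_mul, e.apply_symm_apply]
    exact mem_centralizer_iff.1 hx _ ⟨a, ha, rfl⟩

theorem map_direct {H : Type*} [Group H] (e : H ≃* H) {A B S : Subgroup H} (h : IsInternalDirectProduct A B S) :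
    IsInternalDirectProduct (A.map e.toMonoidHom) (B.map e.toMonoidHom) (S.map e.toMonoidHom) := by
  obtain ⟨h1, h2, h3, h4, h5⟩ := h
  refine ⟨map_mono h1, map_mono h2, ?_, ?_, ?_⟩
  · rintro _ ⟨a, ha, rfl⟩ _ ⟨b, hb, rfl⟩
    rw [← map_mul, ← map_mul, h3 a ha b hb]
  · rw [← map_inf _ _ _ e.injective, h4, Subgroup.map_bot]
  · rw [← Subgroup.map_sup, h5]

/-- A non-split extension of an elementary group of order 8 is preserved by isomorphisms. -/
theorem extension_congr {J J' X : Type*} [Group J] [Group J'] [Group X] (e : J ≃* J')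
    (h : ∃ (E : Subgroup J) (_ : E.Normal), IsElementaryAbelian 2 E ∧ Nat.card ↥E = 8 ∧
      Nonempty (J ⧸ E ≃* X) ∧ ∀ K : Subgroup J, ¬ E.IsComplement' K) :
    ∃ (E : Subgroup J') (_ : E.Normal), IsElementaryAbelian 2 E ∧ Nat.card ↥E = 8 ∧
      Nonempty (J' ⧸ E ≃* X) ∧ ∀ K : Subgroup J', ¬ E.IsComplement' K := by
  obtain ⟨E, hEn, ⟨hc, hp⟩, h8, ⟨φ⟩, hK⟩ := h
  have hn : (E.map e.toMonoidHom).Normal := hEn.map _ e.surjective
  refine ⟨E.map e.toMonoidHom, hn, ⟨⟨⟨?_⟩⟩, ?_⟩, ?_, ⟨(QuotientGroup.congr E (E.map e.toMonoidHom) e rfl).symm.trans φ⟩, fun K hc' => ?_⟩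
  · rintro ⟨_, a, ha, rfl⟩ ⟨_, b, hb, rfl⟩
    refine Subtype.ext ?_
    show e a * e b = e b * e a
    rw [← map_mul, ← map_mul]
    exact congrArg e (congrArg Subtype.val (hc.is_comm.comm ⟨a, ha⟩ ⟨b, hb⟩))
  · rintro _ ⟨a, ha, rfl⟩
    rw [← map_pow, hp a ha, map_one]
  · rw [card_map_of_injective e.injective, h8]
  · refine hK (K.comap e.toMonoidHom) ?_
    refine ⟨fun p r hpr => ?_, fun x => ?_⟩
    · have h1 := hc'.1 (a₁ := (⟨e p.1, p.1, p.1.2, rfl⟩, ⟨e p.2, p.2.2⟩))
        (a₂ := (⟨e r.1, r.1, r.1.2, rfl⟩, ⟨e r.2, r.2.2⟩)) (by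
          show e (p.1 : J) * e (p.2 : J) = e (r.1 : J) * e (r.2 : J)
          rw [← map_mul, ← map_mul]
          exact congrArg e hpr)
      simp only [Prod.mk.injEq] at h1
      exact Prod.ext (Subtype.ext (e.injective (congrArg Subtype.val h1.1)))
        (Subtype.ext (e.injective (congrArg Subtype.val h1.2)))
    · obtain ⟨⟨⟨_, a, ha, rfl⟩, k⟩, hk⟩ := hc'.2 (e x)
      refine ⟨(⟨a, ha⟩, ⟨e.symm k, ?_⟩), e.injective ?_⟩
      · show e (e.symm (k : J')) ∈ K
        rw [e.apply_symm_apply]; exact k.2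
      · show e (a * e.symm (k : J')) = e x
        rw [map_mul, e.apply_symm_apply]
        exact hk

variable {G : Type*} [Group G] [Finite G] {z : G} {P : Subgroup G} (C : PCtx z P)

include C in
theorem factorization_five : (Nat.card G).factorization 5 = 1 := by
  have h1 : 5 ∣ Nat.card G := by
    obtain ⟨q, -, ho⟩ := exists_q5 C
    exact ho ▸ orderOf_dvd_natCard q
  have h2 := not_25_dvd C
  have hne : Nat.card G ≠ 0 := Nat.card_pos.ne'
  refine le_antisymm (not_lt.1 fun hlt => h2 ?_)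
    ((Nat.Prime.dvd_iff_one_le_factorization (by norm_num) hne).1 h1)
  exact ((Nat.Prime.pow_dvd_iff_le_factorization (k := 2) (by norm_num) hne).2 hlt)

include C in
theorem factorization_seven : (Nat.card G).factorization 7 = 1 := by
  have h1 : 7 ∣ Nat.card G := orderOf_s7 C ▸ orderOf_dvd_natCard (s7 C)
  have h2 := not_49_dvd C
  have hne : Nat.card G ≠ 0 := Nat.card_pos.ne'
  refine le_antisymm (not_lt.1 fun hlt => h2 ?_)
    ((Nat.Prime.dvd_iff_one_le_factorization (by norm_num) hne).1 h1)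
  exact ((Nat.Prime.pow_dvd_iff_le_factorization (k := 2) (by norm_num) hne).2 hlt)

include C in
/-- Subgroups of order 7 are conjugate to `⟨s7⟩`. -/
theorem conj_seven {S : Subgroup G} (hS : Nat.card ↥S = 7) :
    ∃ g : G, (zpowers (s7 C)).map (MulAut.conj g).toMonoidHom = S := by
  have : Fact (Nat.Prime 7) := ⟨by norm_num⟩
  let T₁ : Sylow 7 G := Sylow.ofCard (zpowers (s7 C))
    (by rw [factorization_seven C, Nat.card_zpowers, orderOf_s7, pow_one])
  let T₂ : Sylow 7 G := Sylow.ofCard S (by rw [factorization_seven C, hS, pow_one])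
  obtain ⟨g, hg⟩ := MulAction.exists_smul_eq G T₁ T₂
  refine ⟨g, ?_⟩
  have e := congrArg (fun T : Sylow 7 G => (T : Subgroup G)) hg
  simp only [Sylow.coe_subgroup_smul] at e
  exact e

include C in
/-- The normaliser of a subgroup of order 5 of `C(z)`. -/
theorem order_five_local {Q : Subgroup G} (hQ : Nat.card ↥Q = 5) (hQz : Q ≤ Cz z) :
    ¬ (25 ∣ Nat.card G) ∧
    (∃ J : Subgroup G, IsInternalDirectProduct Q J (centralizer (Q : Set G)) ∧
      ∃ (E : Subgroup ↥J) (_ : E.Normal), IsElementaryAbelian 2 E ∧ Nat.card ↥E = 8 ∧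
        Nonempty (↥J ⧸ E ≃* Matrix.SpecialLinearGroup (Fin 3) (ZMod 2)) ∧ ∀ K : Subgroup ↥J, ¬ E.IsComplement' K) ∧
    (∃ R : Subgroup G, Q ≤ R ∧ R ≤ normalizer (Q : Set G) ∧ Nat.card ↥R = 20 ∧
      R ⊓ centralizer (Q : Set G) = Q) ∧
    Nat.card ↥(normalizer (Q : Set G)) = 2 ^ 8 * 3 * 5 * 7 := by
  have : Fact (Nat.Prime 5) := ⟨by norm_num⟩
  obtain ⟨q, hq, ho⟩ := exists_q5 C
  obtain ⟨a, ha⟩ := exists_prime_orderOf_dvd_card' (G := ↥Q) 5 (by rw [hQ])
  rw [← Subgroup.orderOf_coe] at ha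
  have hgenQ : zpowers (a : G) = Q :=
    eq_of_le_of_card_ge (zpowers_le.2 a.2) (by rw [hQ, Nat.card_zpowers, ha])
  obtain ⟨h, hh, hmem⟩ := conj_five_Cz C (q_Cz C hq) (hQz a.2) ho ha
  set e := MulAut.conj h
  have hQe : (zpowers q).map e.toMonoidHom = Q := by
    rw [← hgenQ, MonoidHom.map_zpowers]
    exact eq_of_le_of_card_ge (zpowers_le.2 hmem)
      (by rw [Nat.card_zpowers, Nat.card_zpowers, ha]; exact ((orderOf_conj' h q).trans ho).ge)
  have hC : centralizer (Q : Set G) = (centralizer ({q} : Set G)).map e.toMonoidHom := by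
    rw [← hQe, ← centralizer_zpowers q, map_centralizer]
  have hN : normalizer (Q : Set G) = (normalizer (zpowers q : Set G)).map e.toMonoidHom := by
    rw [← hQe, map_equiv_normalizer_eq]
  refine ⟨not_25_dvd C, ⟨(C.J5 q).map e.toMonoidHom, ?_, ?_⟩, ?_, ?_⟩
  · rw [hC, ← hQe]
    exact map_direct e (direct_five C hq ho)
  · exact extension_congr ((C.J5 q).equivMapOfInjective e.toMonoidHom e.injective) (five_extension C hq ho)
  · obtain ⟨R, h1, h2, h3, h4⟩ := exists_frobenius C hq ho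
    refine ⟨R.map e.toMonoidHom, hQe ▸ map_mono h1, hN ▸ map_mono h2, ?_, ?_⟩
    · rw [card_map_of_injective e.injective, h3]
    · rw [hC, ← map_inf _ _ _ e.injective, h4, hQe]
  · rw [hN, card_map_of_injective e.injective, card_norm_five C hq ho]
    norm_num

include C in
/-- The normaliser of a subgroup of order 7. -/
theorem order_seven_local {S : Subgroup G} (hS : Nat.card ↥S = 7) :
    ¬ (49 ∣ Nat.card G) ∧
    (∃ I : Subgroup G, IsInternalDirectProduct S I (centralizer (S : Set G)) ∧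
      Nonempty (↥I ≃* Equiv.Perm (Fin 5))) ∧
    Nat.card ↥(normalizer (S : Set G)) = 3 * Nat.card ↥(centralizer (S : Set G)) ∧
    Nat.card ↥(normalizer (S : Set G)) = 2 ^ 3 * 3 ^ 2 * 5 * 7 := by
  obtain ⟨g, hg⟩ := conj_seven C hS
  set e := MulAut.conj g
  have hC : centralizer (S : Set G) = (centralizer ({s7 C} : Set G)).map e.toMonoidHom := by
    rw [← hg, ← centralizer_zpowers (s7 C), map_centralizer]
  have hN : normalizer (S : Set G) = (normalizer (zpowers (s7 C) : Set G)).map e.toMonoidHom := by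
    rw [← hg, map_equiv_normalizer_eq]
  refine ⟨not_49_dvd C, ⟨C.CS.map e.toMonoidHom, ?_, ⟨?_⟩⟩, ?_, ?_⟩
  · rw [hC, ← hg]
    exact map_direct e (direct_seven C)
  · exact (C.CS.equivMapOfInjective e.toMonoidHom e.injective).symm.trans (equivCS C)
  · rw [hN, hC, card_map_of_injective e.injective, card_map_of_injective e.injective, card_norm_s7,
      card_cent_s7]
  · rw [hN, card_map_of_injective e.injective, card_norm_s7]
    norm_num

include C in
/-- The pentad local. -/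
theorem pentad_local :
    ∃ L : Subgroup G, IsSpecial 2 ↥L ∧ Nat.card ↥L = 2 ^ 15 ∧ Nat.card ↥(center ↥L) = 8 ∧
    Nonempty (↥(normalizer (L : Set G)) ⧸ L.subgroupOf (normalizer (L : Set G)) ≃*
      Equiv.Perm (Fin 5) × Matrix.SpecialLinearGroup (Fin 3) (ZMod 2)) ∧
    (∀ K : Subgroup ↥(normalizer (L : Set G)), ¬ (L.subgroupOf (normalizer (L : Set G))).IsComplement' K) ∧
    (∃ K₁ : Subgroup G, K₁ ≤ normalizer (L : Set G) ∧ Nonempty (↥K₁ ≃* Equiv.Perm (Fin 5))) ∧
    (∃ K₂ : Subgroup G, K₂ ≤ normalizer (L : Set G) ∧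
      Nonempty (↥K₂ ≃* Matrix.SpecialLinearGroup (Fin 3) (ZMod 2))) ∧
    (∃ Q : Sylow 5 G, normalizer ((Q : Subgroup G) : Set G) ≤ normalizer (L : Set G)) ∧
    (∃ S : Sylow 7 G, normalizer ((S : Subgroup G) : Set G) ≤ normalizer (L : Set G)) := by
  have : Fact (Nat.Prime 5) := ⟨by norm_num⟩
  have : Fact (Nat.Prime 7) := ⟨by norm_num⟩
  obtain ⟨q, hq, ho⟩ := exists_q5 C
  let Q : Sylow 5 G := Sylow.ofCard (zpowers q) (by rw [factorization_five C, Nat.card_zpowers, ho, pow_one])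
  let S : Sylow 7 G := Sylow.ofCard (zpowers (s7 C))
    (by rw [factorization_seven C, Nat.card_zpowers, orderOf_s7, pow_one])
  refine ⟨C.L, isSpecial_L C, card_L C, card_center_L C, quotient_equiv C, no_complement C,
    ⟨C.CS, ?_, ⟨equivCS C⟩⟩, exists_linear_group C, ⟨Q, ?_⟩, ⟨S, ?_⟩⟩
  · rw [normalizer_L]; exact CS_le_NZ C
  · rw [normalizer_L]; exact norm_five_le C hq ho
  · rw [normalizer_L]; exact norm_s7_le C

end Cfsg.Agent.J4Type.Pentad
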