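import Cfsg.Agent.Lib.J4Type.PentadLift

/-!
Groups of Janko-four type, pentad local (helper8): elements of order 5 centralising a conjugate of `t`.

* `exists_five_witness` : some element of order 5 of `C(z)` commutes with a conjugate of `t` in `C(z)`;
* `card_cent_five_t` : the centraliser of such a pair has order at most 80.
-/

set_option autoImplicit false
set_option linter.unusedSectionVars false

open scoped Pointwise

namespace Cfsg.Agent.J4Type.Pentad

open Cfsg Cfsg.Agent.Golay MulAction Subgroup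

theorem pt_pair : ({pt 23, pt 0} : Finset GolayPt) = {pA, pB} := by decide +kernel

theorem exists_conj_e5 {g : ↥M24} (hg : orderOf g = 5) :
    ∃ τ : ↥M24, ∃ k : ℕ, (τ * g * τ⁻¹) ^ k = e5 := by
  have : Fact (Nat.Prime 5) := ⟨by norm_num⟩
  have hf : (Nat.card ↥M24).factorization 5 = 1 := by
    rw [natCard_M24, show 244823040 = 5 ^ 1 * 48964608 by norm_num,
      Nat.factorization_mul (by norm_num) (by norm_num), Finsupp.add_apply,
      Nat.Prime.factorization_pow (by norm_num : Nat.Prime 5),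
      Nat.factorization_eq_zero_of_not_dvd (by norm_num)]
    simp
  let S₁ : Sylow 5 ↥M24 := Sylow.ofCard (Subgroup.zpowers g) (by rw [hf, Nat.card_zpowers, hg, pow_one])
  let S₂ : Sylow 5 ↥M24 :=
    Sylow.ofCard (Subgroup.zpowers e5) (by rw [hf, Nat.card_zpowers, orderOf_e5, pow_one])
  obtain ⟨τ, hτ⟩ := MulAction.exists_smul_eq ↥M24 S₁ S₂
  have hmem : τ * g * τ⁻¹ ∈ (S₂ : Subgroup ↥M24) := by
    rw [← hτ, Sylow.coe_subgroup_smul]
    exact Subgroup.smul_mem_pointwise_smul g (MulAut.conj τ) _ (Subgroup.mem_zpowers g)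
  have ho : orderOf (τ * g * τ⁻¹) = 5 := by
    rw [← hg]; exact orderOf_injective (MulAut.conj τ).toMonoidHom (MulAut.conj τ).injective g
  have hgen : Subgroup.zpowers (τ * g * τ⁻¹) = Subgroup.zpowers e5 := by
    refine Subgroup.eq_of_le_of_card_ge (Subgroup.zpowers_le.2 hmem) ?_
    rw [Nat.card_zpowers, Nat.card_zpowers, ho, orderOf_e5]
  obtain ⟨k, hk⟩ := ((isOfFinOrder_of_finite (τ * g * τ⁻¹)).mem_powers_iff_mem_zpowers).2
    (hgen ▸ Subgroup.mem_zpowers e5)
  exact ⟨τ, k, hk⟩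

variable {G : Type*} [Group G] [Finite G] {z : G} {P : Subgroup G} (C : PCtx z P)

theorem el_pow (σ : ↥M24) : ∀ n : ℕ, C.D.el (σ ^ n) = C.D.el σ ^ n
  | 0 => by rw [pow_zero, pow_zero, C.D.el_one]
  | n + 1 => by rw [pow_succ, pow_succ, C.D.el_mul, el_pow σ n]

theorem ncard_fixed_five {σ : ↥M24} (ho : orderOf σ = 5) :
    Set.ncard {x : G | x ∈ C.D.V ∧ C.D.el σ * x * (C.D.el σ)⁻¹ = x} ≤ 8 := by
  obtain ⟨τ, k, hk⟩ := exists_conj_e5 ho
  refine le_trans ?_ (e5_fixed_card C.M)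
  refine Set.ncard_le_ncard_of_injOn (fun x => C.D.el τ * x * (C.D.el τ)⁻¹) ?_
    (fun a _ b _ e => (MulAut.conj (C.D.el τ)).injective e) (Set.toFinite _)
  rintro x ⟨hx, hfix⟩
  refine ⟨C.D.conj_mem (C.D.el_norm τ) hx, ?_⟩
  have hc : Commute (C.D.el (τ * σ * τ⁻¹)) (C.D.el τ * x * (C.D.el τ)⁻¹) := by
    rw [C.D.el_mul, C.D.el_mul, C.D.el_inv]
    have h := (show Commute (C.D.el σ) x from mul_inv_eq_iff_eq_mul.1 hfix).map (MulAut.conj (C.D.el τ)).toMonoidHom
    exact h
  refine mul_inv_eq_iff_eq_mul.2 ?_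
  rw [← hk, el_pow]
  exact (hc.pow_left k).eq

theorem e5_commutes_duad : C.D.el e5 * vset C.M {pt 23, pt 0} = vset C.M {pt 23, pt 0} * C.D.el e5 := by
  refine mul_inv_eq_iff_eq_mul.1 ?_
  rw [vset_smul C.M _ (by rw [Finset.card_pair (pt_ne (by norm_num) (by norm_num) (by norm_num))])]
  rw [Finset.smul_finset_insert, Finset.smul_finset_singleton, Equiv.Perm.smul_def, Equiv.Perm.smul_def,
    e5_fix.1, e5_fix.2]

theorem orderOf_el5 : orderOf (C.D.el e5) = 5 := by
  have : Fact (Nat.Prime 5) := ⟨by norm_num⟩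
  refine orderOf_eq_prime (by rw [← el_pow, pow_five_e5, C.D.el_one]) fun h => ?_
  have h' := pr_el C.D e5
  rw [(pr_eq_one C.D).2 (show C.D.el e5 ∈ C.D.V by rw [h]; exact one_mem _)] at h'
  have := orderOf_e5
  rw [← h', orderOf_one] at this
  norm_num at this

/-- An element of order 5 of `C(z)` commuting with a conjugate of `t` in `C(z)`. -/
theorem exists_five_witness :
    ∃ q u : G, q ∈ Cz z ∧ orderOf q = 5 ∧ u ∈ Cz z ∧ u * q = q * u ∧ u * u = 1 ∧ IsConj C.D.t u := by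
  classical
  have hne : ∀ i j : ℕ, i < 24 → j < 24 → i ≠ j → pt i ≠ pt j := fun i j hi hj h => pt_ne hi hj h
  set T : Finset GolayPt := {pt 0, pt 3, pt 18, pt 23}
  have hT4 : T.card = 4 := by decide +kernel
  set w := vset C.M T
  have hwV : w ∈ C.D.V := C.M.mem _
  have hfixT : (e5 : Equiv.Perm GolayPt) • T = T := by
    have h3 : (e5 : Equiv.Perm GolayPt) (pt 3) = pt 3 :=
      (apply_eq_iff d5_ok.1 (by norm_num)).2 (by decide +kernel)
    have h18 : (e5 : Equiv.Perm GolayPt) (pt 18) = pt 18 :=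
      (apply_eq_iff d5_ok.1 (by norm_num)).2 (by decide +kernel)
    simp only [T, Finset.smul_finset_insert, Finset.smul_finset_singleton, Equiv.Perm.smul_def, h3, h18,
      e5_fix.1, e5_fix.2]
  have hwe : C.D.el e5 * w = w * C.D.el e5 := by
    refine mul_inv_eq_iff_eq_mul.1 ?_
    rw [vset_smul C.M _ (by rw [hT4]), hfixT]
  have hwz : IsConj w z := by
    rcases C.D.eq_one_or hwV with h | ⟨σ, h⟩ | ⟨σ, h⟩
    · exfalso
      have h0 : vset C.M T = vset C.M (∅ : Finset GolayPt) := by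
        have h00 : vset C.M (∅ : Finset GolayPt) = 1 := by
          have hd : GolayModule.indW (∅ : Finset GolayPt) = GolayModule.indW (∅ : Finset GolayPt) +
              GolayModule.indW (∅ : Finset GolayPt) := by
            rw [support_add]; simp
          have e : vset C.M (∅ : Finset GolayPt) = vset C.M ∅ * vset C.M ∅ := by
            conv_lhs => rw [vset, hd, C.M.map_add]
            rfl
          rwa [left_eq_mul] at e
        rw [h00]; exact h
      have e := vset_eq_short C.M (by rw [hT4]) (by simp) (by rw [hT4, Finset.card_empty]; norm_num) h0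
      rw [e, Finset.card_empty] at hT4
      exact absurd hT4 (by norm_num)
    · exfalso
      obtain ⟨a, b, hab, e⟩ := t_orbit_duad C.M σ
      have h0 : vset C.M T = vset C.M {a, b} := h.symm.trans e
      have e' := vset_eq_short C.M (by rw [hT4]) (by rw [Finset.card_pair hab])
        (by rw [hT4, Finset.card_pair hab]; norm_num) h0
      rw [e', Finset.card_pair hab] at hT4
      exact absurd hT4 (by norm_num)
    · obtain ⟨σ', h'⟩ := zel_long C.M 0
      have h1 : IsConj C.D.s w := isConj_iff.2 ⟨_, h⟩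
      have h2 : IsConj C.D.s (zel C.M 0) := isConj_iff.2 ⟨_, h'⟩
      have h3 := h1.symm.trans h2
      rwa [C.zel_z] at h3
  obtain ⟨g, hg⟩ := isConj_iff.1 hwz
  have hconj : ∀ y : G, y * w = w * y → g * y * g⁻¹ ∈ Cz z := fun y hy => by
    have h : g * y * g⁻¹ * (g * w * g⁻¹) = g * w * g⁻¹ * (g * y * g⁻¹) := by
      rw [show g * y * g⁻¹ * (g * w * g⁻¹) = g * (y * w) * g⁻¹ by group, hy]
      group
    rw [hg] at h
    exact mem_Cz.2 h
  set f := vset C.M {pt 23, pt 0}
  have hab := hne 23 0 (by norm_num) (by norm_num) (by norm_num)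
  have hfV : f ∈ C.D.V := vset_mem_V C hab
  refine ⟨g * C.D.el e5 * g⁻¹, g * f * g⁻¹, hconj _ hwe, (orderOf_conj' g _).trans (orderOf_el5 C),
    hconj _ (C.D.comm hfV hwV), ?_, ?_, (duad_conj C hab).trans (isConj_iff.2 ⟨g, rfl⟩)⟩
  · calc g * f * g⁻¹ * (g * C.D.el e5 * g⁻¹) = g * (f * C.D.el e5) * g⁻¹ := by group
      _ = g * (C.D.el e5 * f) * g⁻¹ := by rw [← e5_commutes_duad C]
      _ = _ := by group
  · rw [show g * f * g⁻¹ * (g * f * g⁻¹) = g * (f * f) * g⁻¹ by group, C.D.sq_one hfV, mul_one, mul_inv_cancel]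

/-- The centraliser of an element of order 5 and a conjugate of `t` commuting with it. -/
theorem card_cent_five_t {q u : G} (hq : orderOf q = 5) (hu : IsConj C.D.t u) (hc : q * u = u * q) :
    Nat.card ↥(centralizer ({q} : Set G) ⊓ centralizer ({u} : Set G)) ≤ 80 := by
  classical
  have : Fact (Nat.Prime 5) := ⟨by norm_num⟩
  have hab : pt 23 ≠ pt 0 := pt_ne (by norm_num) (by norm_num) (by norm_num)
  set f := vset C.M {pt 23, pt 0}
  obtain ⟨k, hk⟩ := isConj_iff.1 (hu.symm.trans (duad_conj C hab))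
  set q' := k * q * k⁻¹
  have hq'f : q' * f = f * q' := by
    have h : q' * (k * u * k⁻¹) = k * u * k⁻¹ * q' := by
      show k * q * k⁻¹ * (k * u * k⁻¹) = k * u * k⁻¹ * (k * q * k⁻¹)
      rw [show k * q * k⁻¹ * (k * u * k⁻¹) = k * (q * u) * k⁻¹ by group, hc]
      group
    rwa [hk] at h
  have hq'N : q' ∈ NV C.D := duad_cent C hab hq'f
  set X := centralizer ({q'} : Set G) ⊓ centralizer ({f} : Set G) with hXdef
  have hcard : Nat.card ↥(centralizer ({q} : Set G) ⊓ centralizer ({u} : Set G)) ≤ Nat.card ↥X := by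
    refine Nat.card_le_card_of_injective (fun c => (⟨k * (c : G) * k⁻¹, ?_⟩ : ↥X)) fun a b e =>
      Subtype.ext ((MulAut.conj k).injective (congrArg Subtype.val e))
    obtain ⟨h1, h2⟩ := Subgroup.mem_inf.1 c.2
    rw [mem_centralizer_singleton_iff] at h1 h2
    refine Subgroup.mem_inf.2 ⟨mem_centralizer_singleton_iff.2 ?_, mem_centralizer_singleton_iff.2 ?_⟩
    · show k * (c : G) * k⁻¹ * (k * q * k⁻¹) = k * q * k⁻¹ * (k * (c : G) * k⁻¹)
      rw [show k * (c : G) * k⁻¹ * (k * q * k⁻¹) = k * ((c : G) * q) * k⁻¹ by group, h1]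
      group
    · have h : k * (c : G) * k⁻¹ * (k * u * k⁻¹) = k * u * k⁻¹ * (k * (c : G) * k⁻¹) := by
        rw [show k * (c : G) * k⁻¹ * (k * u * k⁻¹) = k * ((c : G) * u) * k⁻¹ by group, h2]
        group
      rwa [hk] at h
  refine hcard.trans ?_
  have hXN : X ≤ NV C.D := fun c hc' =>
    duad_cent C hab (mem_centralizer_singleton_iff.1 (Subgroup.mem_inf.1 hc').2)
  set σ := pr C.D ⟨q', hq'N⟩ with hσdef
  have hσo : orderOf σ = 5 := by
    refine orderOf_eq_prime ?_ fun h => ?_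
    · rw [hσdef, ← map_pow]
      convert map_one (pr C.D) using 2
      exact Subtype.ext (by
        show q' ^ 5 = 1
        rw [show 5 = orderOf q' from ((orderOf_conj' k q).trans hq).symm, pow_orderOf_eq_one])
    · have hV : q' ∈ C.D.V := (pr_eq_one C.D).1 h
      have hd := orderOf_dvd_natCard (⟨_, hV⟩ : ↥C.D.V)
      rw [Subgroup.orderOf_mk, show orderOf q' = 5 from (orderOf_conj' k q).trans hq, C.D.card] at hd
      norm_num at hd
  have hpair : ∀ {c : G} (hcN : c ∈ NV C.D), c * f = f * c →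
      ((pr C.D ⟨c, hcN⟩ : ↥M24) : Equiv.Perm GolayPt) ∈ pairStab := fun {c} hcN hcf => by
    have h := pr_duad C hab hcN hcf
    rw [pt_pair] at h
    exact Subgroup.mem_inf.2 ⟨(pr C.D ⟨c, hcN⟩).2, mem_stabilizer_iff.2 h⟩
  let F : ↥X →* ↥M24 := (pr C.D).comp (Subgroup.inclusion hXN)
  have hrange : Nat.card ↥F.range ≤ 10 := by
    refine le_trans ?_ (card_cent_five (g := (σ : Equiv.Perm GolayPt)) (hpair hq'N hq'f)
      (by rw [Subgroup.orderOf_coe, hσo]))
    refine Nat.card_le_card_of_injective (fun a => ⟨((a.1 : ↥M24) : Equiv.Perm GolayPt), ?_⟩) fun a b e =>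
      Subtype.ext (Subtype.ext (Subtype.ext_iff.1 e :))
    obtain ⟨c, hc'⟩ := a.2
    rw [← hc']
    obtain ⟨h1, h2⟩ := Subgroup.mem_inf.1 c.2
    rw [mem_centralizer_singleton_iff] at h1 h2
    refine Subgroup.mem_inf.2 ⟨hpair (hXN c.2) h2, mem_centralizer_singleton_iff.2 ?_⟩
    show ((pr C.D ⟨(c : G), hXN c.2⟩ : ↥M24) : Equiv.Perm GolayPt) * (σ : Equiv.Perm GolayPt) = _
    rw [hσdef, ← Subgroup.coe_mul, ← map_mul,
      show (⟨(c : G), hXN c.2⟩ : ↥(NV C.D)) * ⟨q', hq'N⟩ = ⟨q', hq'N⟩ * ⟨(c : G), hXN c.2⟩ from Subtype.ext h1,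
      map_mul, Subgroup.coe_mul]
    rfl
  have hker : Nat.card ↥F.ker ≤ 8 := by
    refine le_trans ?_ (ncard_fixed_five C hσo)
    rw [← Nat.card_coe_set_eq]
    refine Nat.card_le_card_of_injective (fun c : ↥F.ker => ⟨((c : ↥X) : G), ?_⟩) fun a b e =>
      Subtype.ext (Subtype.ext (Subtype.ext_iff.1 e :))
    have hV : ((c : ↥X) : G) ∈ C.D.V := (pr_eq_one C.D).1 (MonoidHom.mem_ker.1 c.2)
    refine ⟨hV, ?_⟩
    rw [hσdef, ← conj_eq_el C.D ⟨q', hq'N⟩ hV]
    exact mul_inv_eq_iff_eq_mul.2 (mem_centralizer_singleton_iff.1 (Subgroup.mem_inf.1 (c : ↥X).2).1).symm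
  rw [← F.ker.card_mul_index, Subgroup.index_ker]
  exact Nat.mul_le_mul hker hrange

end Cfsg.Agent.J4Type.Pentad
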