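import Cfsg.Agent.Lib.J4Type.PentadSeven
import Cfsg.Agent.Lib.J4Type.PentadFiveBound

/-!
Groups of Janko-four type, pentad local (helper8): the centraliser of an element of order 5.

* `card_J5`, `LZ_five` : `C_{N(Zc)}(q) = ⟨q⟩ × J5` with `J5` an extension of `Zc` by `GL₃(2)`;
* `five_key` : the involution of type `t` and its centralisers;
* `cent_five` : `C(q) = C_{N(Zc)}(q)`.
-/

set_option autoImplicit false
set_option linter.unusedSectionVars false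

open scoped Pointwise

namespace Cfsg.Agent.J4Type.Pentad

open Cfsg Cfsg.Agent.Golay MulAction Subgroup

variable {G : Type*} [Group G] [Finite G] {z : G} {P : Subgroup G} (C : PCtx z P)

/-- The centraliser of `q` in `N(Zc)`. -/
noncomputable def PCtx.M5 (q : G) : Subgroup G := C.NZ ⊓ centralizer ({q} : Set G)

/-- Its part fixing the five cosets. -/
noncomputable def PCtx.J5 (q : G) : Subgroup G := C.M5 q ⊓ (pent C).ker.map C.NZ.subtype

theorem mem_M5 {q x : G} : x ∈ C.M5 q ↔ x ∈ C.NZ ∧ x * q = q * x := by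
  rw [PCtx.M5, Subgroup.mem_inf, mem_centralizer_singleton_iff]

theorem mem_J5 {q x : G} : x ∈ C.J5 q ↔ ∃ h : x ∈ C.NZ, pent C ⟨x, h⟩ = 1 ∧ x * q = q * x := by
  rw [PCtx.J5, Subgroup.mem_inf, mem_M5]
  constructor
  · rintro ⟨⟨h, hc⟩, n, hn, rfl⟩
    exact ⟨h, MonoidHom.mem_ker.1 hn, hc⟩
  · rintro ⟨h, h1, hc⟩
    exact ⟨⟨h, hc⟩, ⟨x, h⟩, MonoidHom.mem_ker.2 h1, rfl⟩

theorem J5_le_NZ {q : G} : C.J5 q ≤ C.NZ := fun _ h => ((mem_J5 C).1 h).1

theorem J5_le_M5 {q : G} : C.J5 q ≤ C.M5 q := inf_le_left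

/-- Elements with the same action on `Zc` conjugate alike. -/
theorem rho_conj {a b : ↥C.NZ} (h : rho C a = rho C b) {x : G} (hx : x ∈ C.Z) :
    (a : G) * x * (a : G)⁻¹ = (b : G) * x * (b : G)⁻¹ := by
  have h1 : (b : G)⁻¹ * (a : G) ∈ C.CZ := by
    have e : rho C (b⁻¹ * a) = 1 := by rw [map_mul, map_inv, h, inv_mul_cancel]
    exact (rho_eq_one C).1 e
  have h2 := mem_centralizer_iff.1 h1 x hx
  calc (a : G) * x * (a : G)⁻¹ = (b : G) * ((b : G)⁻¹ * a * x) * (a : G)⁻¹ := by group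
    _ = (b : G) * (x * ((b : G)⁻¹ * a)) * (a : G)⁻¹ := by rw [h2]
    _ = _ := by group

theorem zel_conj_z (i : Fin 7) : ∃ g : ↥H0, C.D.el g.1.1 * z * (C.D.el g.1.1)⁻¹ = zel C.M i := by
  obtain ⟨g, hg⟩ := labPerm_transitive i
  refine ⟨g, ?_⟩
  have h := zel_conj C.M g 0
  rw [hg, C.zel_z] at h
  exact h

section

variable {q : G} (hq : q ∈ C.CS) (ho : orderOf q = 5)

include hq in
theorem q_CZ : q ∈ C.CZ := ((mem_CS C).1 hq).1

include hq in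
theorem q_NZ : q ∈ C.NZ := CS_le_NZ C hq

include hq in
theorem q_Cz : q ∈ Cz z := CZ_le_Cz C (q_CZ C hq)

include ho in
theorem q_pow : q ^ 5 = 1 := ho ▸ pow_orderOf_eq_one q

/-- The five-cycle of `q`. -/
noncomputable def cyc : Equiv.Perm (Fin 5) := pent C ⟨q, q_NZ C hq⟩

include ho in
theorem cyc_pow : cyc C hq ^ 5 = 1 := by
  rw [cyc, ← map_pow]
  convert map_one (pent C) using 2
  exact Subtype.ext (q_pow ho)

include ho in
theorem cyc_ne : cyc C hq ≠ 1 := fun h => by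
  have h1 : (⟨q, hq⟩ : ↥C.CS) = 1 := pentS_injective C (by rw [map_one]; exact h)
  have := congrArg Subtype.val h1
  rw [show q = 1 from this, orderOf_one] at ho
  norm_num at ho

include ho in
theorem orderOf_cyc : orderOf (cyc C hq) = 5 := by
  have : Fact (Nat.Prime 5) := ⟨by norm_num⟩
  exact orderOf_eq_prime (cyc_pow C hq ho) (cyc_ne C hq ho)

include hq in
theorem rho_q : rho C ⟨q, q_NZ C hq⟩ = 1 := (rho_eq_one C).2 (q_CZ C hq)

include hq ho in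
theorem M5_decomp {m : G} (hm : m ∈ C.M5 q) : ∃ i : Fin 5, m * (q ^ (i : ℕ))⁻¹ ∈ C.J5 q := by
  obtain ⟨hN, hc⟩ := (mem_M5 C).1 hm
  have hcomm : pent C ⟨m, hN⟩ * cyc C hq = cyc C hq * pent C ⟨m, hN⟩ := by
    rw [cyc, ← map_mul, ← map_mul]
    exact congrArg (pent C) (Subtype.ext hc)
  obtain ⟨i, hi⟩ := p5_five _ (cyc_pow C hq ho) (cyc_ne C hq ho) _ hcomm
  refine ⟨i, (mem_J5 C).2 ⟨mul_mem hN (inv_mem (pow_mem (q_NZ C hq) _)), ?_, ?_⟩⟩
  · rw [show (⟨m * (q ^ (i : ℕ))⁻¹, mul_mem hN (inv_mem (pow_mem (q_NZ C hq) _))⟩ : ↥C.NZ) =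
      ⟨m, hN⟩ * (⟨q, q_NZ C hq⟩ ^ (i : ℕ))⁻¹ from rfl, map_mul, map_inv, map_pow, hi]
    exact mul_inv_cancel _
  · exact ((show Commute m q from hc).mul_left ((Commute.pow_self q (i : ℕ)).inv_left)).eq

include hq ho in
theorem invol_J5 {x : G} (hx : x ∈ C.M5 q) (hx2 : x * x = 1) : x ∈ C.J5 q := by
  obtain ⟨hN, hc⟩ := (mem_M5 C).1 hx
  refine (mem_J5 C).2 ⟨hN, ?_, hc⟩
  have hcomm : pent C ⟨x, hN⟩ * cyc C hq = cyc C hq * pent C ⟨x, hN⟩ := by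
    rw [cyc, ← map_mul, ← map_mul]
    exact congrArg (pent C) (Subtype.ext hc)
  obtain ⟨i, hi⟩ := p5_five _ (cyc_pow C hq ho) (cyc_ne C hq ho) _ hcomm
  have h1 : orderOf (pent C ⟨x, hN⟩) ∣ 5 := by
    have h := orderOf_pow_dvd (x := cyc C hq) (i : ℕ)
    rwa [orderOf_cyc C hq ho, ← hi] at h
  have h2 : orderOf (pent C ⟨x, hN⟩) ∣ 2 := orderOf_dvd_of_pow_eq_one (by
    rw [pow_two, ← map_mul, show (⟨x, hN⟩ : ↥C.NZ) * ⟨x, hN⟩ = 1 from Subtype.ext hx2, map_one])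
  exact orderOf_eq_one_iff.1 (Nat.eq_one_of_dvd_coprimes (by norm_num) h1 h2)

include hq ho in
theorem J5_lift (A : GL (Fin 3) (ZMod 2)) : ∃ m : ↥C.NZ, (m : G) ∈ C.J5 q ∧ rho C m = A := by
  have : Fact (Nat.Prime 5) := ⟨by norm_num⟩
  obtain ⟨n, hn⟩ := Psi_surjective C (1, A)
  have hP : pent C n = 1 := congrArg Prod.fst hn
  have hA : rho C n = A := congrArg Prod.snd hn
  obtain ⟨m, hm, hmq⟩ := exists_fixed_lift C (p := 5) (by norm_num) (q_NZ C hq) (q_pow ho) (n := n) (by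
    refine Prod.ext ?_ ?_
    · show pent C _ * pent C n = pent C n * pent C _
      rw [hP, one_mul, mul_one]
    · show rho C _ * rho C n = rho C n * rho C _
      rw [rho_q C hq, one_mul, mul_one])
  exact ⟨m, (mem_J5 C).2 ⟨m.2, (congrArg Prod.fst hm).trans hP, hmq.symm⟩, (congrArg Prod.snd hm).trans hA⟩

theorem J5_CZ : C.J5 q ⊓ C.CZ = C.L ⊓ centralizer ({q} : Set G) := by
  ext x
  simp only [Subgroup.mem_inf, mem_J5, mem_L, mem_centralizer_singleton_iff]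
  constructor
  · rintro ⟨⟨h, h1, h2⟩, h3⟩; exact ⟨⟨h, h1, h3⟩, h2⟩
  · rintro ⟨⟨h, h1, h3⟩, h2⟩; exact ⟨⟨h, h1, h2⟩, h3⟩

include hq ho in
theorem img_J5_Cz : img C (C.J5 q ⊓ Cz z) = img C C.X := by
  refine le_antisymm (Subgroup.map_mono fun x hx => ?_) ?_
  · obtain ⟨h1, h2⟩ := Subgroup.mem_inf.1 (mem_subgroupOf.1 hx)
    exact mem_subgroupOf.2 (Subgroup.mem_inf.2 ⟨h2, J5_le_NZ C h1⟩)
  · rintro _ ⟨x, hx, rfl⟩
    obtain ⟨m, hm, e⟩ := J5_lift C hq ho (rho C x)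
    have hxz := (Subgroup.mem_inf.1 (mem_subgroupOf.1 hx)).1
    refine ⟨m, mem_subgroupOf.2 (Subgroup.mem_inf.2 ⟨hm, mem_Cz.2 (mul_inv_eq_iff_eq_mul.1 ?_)⟩), e⟩
    rw [rho_conj C e (z_mem_Zc C)]
    exact mul_inv_eq_iff_eq_mul.2 (mem_Cz.1 hxz)

include hq ho in
theorem Cz_cent_five : Nat.card ↥(C.L ⊓ centralizer ({q} : Set G)) = 8 ∧
    C.L ⊓ centralizer ({q} : Set G) = C.Z ∧ ∀ c : G, c ∈ Cz z → c * q = q * c → c ∈ C.M5 q := by
  set H := C.J5 q ⊓ Cz z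
  have hHN : H ≤ C.NZ := inf_le_left.trans (J5_le_NZ C)
  have hH : Nat.card ↥H = Nat.card ↥(C.L ⊓ centralizer ({q} : Set G)) * 24 := by
    have e : H ⊓ C.CZ = C.L ⊓ centralizer ({q} : Set G) := by
      rw [← J5_CZ C]
      exact le_antisymm (inf_le_inf_right _ inf_le_left)
        (le_inf (le_inf inf_le_left (inf_le_right.trans (CZ_le_Cz C))) inf_le_right)
    rw [card_img C hHN, e, img_J5_Cz C hq ho, card_img_X C]
  have hqz := q_Cz C hq
  let f : Fin 5 × ↥H → ↥(Cz z ⊓ centralizer ({q} : Set G)) := fun p =>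
    ⟨q ^ (p.1 : ℕ) * (p.2 : G), Subgroup.mem_inf.2 ⟨mul_mem (pow_mem hqz _) (Subgroup.mem_inf.1 p.2.2).2,
      mem_centralizer_singleton_iff.2 ((Commute.pow_self q _).mul_left
        (show Commute (p.2 : G) q from ((mem_J5 C).1 (Subgroup.mem_inf.1 p.2.2).1).2.2)).eq⟩⟩
  have hf : Function.Injective f := by
    rintro ⟨i, h⟩ ⟨j, h'⟩ e
    have e' : q ^ (i : ℕ) * (h : G) = q ^ (j : ℕ) * (h' : G) := congrArg Subtype.val e
    obtain ⟨hN, h1, -⟩ := (mem_J5 C).1 (Subgroup.mem_inf.1 h.2).1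
    obtain ⟨hN', h1', -⟩ := (mem_J5 C).1 (Subgroup.mem_inf.1 h'.2).1
    have hp := congrArg (pent C) (show (⟨q, q_NZ C hq⟩ : ↥C.NZ) ^ (i : ℕ) * ⟨(h : G), hN⟩ =
      ⟨q, q_NZ C hq⟩ ^ (j : ℕ) * ⟨(h' : G), hN'⟩ from Subtype.ext (by push_cast; exact e'))
    rw [map_mul, map_mul, h1, h1', mul_one, mul_one, map_pow, map_pow] at hp
    have hij : i = j := Fin.ext (pow_injOn_Iio_orderOf (x := cyc C hq)
      (by rw [Set.mem_Iio, orderOf_cyc C hq ho]; exact i.isLt)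
      (by rw [Set.mem_Iio, orderOf_cyc C hq ho]; exact j.isLt) hp)
    subst hij
    rw [show h = h' from Subtype.ext (mul_left_cancel e')]
  have hle : Nat.card ↥(C.L ⊓ centralizer ({q} : Set G)) ≤ 8 := by
    have h := (Nat.card_le_card_of_injective f hf).trans (card_cent_five_le C.S hqz ho)
    rw [Nat.card_prod, Nat.card_fin, hH] at h
    omega
  have hZ : C.Z ≤ C.L ⊓ centralizer ({q} : Set G) := le_inf (Zc_le_L C) fun x hx =>
    mem_centralizer_singleton_iff.2 (mem_centralizer_iff.1 (q_CZ C hq) x hx)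
  have e := eq_of_le_of_card_ge hZ (by rw [card_Zc]; exact hle)
  have h8 : Nat.card ↥(C.L ⊓ centralizer ({q} : Set G)) = 8 := by rw [← e, card_Zc]
  refine ⟨h8, e.symm, fun c hc hcq => ?_⟩
  have hbij : Function.Bijective f := by
    refine (Nat.bijective_iff_injective_and_card f).2 ⟨hf, le_antisymm (Nat.card_le_card_of_injective f hf) ?_⟩
    refine (card_cent_five_le C.S hqz ho).trans ?_
    rw [Nat.card_prod, Nat.card_fin, hH, h8]
  obtain ⟨⟨i, h⟩, e⟩ := hbij.2 ⟨c, Subgroup.mem_inf.2 ⟨hc, mem_centralizer_singleton_iff.2 hcq⟩⟩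
  rw [show c = q ^ (i : ℕ) * (h : G) from (congrArg Subtype.val e).symm]
  exact mul_mem (pow_mem ((mem_M5 C).2 ⟨q_NZ C hq, rfl⟩) _) (J5_le_M5 C (Subgroup.mem_inf.1 h.2).1)

include hq ho in
theorem J5_CZ_eq : C.J5 q ⊓ C.CZ = C.Z := by rw [J5_CZ C, (Cz_cent_five C hq ho).2.1]

include hq ho in
theorem J5_mem_Z {x : G} (hx : x ∈ C.J5 q) (h : rho C ⟨x, J5_le_NZ C hx⟩ = 1) : x ∈ C.Z := by
  rw [← J5_CZ_eq C hq ho]
  exact Subgroup.mem_inf.2 ⟨hx, (rho_eq_one C).1 h⟩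

include hq ho in
theorem card_J5 : Nat.card ↥(C.J5 q) = 1344 := by
  have e : img C (C.J5 q) = ⊤ := eq_top_iff.2 fun A _ => by
    obtain ⟨m, hm, e⟩ := J5_lift C hq ho A
    exact ⟨m, mem_subgroupOf.2 hm, e⟩
  rw [card_img C (J5_le_NZ C), J5_CZ_eq C hq ho, card_Zc, e, card_top, natCard_gl32]

/-- The centraliser in `GL₃(2)` of an involution has order at least 8. -/
theorem gl_cent_ge {A : GL (Fin 3) (ZMod 2)} (hA : A * A = 1) (hA1 : A ≠ 1) :
    8 ≤ Nat.card ↥(centralizer ({A} : Set (GL (Fin 3) (ZMod 2)))) ∧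
      (Nat.card ↥(centralizer ({A} : Set (GL (Fin 3) (ZMod 2)))) = 8 →
        ∀ B : GL (Fin 3) (ZMod 2), B * B = 1 → B ≠ 1 → ∃ D, D * A * D⁻¹ = B) := by
  classical
  set K := centralizer ({A} : Set (GL (Fin 3) (ZMod 2)))
  let S := {B : GL (Fin 3) (ZMod 2) | B * B = 1 ∧ B ≠ 1}
  have hmem : ∀ D, D * A * D⁻¹ ∈ S := fun D => ⟨by
    rw [show D * A * D⁻¹ * (D * A * D⁻¹) = D * (A * A) * D⁻¹ by group, hA, mul_one, mul_inv_cancel],
    fun h => hA1 (conj_eq_one_iff.1 h)⟩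
  let f : GL (Fin 3) (ZMod 2) ⧸ K → ↥S := fun x => ⟨x.out * A * x.out⁻¹, hmem _⟩
  have hf : Function.Injective f := by
    intro x y e
    have e' : x.out * A * x.out⁻¹ = y.out * A * y.out⁻¹ := congrArg Subtype.val e
    rw [← x.out_eq, ← y.out_eq]
    refine QuotientGroup.eq.2 (mem_centralizer_singleton_iff.2 ?_)
    calc x.out⁻¹ * y.out * A = x.out⁻¹ * (y.out * A * y.out⁻¹) * y.out := by group
      _ = x.out⁻¹ * (x.out * A * x.out⁻¹) * y.out := by rw [e']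
      _ = _ := by group
  have hS : Nat.card ↥S ≤ 21 := by rw [Nat.card_coe_set_eq]; exact gl_invol_le
  have hle := (Nat.card_le_card_of_injective f hf).trans hS
  have hmul := K.card_mul_index
  rw [index_eq_card, natCard_gl32] at hmul
  refine ⟨by nlinarith, fun h8 B hB hB1 => ?_⟩
  rw [h8] at hmul
  have hb := (Nat.bijective_iff_injective_and_card f).2
    ⟨hf, le_antisymm (Nat.card_le_card_of_injective f hf) (hS.trans (by omega))⟩
  obtain ⟨x, hx⟩ := hb.2 ⟨B, hB, hB1⟩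
  exact ⟨x.out, congrArg Subtype.val hx⟩

include C in
theorem sylow_five_Cz : (Nat.card ↥(Cz z)).factorization 5 = 1 := by
  rw [C.S.card_Cz, show 2 ^ 21 * 10395 = 5 ^ 1 * (2 ^ 21 * 2079) by norm_num,
    Nat.factorization_mul (by norm_num) (by norm_num), Finsupp.add_apply,
    Nat.Prime.factorization_pow (by norm_num : Nat.Prime 5),
    Nat.factorization_eq_zero_of_not_dvd (show ¬ 5 ∣ 2 ^ 21 * 2079 by norm_num)]
  simp

include C in
/-- Subgroups of order 5 of `C(z)` are conjugate in it. -/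
theorem conj_five_Cz {a b : G} (ha : a ∈ Cz z) (hb : b ∈ Cz z) (hoa : orderOf a = 5) (hob : orderOf b = 5) :
    ∃ h ∈ Cz z, h * a * h⁻¹ ∈ zpowers b := by
  have : Fact (Nat.Prime 5) := ⟨by norm_num⟩
  have hf := sylow_five_Cz C
  let S₁ : Sylow 5 ↥(Cz z) := Sylow.ofCard (zpowers (⟨a, ha⟩ : ↥(Cz z)))
    (by rw [hf, Nat.card_zpowers, Subgroup.orderOf_mk, hoa, pow_one])
  let S₂ : Sylow 5 ↥(Cz z) := Sylow.ofCard (zpowers (⟨b, hb⟩ : ↥(Cz z)))
    (by rw [hf, Nat.card_zpowers, Subgroup.orderOf_mk, hob, pow_one])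
  obtain ⟨h, hh⟩ := MulAction.exists_smul_eq ↥(Cz z) S₁ S₂
  have hmem : h * ⟨a, ha⟩ * h⁻¹ ∈ (S₂ : Subgroup ↥(Cz z)) := by
    rw [← hh, Sylow.coe_subgroup_smul]
    exact smul_mem_pointwise_smul _ (MulAut.conj h) _ (mem_zpowers _)
  obtain ⟨k, hk⟩ := hmem
  exact ⟨h, h.2, k, congrArg Subtype.val hk⟩

include hq ho in
/-- An involution of type `t` in `C(q) ∩ C(z)`. -/
theorem exists_u : ∃ u : G, u ∈ C.J5 q ∧ u ∈ Cz z ∧ u * u = 1 ∧ IsConj C.D.t u ∧ u ∉ C.Z := by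
  have : Fact (Nat.Prime 5) := ⟨by norm_num⟩
  obtain ⟨q1, u1, hq1, hoq1, hu1, hcomm, hu2, hut⟩ := exists_five_witness C
  obtain ⟨h, hh, hmem⟩ := conj_five_Cz C hq1 (q_Cz C hq) hoq1 ho
  set u := h * u1 * h⁻¹
  have ho' : orderOf (h * q1 * h⁻¹) = 5 := (orderOf_conj' h q1).trans hoq1
  have hgen : zpowers (h * q1 * h⁻¹) = zpowers q :=
    eq_of_le_of_card_ge (zpowers_le.2 hmem) (by rw [Nat.card_zpowers, Nat.card_zpowers, ho', ho])
  obtain ⟨k, hk⟩ := hgen.ge (mem_zpowers q)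
  have huq : u * q = q * u := by
    have h0 : Commute u (h * q1 * h⁻¹) := by
      show h * u1 * h⁻¹ * (h * q1 * h⁻¹) = h * q1 * h⁻¹ * (h * u1 * h⁻¹)
      rw [show h * u1 * h⁻¹ * (h * q1 * h⁻¹) = h * (u1 * q1) * h⁻¹ by group, hcomm]
      group
    rw [← hk]
    exact (h0.zpow_right k).eq
  have huz : u ∈ Cz z := mul_mem (mul_mem hh hu1) (inv_mem hh)
  have hu2' : u * u = 1 := by
    rw [show u * u = h * (u1 * u1) * h⁻¹ by simp only [u]; group, hu2, mul_one, mul_inv_cancel]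
  have htu : IsConj C.D.t u := hut.trans (isConj_iff.2 ⟨h, rfl⟩)
  refine ⟨u, invol_J5 C hq ho ((Cz_cent_five C hq ho).2.2 u huz huq) hu2', huz, hu2', htu, fun hZ => ?_⟩
  rcases (mem_Zc C.M).1 hZ with e | ⟨i, e⟩
  · obtain ⟨v, hv⟩ := isConj_iff.1 htu
    rw [e] at hv
    have ht1 : C.D.t = 1 := conj_eq_one_iff.1 hv
    have hd := duad_conj C (a := pt 5) (b := pt 12) (pt_ne (by norm_num) (by norm_num) (by norm_num))
    rw [ht1] at hd
    exact duad_not_mem C (Or.inl ⟨rfl, rfl⟩) ((isConj_one_right.1 hd).symm ▸ one_mem _)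
  · obtain ⟨g, hg⟩ := zel_conj_z C i
    exact C.not_conj_t ((isConj_iff.2 ⟨_, hg.trans e⟩ : IsConj z u).trans htu.symm)

include hq ho in
/-- The involution of type `t` and its centralisers. -/
theorem five_key : ∃ u : G, u ∈ C.J5 q ∧ u * u = 1 ∧ u ≠ 1 ∧ IsConj C.D.t u ∧
    (∃ hN : u ∈ C.NZ, 8 ≤ Nat.card ↥(centralizer ({rho C ⟨u, hN⟩} : Set (GL (Fin 3) (ZMod 2))))) ∧
    Nat.card ↥(C.Z ⊓ centralizer ({u} : Set G)) = 4 ∧
    Nat.card ↥(C.J5 q ⊓ centralizer ({u} : Set G)) = 16 ∧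
    (∀ c : G, c * q = q * c → c * u = u * c → c ∈ C.M5 q) ∧
    ∀ x ∈ C.J5 q, x * x = 1 → x ∉ C.Z → ∃ m ∈ C.J5 q, x = m * u * m⁻¹ := by
  classical
  obtain ⟨u, huJ, -, hu2, hut, huZ⟩ := exists_u C hq ho
  have huN := J5_le_NZ C huJ
  set A := rho C ⟨u, huN⟩ with hAdef
  have hA1 : A ≠ 1 := fun h => huZ (J5_mem_Z C hq ho huJ h)
  have hA2 : A * A = 1 := by
    rw [hAdef, ← map_mul, show (⟨u, huN⟩ : ↥C.NZ) * ⟨u, huN⟩ = 1 from Subtype.ext hu2, map_one]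
  obtain ⟨hK8, hKconj⟩ := gl_cent_ge hA2 hA1
  set K := centralizer ({A} : Set (GL (Fin 3) (ZMod 2)))
  set W : Subgroup G := C.J5 q ⊓ (K.comap (rho C)).map C.NZ.subtype
  have hmemW : ∀ {x : G} (hx : x ∈ C.J5 q), x ∈ W ↔ rho C ⟨x, J5_le_NZ C hx⟩ * A = A * rho C ⟨x, J5_le_NZ C hx⟩ := by
    intro x hx
    rw [Subgroup.mem_inf]
    constructor
    · rintro ⟨-, n, hn, rfl⟩
      exact mem_centralizer_singleton_iff.1 hn
    · intro h
      exact ⟨hx, ⟨x, J5_le_NZ C hx⟩, mem_centralizer_singleton_iff.2 h, rfl⟩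
  have hWJ : W ≤ C.J5 q := inf_le_left
  have himg : img C W = K := by
    refine le_antisymm ?_ fun B hB => ?_
    · rintro _ ⟨n, hn, rfl⟩
      obtain ⟨-, n', hn', e⟩ := Subgroup.mem_inf.1 (mem_subgroupOf.1 hn)
      rw [show n = n' from Subtype.ext e.symm]
      exact hn'
    · obtain ⟨m, hm, e⟩ := J5_lift C hq ho B
      refine ⟨m, mem_subgroupOf.2 ((hmemW hm).2 ?_), e⟩
      rw [show rho C ⟨(m : G), J5_le_NZ C hm⟩ = B from e]
      exact mem_centralizer_singleton_iff.1 hB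
  have hWZ : W ⊓ C.CZ = C.Z := by
    refine le_antisymm ((inf_le_inf_right _ hWJ).trans (J5_CZ_eq C hq ho).le) fun x hx => ?_
    have hxJ : x ∈ C.J5 q := (Subgroup.mem_inf.1 ((J5_CZ_eq C hq ho).ge hx)).1
    have hxC : x ∈ C.CZ := (Subgroup.mem_inf.1 ((J5_CZ_eq C hq ho).ge hx)).2
    refine Subgroup.mem_inf.2 ⟨(hmemW hxJ).2 ?_, hxC⟩
    rw [(rho_eq_one C (n := ⟨x, J5_le_NZ C hxJ⟩)).2 hxC, one_mul, mul_one]
  have hWc : Nat.card ↥W = 8 * Nat.card ↥K := by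
    rw [card_img C (hWJ.trans (J5_le_NZ C)), hWZ, card_Zc, himg]
  have hCu : Nat.card ↥(C.Z ⊓ centralizer ({u} : Set G)) ≤ 4 := by
    have hd : Nat.card ↥(C.Z ⊓ centralizer ({u} : Set G)) ∣ 2 ^ 3 :=
      (card_dvd_of_le inf_le_left).trans (card_Zc C.M).dvd
    obtain ⟨k, hk, e⟩ := (Nat.dvd_prime_pow Nat.prime_two).1 hd
    rw [e]
    have hk3 : k ≠ 3 := by
      intro h3
      have heq : C.Z ⊓ centralizer ({u} : Set G) = C.Z :=
        eq_of_le_of_card_ge inf_le_left (by rw [e, h3, card_Zc]; norm_num)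
      refine hA1 ((rho_eq_one C).2 (mem_centralizer_iff.2 fun x hx => ?_))
      exact mem_centralizer_singleton_iff.1 (Subgroup.mem_inf.1 (heq.ge hx)).2
    interval_cases k <;> omega
  set T := C.Z ⊓ centralizer ({u} : Set G)
  set Wu := W ⊓ centralizer ({u} : Set G)
  have hin : ∀ y ∈ C.J5 q, y * y = 1 → (∀ h : y ∈ C.NZ, rho C ⟨y, h⟩ = A) → u⁻¹ * y ∈ T := by
    intro y hy hy2 hyA
    have hm : u⁻¹ * y ∈ C.J5 q := mul_mem (inv_mem huJ) hy
    have hζ : u⁻¹ * y ∈ C.Z := by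
      refine J5_mem_Z C hq ho hm ?_
      rw [show (⟨u⁻¹ * y, J5_le_NZ C hm⟩ : ↥C.NZ) = ⟨u, huN⟩⁻¹ * ⟨y, J5_le_NZ C hy⟩ from rfl, map_mul, map_inv,
        hyA, ← hAdef, inv_mul_cancel]
    refine Subgroup.mem_inf.2 ⟨hζ, mem_centralizer_singleton_iff.2 ?_⟩
    have hui : u⁻¹ = u := inv_eq_of_mul_eq_one_right hu2
    have hζ2 : u⁻¹ * y * (u⁻¹ * y) = 1 := C.D.sq_one (Zc_le C.M hζ)
    have hyu : y * u = u * y := by
      rw [hui] at hζ2
      have h := inv_eq_of_mul_eq_one_right hζ2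
      rwa [mul_inv_rev, inv_eq_of_mul_eq_one_right hy2, hui] at h
    rw [hui, mul_assoc, hyu]
  let g : ↥W ⧸ Wu.subgroupOf W → ↥T := fun x => ⟨u⁻¹ * ((x.out : G) * u * (x.out : G)⁻¹), by
    have hxJ := hWJ x.out.2
    refine hin _ (mul_mem (mul_mem hxJ huJ) (inv_mem hxJ)) ?_ fun h => ?_
    · rw [show (x.out : G) * u * (x.out : G)⁻¹ * ((x.out : G) * u * (x.out : G)⁻¹) =
        (x.out : G) * (u * u) * (x.out : G)⁻¹ by group, hu2, mul_one, mul_inv_cancel]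
    · rw [show (⟨(x.out : G) * u * (x.out : G)⁻¹, h⟩ : ↥C.NZ) =
        ⟨(x.out : G), J5_le_NZ C hxJ⟩ * ⟨u, huN⟩ * ⟨(x.out : G), J5_le_NZ C hxJ⟩⁻¹ from rfl, map_mul, map_mul,
        map_inv, ← hAdef, (hmemW hxJ).1 x.out.2, mul_inv_cancel_right]⟩
  have hg : Function.Injective g := by
    intro x y e
    have e' : (x.out : G) * u * (x.out : G)⁻¹ = (y.out : G) * u * (y.out : G)⁻¹ :=
      mul_left_cancel (congrArg Subtype.val e)
    rw [← x.out_eq, ← y.out_eq]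
    refine QuotientGroup.eq.2 (mem_subgroupOf.2 (Subgroup.mem_inf.2 ⟨(x.out⁻¹ * y.out).2,
      mem_centralizer_singleton_iff.2 ?_⟩))
    show (x.out : G)⁻¹ * y.out * u = u * ((x.out : G)⁻¹ * y.out)
    calc (x.out : G)⁻¹ * y.out * u = (x.out : G)⁻¹ * ((y.out : G) * u * (y.out : G)⁻¹) * y.out := by group
      _ = (x.out : G)⁻¹ * ((x.out : G) * u * (x.out : G)⁻¹) * y.out := by rw [e']
      _ = _ := by group
  have hidx := Nat.card_le_card_of_injective g hg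
  have hmul := (Wu.subgroupOf W).card_mul_index
  rw [index_eq_card, hWc, Nat.card_congr (subgroupOfEquivOfLe (inf_le_left : Wu ≤ W)).toEquiv] at hmul
  -- five times the centraliser
  set X := centralizer ({q} : Set G) ⊓ centralizer ({u} : Set G)
  have huq : u * q = q * u := ((mem_J5 C).1 huJ).2.2
  let f : Fin 5 × ↥Wu → ↥X := fun p => ⟨q ^ (p.1 : ℕ) * (p.2 : G), by
    obtain ⟨hW', hu'⟩ := Subgroup.mem_inf.1 p.2.2
    exact Subgroup.mem_inf.2 ⟨mem_centralizer_singleton_iff.2 ((Commute.pow_self q _).mul_left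
      (show Commute (p.2 : G) q from ((mem_J5 C).1 (hWJ hW')).2.2)).eq,
      mem_centralizer_singleton_iff.2 (((show Commute q u from huq.symm).pow_left _).mul_left
        (show Commute (p.2 : G) u from mem_centralizer_singleton_iff.1 hu')).eq⟩⟩
  have hf : Function.Injective f := by
    rintro ⟨i, h⟩ ⟨j, h'⟩ e
    have e' : q ^ (i : ℕ) * (h : G) = q ^ (j : ℕ) * (h' : G) := congrArg Subtype.val e
    obtain ⟨hN, h1, -⟩ := (mem_J5 C).1 (hWJ (Subgroup.mem_inf.1 h.2).1)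
    obtain ⟨hN', h1', -⟩ := (mem_J5 C).1 (hWJ (Subgroup.mem_inf.1 h'.2).1)
    have hp := congrArg (pent C) (show (⟨q, q_NZ C hq⟩ : ↥C.NZ) ^ (i : ℕ) * ⟨(h : G), hN⟩ =
      ⟨q, q_NZ C hq⟩ ^ (j : ℕ) * ⟨(h' : G), hN'⟩ from Subtype.ext (by push_cast; exact e'))
    rw [map_mul, map_mul, h1, h1', mul_one, mul_one, map_pow, map_pow] at hp
    have hij : i = j := Fin.ext (pow_injOn_Iio_orderOf (x := cyc C hq)
      (by rw [Set.mem_Iio, orderOf_cyc C hq ho]; exact i.isLt)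
      (by rw [Set.mem_Iio, orderOf_cyc C hq ho]; exact j.isLt) hp)
    subst hij
    rw [show h = h' from Subtype.ext (mul_left_cancel e')]
  have hX80 : Nat.card ↥X ≤ 80 := card_cent_five_t C ho hut huq.symm
  have hfX := (Nat.card_le_card_of_injective f hf).trans hX80
  rw [Nat.card_prod, Nat.card_fin] at hfX
  have hbound : Nat.card ↥Wu * Nat.card (↥W ⧸ Wu.subgroupOf W) ≤ Nat.card ↥Wu * 4 :=
    Nat.mul_le_mul_left _ (hidx.trans hCu)
  change Nat.card ↥Wu * _ = _ at hmul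
  have hK : Nat.card ↥K = 8 := by omega
  have hWu : Nat.card ↥Wu = 16 := by omega
  rw [hWu, hK] at hmul
  have hq4 : Nat.card (↥W ⧸ Wu.subgroupOf W) = 4 := by omega
  have hT : Nat.card ↥T = 4 := le_antisymm hCu (hq4 ▸ hidx)
  have hgb : Function.Bijective g := (Nat.bijective_iff_injective_and_card g).2 ⟨hg, hq4.trans hT.symm⟩
  have hJu : C.J5 q ⊓ centralizer ({u} : Set G) = Wu := by
    refine le_antisymm (fun x hx => ?_) (inf_le_inf_right _ hWJ)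
    obtain ⟨h1, h2⟩ := Subgroup.mem_inf.1 hx
    refine Subgroup.mem_inf.2 ⟨(hmemW h1).2 ?_, h2⟩
    rw [hAdef, ← map_mul, ← map_mul]
    exact congrArg (rho C) (Subtype.ext (mem_centralizer_singleton_iff.1 h2))
  have hu1 : u ≠ 1 := fun h => huZ (h ▸ one_mem _)
  refine ⟨u, huJ, hu2, hu1, hut, ⟨huN, hK8⟩, hT, by rw [hJu, hWu], fun c hcq hcu => ?_, fun x hx hx2 hxZ => ?_⟩
  · have hfb : Function.Bijective f :=
      (Nat.bijective_iff_injective_and_card f).2 ⟨hf, le_antisymm (Nat.card_le_card_of_injective f hf)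
        (by rw [Nat.card_prod, Nat.card_fin, hWu]; exact hX80)⟩
    obtain ⟨⟨i, h⟩, e⟩ := hfb.2
      ⟨c, Subgroup.mem_inf.2 ⟨mem_centralizer_singleton_iff.2 hcq, mem_centralizer_singleton_iff.2 hcu⟩⟩
    rw [show c = q ^ (i : ℕ) * (h : G) from (congrArg Subtype.val e).symm]
    exact mul_mem (pow_mem ((mem_M5 C).2 ⟨q_NZ C hq, rfl⟩) _) (J5_le_M5 C (hWJ (Subgroup.mem_inf.1 h.2).1))
  · have hxN := J5_le_NZ C hx
    set B := rho C ⟨x, hxN⟩ with hBdef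
    obtain ⟨D, hD⟩ := hKconj hK B
      (by rw [hBdef, ← map_mul, show (⟨x, hxN⟩ : ↥C.NZ) * ⟨x, hxN⟩ = 1 from Subtype.ext hx2, map_one])
      (fun h => hxZ (J5_mem_Z C hq ho hx h))
    obtain ⟨m, hm, hmD⟩ := J5_lift C hq ho D
    have hy : (m : G)⁻¹ * x * m ∈ C.J5 q := mul_mem (mul_mem (inv_mem hm) hx) hm
    have hy2 : (m : G)⁻¹ * x * m * ((m : G)⁻¹ * x * m) = 1 := by
      rw [show (m : G)⁻¹ * x * m * ((m : G)⁻¹ * x * m) = (m : G)⁻¹ * (x * x) * m by group, hx2, mul_one,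
        inv_mul_cancel]
    obtain ⟨w, hw⟩ := hgb.2 ⟨_, hin _ hy hy2 fun h => by
      rw [show (⟨(m : G)⁻¹ * x * m, h⟩ : ↥C.NZ) = m⁻¹ * ⟨x, hxN⟩ * m from rfl, map_mul, map_mul, map_inv, hmD,
        ← hBdef, ← hD]
      group⟩
    have e := mul_left_cancel (congrArg Subtype.val hw)
    refine ⟨(m : G) * (w.out : G), mul_mem hm (hWJ w.out.2), ?_⟩
    calc x = (m : G) * ((m : G)⁻¹ * x * m) * (m : G)⁻¹ := by group
      _ = (m : G) * ((w.out : G) * u * (w.out : G)⁻¹) * (m : G)⁻¹ := by rw [e]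
      _ = _ := by group

include hq ho in
/-- The centraliser of `q`. -/
theorem cent_five : centralizer ({q} : Set G) = C.M5 q := by
  obtain ⟨u, huJ, hu2, hu1, hut, -, -, -, hcu, hconj⟩ := five_key C hq ho
  have hzM : z ∈ C.M5 q := (mem_M5 C).2 ⟨J5_le_NZ C ((Subgroup.mem_inf.1
    ((J5_CZ_eq C hq ho).ge (z_mem_Zc C))).1), (mem_Cz.1 (q_Cz C hq)).symm⟩
  refine (eq_of_two_classes (M := C.M5 q) inf_le_right hzM (J5_le_M5 C huJ) C.S.z_sq hu2 hu1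
    (fun h => C.not_conj_t (h.trans hut.symm))
    (fun c hc hcz => (Cz_cent_five C hq ho).2.2 c (mem_Cz.2 hcz) (mem_centralizer_singleton_iff.1 hc))
    (fun c hc h => hcu c (mem_centralizer_singleton_iff.1 hc) h) fun x hx hx2 hx1 => ?_).symm
  have hxJ := invol_J5 C hq ho hx hx2
  by_cases hxZ : x ∈ C.Z
  · rcases (mem_Zc C.M).1 hxZ with e | ⟨i, e⟩
    · exact absurd e hx1
    · obtain ⟨g, hg⟩ := zel_conj_z C i
      obtain ⟨m, hm, hmg⟩ := J5_lift C hq ho (matHom g)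
      refine ⟨(m : G), J5_le_M5 C hm, Or.inl ?_⟩
      rw [rho_conj C (b := ⟨C.D.el g.1.1, (Subgroup.mem_inf.1 (el_mem C g)).1⟩) (hmg.trans (rho_el C g).symm)
        (z_mem_Zc C)]
      exact (hg.trans e).symm
  · obtain ⟨m, hm, e⟩ := hconj x hxJ hx2 hxZ
    exact ⟨m, J5_le_M5 C hm, Or.inr e⟩

end

end Cfsg.Agent.J4Type.Pentad
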