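import Cfsg.Agent.Lib.J4Type.PentadFive

/-!
Groups of Janko-four type, pentad local (helper8): the normaliser of an element of order 5.

* `direct_five`, `five_extension` : `C(q) = ⟨q⟩ × J5`, `J5` a non-split `2³·L₃(2)`;
* `card_norm_five`, `exists_frobenius`, `not_25_dvd` : `|N(⟨q⟩)| = 26880`, a subgroup `5:4`, `25 ∤ |G|`.
-/

set_option autoImplicit false
set_option linter.unusedSectionVars false

open scoped Pointwise

namespace Cfsg.Agent.J4Type.Pentad

open Cfsg Cfsg.Agent.Golay MulAction Subgroup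

variable {G : Type*} [Group G] [Finite G] {z : G} {P : Subgroup G} (C : PCtx z P)

theorem exists_q5 : ∃ q : G, q ∈ C.CS ∧ orderOf q = 5 := by
  have : Fact (Nat.Prime 5) := ⟨by norm_num⟩
  obtain ⟨a, ha, ha1⟩ := p5_exists.2
  obtain ⟨c, rfl⟩ := pentS_surjective C a
  refine ⟨c, c.2, ?_⟩
  rw [Subgroup.orderOf_coe]
  exact orderOf_eq_prime (pentS_injective C (by rw [map_pow, map_one]; exact ha))
    fun h => ha1 (by rw [h, map_one])

section

variable {q : G} (hq : q ∈ C.CS) (ho : orderOf q = 5)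

include hq ho in
theorem zpowers_inf_J5 : zpowers q ⊓ C.J5 q = ⊥ := by
  rw [eq_bot_iff]
  intro x hx
  obtain ⟨⟨k, rfl⟩, hJ⟩ := Subgroup.mem_inf.1 hx
  obtain ⟨h, h1, -⟩ := (mem_J5 C).1 hJ
  rw [show (⟨q ^ k, h⟩ : ↥C.NZ) = ⟨q, q_NZ C hq⟩ ^ k from rfl, map_zpow] at h1
  rw [mem_bot]
  show q ^ k = 1
  have hd : (orderOf (cyc C hq) : ℤ) ∣ k := orderOf_dvd_iff_zpow_eq_one.2 h1
  rw [orderOf_cyc C hq ho, ← ho] at hd
  exact orderOf_dvd_iff_zpow_eq_one.1 hd

include hq ho in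
/-- The direct product. -/
theorem direct_five : IsInternalDirectProduct (zpowers q) (C.J5 q) (centralizer ({q} : Set G)) := by
  have hle : C.J5 q ≤ centralizer ({q} : Set G) := (J5_le_M5 C).trans inf_le_right
  have hqle : zpowers q ≤ centralizer ({q} : Set G) := zpowers_le.2 (mem_centralizer_singleton_iff.2 rfl)
  refine ⟨hqle, hle, ?_, zpowers_inf_J5 C hq ho, le_antisymm (sup_le hqle hle) ?_⟩
  · rintro _ ⟨k, rfl⟩ b hb
    exact ((show Commute q b from ((mem_J5 C).1 hb).2.2.symm).zpow_left k).eq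
  · rw [cent_five C hq ho]
    intro m hm
    obtain ⟨i, hi⟩ := M5_decomp C hq ho hm
    rw [show m = m * (q ^ (i : ℕ))⁻¹ * q ^ (i : ℕ) by group]
    exact mul_mem (mem_sup_right hi) (mem_sup_left (pow_mem (mem_zpowers q) _))

include hq ho in
theorem card_cent_five_eq : Nat.card ↥(centralizer ({q} : Set G)) = 6720 := by
  obtain ⟨h1, h2, hcomm, hinf, -⟩ := direct_five C hq ho
  let f : ↥(zpowers q) × ↥(C.J5 q) → ↥(centralizer ({q} : Set G)) := fun p =>
    ⟨(p.1 : G) * p.2, mul_mem (h1 p.1.2) (h2 p.2.2)⟩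
  have hf : Function.Bijective f := by
    constructor
    · rintro ⟨a, b⟩ ⟨a', b'⟩ e
      have e' : (a : G) * b = a' * b' := congrArg Subtype.val e
      have h : (a' : G)⁻¹ * a = b' * (b : G)⁻¹ := by
        calc (a' : G)⁻¹ * a = (a' : G)⁻¹ * (a * b) * (b : G)⁻¹ := by group
          _ = _ := by rw [e']; group
      have h0 : (a' : G)⁻¹ * a ∈ zpowers q ⊓ C.J5 q :=
        Subgroup.mem_inf.2 ⟨mul_mem (inv_mem a'.2) a.2, h ▸ mul_mem b'.2 (inv_mem b.2)⟩
      rw [hinf, mem_bot] at h0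
      refine Prod.ext (Subtype.ext (inv_mul_eq_one.1 h0).symm) (Subtype.ext ?_)
      rw [h0] at h
      exact (mul_inv_eq_one.1 h.symm).symm
    · rintro ⟨c, hc⟩
      rw [cent_five C hq ho] at hc
      obtain ⟨i, hi⟩ := M5_decomp C hq ho hc
      refine ⟨⟨⟨q ^ (i : ℕ), pow_mem (mem_zpowers q) _⟩, ⟨_, hi⟩⟩, Subtype.ext ?_⟩
      show q ^ (i : ℕ) * (c * (q ^ (i : ℕ))⁻¹) = c
      rw [hcomm _ (pow_mem (mem_zpowers q) _) _ hi, inv_mul_cancel_right]
  rw [← Nat.card_congr (Equiv.ofBijective f hf), Nat.card_prod, Nat.card_zpowers, ho, card_J5 C hq ho]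

include hq ho in
/-- `J5` is a non-split extension of `Zc` by `L₃(2)`. -/
theorem five_extension :
    ∃ (E : Subgroup ↥(C.J5 q)) (_ : E.Normal), IsElementaryAbelian 2 E ∧ Nat.card ↥E = 8 ∧
      Nonempty (↥(C.J5 q) ⧸ E ≃* Matrix.SpecialLinearGroup (Fin 3) (ZMod 2)) ∧
      ∀ K : Subgroup ↥(C.J5 q), ¬ E.IsComplement' K := by
  classical
  set J := C.J5 q
  let f : ↥J →* GL (Fin 3) (ZMod 2) := (rho C).comp (Subgroup.inclusion (J5_le_NZ C))
  have hZJ : C.Z ≤ J := fun x hx => (Subgroup.mem_inf.1 ((J5_CZ_eq C hq ho).ge hx)).1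
  have hE : ∀ x : ↥J, x ∈ f.ker ↔ (x : G) ∈ C.Z := fun x => by
    constructor
    · intro h; exact J5_mem_Z C hq ho x.2 h
    · intro h
      exact (rho_eq_one C).2 (Subgroup.mem_inf.1 ((J5_CZ_eq C hq ho).ge h)).2
  have hfs : Function.Surjective f := fun A => by
    obtain ⟨m, hm, e⟩ := J5_lift C hq ho A
    exact ⟨⟨m, hm⟩, e⟩
  have hE8 : Nat.card ↥f.ker = 8 := by
    rw [← card_Zc C.M]
    exact Nat.card_congr
      { toFun := fun x => ⟨x.1.1, (hE x.1).1 x.2⟩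
        invFun := fun x => ⟨⟨x.1, hZJ x.2⟩, (hE _).2 x.2⟩
        left_inv := fun _ => rfl
        right_inv := fun _ => rfl }
  refine ⟨f.ker, inferInstance, ⟨⟨⟨fun a b => ?_⟩⟩, fun a ha => ?_⟩, hE8,
    ⟨(QuotientGroup.quotientKerEquivOfSurjective f hfs).trans glEquiv⟩, fun K hK => ?_⟩
  · exact Subtype.ext (Subtype.ext (C.D.comm (Zc_le C.M ((hE _).1 a.2)) (Zc_le C.M ((hE _).1 b.2))))
  · rw [pow_two]
    exact Subtype.ext (C.D.sq_one (Zc_le C.M ((hE a).1 ha)))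
  obtain ⟨u, huJ, hu2, hu1, hut, ⟨huN, hK8⟩, hT, hCJ, -, hconj⟩ := five_key C hq ho
  have hfK : ∀ A, ∃ k : ↥K, f k = A := fun A => by
    obtain ⟨x, rfl⟩ := hfs A
    obtain ⟨⟨e, k⟩, hek⟩ := hK.2 x
    refine ⟨k, ?_⟩
    rw [← show (e : ↥J) * (k : ↥J) = x from hek, map_mul, MonoidHom.mem_ker.1 e.2, one_mul]
  have hKinj : ∀ a b : ↥K, f a = f b → a = b := fun a b h => by
    have hm : (a : ↥J)⁻¹ * (b : ↥J) ∈ f.ker ⊓ K :=
      Subgroup.mem_inf.2 ⟨MonoidHom.mem_ker.2 (by rw [map_mul, map_inv, h, inv_mul_cancel]),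
        mul_mem (inv_mem a.2) b.2⟩
    rw [hK.disjoint.eq_bot, mem_bot] at hm
    exact Subtype.ext (inv_mul_eq_one.1 hm)
  set A := rho C ⟨u, huN⟩
  obtain ⟨k, hk⟩ := hfK A
  have hA1 : A ≠ 1 := fun h => by
    rcases (mem_Zc C.M).1 (J5_mem_Z C hq ho huJ h) with e | ⟨i, e⟩
    · exact hu1 e
    · obtain ⟨g, hg⟩ := zel_conj_z C i
      exact C.not_conj_t ((isConj_iff.2 ⟨_, hg.trans e⟩ : IsConj z u).trans hut.symm)
  have hA2 : A * A = 1 := by
    show rho C _ * rho C _ = 1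
    rw [← map_mul, show (⟨u, huN⟩ : ↥C.NZ) * ⟨u, huN⟩ = 1 from Subtype.ext hu2, map_one]
  set k' : G := ((k : ↥J) : G)
  have hk'2 : k' * k' = 1 := by
    have h : k * k = 1 := hKinj _ _ (by rw [Subgroup.coe_mul, map_mul, hk, hA2, Subgroup.coe_one, map_one])
    exact congrArg (fun x : ↥K => ((x : ↥J) : G)) h
  have hk'Z : k' ∉ C.Z := fun h => hA1 (hk.symm.trans (MonoidHom.mem_ker.1 ((hE _).2 h)))
  obtain ⟨m, hm, hmk⟩ := hconj k' (k : ↥J).2 hk'2 hk'Z
  have hcard : Nat.card ↥(J ⊓ centralizer ({k'} : Set G)) ≤ 16 := by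
    rw [← hCJ]
    refine Nat.card_le_card_of_injective (fun c => ⟨m⁻¹ * (c : G) * m, ?_⟩) fun a b e =>
      Subtype.ext (mul_left_cancel (mul_right_cancel (Subtype.ext_iff.1 e :)))
    obtain ⟨h1, h2⟩ := Subgroup.mem_inf.1 c.2
    refine Subgroup.mem_inf.2 ⟨mul_mem (mul_mem (inv_mem hm) h1) hm, mem_centralizer_singleton_iff.2 ?_⟩
    rw [mem_centralizer_singleton_iff] at h2
    calc m⁻¹ * (c : G) * m * u = m⁻¹ * ((c : G) * (m * u * m⁻¹)) * m := by group
      _ = m⁻¹ * (m * u * m⁻¹ * c) * m := by rw [← hmk, h2]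
      _ = _ := by group
  set CA := centralizer ({A} : Set (GL (Fin 3) (ZMod 2)))
  choose lift hlift using hfK
  have hLk : ∀ D : ↥CA, ((lift D.1 : ↥J) : G) * k' = k' * ((lift D.1 : ↥J) : G) := fun D => by
    have h : lift D.1 * k = k * lift D.1 := hKinj _ _ (by
      rw [Subgroup.coe_mul, Subgroup.coe_mul, map_mul, map_mul, hlift, hk]
      exact mem_centralizer_singleton_iff.1 D.2)
    exact congrArg (fun x : ↥K => ((x : ↥J) : G)) h
  have hTk : ∀ ζ : ↥(C.Z ⊓ centralizer ({u} : Set G)), (ζ : G) * k' = k' * ζ := fun ζ => by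
    obtain ⟨h1, h2⟩ := Subgroup.mem_inf.1 ζ.2
    have e : rho C ⟨k', J5_le_NZ C (k : ↥J).2⟩ = rho C ⟨u, huN⟩ := hk
    have h := rho_conj C e h1
    rw [show u * (ζ : G) * u⁻¹ = ζ from
      mul_inv_eq_iff_eq_mul.2 (mem_centralizer_singleton_iff.1 h2).symm] at h
    exact (mul_inv_eq_iff_eq_mul.1 h).symm
  let F : ↥(C.Z ⊓ centralizer ({u} : Set G)) × ↥CA → ↥(J ⊓ centralizer ({k'} : Set G)) := fun p =>
    ⟨(p.1 : G) * ((lift p.2.1 : ↥J) : G), Subgroup.mem_inf.2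
      ⟨mul_mem (hZJ (Subgroup.mem_inf.1 p.1.2).1) (lift p.2.1 : ↥J).2, mem_centralizer_singleton_iff.2
        ((show Commute (p.1 : G) k' from hTk p.1).mul_left (show Commute _ k' from hLk p.2)).eq⟩⟩
  have hF : Function.Injective F := by
    rintro ⟨a, b⟩ ⟨a', b'⟩ e
    have e' : (⟨(a : G), hZJ (Subgroup.mem_inf.1 a.2).1⟩ : ↥J) * (lift b.1 : ↥J) =
        (⟨(a' : G), hZJ (Subgroup.mem_inf.1 a'.2).1⟩ : ↥J) * (lift b'.1 : ↥J) :=
      Subtype.ext (by push_cast; exact congrArg Subtype.val e)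
    have hb := congrArg f e'
    rw [map_mul, map_mul,
      MonoidHom.mem_ker.1 ((hE ⟨(a : G), hZJ (Subgroup.mem_inf.1 a.2).1⟩).2 (Subgroup.mem_inf.1 a.2).1),
      MonoidHom.mem_ker.1 ((hE ⟨(a' : G), hZJ (Subgroup.mem_inf.1 a'.2).1⟩).2 (Subgroup.mem_inf.1 a'.2).1),
      one_mul, one_mul, hlift, hlift] at hb
    have hbb : b = b' := Subtype.ext hb
    subst hbb
    have e2 := congrArg Subtype.val (mul_right_cancel e')
    rw [show a = a' from Subtype.ext e2]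
  have h32 := (Nat.card_le_card_of_injective F hF).trans hcard
  rw [Nat.card_prod, hT] at h32
  omega

include hq ho in
/-- An element of `CS` squaring `q`. -/
theorem exists_square : ∃ n : G, n ∈ C.CS ∧ n * q * n⁻¹ = q ^ 2 := by
  obtain ⟨g, hg⟩ := p5_square _ (cyc_pow C hq ho) (cyc_ne C hq ho)
  obtain ⟨n, rfl⟩ := pentS_surjective C g
  refine ⟨n, n.2, ?_⟩
  have h : n * ⟨q, hq⟩ = (⟨q, hq⟩ : ↥C.CS) ^ 2 * n := pentS_injective C (by
    rw [map_mul, map_mul, map_pow]; exact hg)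
  exact mul_inv_eq_iff_eq_mul.2 (congrArg Subtype.val h)

/-- The orbit of a generator when some element squares it. -/
theorem ncard_orbit_five {H : Type*} [Group H] [Finite H] {a n : H} (ha : orderOf a = 5) (hn : n * a * n⁻¹ = a ^ 2) :
    Set.ncard {x : H | ∃ m ∈ normalizer (zpowers a : Set H), m * a * m⁻¹ = x} = 4 ∧
      n ∈ normalizer (zpowers a : Set H) := by
  have h5 : a ^ 5 = 1 := ha ▸ pow_orderOf_eq_one a
  have hnN : n ∈ normalizer (zpowers a : Set H) := mem_normalizer_fintype fun x hx => by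
    obtain ⟨j, rfl⟩ := hx
    rw [SetLike.mem_coe, ← conj_zpow, hn]
    exact zpow_mem (pow_mem (mem_zpowers _) 2) j
  refine ⟨?_, hnN⟩
  have h4 : n ^ 2 * a * (n ^ 2)⁻¹ = a ^ 4 := by
    rw [show n ^ 2 * a * (n ^ 2)⁻¹ = n * (n * a * n⁻¹) * n⁻¹ by rw [pow_two]; group, hn, ← conj_pow, hn,
      ← pow_mul]
  have h3 : n ^ 3 * a * (n ^ 3)⁻¹ = a ^ 3 := by
    rw [show n ^ 3 * a * (n ^ 3)⁻¹ = n * (n ^ 2 * a * (n ^ 2)⁻¹) * n⁻¹ by rw [pow_succ' n 2]; group, h4,
      ← conj_pow, hn, ← pow_mul, show 2 * 4 = 5 + 3 from rfl, pow_add, h5, one_mul]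
  have hset : {x : H | ∃ m ∈ normalizer (zpowers a : Set H), m * a * m⁻¹ = x} =
      (fun k : ℕ => a ^ k) '' ↑({1, 2, 3, 4} : Finset ℕ) := by
    ext x
    constructor
    · rintro ⟨m, hm, rfl⟩
      have hmem : m * a * m⁻¹ ∈ zpowers a := (mem_normalizer_iff.1 hm _).1 (mem_zpowers _)
      obtain ⟨k, hk⟩ := (isOfFinOrder_of_finite a).mem_powers_iff_mem_zpowers.2 hmem
      refine ⟨k % 5, ?_, by show a ^ (k % 5) = _; rw [← pow_eq_pow_mod k h5]; exact hk⟩
      have hk0 : k % 5 ≠ 0 := fun h0 => by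
        have h1 : m * a * m⁻¹ = 1 := by
          rw [← hk]
          show a ^ k = 1
          rw [pow_eq_pow_mod k h5, h0, pow_zero]
        rw [conj_eq_one_iff.1 h1, orderOf_one] at ha
        norm_num at ha
      have := Nat.mod_lt k (show 0 < 5 by norm_num)
      simp only [Finset.coe_insert, Finset.coe_singleton, Set.mem_insert_iff, Set.mem_singleton_iff]
      omega
    · rintro ⟨k, hk, rfl⟩
      simp only [Finset.coe_insert, Finset.coe_singleton, Set.mem_insert_iff, Set.mem_singleton_iff] at hk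
      rcases hk with rfl | rfl | rfl | rfl
      · exact ⟨1, one_mem _, by simp⟩
      · exact ⟨n, hnN, hn⟩
      · exact ⟨n ^ 3, pow_mem hnN 3, h3⟩
      · exact ⟨n ^ 2, pow_mem hnN 2, h4⟩
  have hinj : Set.InjOn (fun k : ℕ => a ^ k) ↑({1, 2, 3, 4} : Finset ℕ) := by
    refine (pow_injOn_Iio_orderOf (x := a)).mono fun k hk => ?_
    rw [Set.mem_Iio, ha]
    simp only [Finset.coe_insert, Finset.coe_singleton, Set.mem_insert_iff, Set.mem_singleton_iff] at hk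
    omega
  rw [hset, Set.InjOn.ncard_image hinj, Set.ncard_coe_finset]
  rfl

include hq ho in
/-- The normaliser of `⟨q⟩`. -/
theorem card_norm_five : Nat.card ↥(normalizer (zpowers q : Set G)) = 26880 := by
  obtain ⟨n, -, hn⟩ := exists_square C hq ho
  rw [card_normalizer_zpowers, card_cent_five_eq C hq ho, (ncard_orbit_five ho hn).1]

include hq ho in
theorem norm_five_le : normalizer (zpowers q : Set G) ≤ C.NZ := fun m hm => by
  obtain ⟨n, hn, hnq⟩ := exists_square C hq ho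
  have hmem : m * q * m⁻¹ ∈ zpowers q := (mem_normalizer_iff.1 hm _).1 (mem_zpowers _)
  obtain ⟨k, hk⟩ := (isOfFinOrder_of_finite q).mem_powers_iff_mem_zpowers.2 hmem
  have hk' : q ^ (k % 5) = m * q * m⁻¹ := by rw [← pow_eq_pow_mod k (q_pow ho)]; exact hk
  have hiter : ∀ j : ℕ, n ^ j * q * (n ^ j)⁻¹ = q ^ (2 ^ j) := by
    intro j
    induction j with
    | zero => simp
    | succ j ih =>
      rw [pow_succ' n, show n * n ^ j * q * (n * n ^ j)⁻¹ = n * (n ^ j * q * (n ^ j)⁻¹) * n⁻¹ by group, ih,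
        ← conj_pow, hnq, ← pow_mul, pow_succ', mul_comm]
  obtain ⟨j, hj⟩ : ∃ j : ℕ, n ^ j * q * (n ^ j)⁻¹ = q ^ (k % 5) := by
    have := Nat.mod_lt k (show 0 < 5 by norm_num)
    obtain h | h | h | h | h : k % 5 = 0 ∨ k % 5 = 1 ∨ k % 5 = 2 ∨ k % 5 = 3 ∨ k % 5 = 4 := by omega
    · rw [h, pow_zero] at hk'
      have h1 := conj_eq_one_iff.1 hk'.symm
      rw [h1, orderOf_one] at ho
      norm_num at ho
    · exact ⟨0, by rw [hiter, h]; rfl⟩
    · exact ⟨1, by rw [hiter, h]; rfl⟩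
    · exact ⟨3, by rw [hiter, h, show 2 ^ 3 = 5 + 3 from rfl, pow_add, q_pow ho, one_mul]⟩
    · exact ⟨2, by rw [hiter, h]; rfl⟩
  have hc : (n ^ j)⁻¹ * m ∈ centralizer ({q} : Set G) := mem_centralizer_singleton_iff.2 (by
    calc (n ^ j)⁻¹ * m * q = (n ^ j)⁻¹ * (m * q * m⁻¹) * m := by group
      _ = (n ^ j)⁻¹ * (n ^ j * q * (n ^ j)⁻¹) * m := by rw [← hk', hj]
      _ = _ := by group)
  rw [cent_five C hq ho] at hc
  rw [show m = n ^ j * ((n ^ j)⁻¹ * m) by group]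
  exact mul_mem (pow_mem (CS_le_NZ C hn) j) (Subgroup.mem_inf.1 hc).1

include hq ho in
/-- A Frobenius group of order 20 containing `q`. -/
theorem exists_frobenius : ∃ R : Subgroup G, zpowers q ≤ R ∧ R ≤ normalizer (zpowers q : Set G) ∧
    Nat.card ↥R = 20 ∧ R ⊓ centralizer ({q} : Set G) = zpowers q := by
  obtain ⟨n, hn, hnq⟩ := exists_square C hq ho
  set q' : ↥C.CS := ⟨q, hq⟩
  have ho' : orderOf q' = 5 := by rw [Subgroup.orderOf_mk]; exact ho
  have hnq' : (⟨n, hn⟩ : ↥C.CS) * q' * ⟨n, hn⟩⁻¹ = q' ^ 2 := Subtype.ext hnq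
  have hcent : centralizer ({q'} : Set ↥C.CS) = zpowers q' := by
    refine le_antisymm (fun x hx => ?_) (zpowers_le.2 (mem_centralizer_singleton_iff.2 rfl))
    obtain ⟨i, hi⟩ := p5_five _ (cyc_pow C hq ho) (cyc_ne C hq ho) (pentS C x) (by
      show pentS C x * pentS C q' = pentS C q' * pentS C x
      rw [← map_mul, ← map_mul, mem_centralizer_singleton_iff.1 hx])
    have e : x = q' ^ (i : ℕ) := pentS_injective C (by rw [map_pow]; exact hi)
    rw [e]
    exact pow_mem (mem_zpowers q') _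
  set R := (normalizer (zpowers q' : Set ↥C.CS)).map C.CS.subtype with hR
  refine ⟨R, zpowers_le.2 ⟨q', le_normalizer (mem_zpowers q'), rfl⟩, ?_, ?_, le_antisymm ?_ ?_⟩
  · rintro _ ⟨m, hm, rfl⟩
    refine mem_normalizer_fintype fun x hx => ?_
    obtain ⟨k, rfl⟩ := hx
    obtain ⟨l, hl⟩ := (mem_normalizer_iff.1 hm _).1 (zpow_mem (mem_zpowers q') k)
    exact ⟨l, congrArg Subtype.val hl⟩
  · rw [hR, card_map_of_injective (subtype_injective _), card_normalizer_zpowers, hcent, Nat.card_zpowers, ho',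
      (ncard_orbit_five ho' hnq').1]
  · intro x hx
    obtain ⟨⟨m, -, rfl⟩, hc⟩ := Subgroup.mem_inf.1 hx
    have hmc : m ∈ centralizer ({q'} : Set ↥C.CS) := mem_centralizer_singleton_iff.2
      (Subtype.ext (mem_centralizer_singleton_iff.1 hc))
    rw [hcent] at hmc
    obtain ⟨k, rfl⟩ := hmc
    exact ⟨k, rfl⟩
  · exact le_inf (zpowers_le.2 ⟨q', le_normalizer (mem_zpowers q'), rfl⟩)
      (zpowers_le.2 (mem_centralizer_singleton_iff.2 rfl))

end

include C in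
theorem not_25_dvd : ¬ 25 ∣ Nat.card G := by
  have : Fact (Nat.Prime 5) := ⟨by norm_num⟩
  obtain ⟨q, hq, ho⟩ := exists_q5 C
  exact not_sq_dvd (p := 5) ho (by rw [card_cent_five_eq C hq ho]; norm_num)

end Cfsg.Agent.J4Type.Pentad
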