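import Cfsg.Agent.Lib.J4Type.PentadElems

/-!
Groups of Janko-four type, pentad local (helper8): centraliser and normaliser of the element of order 7.

* `mem_G0_of_conj` : what conjugates `e7` to a power of itself fixes the trio;
* `card_cent_e7_pair` : its centraliser in the stabiliser of two of its fixed points has at most 14 elements;
* `no_inverting` : it is not conjugate to its inverse.
-/

set_option autoImplicit false
set_option linter.unusedSectionVars false
set_option maxRecDepth 40000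

open scoped Pointwise

namespace Cfsg.Agent.J4Type.Pentad

open Cfsg Cfsg.Agent.Golay MulAction

theorem fixed_octads : ∀ o ∈ toFinS trio0, (e7 : Equiv.Perm GolayPt) • o = o := by
  intro o ho
  obtain ⟨i, rfl⟩ : ∃ i : Fin 3, pts (trio0.getD i.val 0) = o := by
    obtain ⟨⟨i, hi⟩⟩ := (⟨trio0_enum.2 ⟨o, ho⟩⟩ : Nonempty _)
    exact ⟨i, congrArg Subtype.val hi⟩
  have h := octHom_spec (h0Elem d7 d7_ok.1) i
  rw [octHom_code d7_ok.1 d7_ok.2.1, Equiv.Perm.one_apply] at h
  exact h.symm

/-- An element normalising the group of `e7` fixes the trio. -/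
theorem mem_G0_of_conj {σ : ↥M24} {m : ℕ} (h : σ⁻¹ * e7 * σ = e7 ^ m) : σ ∈ G0 := by
  refine mem_stabilizer_iff.2 (smul_eq_self_of_maps fun o ho => ?_)
  have hoct : o ∈ octads := (toFinS_mem_trios trio0_ok).2.1 o ho
  refine e7_octads (smul_mem_octads σ.2 hoct) ?_
  show e7 • (σ • o) = σ • o
  have hp : e7 ^ m • o = o :=
    (mem_stabilizer_iff).1 (pow_mem (show e7 ∈ stabilizer ↥M24 o from fixed_octads o ho) m)
  rw [show e7 • (σ • o) = σ • ((σ⁻¹ * e7 * σ) • o) by rw [← mul_smul, ← mul_smul]; congr 1; group, h, hp]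

/-- The label permutation of a tabulated matrix element. -/
theorem exists_linear (g : ↥H0) :
    ∃ d ∈ trioLinear, ∀ i : Fin 7, ((labPerm g i : Fin 7) : ℕ) = labImg d i.val := by
  classical
  have hok := trioLinear_ok
  simp only [List.all_eq_true, Bool.and_eq_true, beq_iff_eq, List.mem_range] at hok
  let f : {d // d ∈ trioLinear.toFinset} → GL (Fin 3) (ZMod 2) := fun d =>
    matHom (h0Elem d.1 (hok d.1 (List.mem_toFinset.mp d.2)).1)
  have hk := nodup_of_distinctBits _ _ trio_distinct.2.1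
  have hf : Function.Injective f := by
    rintro ⟨a, ha⟩ ⟨b, hb⟩ e
    rw [List.mem_toFinset] at ha hb
    refine Subtype.ext (List.inj_on_of_nodup_map hk ha hb ?_)
    refine List.foldr_ext _ _ _ fun i hi acc => congrArg (· + 8 * acc) ?_
    have := congrArg Fin.val
      (Equiv.congr_fun (labPerm_eq_of_matHom e) ⟨i, List.mem_range.mp hi⟩)
    rwa [labPerm_h0Elem, labPerm_h0Elem] at this
  have : Fintype (GL (Fin 3) (ZMod 2)) := Fintype.ofFinite _
  have hb := (Fintype.bijective_iff_injective_and_card f).mpr ⟨hf, by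
    rw [Fintype.card_coe, List.toFinset_card_of_nodup (List.Nodup.of_map _ hk), trio_lengths.2.1,
      ← Nat.card_eq_fintype_card, natCard_gl32]⟩
  obtain ⟨d, hd⟩ := hb.2 (matHom g)
  exact ⟨d.1, List.mem_toFinset.mp d.2, fun i => by
    rw [← labPerm_eq_of_matHom hd, labPerm_h0Elem]⟩

/-- The trio element of `e7`. -/
noncomputable def g7 : ↥H0 := h0Elem d7 d7_ok.1

theorem g7_val : g7.1.1 = e7 := rfl

theorem g7_lab (i : Fin 7) : ((labPerm g7 i : Fin 7) : ℕ) = labImg d7 i.val := labPerm_h0Elem d7 d7_ok.1 i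

theorem pt_octad (g : ↥H0) (p : GolayPt) (i : Fin 3) (hp : p ∈ pts (trio0.getD i.val 0))
    (hf : (g.1.1 : Equiv.Perm GolayPt) p = p) : octHom g i = i := by
  have h := octHom_spec g i
  have hm : p ∈ pts (trio0.getD ((octHom g i : Fin 3) : ℕ) 0) := by
    rw [h]
    have := Finset.smul_mem_smul_finset (a := (g.1.1 : Equiv.Perm GolayPt)) hp
    rwa [show (g.1.1 : Equiv.Perm GolayPt) • p = p from hf] at this
  have hdis : ∀ a b : Fin 3, a ≠ b → trio0.getD a.val 0 &&& trio0.getD b.val 0 = 0 := by decide +kernel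
  by_contra hne
  have h2 : p ∈ pts (trio0.getD i.val 0 &&& trio0.getD ((octHom g i : Fin 3) : ℕ) 0) := by
    rw [pts_and]; exact Finset.mem_inter.2 ⟨hp, hm⟩
  rw [hdis _ _ (Ne.symm hne), pts_zero] at h2
  exact Finset.notMem_empty _ h2

theorem fixed_octad_index : pt 5 ∈ pts (trio0.getD (0 : Fin 3).val 0) ∧ pt 13 ∈ pts (trio0.getD (1 : Fin 3).val 0) ∧
    pt 12 ∈ pts (trio0.getD (2 : Fin 3).val 0) := by
  simp only [mem_pts, idx_pt (show 5 < 24 by norm_num), idx_pt (show 12 < 24 by norm_num),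
    idx_pt (show 13 < 24 by norm_num)]
  decide +kernel

/-- Commuting with `e7` permutes its three fixed points. -/
theorem fixed_set {σ : ↥M24} (hc : σ * e7 = e7 * σ) {i : ℕ} (hi : i = 5 ∨ i = 12 ∨ i = 13) :
    (σ : Equiv.Perm GolayPt) (pt i) = pt 5 ∨ (σ : Equiv.Perm GolayPt) (pt i) = pt 12 ∨
      (σ : Equiv.Perm GolayPt) (pt i) = pt 13 := by
  have hlt : i < 24 := by omega
  set q := (σ : Equiv.Perm GolayPt) (pt i) with hq
  have hf : (e7 : Equiv.Perm GolayPt) q = q := by
    have e := congrArg (fun x : ↥M24 => (x : Equiv.Perm GolayPt) (pt i)) hc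
    simp only [Subgroup.coe_mul, Equiv.Perm.mul_apply, (e7_fix hlt).2 hi] at e
    exact e.symm
  rw [← pt_idx q] at hf
  rcases (e7_fix (idx_lt q)).1 hf with h | h | h
  · exact Or.inl (by rw [← pt_idx q, h])
  · exact Or.inr (Or.inl (by rw [← pt_idx q, h]))
  · exact Or.inr (Or.inr (by rw [← pt_idx q, h]))

theorem conj_of_comm {σ : ↥M24} (hc : σ * e7 = e7 * σ) : σ⁻¹ * e7 * σ = e7 ^ 1 := by
  rw [pow_one, mul_assoc, ← hc, inv_mul_cancel_left]

/-- The tabulated matrix elements commuting with `d7` on the labels. -/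
def commLin : List ℕ :=
  trioLinear.filter fun d => (List.range 7).all fun i => labImg d (labImg d7 i) == labImg d7 (labImg d i)

theorem commLin_length : commLin.length = 7 := label_commute.1

theorem mem_commLin {d : ℕ} (hd : d ∈ trioLinear)
    (h : ∀ i < 7, labImg d (labImg d7 i) = labImg d7 (labImg d i)) : d ∈ commLin := by
  rw [commLin, List.mem_filter]
  exact ⟨hd, List.all_eq_true.2 fun i hi => beq_iff_eq.2 (h i (List.mem_range.1 hi))⟩

/-- The centraliser of `e7` in the stabiliser of two of its fixed points. -/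
theorem card_cent_e7_pair {a b : ℕ} (ha : a = 5 ∨ a = 12 ∨ a = 13) (hb : b = 5 ∨ b = 12 ∨ b = 13) (hab : a ≠ b) :
    Nat.card {σ : ↥M24 // σ * e7 = e7 * σ ∧
      (σ : Equiv.Perm GolayPt) • ({pt a, pt b} : Finset GolayPt) = {pt a, pt b}} ≤ 14 := by
  classical
  set S := {σ : ↥M24 // σ * e7 = e7 * σ ∧
    (σ : Equiv.Perm GolayPt) • ({pt a, pt b} : Finset GolayPt) = {pt a, pt b}}
  have hG : ∀ s : S, s.1 ∈ G0 := fun s => mem_G0_of_conj (conj_of_comm s.2.1)
  let hh : S → ↥H0 := fun s => ⟨⟨s.1, hG s⟩, mem_H0 _⟩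
  obtain ⟨key, hkey, hklen⟩ : ∃ key : List ℕ, (∀ d ∈ commLin, labKey d ∈ key) ∧ key.length = 7 :=
    ⟨commLin.map labKey, fun d hd => List.mem_map_of_mem hd, by rw [List.length_map]; exact commLin_length⟩
  let k : S → ℕ × Bool := fun s =>
    ((List.finRange 7).foldr (fun i a => ((labPerm (hh s) i : Fin 7) : ℕ) + 8 * a) 0,
      decide ((s.1 : Equiv.Perm GolayPt) (pt a) = pt a))
  have hpair : ∀ s : S, (s.1 : Equiv.Perm GolayPt) (pt a) = pt a ∨ (s.1 : Equiv.Perm GolayPt) (pt a) = pt b := by
    intro s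
    have h : (s.1 : Equiv.Perm GolayPt) (pt a) ∈ ({pt a, pt b} : Finset GolayPt) := by
      have := Finset.smul_mem_smul_finset (a := (s.1 : Equiv.Perm GolayPt))
        (Finset.mem_insert_self (pt a) {pt b})
      rwa [s.2.2] at this
    simpa using h
  have hmem : ∀ s, k s ∈ key.toFinset ×ˢ (Finset.univ : Finset Bool) := by
    intro s
    refine Finset.mem_product.2 ⟨List.mem_toFinset.2 ?_, Finset.mem_univ _⟩
    obtain ⟨d, hd, hlab⟩ := exists_linear (hh s)
    suffices hd' : d ∈ commLin by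
      have e : (k s).1 = labKey d := by
        simp only [k]
        rw [labKey, show List.range 7 = (List.finRange 7).map Fin.val by decide, List.foldr_map]
        exact List.foldr_ext _ _ _ fun i _ acc => by rw [hlab]
      rw [e]
      exact hkey d hd'
    refine mem_commLin hd fun i hi => ?_
    · have hcomm : hh s * g7 = g7 * hh s := Subtype.ext (Subtype.ext s.2.1)
      have e := congrArg (fun x => ((labPerm x ⟨i, hi⟩ : Fin 7) : ℕ)) hcomm
      simp only [map_mul, Equiv.Perm.mul_apply, hlab, g7_lab] at e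
      exact e
  have hinj : Function.Injective k := by
    intro s t hst
    have hlab : labPerm (hh s) = labPerm (hh t) := by
      have e := congrArg Prod.fst hst
      have hget : ∀ (u : S) (i : Fin 7), ((labPerm (hh u) i : Fin 7) : ℕ) =
          ((k u).1 / 8 ^ i.val) % 8 := by
        intro u i
        simp only [k, show List.finRange 7 = [0, 1, 2, 3, 4, 5, 6] from rfl, List.foldr_cons, List.foldr_nil]
        have h0 := (labPerm (hh u) 0).isLt
        have h1 := (labPerm (hh u) 1).isLt
        have h2 := (labPerm (hh u) 2).isLt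
        have h3 := (labPerm (hh u) 3).isLt
        have h4 := (labPerm (hh u) 4).isLt
        have h5 := (labPerm (hh u) 5).isLt
        have h6 := (labPerm (hh u) 6).isLt
        fin_cases i <;> simp <;> omega
      exact Equiv.ext fun i => Fin.ext (by rw [hget, hget, e])
    set τ : ↥M24 := s.1⁻¹ * t.1 with hτ
    have hτc : τ * e7 = e7 * τ := by
      have h1 : s.1⁻¹ * e7 = e7 * s.1⁻¹ := (Commute.inv_left (show Commute s.1 e7 from s.2.1)).eq
      rw [hτ, mul_assoc, t.2.1, ← mul_assoc, h1, mul_assoc]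
    have hxa : (τ : Equiv.Perm GolayPt) (pt a) = pt a := by
      have e := congrArg Prod.snd hst
      simp only [k, decide_eq_decide] at e
      have : (t.1 : Equiv.Perm GolayPt) (pt a) = (s.1 : Equiv.Perm GolayPt) (pt a) := by
        rcases hpair s with h | h <;> rcases hpair t with h' | h' <;> rw [h, h']
        · exact absurd (h'.symm.trans (e.1 h)) (pt_ne (by omega) (by omega) (by omega))
        · exact absurd (h.symm.trans (e.2 h')) (pt_ne (by omega) (by omega) (by omega))
      rw [hτ, Subgroup.coe_mul, Equiv.Perm.mul_apply, this, Subgroup.coe_inv]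
      exact Equiv.symm_apply_apply _ _
    have hxb : (τ : Equiv.Perm GolayPt) (pt b) = pt b := by
      have hst' : (τ : Equiv.Perm GolayPt) • ({pt a, pt b} : Finset GolayPt) = {pt a, pt b} := by
        rw [hτ, Subgroup.coe_mul, mul_smul, t.2.2, Subgroup.coe_inv, inv_smul_eq_iff, s.2.2]
      have : (τ : Equiv.Perm GolayPt) (pt b) ∈ ({pt a, pt b} : Finset GolayPt) := by
        have := Finset.smul_mem_smul_finset (a := (τ : Equiv.Perm GolayPt))
          (show pt b ∈ ({pt a, pt b} : Finset GolayPt) by simp)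
        rwa [hst'] at this
      simp only [Finset.mem_insert, Finset.mem_singleton] at this
      rcases this with h | h
      · exact absurd ((τ : Equiv.Perm GolayPt).injective (h.trans hxa.symm))
          (pt_ne (by omega) (by omega) (by omega))
      · exact h
    have hfix : ∀ i, i = 5 ∨ i = 12 ∨ i = 13 → (τ : Equiv.Perm GolayPt) (pt i) = pt i := by
      intro i hi
      by_cases hia : i = a
      · rw [hia]; exact hxa
      by_cases hib : i = b
      · rw [hib]; exact hxb
      obtain ⟨j, hj, hij⟩ : ∃ j, (j = 5 ∨ j = 12 ∨ j = 13) ∧ (τ : Equiv.Perm GolayPt) (pt i) = pt j := by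
        rcases fixed_set hτc hi with h | h | h
        · exact ⟨5, Or.inl rfl, h⟩
        · exact ⟨12, Or.inr (Or.inl rfl), h⟩
        · exact ⟨13, Or.inr (Or.inr rfl), h⟩
      have hja : j ≠ a := fun e =>
        pt_ne (by omega) (by omega) hia ((τ : Equiv.Perm GolayPt).injective (hij.trans (e ▸ hxa.symm)))
      have hjb : j ≠ b := fun e =>
        pt_ne (by omega) (by omega) hib ((τ : Equiv.Perm GolayPt).injective (hij.trans (e ▸ hxb.symm)))
      rw [hij, show j = i by omega]
    have hR : τ ∈ Rk := by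
      refine mem_Rk_iff.2 ⟨(hh s)⁻¹ * hh t, ?_, rfl⟩
      refine Prod.ext ?_ (Equiv.ext fun i => ?_)
      · show matHom ((hh s)⁻¹ * hh t) = 1
        rw [map_mul, map_inv, matHom_eq_of_labPerm hlab, inv_mul_cancel]
      · show octHom ((hh s)⁻¹ * hh t) i = i
        fin_cases i
        · exact pt_octad _ _ 0 fixed_octad_index.1 (hfix 5 (Or.inl rfl))
        · exact pt_octad _ _ 1 fixed_octad_index.2.1 (hfix 13 (Or.inr (Or.inr rfl)))
        · exact pt_octad _ _ 2 fixed_octad_index.2.2 (hfix 12 (Or.inr (Or.inl rfl)))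
    have h1 := e7_free hR hτc
    exact Subtype.ext (inv_mul_eq_one.1 h1)
  have : Fintype S := Fintype.ofFinite _
  rw [Nat.card_eq_fintype_card, ← Finset.card_univ]
  refine (Finset.card_le_card_of_injOn k (fun s _ => hmem s) hinj.injOn).trans ?_
  rw [Finset.card_product, Finset.card_univ, Fintype.card_bool]
  have := List.toFinset_card_le key
  omega

/-- The element of order 7 is not conjugate to its inverse. -/
theorem no_inverting {σ : ↥M24} : σ * e7 * σ⁻¹ ≠ e7⁻¹ := by
  intro h
  have h6 : e7 ^ 6 = e7⁻¹ := eq_inv_of_mul_eq_one_left (by rw [← pow_succ]; exact pow_seven_e7)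
  have h' : σ⁻¹ * e7 * σ = e7 ^ 6 := by
    rw [h6, ← inv_inj, inv_inv, mul_inv_rev, mul_inv_rev, inv_inv, ← h]
    group
  let g : ↥H0 := ⟨⟨σ, mem_G0_of_conj h'⟩, mem_H0 _⟩
  have hg : g7 * g * g7 = g := Subtype.ext (Subtype.ext (show e7 * σ * e7 = σ by
    have e : σ⁻¹ * e7 * σ * e7 = 1 := by rw [h', h6, inv_mul_cancel]
    calc e7 * σ * e7 = σ * (σ⁻¹ * e7 * σ * e7) := by group
      _ = σ := by rw [e, mul_one]))
  obtain ⟨d, hd, hlab⟩ := exists_linear g
  have hc := List.all_eq_true.1 label_commute.2 d hd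
  simp only [List.any_eq_true, List.mem_range, bne_iff_ne] at hc
  obtain ⟨i, hi, hne⟩ := hc
  refine hne ?_
  have e := congrArg (fun x => ((labPerm x ⟨i, hi⟩ : Fin 7) : ℕ)) hg
  simp only [map_mul, Equiv.Perm.mul_apply, hlab, g7_lab] at e
  exact e

end Cfsg.Agent.J4Type.Pentad
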