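import Cfsg.Agent.Lib.J4Type.PentadLabels
import Mathlib.GroupTheory.Index

/-!
Groups of Janko-four type, pentad local (helper8): finite facts and two small group lemmas.

* `eq_of_two_classes` : a subgroup with two classes of involutions, not conjugate, each with the whole
  centraliser, is the whole group;
* `card_normalizer_zpowers` : the normaliser of a cyclic group from the orbit of its generator;
* `p5_*`, `gl_invol_le`, `exists_square_label` : facts about `S₅` and `GL₃(2)`.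
-/

set_option autoImplicit false
set_option linter.unusedSectionVars false

namespace Cfsg.Agent.J4Type.Pentad

open Cfsg Cfsg.Agent.Golay MulAction Subgroup

variable {G : Type*} [Group G] [Finite G]

/-- Two involutions that are not conjugate commute with a common involution. -/
theorem exists_central_invol {a v : G} (ha : a * a = 1) (hv : v * v = 1) (hne : ¬ IsConj a v) :
    ∃ w : G, w * w = 1 ∧ w ≠ 1 ∧ w * a = a * w ∧ w * v = v * w ∧ w ∈ closure ({a, v} : Set G) := by
  set d := a * v with hd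
  have hai : a⁻¹ = a := inv_eq_of_mul_eq_one_right ha
  have hvi : v⁻¹ = v := inv_eq_of_mul_eq_one_right hv
  have hinv : a * d * a⁻¹ = d⁻¹ := by
    rw [hd, mul_inv_rev, hai, hvi, ← mul_assoc a a v, ha, one_mul]
  have hinv' : v * d * v⁻¹ = d⁻¹ := by
    rw [hd, mul_inv_rev, hai, hvi, mul_assoc, mul_assoc, hv, mul_one]
  have hn : ∀ (x : G) (k : ℕ), x * d * x⁻¹ = d⁻¹ → x * d ^ k * x⁻¹ = (d ^ k)⁻¹ := fun x k h => by
    rw [← conj_pow, h, inv_pow]
  rcases Nat.even_or_odd (orderOf d) with ⟨k, hk⟩ | ⟨k, hk⟩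
  · have hpos := orderOf_pos d
    have hw : d ^ k * d ^ k = 1 := by rw [← pow_add, ← hk, pow_orderOf_eq_one]
    refine ⟨d ^ k, hw, fun h => ?_, ?_, ?_, ?_⟩
    · have := orderOf_dvd_of_pow_eq_one h
      have := Nat.le_of_dvd (by omega) this
      omega
    · have h := hn a k hinv
      rw [inv_eq_of_mul_eq_one_right hw] at h
      exact (mul_inv_eq_iff_eq_mul.1 h).symm
    · have h := hn v k hinv'
      rw [inv_eq_of_mul_eq_one_right hw] at h
      exact (mul_inv_eq_iff_eq_mul.1 h).symm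
    · exact pow_mem (mul_mem (subset_closure (by simp)) (subset_closure (by simp))) k
  · exfalso
    refine hne (isConj_iff.2 ⟨d ^ k, ?_⟩)
    have h1 : d ^ k * a * (d ^ k)⁻¹ = d ^ (2 * k) * a := by
      have h := hn a k hinv
      rw [mul_inv_eq_iff_eq_mul] at h
      have h' : a * (d ^ k)⁻¹ = d ^ k * a := by
        calc a * (d ^ k)⁻¹ = a * ((d ^ k)⁻¹ * a) * a⁻¹ := by group
          _ = a * (a * d ^ k) * a⁻¹ := by rw [← h]
          _ = a * a * d ^ k * a⁻¹ := by group
          _ = d ^ k * a := by rw [ha, one_mul, hai]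
      rw [mul_assoc, h', ← mul_assoc, ← pow_add, two_mul]
    have h2 : d ^ (2 * k) * d = 1 := by rw [← pow_succ, ← hk, pow_orderOf_eq_one]
    rw [h1, eq_inv_of_mul_eq_one_left h2, hd, mul_inv_rev, hvi, hai, mul_assoc, ha, mul_one]

/-- A subgroup with two classes of involutions that are not conjugate, containing both centralisers. -/
theorem eq_of_two_classes {C M : Subgroup G} (hle : M ≤ C) {a b : G} (haM : a ∈ M) (hbM : b ∈ M)
    (ha : a * a = 1) (hb : b * b = 1) (hb1 : b ≠ 1) (hab : ¬ IsConj a b)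
    (hca : ∀ c ∈ C, c * a = a * c → c ∈ M) (hcb : ∀ c ∈ C, c * b = b * c → c ∈ M)
    (hM : ∀ x ∈ M, x * x = 1 → x ≠ 1 → ∃ m ∈ M, x = m * a * m⁻¹ ∨ x = m * b * m⁻¹) : M = C := by
  refine le_antisymm hle fun g hg => ?_
  set v := g * b * g⁻¹ with hv
  have hv2 : v * v = 1 := by
    rw [hv, show g * b * g⁻¹ * (g * b * g⁻¹) = g * (b * b) * g⁻¹ by group, hb, mul_one, mul_inv_cancel]
  have hv1 : v ≠ 1 := fun h => hb1 (conj_eq_one_iff.1 h)
  have hvC : v ∈ C := mul_mem (mul_mem hg (hle hbM)) (inv_mem hg)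
  have hnav : ¬ IsConj a v := fun h => hab (h.trans (isConj_iff.2 ⟨g⁻¹, by rw [hv]; group⟩))
  obtain ⟨w, hw2, hw1, hwa, hwv, hwcl⟩ := exists_central_invol ha hv2 hnav
  have hwC : w ∈ C := (closure_le C).2 (by
    intro x hx
    rcases hx with rfl | rfl
    · exact hle haM
    · exact hvC) hwcl
  have hwM := hca w hwC hwa
  obtain ⟨m, hm, hmw⟩ := hM w hwM hw2 hw1
  have hvM : v ∈ M := by
    have hstep : ∀ x, w = m * x * m⁻¹ → (∀ c ∈ C, c * x = x * c → c ∈ M) → v ∈ M := by
      intro x e hx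
      have h : m⁻¹ * v * m ∈ M := by
        refine hx _ (mul_mem (mul_mem (inv_mem (hle hm)) hvC) (hle hm)) ?_
        calc m⁻¹ * v * m * x = m⁻¹ * (v * (m * x * m⁻¹)) * m := by group
          _ = m⁻¹ * (m * x * m⁻¹ * v) * m := by rw [← e, hwv]
          _ = _ := by group
      rw [show v = m * (m⁻¹ * v * m) * m⁻¹ by group]
      exact mul_mem (mul_mem hm h) (inv_mem hm)
    rcases hmw with e | e
    · exact hstep a e hca
    · exact hstep b e hcb
  obtain ⟨n, hn, hnv⟩ := hM v hvM hv2 hv1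
  rcases hnv with e | e
  · exact absurd (isConj_iff.2 ⟨n, e.symm⟩) hnav
  · have h : n⁻¹ * g ∈ M := by
      refine hcb _ (mul_mem (inv_mem (hle hn)) hg) ?_
      calc n⁻¹ * g * b = n⁻¹ * (g * b * g⁻¹) * g := by group
        _ = n⁻¹ * (n * b * n⁻¹) * g := by rw [← hv, e]
        _ = b * (n⁻¹ * g) := by group
    rw [show g = n * (n⁻¹ * g) by group]
    exact mul_mem hn h

/-- The order of the normaliser of a cyclic group, from the orbit of its generator. -/
theorem card_normalizer_zpowers (s : G) :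
    Nat.card ↥(normalizer (zpowers s : Set G)) = Nat.card ↥(centralizer ({s} : Set G)) *
      Set.ncard {x : G | ∃ n ∈ normalizer (zpowers s : Set G), n * s * n⁻¹ = x} := by
  classical
  set N := normalizer (zpowers s : Set G)
  have hle : centralizer ({s} : Set G) ≤ N := fun c hc => mem_normalizer_fintype fun x hx => by
    obtain ⟨k, rfl⟩ := hx
    rw [(show Commute c s from mem_centralizer_singleton_iff.1 hc).zpow_right k |>.eq, mul_inv_cancel_right]
    exact zpow_mem (mem_zpowers s) k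
  set Cs := (centralizer ({s} : Set G)).subgroupOf N
  have key : ∀ a b : ↥N, (a : G) * s * (a : G)⁻¹ = (b : G) * s * (b : G)⁻¹ ↔ a⁻¹ * b ∈ Cs := by
    intro a b
    rw [mem_subgroupOf, mem_centralizer_singleton_iff, Subgroup.coe_mul, Subgroup.coe_inv]
    constructor
    · intro h
      calc (a : G)⁻¹ * b * s = (a : G)⁻¹ * ((b : G) * s * (b : G)⁻¹) * b := by group
        _ = (a : G)⁻¹ * ((a : G) * s * (a : G)⁻¹) * b := by rw [h]
        _ = _ := by group
    · intro h
      calc (a : G) * s * (a : G)⁻¹ = (a : G) * (s * ((a : G)⁻¹ * b)) * (b : G)⁻¹ := by group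
        _ = (a : G) * ((a : G)⁻¹ * b * s) * (b : G)⁻¹ := by rw [h]
        _ = _ := by group
  let f : ↥N ⧸ Cs → {x : G | ∃ n ∈ N, n * s * n⁻¹ = x} := fun q =>
    ⟨(q.out : G) * s * (q.out : G)⁻¹, q.out, q.out.2, rfl⟩
  have hf : Function.Bijective f := by
    constructor
    · intro p q e
      rw [← p.out_eq, ← q.out_eq]
      exact QuotientGroup.eq.2 ((key _ _).1 (congrArg Subtype.val e))
    · rintro ⟨_, n, hn, rfl⟩
      exact ⟨((⟨n, hn⟩ : ↥N) : ↥N ⧸ Cs), Subtype.ext ((key _ ⟨n, hn⟩).2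
        (QuotientGroup.eq.1 (Quotient.out_eq _)))⟩
  have hc : Nat.card ↥Cs = Nat.card ↥(centralizer ({s} : Set G)) := Nat.card_congr (subgroupOfEquivOfLe hle).toEquiv
  rw [← Nat.card_coe_set_eq, ← Nat.card_congr (Equiv.ofBijective f hf), ← hc, ← index_eq_card, card_mul_index]

/-! ### Facts about `S₅` -/

theorem p5_invol_conj : ∀ x : Equiv.Perm (Fin 5), x * x = 1 → x ≠ 1 → ∀ y : Equiv.Perm (Fin 5), y * y = 1 → y ≠ 1 →
    Equiv.Perm.sign x = Equiv.Perm.sign y → ∃ g : Equiv.Perm (Fin 5), g * x = y * g := by decide +kernel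

theorem p5_five : ∀ a : Equiv.Perm (Fin 5), a ^ 5 = 1 → a ≠ 1 → ∀ g : Equiv.Perm (Fin 5), g * a = a * g →
    ∃ i : Fin 5, g = a ^ (i : ℕ) := by decide +kernel

theorem p5_square : ∀ a : Equiv.Perm (Fin 5), a ^ 5 = 1 → a ≠ 1 → ∃ g : Equiv.Perm (Fin 5), g * a = a ^ 2 * g := by
  decide +kernel

theorem p5_three : ∀ r : Equiv.Perm (Fin 5), r * r * r = 1 → r ≠ 1 → ∀ x : Equiv.Perm (Fin 5), x * x = 1 → x ≠ 1 →
    x * r = r * x → Equiv.Perm.sign x = -1 ∧
      ∀ y : Equiv.Perm (Fin 5), y * y = 1 → y ≠ 1 → y * r = r * y → x = y := by decide +kernel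

theorem p5_exists : (∃ r x : Equiv.Perm (Fin 5), r * r * r = 1 ∧ r ≠ 1 ∧ x * x = 1 ∧ x ≠ 1 ∧ x * r = r * x) ∧
    (∃ a : Equiv.Perm (Fin 5), a ^ 5 = 1 ∧ a ≠ 1) := by
  refine ⟨⟨Equiv.swap 2 3 * Equiv.swap 3 4, Equiv.swap 0 1, ?_⟩, ⟨finRotate 5, ?_⟩⟩ <;> decide +kernel

/-! ### Facts about `GL₃(2)` -/

theorem matrix_invol_count :
    (Finset.univ.filter fun A : Matrix (Fin 3) (Fin 3) (ZMod 2) => A * A = 1).card = 22 := by decide +kernel

theorem gl_invol_le : Set.ncard {A : GL (Fin 3) (ZMod 2) | A * A = 1 ∧ A ≠ 1} ≤ 21 := by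
  classical
  have hsub : Units.val '' {A : GL (Fin 3) (ZMod 2) | A * A = 1 ∧ A ≠ 1} ⊆
      ↑((Finset.univ.filter fun A : Matrix (Fin 3) (Fin 3) (ZMod 2) => A * A = 1).erase 1) := by
    rintro _ ⟨A, ⟨h1, h2⟩, rfl⟩
    rw [Finset.mem_coe, Finset.mem_erase, Finset.mem_filter]
    exact ⟨fun h => h2 (Units.ext h), Finset.mem_univ _, congrArg Units.val h1⟩
  have h := Set.ncard_le_ncard hsub (Set.toFinite _)
  rw [Set.ncard_image_of_injective _ Units.val_injective, Set.ncard_coe_finset,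
    Finset.card_erase_of_mem (by simp), matrix_invol_count] at h
  exact h

theorem square_label : trioLinear.any (fun d => (List.range 7).all fun i =>
    labImg d (labImg d7 i) == labImg d7 (labImg d7 (labImg d i))) = true := by decide +kernel

/-- An element of the trio group squares `e7` on the sextets. -/
theorem exists_square_label : ∃ g : ↥H0, matHom g * matHom g7 * (matHom g)⁻¹ = matHom g7 ^ 2 := by
  obtain ⟨d, hd, h⟩ := List.any_eq_true.1 square_label
  have hok := List.all_eq_true.1 trioLinear_ok d hd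
  simp only [Bool.and_eq_true] at hok
  refine ⟨h0Elem d hok.1, ?_⟩
  rw [mul_inv_eq_iff_eq_mul, ← map_mul, ← map_pow, ← map_mul]
  refine matHom_eq_of_labPerm (Equiv.ext fun i => Fin.ext ?_)
  simp only [map_mul, pow_two, Equiv.Perm.mul_apply, labPerm_h0Elem, g7_lab]
  exact beq_iff_eq.1 (List.all_eq_true.1 h i.val (List.mem_range.2 i.isLt))

theorem gl_cent_e7 : Set.ncard {A : GL (Fin 3) (ZMod 2) | A * matHom g7 = matHom g7 * A} ≤ 7 := by
  classical
  have hex : ∀ A : GL (Fin 3) (ZMod 2), A * matHom g7 = matHom g7 * A →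
      ∃ d ∈ commLin, ∃ g : ↥H0, matHom g = A ∧ ∀ i : Fin 7, ((labPerm g i : Fin 7) : ℕ) = labImg d i.val := by
    intro A hA
    obtain ⟨g, hg, -⟩ := matHom_surjective_fixing A
    obtain ⟨d, hd, hlab⟩ := exists_linear g
    refine ⟨d, mem_commLin hd fun i hi => ?_, g, hg, hlab⟩
    rw [← hg, ← map_mul, ← map_mul] at hA
    have e := congrArg (fun x => ((x ⟨i, hi⟩ : Fin 7) : ℕ)) (labPerm_eq_of_matHom hA)
    simp only [map_mul, Equiv.Perm.mul_apply, hlab, g7_lab] at e
    exact e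
  have hinj : ∀ A B, ∀ (hA : A * matHom g7 = matHom g7 * A) (hB : B * matHom g7 = matHom g7 * B),
      (hex A hA).choose = (hex B hB).choose → A = B := by
    intro A B hA hB e
    obtain ⟨-, g, hg, hlg⟩ := (hex A hA).choose_spec
    obtain ⟨-, g', hg', hlg'⟩ := (hex B hB).choose_spec
    rw [← hg, ← hg']
    exact matHom_eq_of_labPerm (Equiv.ext fun i => Fin.ext (by rw [hlg, hlg', e]))
  have h : Set.ncard {A : GL (Fin 3) (ZMod 2) | A * matHom g7 = matHom g7 * A} ≤ commLin.toFinset.card := by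
    rw [← Nat.card_coe_set_eq, ← Fintype.card_coe, ← Nat.card_eq_fintype_card]
    refine Nat.card_le_card_of_injective
      (fun A => (⟨(hex A.1 A.2).choose, List.mem_toFinset.2 (hex A.1 A.2).choose_spec.1⟩ : ↥commLin.toFinset))
      fun A B e => Subtype.ext (hinj A.1 B.1 A.2 B.2 (congrArg Subtype.val e))
  exact h.trans ((List.toFinset_card_le _).trans commLin_length.le)

end Cfsg.Agent.J4Type.Pentad
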