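import Cfsg.Agent.Lib.J4Type.PentadSpecial
import Cfsg.Agent.Lib.J4Type.PentadTools

/-!
Groups of Janko-four type, pentad local (helper8): lifts to `N(Zc)` and duads.

* `exists_fixed_lift`, `exists_conj_coset` : coprime lifts through `L`;
* `s7`, `PCtx.CS` : the element of order 7 and its centraliser `≅ S₅` in `C(Zc)`;
* `duad_conj`, `duad_cent` : the duads are conjugates of `t` with centralisers in `N(V)`.
-/

set_option autoImplicit false
set_option linter.unusedSectionVars false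

open scoped Pointwise

namespace Cfsg.Agent.J4Type.Pentad

open Cfsg Cfsg.Agent.Golay MulAction Subgroup

variable {G : Type*} [Group G] [Finite G] {z : G} {P : Subgroup G} (C : PCtx z P)

theorem Psi_eq_one {x : ↥C.NZ} : Psi C x = 1 ↔ (x : G) ∈ C.L := by
  constructor
  · intro h; exact ⟨x, MonoidHom.mem_ker.2 h, rfl⟩
  · rintro ⟨y, hy, e⟩
    rw [show x = y from Subtype.ext e.symm]
    exact MonoidHom.mem_ker.1 hy

theorem Psi_eq_iff {x y : ↥C.NZ} : Psi C x = Psi C y ↔ (x : G)⁻¹ * (y : G) ∈ C.L := by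
  rw [← inv_mul_eq_one, ← map_inv, ← map_mul, Psi_eq_one]
  rfl

/-- A coset of `L` fixed by an element of odd prime order contains a fixed point. -/
theorem exists_fixed_lift {u : G} {p : ℕ} [Fact p.Prime] (hp : p ≠ 2) (hu : u ∈ C.NZ) (hup : u ^ p = 1)
    {n : ↥C.NZ} (h : Psi C ⟨u, hu⟩ * Psi C n = Psi C n * Psi C ⟨u, hu⟩) :
    ∃ m : ↥C.NZ, Psi C m = Psi C n ∧ u * (m : G) = (m : G) * u := by
  classical
  let X : Set G := {x | ∃ hx : x ∈ C.NZ, Psi C ⟨x, hx⟩ = Psi C n}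
  have hX : X = (fun l : G => (n : G) * l) '' (C.L : Set G) := by
    ext x
    constructor
    · rintro ⟨hx, e⟩
      exact ⟨(n : G)⁻¹ * x, (Psi_eq_iff C (y := ⟨x, hx⟩)).1 e.symm, mul_inv_cancel_left _ _⟩
    · rintro ⟨l, hl, rfl⟩
      refine ⟨mul_mem n.2 (L_le_NZ C hl), ((Psi_eq_iff C).2 ?_).symm⟩
      show (n : G)⁻¹ * ((n : G) * l) ∈ C.L
      rwa [inv_mul_cancel_left]
  have hinv : ∀ x ∈ X, u * x * u⁻¹ ∈ X := by
    rintro x ⟨hx, e⟩
    refine ⟨mul_mem (mul_mem hu hx) (inv_mem hu), ?_⟩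
    rw [show (⟨u * x * u⁻¹, mul_mem (mul_mem hu hx) (inv_mem hu)⟩ : ↥C.NZ) = ⟨u, hu⟩ * ⟨x, hx⟩ * ⟨u, hu⟩⁻¹ from rfl,
      map_mul, map_mul, map_inv, e, h, mul_inv_cancel_right]
  have hmod := ncard_modEq hup hinv
  obtain ⟨x, ⟨hx, e⟩, hxu⟩ : {x | x ∈ X ∧ u * x = x * u}.Nonempty := by
    by_contra hemp
    rw [Set.not_nonempty_iff_eq_empty] at hemp
    rw [hemp, Set.ncard_empty, hX, Set.ncard_image_of_injective _ (mul_right_injective _),
      ← Nat.card_coe_set_eq] at hmod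
    have hd : p ∣ 2 ^ 15 := by
      rw [← card_L C]; exact Nat.modEq_zero_iff_dvd.1 hmod
    exact hp ((Nat.prime_dvd_prime_iff_eq Fact.out Nat.prime_two).1 ((Fact.out : p.Prime).dvd_of_dvd_pow hd))
  exact ⟨⟨x, hx⟩, e, hxu⟩

/-- An element free on `L` is conjugate under `L` to everything in its coset. -/
theorem exists_conj_coset {u : G} (hu : u ∈ C.NZ) (hfree : ∀ c ∈ C.L, c * u = u * c → c = 1)
    {y : G} (hy : y ∈ C.NZ) (h : Psi C ⟨y, hy⟩ = Psi C ⟨u, hu⟩) : ∃ x ∈ C.L, x * u * x⁻¹ = y := by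
  classical
  let f : ↥C.L → ↥C.L := fun x => ⟨u⁻¹ * ((x : G) * u * (x : G)⁻¹), by
    rw [show u⁻¹ * ((x : G) * u * (x : G)⁻¹) = (u⁻¹ * (x : G) * u) * (x : G)⁻¹ by group]
    have := L_conj C (inv_mem hu) x.2
    rw [inv_inv] at this
    exact mul_mem this (inv_mem x.2)⟩
  have hf : Function.Injective f := fun a b e => by
    have e' : (a : G) * u * (a : G)⁻¹ = (b : G) * u * (b : G)⁻¹ := mul_left_cancel (congrArg Subtype.val e)
    refine Subtype.ext (inv_mul_eq_one.1 (hfree ((a : G)⁻¹ * (b : G)) (mul_mem (inv_mem a.2) b.2) ?_))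
    calc (a : G)⁻¹ * b * u = (a : G)⁻¹ * ((b : G) * u * (b : G)⁻¹) * b := by group
      _ = (a : G)⁻¹ * ((a : G) * u * (a : G)⁻¹) * b := by rw [e']
      _ = _ := by group
  obtain ⟨x, hx⟩ := Finite.injective_iff_surjective.1 hf ⟨u⁻¹ * y, (Psi_eq_iff C).1 h.symm⟩
  exact ⟨x, x.2, mul_left_cancel (congrArg Subtype.val hx)⟩

/-- The element of order 7. -/
noncomputable def s7 : G := C.D.el e7

theorem s7_mem : s7 C ∈ C.NZ ⊓ NV C.D := el_mem C g7

theorem s7_mem_NZ : s7 C ∈ C.NZ := (Subgroup.mem_inf.1 (s7_mem C)).1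

theorem s7_pow : s7 C ^ 7 = 1 := by
  have h : ∀ n : ℕ, C.D.el (e7 ^ n) = C.D.el e7 ^ n := fun n => by
    induction n with
    | zero => rw [pow_zero, pow_zero, C.D.el_one]
    | succ n ih => rw [pow_succ, pow_succ, C.D.el_mul, ih]
  rw [s7, ← h, pow_seven_e7, C.D.el_one]

theorem rho_s7 : rho C ⟨s7 C, s7_mem_NZ C⟩ = matHom g7 := rho_el C g7

theorem matHom_g7_ne : matHom g7 ≠ 1 := fun h => by
  have e := congrArg (fun x : Equiv.Perm (Fin 7) => ((x 0 : Fin 7) : ℕ))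
    (labPerm_eq_of_matHom (h.trans (map_one matHom).symm))
  rw [map_one] at e
  simp only [g7_lab, Equiv.Perm.one_apply] at e
  revert e
  decide +kernel

theorem orderOf_s7 : orderOf (s7 C) = 7 := by
  have : Fact (Nat.Prime 7) := ⟨by norm_num⟩
  refine orderOf_eq_prime (s7_pow C) fun h => matHom_g7_ne ?_
  rw [← rho_s7 C, ← map_one (rho C)]
  exact congrArg (rho C) (Subtype.ext h)

theorem orderOf_g7 : orderOf (matHom g7) = 7 := by
  have : Fact (Nat.Prime 7) := ⟨by norm_num⟩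
  refine orderOf_eq_prime ?_ matHom_g7_ne
  rw [← map_pow, ← map_one matHom]
  exact congrArg matHom (Subtype.ext (Subtype.ext pow_seven_e7))

theorem pent_s7 : pent C ⟨s7 C, s7_mem_NZ C⟩ = 1 := by
  rw [← orderOf_eq_one_iff]
  have h7 : orderOf (pent C ⟨s7 C, s7_mem_NZ C⟩) ∣ 7 := by
    refine (orderOf_map_dvd _ _).trans ?_
    rw [Subgroup.orderOf_mk, orderOf_s7]
  have h120 : orderOf (pent C ⟨s7 C, s7_mem_NZ C⟩) ∣ 120 := by
    have h := orderOf_dvd_natCard (pent C ⟨s7 C, s7_mem_NZ C⟩)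
    rwa [Nat.card_perm, Nat.card_fin] at h
  exact Nat.eq_one_of_dvd_coprimes (by norm_num) h7 h120

/-- `L` has no element commuting with the element of order 7. -/
theorem cent_L_s7 {c : G} (hc : c ∈ C.L) (h : c * s7 C = s7 C * c) : c = 1 := by
  set n : ↥(NV C.D) := ⟨c, L_le_NV C hc⟩
  have hσ : pr C.D n * e7 = e7 * pr C.D n := by
    rw [← pr_el C.D e7, ← map_mul, ← map_mul]
    exact congrArg (pr C.D) (Subtype.ext h)
  have h1 : pr C.D n = 1 := e7_free (prL_range_le C ⟨⟨c, hc⟩, rfl⟩) hσ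
  have hcV : c ∈ C.D.V := (pr_eq_one C.D).1 h1
  rcases (e7_fixed C.M hcV).1 (mul_inv_eq_iff_eq_mul.2 h.symm) with e | e | e | e
  · exact e
  · exact absurd (e ▸ hc) (duad_not_mem C (Or.inl ⟨rfl, rfl⟩))
  · exact absurd (e ▸ hc) (duad_not_mem C (Or.inr (Or.inl ⟨rfl, rfl⟩)))
  · exact absurd (e ▸ hc) (duad_not_mem C (Or.inr (Or.inr ⟨rfl, rfl⟩)))

/-- The centraliser of the element of order 7 in `C(Zc)`. -/
noncomputable def PCtx.CS : Subgroup G := C.CZ ⊓ centralizer ({s7 C} : Set G)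

theorem mem_CS {c : G} : c ∈ C.CS ↔ c ∈ C.CZ ∧ c * s7 C = s7 C * c := by
  rw [PCtx.CS, Subgroup.mem_inf, mem_centralizer_singleton_iff]

theorem CS_le_NZ : C.CS ≤ C.NZ := fun _ h => CZ_le_NZ C ((mem_CS C).1 h).1

/-- The action of `CS` on the five cosets. -/
noncomputable def pentS : ↥C.CS →* Equiv.Perm (Fin 5) := (pent C).comp (Subgroup.inclusion (CS_le_NZ C))

theorem pentS_injective : Function.Injective (pentS C) := (injective_iff_map_eq_one _).2 fun c hc => by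
  obtain ⟨h1, h2⟩ := (mem_CS C).1 c.2
  exact Subtype.ext (cent_L_s7 C ((mem_L C).2 ⟨CS_le_NZ C c.2, hc, h1⟩) h2)

theorem pentS_surjective : Function.Surjective (pentS C) := fun a => by
  have : Fact (Nat.Prime 7) := ⟨by norm_num⟩
  obtain ⟨n, hn⟩ := Psi_surjective C (a, 1)
  have hA : rho C n = 1 := congrArg Prod.snd hn
  have hP : pent C n = a := congrArg Prod.fst hn
  obtain ⟨m, hm, hmu⟩ := exists_fixed_lift C (p := 7) (by norm_num) (s7_mem_NZ C) (s7_pow C) (n := n) (by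
    refine Prod.ext ?_ ?_
    · show pent C ⟨s7 C, s7_mem_NZ C⟩ * pent C n = pent C n * pent C ⟨s7 C, s7_mem_NZ C⟩
      rw [pent_s7, one_mul, mul_one]
    · show rho C ⟨s7 C, s7_mem_NZ C⟩ * rho C n = rho C n * rho C ⟨s7 C, s7_mem_NZ C⟩
      rw [hA, one_mul, mul_one])
  have hm1 : rho C m = 1 := (congrArg Prod.snd hm).trans hA
  have hm2 : pent C m = a := (congrArg Prod.fst hm).trans hP
  exact ⟨⟨m, (mem_CS C).2 ⟨(rho_eq_one C).1 hm1, hmu.symm⟩⟩, hm2⟩

/-- `C_{C(Zc)}(s7) ≅ S₅`. -/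
noncomputable def equivCS : ↥C.CS ≃* Equiv.Perm (Fin 5) :=
  MulEquiv.ofBijective (pentS C) ⟨pentS_injective C, pentS_surjective C⟩

theorem card_CS : Nat.card ↥C.CS = 120 := by
  rw [Nat.card_congr (equivCS C).toEquiv, Nat.card_perm, Nat.card_fin]; rfl

theorem vset_mem_V {a b : GolayPt} (hab : a ≠ b) : vset C.M {a, b} ∈ C.D.V := by
  rw [vset, ← pair_eq_indW hab]; exact C.M.mem _

/-- The duads are conjugates of `t`. -/
theorem duad_conj {a b : GolayPt} (hab : a ≠ b) : IsConj C.D.t (vset C.M {a, b}) := by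
  obtain ⟨σ, hσ⟩ := C.M.duad a b hab
  refine isConj_iff.2 ⟨C.D.el σ, ?_⟩
  rw [hσ, vset, pair_eq_indW hab]

/-- The centraliser of a duad is in `N(V)`. -/
theorem duad_cent {a b : GolayPt} (hab : a ≠ b) {c : G} (hc : c * vset C.M {a, b} = vset C.M {a, b} * c) :
    c ∈ NV C.D := by
  obtain ⟨σ, hσ⟩ := C.M.duad a b hab
  rw [vset, ← pair_eq_indW hab, ← hσ] at hc
  set e := C.D.el σ
  set t := C.D.t
  have h : e⁻¹ * c * e ∈ NV C.D := C.cent_t (mem_centralizer_singleton_iff.2 (by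
    calc e⁻¹ * c * e * t = e⁻¹ * (c * (e * t * e⁻¹)) * e := by group
      _ = e⁻¹ * (e * t * e⁻¹ * c) * e := by rw [hc]
      _ = t * (e⁻¹ * c * e) := by group))
  rw [show c = e * (e⁻¹ * c * e) * e⁻¹ by group]
  exact mul_mem (mul_mem (C.D.el_norm σ) h) (inv_mem (C.D.el_norm σ))

/-- An element of `N(V)` fixing a duad permutes its points. -/
theorem pr_duad {a b : GolayPt} (hab : a ≠ b) {c : G} (hcN : c ∈ NV C.D)
    (hc : c * vset C.M {a, b} = vset C.M {a, b} * c) :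
    ((pr C.D ⟨c, hcN⟩ : ↥M24) : Equiv.Perm GolayPt) • ({a, b} : Finset GolayPt) = {a, b} := by
  have h : ({a, b} : Finset GolayPt).card % 2 = 0 := by rw [Finset.card_pair hab]
  have e : C.D.el (pr C.D ⟨c, hcN⟩) * vset C.M {a, b} * (C.D.el (pr C.D ⟨c, hcN⟩))⁻¹ = vset C.M {a, b} := by
    rw [← conj_eq_el C.D ⟨c, hcN⟩ (vset_mem_V C hab)]
    exact mul_inv_eq_iff_eq_mul.2 hc
  rw [vset_smul C.M _ h] at e
  refine vset_eq_short C.M ?_ h ?_ e
  · rw [Finset.card_smul_finset]; exact h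
  · rw [Finset.card_smul_finset, Finset.card_pair hab]; norm_num

/-- A prime whose square divides no centraliser order divides the group order once. -/
theorem not_sq_dvd {H : Type*} [Group H] [Finite H] {s : H} {p : ℕ} [Fact p.Prime] (hs : orderOf s = p)
    (h : ¬ p ^ 2 ∣ Nat.card ↥(centralizer ({s} : Set H))) : ¬ p ^ 2 ∣ Nat.card H := by
  intro hd
  classical
  have hz : IsPGroup p ↥(zpowers s) := IsPGroup.of_card (n := 1) (by rw [Nat.card_zpowers, hs, pow_one])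
  obtain ⟨T, hT⟩ := hz.exists_le_sylow
  have hT2 : p ^ 2 ∣ Nat.card ↥(T : Subgroup H) := T.pow_dvd_card_of_pow_dvd_card hd
  have : Nontrivial ↥(T : Subgroup H) := Finite.one_lt_card_iff_nontrivial.1 (by
    have := Nat.le_of_dvd Nat.card_pos hT2
    have h2 := (Fact.out : p.Prime).two_le
    nlinarith)
  have hc' := T.isPGroup'.center_nontrivial
  obtain ⟨c, hc⟩ := exists_prime_orderOf_dvd_card' (G := ↥(center ↥(T : Subgroup H))) p (by
    obtain ⟨k, hk, he⟩ := (T.isPGroup'.to_subgroup (center ↥(T : Subgroup H))).nontrivial_iff_card.1 hc'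
    rw [he]; exact dvd_pow_self p (by omega))
  rw [← Subgroup.orderOf_coe, ← Subgroup.orderOf_coe] at hc
  set c' : H := ((c : ↥(T : Subgroup H)) : H)
  have hcc : ∀ t ∈ (T : Subgroup H), t * c' = c' * t := fun t ht =>
    congrArg Subtype.val (mem_center_iff.1 c.2 ⟨t, ht⟩)
  by_cases hsc : c' ∈ zpowers s
  · have hgen : zpowers c' = zpowers s :=
      eq_of_le_of_card_ge (zpowers_le.2 hsc) (by rw [Nat.card_zpowers, Nat.card_zpowers, hc, hs])
    refine h (hT2.trans (card_dvd_of_le fun t ht => mem_centralizer_singleton_iff.2 ?_))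
    obtain ⟨k, hk⟩ := hgen.ge (mem_zpowers s)
    rw [← hk]
    exact ((show Commute t c' from hcc t ht).zpow_right k).eq
  · set X := centralizer ({s} : Set H) ⊓ (T : Subgroup H)
    have hsX : s ∈ X := Subgroup.mem_inf.2 ⟨mem_centralizer_singleton_iff.2 rfl, hT (mem_zpowers s)⟩
    have hcX : c' ∈ X := Subgroup.mem_inf.2
      ⟨mem_centralizer_singleton_iff.2 (hcc s (hT (mem_zpowers s))).symm, (c : ↥(T : Subgroup H)).2⟩
    obtain ⟨k, hk⟩ := (T.isPGroup'.to_le (show X ≤ (T : Subgroup H) from inf_le_right)).exists_card_eq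
    have hk2 : 2 ≤ k := by
      by_contra hlt
      refine hsc ?_
      have hle : Nat.card ↥X ≤ Nat.card ↥(zpowers s) := by
        rw [hk, Nat.card_zpowers, hs]
        exact (pow_le_pow_right₀ (Fact.out : p.Prime).one_le (show k ≤ 1 by omega)).trans (pow_one p).le
      rw [eq_of_le_of_card_ge (zpowers_le.2 hsX) hle]
      exact hcX
    refine h ((pow_dvd_pow p hk2).trans ?_)
    rw [← hk]
    exact card_dvd_of_le inf_le_left

end Cfsg.Agent.J4Type.Pentad
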