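import Cfsg.Agent.Lib.J4Type.PentadPlace

/-!
Groups of Janko-four type, pentad local (helper8): the order of the normaliser of `Zc`.

* `rho` : the action of `N(Zc)` on `Zc`, onto `GL₃(2)` with kernel `C(Zc)`;
* `card_sylow_three`, `exists_center_gen` : the Sylow 3-subgroups;
* `card_X`, `card_CZ`, `card_NZ` : `|C(z) ∩ N(Zc)| = 2^21·45`, `|C(Zc)| = 2^18·15`, `|N(Zc)| = 2^21·315`.
-/

set_option autoImplicit false
set_option linter.unusedSectionVars false

open scoped Pointwise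

namespace Cfsg.Agent.J4Type.Pentad

open Cfsg Cfsg.Agent.Golay MulAction Subgroup

/-- The triples of indices of a basis. -/
def basisTriples : Finset (Fin 7 × Fin 7 × Fin 7) :=
  Finset.univ.filter fun t => t.1 ≠ t.2.1 ∧ t.2.2 ≠ t.1 ∧ t.2.2 ≠ t.2.1 ∧
    zcs.getD t.2.2.val 0 ≠ zcs.getD t.1.val 0 ^^^ zcs.getD t.2.1.val 0

theorem card_basisTriples : basisTriples.card = 168 := by decide +kernel

theorem zcs_span : ∀ i : Fin 7, ∃ a b c : Bool, zcs.getD i.val 0 =
    (bif a then 3259 else 0) ^^^ ((bif b then 904 else 0) ^^^ (bif c then 1409 else 0)) := by decide +kernel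

variable {G : Type*} [Group G] [Finite G] {z : G} {P : Subgroup G} (C : PCtx z P)

/-- `N(Zc)`. -/
abbrev PCtx.NZ : Subgroup G := normalizer (C.Z : Set G)

/-- `C(Zc)`. -/
abbrev PCtx.CZ : Subgroup G := centralizer (C.Z : Set G)

theorem CZ_le_NZ : C.CZ ≤ C.NZ := fun c hc => mem_normalizer_fintype fun x hx => by
  rw [mul_inv_eq_iff_eq_mul.2 (mem_centralizer_iff.1 hc x hx).symm]
  exact hx

theorem CZ_le_Cz : C.CZ ≤ Cz z := fun _ hc => mem_Cz.2 ((mem_centralizer_iff.1 hc z (z_mem_Zc C)).symm)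

theorem zel_cases {a b : ℕ} (ha : a ∈ zset) (hb : b ∈ zset) (h : psi C.M a = psi C.M b) : a = b :=
  psi_injective C.M (zset_bounds a ha).1 (zset_bounds b hb).1 (zset_bounds a ha).2 (zset_bounds b hb).2 h

/-- Two endomorphisms agreeing on three sextets agree on `Zc`. -/
theorem hom_ext {f g : G →* G} (h0 : f (zel C.M 0) = g (zel C.M 0)) (h1 : f (zel C.M 1) = g (zel C.M 1))
    (h3 : f (zel C.M 3) = g (zel C.M 3)) (i : Fin 7) : f (zel C.M i) = g (zel C.M i) := by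
  obtain ⟨a, b, c, h⟩ := zcs_span i
  have h0' : f (psi C.M 3259) = g (psi C.M 3259) := h0
  have h1' : f (psi C.M 904) = g (psi C.M 904) := h1
  have h3' : f (psi C.M 1409) = g (psi C.M 1409) := h3
  rw [zel, h, psi_xor, psi_xor]
  cases a <;> cases b <;> cases c <;> simp [psi_zero, h0', h1', h3']

/-- Every element normalising `Zc` acts as an element of the trio group. -/
theorem exists_rep {n : G} (hn : n ∈ C.NZ) :
    ∃ g : ↥H0, ∀ i, n * zel C.M i * n⁻¹ = zel C.M (labPerm g i) := by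
  classical
  have hπ : ∀ i, ∃ j, zel C.M j = n * zel C.M i * n⁻¹ := fun i => by
    rcases (mem_Zc C.M).1 ((mem_normalizer_iff.1 hn _).1 (zel_mem_Zc C.M i)) with h | h
    · exact absurd (conj_eq_one_iff.1 h) (zel_ne_one C.M i)
    · exact h
  choose π hπ using hπ
  have hinj : Function.Injective π := fun i j e =>
    zel_injective C.M ((MulAut.conj n).injective (show n * zel C.M i * n⁻¹ = n * zel C.M j * n⁻¹ by
      rw [← hπ i, ← hπ j, e]))
  have hmem : ∀ (p : Fin 7 → Fin 7) (f : G →* G), Function.Injective p → Function.Injective f →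
      (∀ i, f (zel C.M i) = zel C.M (p i)) → (p 0, p 1, p 3) ∈ basisTriples := by
    intro p f hp hf hpf
    refine Finset.mem_filter.2 ⟨Finset.mem_univ _, hp.ne (by decide), hp.ne (by decide), hp.ne (by decide), fun h => ?_⟩
    have e : f (zel C.M 3) = f (zel C.M 0 * zel C.M 1) := by
      rw [map_mul, hpf, hpf, hpf, zel, zel, zel, ← psi_xor]
      exact congrArg (psi C.M) h
    have e' : psi C.M 1409 = psi C.M (3259 ^^^ 904) := by rw [psi_xor]; exact hf e
    have := zel_cases C (by decide +kernel) (by decide +kernel) e'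
    exact absurd this (by decide +kernel)
  have hs : ∀ A : GL (Fin 3) (ZMod 2), ∃ g : ↥H0, matHom g = A := fun A => by
    obtain ⟨g, hg, -⟩ := matHom_surjective_fixing A
    exact ⟨g, hg⟩
  choose rep hrep using hs
  have hconj : ∀ (g : ↥H0) (i : Fin 7), (MulAut.conj (C.D.el g.1.1)).toMonoidHom (zel C.M i) = zel C.M (labPerm g i) :=
    fun g i => zel_conj C.M g i
  let F : GL (Fin 3) (ZMod 2) → ↥basisTriples := fun A => ⟨(labPerm (rep A) 0, labPerm (rep A) 1, labPerm (rep A) 3),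
    hmem _ _ (labPerm (rep A)).injective (MulAut.conj _).injective (hconj (rep A))⟩
  have hF : Function.Injective F := fun A B e => by
    rw [← hrep A, ← hrep B]
    refine matHom_eq_of_labPerm (Equiv.ext fun i => zel_injective C.M ?_)
    simp only [F, Subtype.mk.injEq, Prod.mk.injEq] at e
    rw [← hconj (rep A) i, ← hconj (rep B) i]
    refine hom_ext C ?_ ?_ ?_ i <;> rw [hconj, hconj]
    · rw [e.1]
    · rw [e.2.1]
    · rw [e.2.2]
  have : Fintype (GL (Fin 3) (ZMod 2)) := Fintype.ofFinite _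
  have hb := (Fintype.bijective_iff_injective_and_card F).mpr ⟨hF, by
    rw [Fintype.card_coe, card_basisTriples, ← Nat.card_eq_fintype_card, natCard_gl32]⟩
  obtain ⟨A, hA⟩ := hb.2 ⟨(π 0, π 1, π 3), hmem π (MulAut.conj n).toMonoidHom hinj (MulAut.conj n).injective
    (fun i => (hπ i).symm)⟩
  simp only [F, Subtype.mk.injEq, Prod.mk.injEq] at hA
  refine ⟨rep A, fun i => ?_⟩
  rw [← hconj (rep A) i]
  refine hom_ext C (f := (MulAut.conj n).toMonoidHom) ?_ ?_ ?_ i <;> rw [hconj]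
  · rw [hA.1]; exact (hπ 0).symm
  · rw [hA.2.1]; exact (hπ 1).symm
  · rw [hA.2.2]; exact (hπ 3).symm

/-- The action on `Zc`. -/
noncomputable def rho : ↥C.NZ →* GL (Fin 3) (ZMod 2) :=
  MonoidHom.mk' (fun n => matHom (exists_rep C n.2).choose) fun a b => by
    rw [← map_mul]
    refine matHom_eq_of_labPerm (Equiv.ext fun i => zel_injective C.M ?_)
    rw [← (exists_rep C (a * b).2).choose_spec i, map_mul, Equiv.Perm.mul_apply,
      ← (exists_rep C a.2).choose_spec, ← (exists_rep C b.2).choose_spec]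
    push_cast
    group

theorem rho_eq {n : ↥C.NZ} {g : ↥H0} (h : ∀ i, (n : G) * zel C.M i * (n : G)⁻¹ = zel C.M (labPerm g i)) :
    rho C n = matHom g :=
  matHom_eq_of_labPerm (Equiv.ext fun i => zel_injective C.M
    (((exists_rep C n.2).choose_spec i).symm.trans (h i)))

theorem el_mem (g : ↥H0) : C.D.el g.1.1 ∈ C.NZ ⊓ NV C.D :=
  (mem_NZ_NV C.M).2 ((mem_pre C.D).2 ⟨C.D.el_norm _, by rw [pr_el]; exact g.1.2⟩)

theorem rho_el (g : ↥H0) : rho C ⟨C.D.el g.1.1, (Subgroup.mem_inf.1 (el_mem C g)).1⟩ = matHom g :=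
  rho_eq C fun i => zel_conj C.M g i

theorem rho_surjective : Function.Surjective (rho C) := fun A => by
  obtain ⟨g, hg, -⟩ := matHom_surjective_fixing A
  exact ⟨_, (rho_el C g).trans hg⟩

theorem rho_eq_one {n : ↥C.NZ} : rho C n = 1 ↔ (n : G) ∈ C.CZ := by
  obtain ⟨g, hg⟩ := exists_rep C n.2
  rw [rho_eq C hg]
  constructor
  · intro h
    refine mem_centralizer_iff.2 fun x hx => ?_
    rcases (mem_Zc C.M).1 hx with rfl | ⟨i, rfl⟩
    · rw [one_mul, mul_one]
    · have e := hg i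
      rw [labPerm_eq_of_matHom (h.trans (map_one matHom).symm), map_one] at e
      exact (mul_inv_eq_iff_eq_mul.1 e).symm
  · intro h
    rw [← map_one matHom]
    refine matHom_eq_of_labPerm (Equiv.ext fun i => zel_injective C.M ?_)
    rw [← hg i, map_one]
    exact mul_inv_eq_iff_eq_mul.2 (mem_centralizer_iff.1 h _ (zel_mem_Zc C.M i)).symm

/-- The image of a subgroup of `N(Zc)`. -/
noncomputable def img (H : Subgroup G) : Subgroup (GL (Fin 3) (ZMod 2)) := (H.subgroupOf C.NZ).map (rho C)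

theorem card_img {H : Subgroup G} (hH : H ≤ C.NZ) :
    Nat.card ↥H = Nat.card ↥(H ⊓ C.CZ) * Nat.card ↥(img C H) := by
  let f : ↥H →* GL (Fin 3) (ZMod 2) := (rho C).comp (Subgroup.inclusion hH)
  have hr : f.range = img C H := by
    ext A
    constructor
    · rintro ⟨h, rfl⟩; exact ⟨_, mem_subgroupOf.2 h.2, rfl⟩
    · rintro ⟨n, hn, rfl⟩; exact ⟨⟨n, mem_subgroupOf.1 hn⟩, rfl⟩
  have hk : Nat.card ↥f.ker = Nat.card ↥(H ⊓ C.CZ) :=
    Nat.card_congr
      { toFun := fun h => ⟨h.1.1, Subgroup.mem_inf.2 ⟨h.1.2, (rho_eq_one C).1 (MonoidHom.mem_ker.1 h.2)⟩⟩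
        invFun := fun h => ⟨⟨h.1, (Subgroup.mem_inf.1 h.2).1⟩,
          MonoidHom.mem_ker.2 ((rho_eq_one C).2 (Subgroup.mem_inf.1 h.2).2)⟩
        left_inv := fun _ => rfl
        right_inv := fun _ => rfl }
  rw [← f.ker.card_mul_index, Subgroup.index_ker, hk, hr]

/-- `C(z) ∩ N(Zc)`. -/
abbrev PCtx.X : Subgroup G := Cz z ⊓ C.NZ

theorem img_X_eq : img C C.X = img C (C.X ⊓ NV C.D) := by
  refine le_antisymm ?_ (Subgroup.map_mono (fun _ h => Subgroup.mem_inf.1 h |>.1))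
  rintro _ ⟨n, hn, rfl⟩
  obtain ⟨g, hg⟩ := exists_rep C n.2
  have hn' := Subgroup.mem_inf.1 (mem_subgroupOf.1 hn)
  refine ⟨⟨C.D.el g.1.1, (Subgroup.mem_inf.1 (el_mem C g)).1⟩, ?_, (rho_el C g).trans (rho_eq C hg).symm⟩
  refine mem_subgroupOf.2 (Subgroup.mem_inf.2 ⟨Subgroup.mem_inf.2 ⟨mem_Cz.2 ?_, (Subgroup.mem_inf.1 (el_mem C g)).1⟩,
    (Subgroup.mem_inf.1 (el_mem C g)).2⟩)
  have e := (zel_conj C.M g 0).trans (hg 0).symm
  rw [C.zel_z, mul_inv_eq_iff_eq_mul.2 (mem_Cz.1 hn'.1)] at e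
  exact mul_inv_eq_iff_eq_mul.1 e

theorem card_img_X : Nat.card ↥(img C C.X) = 24 := by
  have h := card_img C (H := C.X ⊓ NV C.D) (inf_le_left.trans inf_le_right)
  have e : C.X ⊓ NV C.D ⊓ C.CZ = C.CZ ⊓ NV C.D := by
    refine le_antisymm (le_inf inf_le_right (inf_le_left.trans inf_le_right)) fun x hx => ?_
    obtain ⟨h1, h2⟩ := Subgroup.mem_inf.1 hx
    exact Subgroup.mem_inf.2 ⟨Subgroup.mem_inf.2 ⟨Subgroup.mem_inf.2 ⟨CZ_le_Cz C h1, CZ_le_NZ C h1⟩, h2⟩, h1⟩
  rw [e, card_Cz_NZ_NV' C, show Nat.card ↥(C.CZ ⊓ NV C.D) = 2 ^ 11 * 384 from card_CZ_NV C.M, ← img_X_eq C] at h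
  omega

theorem card_X_eq : Nat.card ↥C.X = Nat.card ↥C.CZ * 24 := by
  rw [card_img C inf_le_right, card_img_X C, inf_eq_right.2 (le_inf (CZ_le_Cz C) (CZ_le_NZ C))]

theorem card_NZ_eq : Nat.card ↥C.NZ = Nat.card ↥C.CZ * 168 := by
  rw [card_img C le_rfl, inf_eq_right.2 (CZ_le_NZ C), img, subgroupOf_self, ← MonoidHom.range_eq_map,
    MonoidHom.range_eq_top.2 (rho_surjective C), card_top, natCard_gl32]

/-! ### The Sylow 3-subgroups -/

include C in
theorem exists_conj_le_Cz (T : Sylow 3 G) : ∃ g : G, ∀ t ∈ (T : Subgroup G), g * t * g⁻¹ ∈ Cz z := by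
  have : Fact (Nat.Prime 3) := ⟨Nat.prime_three⟩
  have : Nontrivial ↥(T : Subgroup G) := by
    rw [nontrivial_iff_ne_bot]
    refine T.ne_bot_of_dvd_card ?_
    have := orderOf_dvd_natCard C.S.gen
    rwa [C.S.gen_ord] at this
  have := T.isPGroup'.center_nontrivial
  obtain ⟨c, hc⟩ := exists_prime_orderOf_dvd_card' (G := ↥(center ↥(T : Subgroup G))) 3 (by
    obtain ⟨k, hk, he⟩ := (T.isPGroup'.to_subgroup (center ↥(T : Subgroup G))).nontrivial_iff_card.1 this
    rw [he]; exact dvd_pow_self 3 (by omega))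
  rw [← Subgroup.orderOf_coe, ← Subgroup.orderOf_coe] at hc
  obtain ⟨g, hg⟩ := isConj_iff.1 (C.three _ _ hc C.S.gen_ord)
  refine ⟨g, fun t ht => C.norm_P ?_⟩
  have hcomm : g * t * g⁻¹ * C.S.gen * (g * t * g⁻¹)⁻¹ = C.S.gen := by
    have e : t * ((c : ↥(T : Subgroup G)) : G) = ((c : ↥(T : Subgroup G)) : G) * t :=
      congrArg Subtype.val (mem_center_iff.1 c.2 ⟨t, ht⟩)
    rw [← hg, show g * t * g⁻¹ * (g * ((c : ↥(T : Subgroup G)) : G) * g⁻¹) * (g * t * g⁻¹)⁻¹ =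
      g * (t * ((c : ↥(T : Subgroup G)) : G)) * t⁻¹ * g⁻¹ by group, e]
    group
  refine mem_normalizer_fintype fun x hx => ?_
  rw [SetLike.mem_coe, ← C.S.gen_zpowers] at hx ⊢
  obtain ⟨k, rfl⟩ := hx
  rw [← conj_zpow, hcomm]
  exact zpow_mem (mem_zpowers _) k

include C in
theorem card_sylow_three (T : Sylow 3 G) : Nat.card ↥(T : Subgroup G) = 27 := by
  have : Fact (Nat.Prime 3) := ⟨Nat.prime_three⟩
  obtain ⟨g, hg⟩ := exists_conj_le_Cz C T
  rw [T.card_eq_multiplicity, ← (g • T).card_eq_multiplicity]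
  refine (C.sylow_three (g • T) ?_).2
  rintro _ ⟨t, ht, rfl⟩
  exact hg t ht

/-- In a subgroup of order 27 of `C(z)` some element of the kernel is a commutator. -/
theorem exists_center_gen {R : Subgroup G} (hR : R ≤ Cz z) (hc : Nat.card ↥R = 27) :
    ∃ r : ↥R, orderOf r = 3 ∧ C.S.κ ⟨r, hR r.2⟩ = 1 ∧ r ∈ commutator ↥R := by
  classical
  have : Fact (Nat.Prime 3) := ⟨Nat.prime_three⟩
  let φ : ↥R →* Equiv.Perm GolayPt := C.S.κ.comp (Subgroup.inclusion hR)
  have hd : Nat.card ↥φ.range ∣ 887040 := by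
    have h := card_dvd_of_le (show φ.range ≤ pairStab by rintro _ ⟨r, rfl⟩; exact C.S.κ_mem _)
    rwa [natCard_pairStab] at h
  have hk : 3 ∣ Nat.card ↥φ.ker := by
    have h := φ.ker.card_mul_index
    rw [Subgroup.index_ker, hc] at h
    have h27 : Nat.card ↥φ.range ∣ 27 := Dvd.intro_left _ h
    have h9 : Nat.card ↥φ.range ∣ 9 := (Nat.dvd_gcd h27 hd).trans (by norm_num)
    obtain ⟨k, hk, e⟩ := (Nat.dvd_prime_pow Nat.prime_three).1 (show _ ∣ 3 ^ 2 from h9)
    rw [e] at h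
    interval_cases k <;> omega
  obtain ⟨r', hr'⟩ := exists_prime_orderOf_dvd_card' (G := ↥φ.ker) 3 hk
  rw [← Subgroup.orderOf_coe] at hr'
  set r : ↥R := (r' : ↥R)
  refine ⟨r, hr', r'.2, ?_⟩
  obtain ⟨hext, -⟩ := C.sylow_three (Sylow.ofCard R (by
    rw [hc]
    have T : Sylow 3 G := Classical.arbitrary _
    rw [← card_sylow_three C T]
    exact T.card_eq_multiplicity)) hR
  have hnorm : ∀ a : ↥R, a * r * a⁻¹ ∈ φ.ker := fun a => (inferInstance : φ.ker.Normal).conj_mem r r'.2 a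
  have hcard3 : Nat.card ↥φ.ker = 3 := by
    have h1 : Nat.card ↥φ.ker ∣ 27 := hc ▸ card_subgroup_dvd_card φ.ker
    let f : ↥φ.ker →* ↥C.S.κ.ker :=
      { toFun := fun a => ⟨⟨(a : ↥R), hR (a : ↥R).2⟩, a.2⟩
        map_one' := rfl
        map_mul' := fun _ _ => rfl }
    have h2 : Nat.card ↥φ.ker ∣ 2 ^ 13 * 3 := C.S.card_ker ▸ card_dvd_of_injective f fun a b e =>
      Subtype.ext (Subtype.ext (congrArg (fun x : ↥C.S.κ.ker => ((x : ↥(Cz z)) : G)) e))
    have h3 := (Nat.dvd_gcd h1 h2).trans (show Nat.gcd 27 (2 ^ 13 * 3) ∣ 3 by norm_num)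
    rcases (Nat.dvd_prime Nat.prime_three).1 h3 with h | h
    · rw [h] at hk; norm_num at hk
    · exact h
  have hK : zpowers r = φ.ker := eq_of_le_of_card_ge (zpowers_le.2 r'.2) (by rw [Nat.card_zpowers, hr', hcard3])
  have hcen : r ∈ center ↥R := by
    refine mem_center_iff.2 fun a => ?_
    rcases conj_gen_cases hr' (show a ∈ normalizer (zpowers r : Set ↥R) from mem_normalizer_fintype fun x hx => by
      rw [hK] at hx ⊢; exact (inferInstance : φ.ker.Normal).conj_mem x hx a) with h | h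
    · exact mul_inv_eq_iff_eq_mul.1 h
    · exfalso
      have hodd : ∀ n : ℕ, MulAut.conj (a ^ (2 * n + 1)) r = r⁻¹ := by
        intro n
        induction n with
        | zero => rw [show 2 * 0 + 1 = 1 from rfl, pow_one, MulAut.conj_apply]; exact h
        | succ n ih =>
          rw [show 2 * (n + 1) + 1 = 1 + 1 + (2 * n + 1) by omega, pow_add, map_mul, MulAut.mul_apply, ih, pow_add,
            pow_one, map_mul, MulAut.mul_apply, MulAut.conj_apply, MulAut.conj_apply,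
            show a * r⁻¹ * a⁻¹ = r by rw [← conj_inv, h, inv_inv], h]
      have h27 : a ^ 27 = 1 := hc ▸ pow_card_eq_one'
      have := hodd 13
      rw [show 2 * 13 + 1 = 27 from rfl, h27, map_one, MulAut.one_apply] at this
      have h2 : r ^ 2 = 1 := by
        rw [pow_two]
        exact mul_eq_one_iff_eq_inv.2 this
      have := orderOf_dvd_of_pow_eq_one h2
      rw [hr'] at this
      norm_num at this
  have e : commutator ↥R = center ↥R := hext.1.2.2
  rw [e]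
  exact hcen

theorem fixed_gen_pow {n : ℕ} (hn : n % 3 ≠ 0)
    (h : ∃ w, (w = 1 ∨ w = z) ∧ C.S.gen ^ n * zel C.M 1 * (C.S.gen ^ n)⁻¹ = zel C.M 1 * w) : False := by
  obtain ⟨w, hw, h⟩ := h
  set g := C.S.gen
  set a := zel C.M 1
  have hgw : g * w * g⁻¹ = w := by
    rcases hw with rfl | rfl
    · group
    · exact mul_inv_eq_iff_eq_mul.2 (mem_Cz.1 C.S.gen_mem)
  have hww : w * w = 1 := by
    rcases hw with rfl | rfl
    · exact mul_one 1
    · exact C.S.z_sq
  have h1 : g * a * g⁻¹ = a * w := by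
    rcases (show n % 3 = 1 ∨ n % 3 = 2 by omega) with e | e
    · rwa [pow_eq_pow_mod n C.S.gen_cube, e, pow_one] at h
    · rw [pow_eq_pow_mod n C.S.gen_cube, e] at h
      have hc : MulAut.conj g (MulAut.conj g (MulAut.conj g a)) = a := by
        rw [← MulAut.mul_apply, ← MulAut.mul_apply, ← map_mul, ← map_mul,
          show g * g * g = g ^ 3 by rw [pow_succ, pow_two], C.S.gen_cube, map_one, MulAut.one_apply]
      have h2 : MulAut.conj g (MulAut.conj g a) = a * w := by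
        rw [← MulAut.mul_apply, ← map_mul, ← pow_two]; exact h
      rw [h2, map_mul, MulAut.conj_apply, MulAut.conj_apply, hgw] at hc
      calc g * a * g⁻¹ = g * a * g⁻¹ * (w * w) := by rw [hww, mul_one]
        _ = a * w := by rw [← mul_assoc, hc]
  rcases hw with rfl | rfl
  · exact gen_moves C (by rwa [mul_one] at h1)
  · exact gen_moves C (gen_fix_mod C h1)

/-- An element of `E⟨gen⟩` centralising `Zc` lies in `E`. -/
theorem kerκ_CZ {r : ↥(Cz z)} (hr : C.S.κ r = 1) (hZ : (r : G) ∈ C.CZ) : (r : G) ∈ Ez z := by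
  obtain ⟨e, he, n, hn⟩ := (C.S.κ_ker r).1 hr
  by_contra hE
  have h0 : n % 3 ≠ 0 := fun h0 => hE (by
    rw [hn, pow_eq_pow_mod n C.S.gen_cube, h0, pow_zero, mul_one]; exact he)
  refine fixed_gen_pow C h0 ?_
  have ha := Zc_le_E C (zel_mem_Zc C.M 1)
  have hfix : (r : G) * zel C.M 1 * (r : G)⁻¹ = zel C.M 1 :=
    mul_inv_eq_iff_eq_mul.2 (mem_centralizer_iff.1 hZ _ (zel_mem_Zc C.M 1)).symm
  rw [hn] at hfix
  set g := C.S.gen ^ n
  set a := zel C.M 1
  have h1 : g * a * g⁻¹ = e⁻¹ * a * e := by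
    calc g * a * g⁻¹ = e⁻¹ * (e * g * a * (e * g)⁻¹) * e := by group
      _ = _ := by rw [hfix]
  refine ⟨a⁻¹ * (e⁻¹ * a * e), ?_, by rw [h1]; group⟩
  have hc := C.S.data.comm a⁻¹ (inv_mem ha) e⁻¹ (inv_mem he)
  rw [commutatorElement_def, inv_inv, inv_inv] at hc
  rw [show a⁻¹ * (e⁻¹ * a * e) = a⁻¹ * e⁻¹ * a * e by group]
  exact hc

/-! ### The orders -/

theorem dvd_Y : Nat.card ↥(C.X ⊓ NV C.D) = 2 ^ 11 * 9216 := card_Cz_NZ_NV' C

theorem not_dvd_prime_X {p : ℕ} (hp : p = 7 ∨ p = 11) : ¬ p ∣ Nat.card ↥C.X := by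
  intro hd
  have : Fact p.Prime := ⟨by rcases hp with rfl | rfl <;> norm_num⟩
  obtain ⟨s, hs⟩ := exists_prime_orderOf_dvd_card' p hd
  rw [← Subgroup.orderOf_coe] at hs
  obtain ⟨hsC, hsN⟩ := Subgroup.mem_inf.1 s.2
  have hA : rho C ⟨s, hsN⟩ ∈ img C C.X := ⟨⟨s, hsN⟩, mem_subgroupOf.2 s.2, rfl⟩
  have h1 := orderOf_map_dvd (rho C) (⟨(s : G), hsN⟩ : ↥C.NZ)
  rw [Subgroup.orderOf_mk, hs] at h1
  have h2 := (img C C.X).orderOf_dvd_natCard hA
  rw [card_img_X C] at h2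
  have h3 : orderOf (rho C ⟨(s : G), hsN⟩) = 1 :=
    Nat.eq_one_of_dvd_coprimes (by rcases hp with rfl | rfl <;> norm_num) h1 h2
  have hc := (rho_eq_one C).1 (orderOf_eq_one_iff.1 h3)
  rcases fixed_involution C.S hp hsC hs (Zc_le_E C (zel_mem_Zc C.M 1)) (C.D.sq_one (zel_mem C.M 1))
    (mem_centralizer_iff.1 hc _ (zel_mem_Zc C.M 1)).symm with h | h
  · exact (zel1_ne C).1 h
  · exact (zel1_ne C).2 h

theorem not_27_dvd_X : ¬ 27 ∣ Nat.card ↥C.X := by
  intro hd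
  have : Fact (Nat.Prime 3) := ⟨Nat.prime_three⟩
  obtain ⟨R0, hR0⟩ := Sylow.exists_subgroup_card_pow_prime (G := ↥C.X) 3 (n := 3) hd
  set R := R0.map C.X.subtype with hRdef
  have hR : R ≤ C.X := map_subtype_le R0
  have hRc : Nat.card ↥R = 27 := by rw [hRdef, card_map_of_injective (subtype_injective _), hR0]; norm_num
  obtain ⟨r, hr3, hκ, hcomm⟩ := exists_center_gen C (hR.trans inf_le_left) hRc
  let f : ↥R →* GL (Fin 3) (ZMod 2) := (rho C).comp (Subgroup.inclusion (hR.trans inf_le_right))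
  have hle : f.range ≤ img C C.X := by
    rintro _ ⟨x, rfl⟩
    exact ⟨Subgroup.inclusion (hR.trans inf_le_right) x, mem_subgroupOf.2 (hR x.2), rfl⟩
  have hd3 : Nat.card ↥f.range ∣ 3 := by
    have h1 : Nat.card ↥f.range ∣ 27 := hRc ▸ card_range_dvd f
    have h2 : Nat.card ↥f.range ∣ 24 := card_img_X C ▸ card_dvd_of_le hle
    exact (Nat.dvd_gcd h1 h2).trans (by norm_num)
  have : IsCyclic ↥f.range := isCyclic_of_card_dvd_prime (p := 3) hd3
  let _ : CommGroup ↥f.range := IsCyclic.commGroup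
  have h1 := Abelianization.commutator_subset_ker f.rangeRestrict hcomm
  rw [MonoidHom.ker_rangeRestrict, MonoidHom.mem_ker] at h1
  have hZ : (r : G) ∈ C.CZ := (rho_eq_one C).1 h1
  have hE := kerκ_CZ C hκ hZ
  have hdv := orderOf_dvd_natCard (⟨_, hE⟩ : ↥(Ez z))
  simp only [Subgroup.orderOf_mk, Subgroup.orderOf_coe, hr3, C.S.card_E] at hdv
  norm_num at hdv

theorem card_X : Nat.card ↥C.X = 2 ^ 21 * 45 := by
  have hY : Nat.card ↥(C.X ⊓ NV C.D) ∣ Nat.card ↥C.X := card_dvd_of_le inf_le_left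
  have hX : Nat.card ↥C.X ∣ 2 ^ 21 * 10395 := C.S.card_Cz ▸ card_dvd_of_le inf_le_left
  rw [dvd_Y C, show 2 ^ 11 * 9216 = 2 ^ 21 * 9 by norm_num] at hY
  obtain ⟨j, hj⟩ := hY
  have hidx : ((C.NZ).subgroupOf (Cz z)).index ≤ 693 := card_conjugates_le C
  have hmul := ((C.NZ).subgroupOf (Cz z)).card_mul_index
  have e : (C.NZ).subgroupOf (Cz z) = C.X.subgroupOf (Cz z) := by
    rw [inf_subgroupOf_left]
  rw [C.S.card_Cz] at hmul
  rw [show Nat.card ↥((C.NZ).subgroupOf (Cz z)) = Nat.card ↥C.X by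
    rw [e]; exact Nat.card_congr (subgroupOfEquivOfLe inf_le_left).toEquiv] at hmul
  have h15 : 2 ^ 21 * 15 ≤ Nat.card ↥C.X := by
    by_contra hlt
    rw [not_le] at hlt
    have := Nat.mul_le_mul (Nat.le_sub_one_of_lt hlt) hidx
    omega
  have hj' : j ∣ 1155 := by
    rw [hj] at hX
    exact Nat.dvd_of_mul_dvd_mul_left (k := 2 ^ 21 * 9) (by norm_num) (hX.trans (by norm_num))
  have h7 : ¬ 7 ∣ j := fun h => not_dvd_prime_X C (Or.inl rfl) (hj ▸ h.mul_left _)
  have h11 : ¬ 11 ∣ j := fun h => not_dvd_prime_X C (Or.inr rfl) (hj ▸ h.mul_left _)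
  have h3 : ¬ 3 ∣ j := fun h => not_27_dvd_X C (by
    obtain ⟨k, rfl⟩ := h
    exact ⟨2 ^ 21 * k, by rw [hj]; ring⟩)
  have hmem : j ∈ Nat.divisors 1155 := Nat.mem_divisors.2 ⟨hj', by norm_num⟩
  have hlist : ∀ j ∈ Nat.divisors 1155, ¬ 7 ∣ j → ¬ 11 ∣ j → ¬ 3 ∣ j → j = 1 ∨ j = 5 := by decide +kernel
  rcases hlist j hmem h7 h11 h3 with rfl | rfl
  · omega
  · rw [hj]; norm_num

theorem card_CZ : Nat.card ↥C.CZ = 2 ^ 18 * 15 := by
  have h := card_X_eq C
  rw [card_X C] at h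
  omega

theorem card_NZ : Nat.card ↥C.NZ = 2 ^ 21 * 315 := by
  rw [card_NZ_eq C, card_CZ C]; norm_num

end Cfsg.Agent.J4Type.Pentad
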