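import Cfsg.Agent.Lib.J4Type.PentadBasic
import Mathlib.GroupTheory.SpecificGroups.Alternating.Simple

/-!
Groups of Janko-four type, pentad local (helper8): the place of `Zc` in `C(z)`.

* `E_le`, `gen_mem_NV`, `kerκ_norm` : `E⟨gen⟩` lies in `N(V) ∩ N(Zc)`;
* `Zc_le_E` : `Zc ≤ E`, moved by `gen`;
* `norm_of_conj_mem`, `card_conjugates_le` : the conjugates of `Zc` under `C(z)` meet only in `⟨z⟩`, at most 693 of them.
-/

set_option autoImplicit false
set_option linter.unusedSectionVars false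

open scoped Pointwise

namespace Cfsg.Agent.J4Type.Pentad

open Cfsg Cfsg.Agent.Golay MulAction Subgroup

theorem no_small_normal {α : Type*} [Fintype α] [DecidableEq α] (h6 : Fintype.card α = 6)
    (K : Subgroup (Equiv.Perm α)) [hK : K.Normal] (h5 : ¬ 5 ∣ Nat.card ↥K) : K = ⊥ := by
  have hα : 5 ≤ Nat.card α := by rw [Nat.card_eq_fintype_card]; omega
  rw [eq_bot_iff]
  intro k hk
  rw [mem_bot]
  have hA : K.subgroupOf (alternatingGroup α) = ⊥ := by
    refine (alternatingGroup.normal_subgroup_eq_bot_or_eq_top hα).resolve_right fun htop => h5 ?_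
    have hle : alternatingGroup α ≤ K := subgroupOf_eq_top.1 htop
    have : Nontrivial α := Fintype.one_lt_card_iff_nontrivial.1 (by omega)
    have hcard : 2 * Fintype.card ↥(alternatingGroup α) = Fintype.card (Equiv.Perm α) :=
      two_mul_card_alternatingGroup
    rw [Fintype.card_perm, h6] at hcard
    refine dvd_trans ?_ (card_dvd_of_le hle)
    rw [show Nat.factorial 6 = 720 from rfl] at hcard
    rw [Nat.card_eq_fintype_card, show Fintype.card ↥(alternatingGroup α) = 360 by omega]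
    norm_num
  -- the element is central
  have key : ∀ a ∈ alternatingGroup α, ∀ b, b ∈ K → b ∈ alternatingGroup α → b = 1 := fun a _ b hb hbA => by
    have : (⟨b, hbA⟩ : ↥(alternatingGroup α)) ∈ K.subgroupOf (alternatingGroup α) := hb
    rw [hA, mem_bot] at this
    exact congrArg Subtype.val this
  have hcomm : ∀ a : Equiv.Perm α, a * k = k * a := fun a => by
    have h1 : a * k * a⁻¹ * k⁻¹ ∈ K := mul_mem (hK.conj_mem k hk a) (inv_mem hk)
    have h2 : a * k * a⁻¹ * k⁻¹ ∈ alternatingGroup α := by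
      simp only [Equiv.Perm.mem_alternatingGroup, map_mul, Equiv.Perm.sign_inv]
      rw [mul_comm (Equiv.Perm.sign a) (Equiv.Perm.sign k), mul_assoc (Equiv.Perm.sign k)]
      simp
    have := key 1 (one_mem _) _ h1 h2
    rwa [mul_inv_eq_one, mul_inv_eq_iff_eq_mul] at this
  refine Equiv.ext fun x => ?_
  by_contra hx
  obtain ⟨y, hy1, hy2⟩ : ∃ y, y ≠ x ∧ y ≠ k x := by
    by_contra hall
    push Not at hall
    have : (Finset.univ : Finset α) ⊆ {x, k x} := fun y _ => by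
      by_cases h : y = x
      · simp [h]
      · simp [hall y h]
    have := (Finset.card_le_card this).trans Finset.card_le_two
    rw [Finset.card_univ, h6] at this
    omega
  have h := congrArg (fun p : Equiv.Perm α => p x) (hcomm (Equiv.swap (k x) y))
  have hxk : k x ≠ x := hx
  simp only [Equiv.Perm.mul_apply, Equiv.swap_apply_left, Equiv.swap_apply_of_ne_of_ne hxk.symm hy1.symm] at h
  exact hy2 h

variable {G : Type*} [Group G] [Finite G] {z : G} {P : Subgroup G} (C : PCtx z P)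

/-- The subgroup of the refining sextets. -/
abbrev PCtx.Z : Subgroup G := Zc C.M

theorem z_mem_Zc : z ∈ C.Z := by
  have h := zel_mem_Zc C.M 0
  rwa [C.zel_z] at h

theorem card_Cz_NV' : Nat.card ↥(Cz z ⊓ NV C.D) = 2 ^ 11 * 138240 := by
  have h := card_Cz_NV C.M
  rwa [C.zel_z] at h

theorem card_Cz_NZ_NV' : Nat.card ↥(Cz z ⊓ normalizer (C.Z : Set G) ⊓ NV C.D) = 2 ^ 11 * 9216 := by
  have h := card_Cz_NZ_NV C.M
  rwa [C.zel_z] at h

/-- A Sylow 2-subgroup of `C(z)` lies in a subgroup of full 2-part. -/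
theorem E_le_of_card {X : Subgroup G} (hX : X ≤ Cz z) {m : ℕ} (hc : Nat.card ↥X = 2 ^ 21 * m) (S : Setting z P) :
    Ez z ≤ X := by
  have : Fact (Nat.Prime 2) := ⟨Nat.prime_two⟩
  obtain ⟨T, hT⟩ := Sylow.exists_subgroup_card_pow_prime (G := ↥X) 2 (n := 21) (hc ▸ dvd_mul_right _ _)
  have hTc : Nat.card ↥((T.map X.subtype).subgroupOf (Cz z)) = 2 ^ 21 := by
    rw [Nat.card_congr (subgroupOfEquivOfLe ((map_subtype_le T).trans hX)).toEquiv,
      card_map_of_injective (subtype_injective X), hT]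
  have hfac : (Nat.card ↥(Cz z)).factorization 2 = 21 := by
    rw [S.card_Cz, Nat.factorization_mul (by norm_num) (by norm_num), Finsupp.add_apply,
      Nat.Prime.factorization_pow Nat.prime_two, Nat.factorization_eq_zero_of_not_dvd (show ¬ 2 ∣ 10395 by norm_num)]
    simp
  let T' : Sylow 2 ↥(Cz z) := Sylow.ofCard _ (by rw [hfac, hTc])
  rintro _ ⟨e, he, rfl⟩
  have h1 : e ∈ (T' : Subgroup ↥(Cz z)) := LargeExtraspecial.pCore_le_sylow 2 T' he
  exact (map_subtype_le T) (mem_subgroupOf.1 h1)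

theorem E_le : Ez z ≤ Cz z ⊓ normalizer (C.Z : Set G) ⊓ NV C.D :=
  E_le_of_card (inf_le_left.trans inf_le_left)
    ((card_Cz_NZ_NV' C).trans (show 2 ^ 11 * 9216 = 2 ^ 21 * 9 by norm_num)) C.S

theorem z_mem_V : z ∈ C.D.V := by
  have h := zel_mem C.M 0
  rwa [C.zel_z] at h

theorem gen_mem_NV : C.S.gen ∈ NV C.D := by
  classical
  have : Fact (Nat.Prime 3) := ⟨Nat.prime_three⟩
  set X := Cz z ⊓ NV C.D
  obtain ⟨R, hR⟩ := Sylow.exists_subgroup_card_pow_prime (G := ↥X) 3 (n := 3) (by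
    rw [card_Cz_NV' C]; norm_num)
  have hRc : Nat.card ↥((R.map X.subtype).subgroupOf (Cz z)) = 3 ^ 3 := by
    rw [Nat.card_congr (subgroupOfEquivOfLe ((map_subtype_le R).trans inf_le_left)).toEquiv,
      card_map_of_injective (subtype_injective X), hR]
  have hfac : (Nat.card ↥(Cz z)).factorization 3 = 3 := by
    rw [C.S.card_Cz, show 2 ^ 21 * 10395 = 3 ^ 3 * (2 ^ 21 * 385) by norm_num,
      Nat.factorization_mul (by norm_num) (by norm_num), Finsupp.add_apply,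
      Nat.Prime.factorization_pow Nat.prime_three, Nat.factorization_eq_zero_of_not_dvd (show ¬ 3 ∣ 2 ^ 21 * 385 by norm_num)]
    simp
  let R' : Sylow 3 ↥(Cz z) := Sylow.ofCard _ (by rw [hfac, hRc])
  have hgp : IsPGroup 3 (zpowers (⟨C.S.gen, C.S.gen_mem⟩ : ↥(Cz z))) :=
    IsPGroup.of_card (n := 1) (by rw [Nat.card_zpowers, orderOf_mk, C.S.gen_ord, pow_one])
  obtain ⟨R'', hR''⟩ := hgp.exists_le_sylow
  obtain ⟨h, hh⟩ := MulAction.exists_smul_eq ↥(Cz z) R'' R'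
  have hmem : h * ⟨C.S.gen, C.S.gen_mem⟩ * h⁻¹ ∈ (R' : Subgroup ↥(Cz z)) := by
    rw [← hh, Sylow.coe_subgroup_smul]
    exact smul_mem_pointwise_smul _ (MulAut.conj h) _ (hR'' (mem_zpowers _))
  have hcX : (h : G) * C.S.gen * (h : G)⁻¹ ∈ NV C.D :=
    (Subgroup.mem_inf.1 ((map_subtype_le R) (mem_subgroupOf.1 hmem))).2
  set c := h * ⟨C.S.gen, C.S.gen_mem⟩ * h⁻¹ with hc
  have hκ : C.S.κ c = 1 := by rw [hc, map_mul, map_mul, C.S.κ_gen, mul_one, map_inv, mul_inv_cancel]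
  obtain ⟨e, he, n, hn⟩ := (C.S.κ_ker c).1 hκ
  have hen : e ∈ NV C.D := (Subgroup.mem_inf.1 (E_le C he)).2
  have hgn : C.S.gen ^ n ∈ NV C.D := by
    rw [show C.S.gen ^ n = e⁻¹ * (c : G) by rw [hn]; group]
    exact mul_mem (inv_mem hen) hcX
  have h3 : n % 3 ≠ 0 := by
    intro h0
    have hcE : (c : G) ∈ Ez z := by
      rw [hn, pow_eq_pow_mod n C.S.gen_cube, h0, pow_zero, mul_one]; exact he
    have hd := orderOf_dvd_natCard (⟨_, hcE⟩ : ↥(Ez z))
    rw [orderOf_mk, Subgroup.orderOf_coe, hc,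
      show h * ⟨C.S.gen, C.S.gen_mem⟩ * h⁻¹ = (MulAut.conj h) ⟨C.S.gen, C.S.gen_mem⟩ from rfl,
      MulEquiv.orderOf_eq, orderOf_mk, C.S.gen_ord, C.S.card_E] at hd
    norm_num at hd
  rcases (show n % 3 = 1 ∨ n % 3 = 2 by omega) with h1 | h1
  · rw [pow_eq_pow_mod n C.S.gen_cube, h1, pow_one] at hgn
    exact hgn
  · rw [pow_eq_pow_mod n C.S.gen_cube, h1] at hgn
    have : C.S.gen = C.S.gen ^ 2 * C.S.gen ^ 2 := by
      rw [← pow_add, show 2 + 2 = 3 + 1 by rfl, pow_add, C.S.gen_cube, one_mul, pow_one]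
    rw [this]
    exact mul_mem hgn hgn

/-- `E⟨gen⟩` fixes the tetrads of the first sextet. -/
theorem kerκ_fix {n : ↥(Cz z)} (hn : C.S.κ n = 1) :
    ∃ h : (n : G) ∈ NV C.D, ∀ t ∈ sxt 0, ((pr C.D ⟨n, h⟩ : ↥M24) : Equiv.Perm GolayPt) • t = t := by
  classical
  have hle : ∀ m : ↥(Cz z), C.S.κ m = 1 → (m : G) ∈ NV C.D := fun m hm => by
    obtain ⟨e, he, k, hk⟩ := (C.S.κ_ker m).1 hm
    rw [hk]
    exact mul_mem (Subgroup.mem_inf.1 (E_le C he)).2 (pow_mem (gen_mem_NV C) k)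
  let N : Subgroup ↥(NV C.D) := (C.S.κ.ker.map (Cz z).subtype).subgroupOf (NV C.D)
  have hst : ∀ m : ↥(NV C.D), (m : G) ∈ Cz z → pr C.D m ∈ stabilizer ↥M24 (sxt 0) := fun m hm => by
    have h := (mem_Cz_NV C.M).1 (Subgroup.mem_inf.2 ⟨by rw [C.zel_z]; exact hm, m.2⟩)
    obtain ⟨_, h⟩ := (mem_pre C.D).1 h
    exact h
  let X : Subgroup ↥(NV C.D) := (Cz z).subgroupOf (NV C.D)
  let φ : ↥X →* Equiv.Perm ↥(sxt 0) :=
    (stabPerm (sxt 0)).comp (((pr C.D).comp X.subtype).codRestrict _ fun m => hst _ m.2)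
  let K : Subgroup ↥X := C.S.κ.ker.comap
    { toFun := fun m : ↥X => (⟨((m : ↥(NV C.D)) : G), m.2⟩ : ↥(Cz z))
      map_one' := rfl
      map_mul' := fun _ _ => rfl }
  have hφs : Function.Surjective φ := by
    intro e
    obtain ⟨σ, hσ, hσe⟩ := exists_induced (sxt_sextet 0) e
    have hm : C.D.el σ ∈ Cz z := by
      have h := (Subgroup.mem_inf.1 ((mem_Cz_NV C.M).2 ((mem_pre C.D).2 ⟨C.D.el_norm σ, by rw [pr_el]; exact hσ⟩))).1
      rwa [C.zel_z] at h
    refine ⟨⟨⟨C.D.el σ, C.D.el_norm σ⟩, hm⟩, Equiv.ext fun t => Subtype.ext ?_⟩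
    show ((pr C.D ⟨C.D.el σ, C.D.el_norm σ⟩ : ↥M24) : Equiv.Perm GolayPt) • t.1 = _
    rw [pr_el]
    exact hσe t
  have hnorm : (K.map φ).Normal := Subgroup.Normal.map (inferInstance : K.Normal) φ hφs
  have hcard : ¬ 5 ∣ Nat.card ↥(K.map φ) := by
    intro h5
    have h1 : Nat.card ↥K ∣ 2 ^ 13 * 3 := by
      rw [← C.S.card_ker]
      let f : ↥K →* ↥C.S.κ.ker :=
        { toFun := fun m => ⟨⟨((m : ↥X) : ↥(NV C.D)), (m : ↥X).2⟩, m.2⟩
          map_one' := rfl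
          map_mul' := fun _ _ => rfl }
      exact card_dvd_of_injective f fun a b e =>
        Subtype.ext (Subtype.ext (Subtype.ext (congrArg (fun x : ↥C.S.κ.ker => ((x : ↥(Cz z)) : G)) e)))
    have := (h5.trans (Subgroup.card_map_dvd K φ)).trans h1
    norm_num at this
  have hbot := no_small_normal (by rw [Fintype.card_coe]; exact (sxt_props 0).1) (K.map φ) hcard
  refine ⟨hle n hn, fun t ht => ?_⟩
  have h1 : φ ⟨⟨n, hle n hn⟩, n.2⟩ = 1 := by
    rw [← mem_bot, ← hbot]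
    exact mem_map_of_mem φ (show (⟨⟨n, hle n hn⟩, n.2⟩ : ↥X) ∈ K from hn)
  exact congrArg Subtype.val (Equiv.congr_fun h1 ⟨t, ht⟩)

theorem kerκ_norm {n : ↥(Cz z)} (hn : C.S.κ n = 1) : (n : G) ∈ normalizer (C.Z : Set G) := by
  obtain ⟨h, hfix⟩ := kerκ_fix C hn
  exact (Subgroup.mem_inf.1 ((mem_NZ_NV C.M).2 ((mem_pre C.D).2 ⟨h, mem_G0_of_tetrads hfix⟩))).1

theorem gen_norm_Z : C.S.gen ∈ normalizer (C.Z : Set G) := kerκ_norm C C.S.κ_gen

theorem Zc_le_Cz : C.Z ≤ Cz z := fun _ hx =>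
  mem_Cz.2 (C.D.comm (Zc_le C.M hx) (z_mem_V C))

/-- An element of `Zc` fixed by `gen` modulo `z` is fixed. -/
theorem gen_fix_mod {a : G} (h : C.S.gen * a * C.S.gen⁻¹ = a * z) : C.S.gen * a * C.S.gen⁻¹ = a := by
  exfalso
  have hgz : C.S.gen * z * C.S.gen⁻¹ = z := mul_inv_eq_iff_eq_mul.2 (mem_Cz.1 C.S.gen_mem)
  have hca : MulAut.conj C.S.gen a = a * z := by rw [MulAut.conj_apply]; exact h
  have hcz : MulAut.conj C.S.gen z = z := by rw [MulAut.conj_apply]; exact hgz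
  have h3 : MulAut.conj (C.S.gen ^ 3) a = a * z := by
    rw [map_pow, pow_succ, pow_two, MulAut.mul_apply, MulAut.mul_apply, hca, map_mul, hca, hcz,
      map_mul, map_mul, hca, hcz, mul_assoc, C.S.z_sq, mul_one]
  rw [MulAut.conj_apply] at h3
  rw [C.S.gen_cube, one_mul, inv_one, mul_one, left_eq_mul] at h3
  exact C.S.z_ne h3

theorem zel1_ne : zel C.M 1 ≠ 1 ∧ zel C.M 1 ≠ z := by
  refine ⟨zel_ne_one C.M 1, fun h => ?_⟩
  exact absurd (zel_injective C.M (h.trans C.zel_z.symm)) (by decide)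

/-- `gen` moves the second sextet. -/
theorem gen_moves : C.S.gen * zel C.M 1 * C.S.gen⁻¹ ≠ zel C.M 1 := by
  intro h
  obtain ⟨hV, hfix⟩ := kerκ_fix C C.S.κ_gen
  set σ := pr C.D ⟨C.S.gen, hV⟩ with hσ
  have hst : σ ∈ stabilizer ↥M24 (sxt 1) := by
    rw [← stab_zel C.M 1, SplitData.mem_stab, hσ, ← conj_eq_el C.D ⟨C.S.gen, hV⟩ (zel_mem C.M 1)]
    exact h
  have h3 : σ ^ 3 = 1 := by
    rw [hσ, ← map_pow]
    exact (pr_eq_one C.D).2 (by
      show C.S.gen ^ 3 ∈ C.D.V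
      rw [C.S.gen_cube]; exact one_mem _)
  have h1 := eq_one_of_sextets h3 hfix (mem_stabilizer_iff.1 hst)
  have hgV : C.S.gen ∈ C.D.V := (pr_eq_one C.D).1 h1
  have hd := orderOf_dvd_natCard (⟨_, hgV⟩ : ↥C.D.V)
  rw [orderOf_mk, C.S.gen_ord, C.D.card] at hd
  norm_num at hd

/-- A subgroup of `Zc` with a noncentral element and its conjugate by `gen` is all of it. -/
theorem eq_Z_of_moved {W : Subgroup G} (hW : W ≤ C.Z) (hz : z ∈ W) {b : G} (hb : b ∈ W) (hbE : b ∈ Ez z)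
    (hg : C.S.gen * b * C.S.gen⁻¹ ∈ W) (hb1 : b ≠ 1) (hbz : b ≠ z) : W = C.Z := by
  classical
  set c := C.S.gen * b * C.S.gen⁻¹ with hc
  have hcb : c ≠ b := fun h => by
    rcases C.S.fix b hbE (mul_inv_eq_iff_eq_mul.1 h).symm with e | e
    · exact hb1 e
    · exact hbz e
  have hcbz : c ≠ b * z := fun h => hcb (gen_fix_mod C h)
  have n1 : b * z ≠ 1 := fun h => hbz ((mul_eq_one_iff_eq_inv.1 h).trans
    (inv_eq_of_mul_eq_one_right C.S.z_sq))
  have n2 : b * z ≠ z := fun h => hb1 (mul_eq_right.1 h)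
  have n3 : b * z ≠ b := fun h => C.S.z_ne (mul_eq_left.1 h)
  have n4 : c ≠ 1 := fun h => hb1 (conj_eq_one_iff.1 h)
  have n5 : c ≠ z := fun h => hbz ((MulAut.conj C.S.gen).injective (show C.S.gen * b * C.S.gen⁻¹ = C.S.gen * z * C.S.gen⁻¹ from
    h.trans (mul_inv_eq_iff_eq_mul.2 (mem_Cz.1 C.S.gen_mem)).symm))
  have h5 : 5 ≤ Nat.card ↥W := by
    have hsub : ((({1, z, b, b * z, c} : Finset G)) : Set G) ⊆ W := by
      intro y hy
      simp only [Finset.coe_insert, Finset.coe_singleton, Set.mem_insert_iff, Set.mem_singleton_iff] at hy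
      rw [SetLike.mem_coe]
      rcases hy with rfl | rfl | rfl | rfl | rfl
      · exact one_mem _
      · exact hz
      · exact hb
      · exact mul_mem hb hz
      · exact hg
    have h := Set.ncard_le_ncard hsub (Set.toFinite _)
    rw [Set.ncard_coe_finset, ← Nat.card_coe_set_eq] at h
    refine le_trans ?_ h
    rw [Finset.card_insert_of_notMem, Finset.card_insert_of_notMem, Finset.card_insert_of_notMem,
      Finset.card_insert_of_notMem, Finset.card_singleton]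
    · simpa using hcbz.symm
    · simp only [Finset.mem_insert, Finset.mem_singleton, not_or]
      exact ⟨n3.symm, hcb.symm⟩
    · simp only [Finset.mem_insert, Finset.mem_singleton, not_or]
      exact ⟨hbz.symm, n2.symm, n5.symm⟩
    · simp only [Finset.mem_insert, Finset.mem_singleton, not_or]
      exact ⟨C.S.z_ne.symm, hb1.symm, n1.symm, n4.symm⟩
  refine eq_of_le_of_card_ge hW ?_
  rw [card_Zc]
  have hd : Nat.card ↥W ∣ 2 ^ 3 := (card_dvd_of_le hW).trans (card_Zc C.M).dvd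
  rcases (Nat.dvd_prime_pow Nat.prime_two).1 hd with ⟨k, hk, e⟩
  interval_cases k <;> omega

/-- `Zc ≤ E`. -/
theorem Zc_le_E : C.Z ≤ Ez z := by
  classical
  set a := zel C.M 1 with ha
  set g := C.S.gen with hg
  have haZ : a ∈ C.Z := zel_mem_Zc C.M 1
  have hgZ : ∀ x ∈ C.Z, g * x * g⁻¹ ∈ C.Z := fun x hx => (mem_normalizer_iff.1 (gen_norm_Z C) x).1 hx
  -- the commutator is a 2-element of the kernel
  have hEk : ∀ x ∈ C.Z, g * x * g⁻¹ * x⁻¹ ∈ Ez z := by
    intro x hx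
    have hxC := Zc_le_Cz C hx
    let y : ↥(Cz z) := ⟨g, C.S.gen_mem⟩ * ⟨x, hxC⟩ * ⟨g, C.S.gen_mem⟩⁻¹ * ⟨x, hxC⟩⁻¹
    have hy : C.S.κ y = 1 := by
      simp only [y, map_mul, map_inv]
      rw [C.S.κ_gen]
      simp
    obtain ⟨e, he, n, hn⟩ := (C.S.κ_ker y).1 hy
    have hyV : (y : G) ∈ C.D.V := mul_mem (Zc_le C.M (hgZ x hx)) (inv_mem (Zc_le C.M hx))
    have hen : e = (y : G) * (g ^ n)⁻¹ := eq_mul_inv_of_mul_eq hn.symm
    by_cases h0 : n % 3 = 0
    · rw [pow_eq_pow_mod n C.S.gen_cube, h0, pow_zero, mul_one] at hn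
      rw [show g * x * g⁻¹ * x⁻¹ = e from hn]
      exact he
    · exfalso
      -- an element of order 3 of the 2-group `E ⊔ Zc`
      have hE2 : IsPGroup 2 (Ez z) := IsPGroup.of_card C.S.card_E
      have hZ2 : IsPGroup 2 (C.Z) := IsPGroup.of_card (n := 3) ((card_Zc C.M).trans (by norm_num))
      have hsup : IsPGroup 2 ↥(Ez z ⊔ C.Z) := hE2.to_sup_of_normal_left' hZ2 fun q hq =>
        mem_normalizer_fintype fun e' he' => conj_mem_Ez (Zc_le_Cz C hq) he'
      have hmem : g ^ n ∈ Ez z ⊔ C.Z := by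
        rw [show g ^ n = e⁻¹ * (y : G) by rw [hn, inv_mul_cancel_left]]
        exact mul_mem (inv_mem (mem_sup_left he)) (mem_sup_right (mul_mem (hgZ x hx) (inv_mem hx)))
      obtain ⟨k, hk⟩ := hsup ⟨_, hmem⟩
      have hk' : g ^ (n * 2 ^ k) = 1 := by rw [pow_mul]; exact congrArg Subtype.val hk
      have hd := orderOf_dvd_of_pow_eq_one hk'
      rw [C.S.gen_ord] at hd
      rcases (Nat.Prime.dvd_mul Nat.prime_three).1 hd with h | h
      · omega
      · have := (Nat.prime_dvd_prime_iff_eq Nat.prime_three Nat.prime_two).1 (Nat.prime_three.dvd_of_dvd_pow h)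
        omega
  have hb : g * a * g⁻¹ * a⁻¹ ∈ Ez z := hEk a haZ
  have hc : g * (g * a * g⁻¹) * g⁻¹ * (g * a * g⁻¹)⁻¹ ∈ Ez z := hEk _ (hgZ a haZ)
  have haV := Zc_le C.M haZ
  have hbV := Zc_le C.M (hgZ a haZ)
  have hne : g * a * g⁻¹ ≠ a ∧ g * a * g⁻¹ ≠ a * z :=
    ⟨gen_moves C, fun h => gen_moves C (gen_fix_mod C h)⟩
  set b := g * a * g⁻¹ * a⁻¹ with hb'
  set c := g * (g * a * g⁻¹) * g⁻¹ * (g * a * g⁻¹)⁻¹ with hc'
  have hbc : c = g * b * g⁻¹ := by rw [hb', hc']; group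
  have hb1 : b ≠ 1 := fun h => hne.1 (mul_inv_eq_one.1 h)
  have hbz : b ≠ z := fun h => hne.2 (by
    rw [mul_inv_eq_iff_eq_mul.1 h, C.D.comm (z_mem_V C) haV])
  have hbE : b ∈ Ez z := hb
  have hbZ : b ∈ C.Z := mul_mem (hgZ a haZ) (inv_mem haZ)
  have hcZ : g * b * g⁻¹ ∈ C.Z := hgZ b hbZ
  have hcE : g * b * g⁻¹ ∈ Ez z := by rw [← hbc]; exact hc
  exact inf_eq_left.1 (eq_Z_of_moved C inf_le_left ⟨z_mem_Zc C, C.S.z_mem_E⟩ ⟨hbZ, hbE⟩ hbE ⟨hcZ, hcE⟩ hb1 hbz)

/-- An element of `C(z)` mapping a noncentral element of `Zc` into it normalises it. -/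
theorem norm_of_conj_mem {k : G} (hk : k ∈ Cz z) {w : G} (hw : w ∈ C.Z) (hw1 : w ≠ 1) (hwz : w ≠ z)
    (hv : k * w * k⁻¹ ∈ C.Z) : k ∈ normalizer (C.Z : Set G) := by
  have hkz : k * z * k⁻¹ = z := mul_inv_eq_iff_eq_mul.2 (mem_Cz.1 hk)
  set g' := k⁻¹ * C.S.gen * k with hg'
  have hg'n : g' ∈ normalizer (C.Z : Set G) := by
    have h : C.S.κ (⟨k, hk⟩⁻¹ * ⟨C.S.gen, C.S.gen_mem⟩ * ⟨k, hk⟩) = 1 := by
      rw [map_mul, map_mul, C.S.κ_gen, mul_one, map_inv, inv_mul_cancel]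
    exact kerκ_norm C h
  have hgv : C.S.gen * (k * w * k⁻¹) * C.S.gen⁻¹ ∈ C.Z ⊓ C.Z.map (cj k) :=
    Subgroup.mem_inf.2 ⟨(mem_normalizer_iff.1 (gen_norm_Z C) _).1 hv, g' * w * g'⁻¹,
      (mem_normalizer_iff.1 hg'n w).1 hw, by
        show k * (g' * w * g'⁻¹) * k⁻¹ = _
        rw [hg']; group⟩
  have h := eq_Z_of_moved C (W := C.Z ⊓ C.Z.map (cj k)) inf_le_left
    (Subgroup.mem_inf.2 ⟨z_mem_Zc C, z, z_mem_Zc C, hkz⟩) (Subgroup.mem_inf.2 ⟨hv, w, hw, rfl⟩)
    (Zc_le_E C hv) hgv (fun e => hw1 (conj_eq_one_iff.1 e))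
    (fun e => hwz ((MulAut.conj k).injective (show k * w * k⁻¹ = k * z * k⁻¹ from e.trans hkz.symm)))
  have hmap : C.Z.map (cj k) = C.Z :=
    (eq_of_le_of_card_ge (inf_eq_left.1 h) (by rw [card_map_of_injective (cj_inj k)])).symm
  exact mem_normalizer_fintype fun x hx => hmap.le ⟨x, hx, rfl⟩

/-- `Zc` has at most 693 conjugates under `C(z)`. -/
theorem card_conjugates_le : (normalizer (C.Z : Set G)).relIndex (Cz z) ≤ 693 := by
  classical
  set X := (normalizer (C.Z : Set G)).subgroupOf (Cz z)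
  let f : (↥(Cz z) ⧸ X) × Fin 6 → G := fun p => (p.1.out : G) * zel C.M p.2.succ * (p.1.out : G)⁻¹
  have hne : ∀ i : Fin 6, zel C.M i.succ ≠ z := fun i h =>
    Fin.succ_ne_zero i (zel_injective C.M (h.trans C.zel_z.symm))
  have hf : Function.Injective f := by
    rintro ⟨q, i⟩ ⟨q', j⟩ h
    simp only [f] at h
    have hk : (q'.out : G)⁻¹ * (q.out : G) ∈ normalizer (C.Z : Set G) := by
      refine norm_of_conj_mem C (mul_mem (inv_mem q'.out.2) q.out.2) (zel_mem_Zc C.M i.succ)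
        (zel_ne_one C.M _) (hne i) ?_
      rw [show (q'.out : G)⁻¹ * q.out * zel C.M i.succ * ((q'.out : G)⁻¹ * q.out)⁻¹ =
        (q'.out : G)⁻¹ * ((q.out : G) * zel C.M i.succ * (q.out : G)⁻¹) * q'.out by group, h]
      simpa [mul_assoc] using zel_mem_Zc C.M j.succ
    have hq : q' = q := by
      rw [← q'.out_eq, ← q.out_eq]
      exact QuotientGroup.eq.2 hk
    subst hq
    have e := zel_injective C.M ((MulAut.conj (q'.out : G)).injective h)
    rw [Fin.succ_inj.1 e]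
  have hmem : Set.range f ∪ {1, z} ⊆ roots (Ez z) := by
    rintro x (⟨⟨q, i⟩, rfl⟩ | rfl | rfl)
    · refine ⟨conj_mem_Ez q.out.2 (Zc_le_E C (zel_mem_Zc C.M _)), ?_⟩
      rw [show f (q, i) * f (q, i) =
        (q.out : G) * (zel C.M i.succ * zel C.M i.succ) * (q.out : G)⁻¹ by simp only [f]; group,
        C.D.sq_one (zel_mem C.M _), mul_one, mul_inv_cancel]
    · exact ⟨one_mem _, one_mul _⟩
    · exact ⟨C.S.z_mem_E, C.S.z_sq⟩
  have h := Set.ncard_le_ncard hmem (Set.toFinite _)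
  have hdis : Disjoint (Set.range f) {1, z} := by
    rw [Set.disjoint_left]
    rintro x ⟨⟨q, i⟩, rfl⟩ (e | e)
    · exact zel_ne_one C.M _ (conj_eq_one_iff.1 e)
    · exact hne i ((MulAut.conj (q.out : G)).injective (show (q.out : G) * zel C.M i.succ * (q.out : G)⁻¹ = _ from
        (Set.mem_singleton_iff.1 e).trans (mul_inv_eq_iff_eq_mul.2 (mem_Cz.1 q.out.2)).symm))
  rw [Set.ncard_union_eq hdis (Set.toFinite _) (Set.toFinite _), Set.ncard_range_of_injective hf,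
    Nat.card_prod, Nat.card_fin, Set.ncard_pair C.S.z_ne.symm, roots_E C.S] at h
  rw [relIndex, index_eq_card]
  show Nat.card (↥(Cz z) ⧸ X) ≤ 693
  omega

end Cfsg.Agent.J4Type.Pentad
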