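import Cfsg.Agent.Lib.J4Type.PentadLift

/-!
Groups of Janko-four type, pentad local (helper8): the normaliser of the element of order 7.

* `exists_double`, `exists_transposition` : the two classes of involutions of `CS`, of type `t` and `z`;
* `cent_s7` : `C(s7) = ⟨s7⟩ × CS`;
* `card_norm_s7`, `not_49_dvd` : `|N(⟨s7⟩)| = 2520`, inside `N(Zc)`; `49 ∤ |G|`.
-/

set_option autoImplicit false
set_option linter.unusedSectionVars false

open scoped Pointwise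

namespace Cfsg.Agent.J4Type.Pentad

open Cfsg Cfsg.Agent.Golay MulAction Subgroup

theorem p5_cent : ∀ x : Equiv.Perm (Fin 5), x * x = 1 → x ≠ 1 →
    (Equiv.Perm.sign x = 1 → (Finset.univ.filter fun g : Equiv.Perm (Fin 5) => g * x = x * g).card = 8) ∧
    (Equiv.Perm.sign x = -1 → (Finset.univ.filter fun g : Equiv.Perm (Fin 5) => g * x = x * g).card = 12) := by
  decide +kernel

variable {G : Type*} [Group G] [Finite G] {z : G} {P : Subgroup G} (C : PCtx z P)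

theorem pentS_def (c : ↥C.CS) : pentS C c = pent C ⟨(c : G), CS_le_NZ C c.2⟩ := rfl

/-- The centraliser of the element of order 7 in `N(Zc)`. -/
noncomputable def PCtx.M7 : Subgroup G := C.NZ ⊓ centralizer ({s7 C} : Set G)

theorem CS_le_M7 : C.CS ≤ C.M7 := fun _ hc =>
  Subgroup.mem_inf.2 ⟨CS_le_NZ C hc, mem_centralizer_singleton_iff.2 ((mem_CS C).1 hc).2⟩

theorem s7_mem_M7 : s7 C ∈ C.M7 :=
  Subgroup.mem_inf.2 ⟨s7_mem_NZ C, mem_centralizer_singleton_iff.2 rfl⟩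

theorem gl_cent_powers {A : GL (Fin 3) (ZMod 2)} (h : A * matHom g7 = matHom g7 * A) :
    A ∈ zpowers (matHom g7) := by
  have hsub : (zpowers (matHom g7) : Set (GL (Fin 3) (ZMod 2))) ⊆ {B | B * matHom g7 = matHom g7 * B} := by
    rintro _ ⟨k, rfl⟩
    exact (Commute.zpow_self (matHom g7) k).eq
  have he := Set.eq_of_subset_of_ncard_le hsub (by
    refine gl_cent_e7.trans ?_
    rw [← Nat.card_coe_set_eq, SetLike.coe_sort_coe, Nat.card_zpowers, orderOf_g7]) (Set.toFinite _)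
  have : A ∈ {B : GL (Fin 3) (ZMod 2) | B * matHom g7 = matHom g7 * B} := h
  rw [← he] at this
  exact this

/-- `M7` is `⟨s7⟩ × CS`. -/
theorem M7_decomp {m : G} (hm : m ∈ C.M7) : ∃ k : ℤ, m * (s7 C ^ k)⁻¹ ∈ C.CS := by
  obtain ⟨hN, hc⟩ := Subgroup.mem_inf.1 hm
  have hc' := mem_centralizer_singleton_iff.1 hc
  have hcomm : rho C ⟨m, hN⟩ * matHom g7 = matHom g7 * rho C ⟨m, hN⟩ := by
    rw [← rho_s7 C, ← map_mul, ← map_mul]
    exact congrArg (rho C) (Subtype.ext hc')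
  obtain ⟨k, hk⟩ := gl_cent_powers hcomm
  refine ⟨k, (mem_CS C).2 ⟨?_, ?_⟩⟩
  · refine (rho_eq_one C (n := ⟨m * (s7 C ^ k)⁻¹, mul_mem hN (inv_mem (zpow_mem (s7_mem_NZ C) k))⟩)).1 ?_
    rw [show (⟨m * (s7 C ^ k)⁻¹, mul_mem hN (inv_mem (zpow_mem (s7_mem_NZ C) k))⟩ : ↥C.NZ) =
      ⟨m, hN⟩ * (⟨s7 C, s7_mem_NZ C⟩ ^ k)⁻¹ from rfl, map_mul, map_inv, map_zpow, rho_s7]
    simp only at hk
    rw [hk, mul_inv_cancel]
  · exact ((show Commute m (s7 C) from hc').mul_left ((Commute.zpow_self (s7 C) k).inv_left)).eq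

/-- The involutions of `M7` are in `CS`. -/
theorem invol_CS {x : G} (hx : x ∈ C.M7) (hx2 : x * x = 1) : x ∈ C.CS := by
  obtain ⟨hN, hc⟩ := Subgroup.mem_inf.1 hx
  refine (mem_CS C).2 ⟨(rho_eq_one C (n := ⟨x, hN⟩)).1 ?_, mem_centralizer_singleton_iff.1 hc⟩
  have hcomm : rho C ⟨x, hN⟩ * matHom g7 = matHom g7 * rho C ⟨x, hN⟩ := by
    rw [← rho_s7 C, ← map_mul, ← map_mul]
    exact congrArg (rho C) (Subtype.ext (mem_centralizer_singleton_iff.1 hc))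
  have h1 : orderOf (rho C ⟨x, hN⟩) ∣ 7 := orderOf_g7 ▸ orderOf_dvd_of_mem_zpowers (gl_cent_powers hcomm)
  have h2 : orderOf (rho C ⟨x, hN⟩) ∣ 2 := orderOf_dvd_of_pow_eq_one (by
    rw [pow_two, ← map_mul, show (⟨x, hN⟩ : ↥C.NZ) * ⟨x, hN⟩ = 1 from Subtype.ext hx2, map_one])
  exact orderOf_eq_one_iff.1 (Nat.eq_one_of_dvd_coprimes (by norm_num) h1 h2)

/-- The lower bound for a centraliser in `M7`. -/
theorem card_M7_cent_ge {u : ↥C.CS} {n : ℕ}
    (hn : (Finset.univ.filter fun g : Equiv.Perm (Fin 5) => g * pentS C u = pentS C u * g).card = n) :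
    7 * n ≤ Nat.card ↥(C.M7 ⊓ centralizer ({(u : G)} : Set G)) := by
  classical
  set F := Finset.univ.filter fun g : Equiv.Perm (Fin 5) => g * pentS C u = pentS C u * g
  have hex : ∀ g : ↥F, ∃ c : ↥C.CS, pentS C c = g := fun g => pentS_surjective C g
  choose lift hlift using hex
  let f : Fin 7 × ↥F → ↥(C.M7 ⊓ centralizer ({(u : G)} : Set G)) := fun p =>
    ⟨(lift p.2 : G) * s7 C ^ (p.1 : ℕ), Subgroup.mem_inf.2
      ⟨mul_mem (CS_le_M7 C (lift p.2).2) (pow_mem (s7_mem_M7 C) _), mem_centralizer_singleton_iff.2 (by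
        have h1 : (lift p.2 : G) * u = u * lift p.2 := congrArg Subtype.val (pentS_injective C (a₁ := lift p.2 * u)
          (a₂ := u * lift p.2) (by rw [map_mul, map_mul, hlift]; exact (Finset.mem_filter.1 p.2.2).2))
        have h2 : Commute (s7 C) (u : G) := ((mem_CS C).1 u.2).2.symm
        exact ((show Commute (lift p.2 : G) u from h1).mul_left (h2.pow_left _)).eq)⟩⟩
  have hf : Function.Injective f := by
    rintro ⟨i, g⟩ ⟨j, g'⟩ e
    have e' : (lift g : G) * s7 C ^ (i : ℕ) = (lift g' : G) * s7 C ^ (j : ℕ) := congrArg Subtype.val e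
    have h := congrArg (rho C) (show (⟨(lift g : G), CS_le_NZ C (lift g).2⟩ : ↥C.NZ) *
      ⟨s7 C, s7_mem_NZ C⟩ ^ (i : ℕ) = ⟨(lift g' : G), CS_le_NZ C (lift g').2⟩ * ⟨s7 C, s7_mem_NZ C⟩ ^ (j : ℕ) from
      Subtype.ext (by push_cast; exact e'))
    rw [map_mul, map_mul, (rho_eq_one C (n := ⟨(lift g : G), CS_le_NZ C (lift g).2⟩)).2 ((mem_CS C).1 (lift g).2).1,
      (rho_eq_one C (n := ⟨(lift g' : G), CS_le_NZ C (lift g').2⟩)).2 ((mem_CS C).1 (lift g').2).1,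
      one_mul, one_mul, map_pow, map_pow, rho_s7] at h
    have hij : i = j := Fin.ext (pow_injOn_Iio_orderOf (by rw [Set.mem_Iio, orderOf_g7]; exact i.isLt)
      (by rw [Set.mem_Iio, orderOf_g7]; exact j.isLt) h)
    subst hij
    have hg : lift g = lift g' := Subtype.ext (mul_right_cancel e')
    have hgg : (g : Equiv.Perm (Fin 5)) = g' := by rw [← hlift g, ← hlift g', hg]
    rw [Subtype.ext hgg]
  have h := Nat.card_le_card_of_injective f hf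
  rwa [Nat.card_prod, Nat.card_fin, Nat.card_eq_fintype_card, Fintype.card_coe, hn] at h

theorem mul_self_pentS {x : ↥C.CS} (hx : (x : G) * x = 1) : pentS C x * pentS C x = 1 := by
  rw [← map_mul, show x * x = 1 from Subtype.ext hx, map_one]

theorem pentS_ne_one {x : ↥C.CS} (hx : (x : G) ≠ 1) : pentS C x ≠ 1 := fun h =>
  hx (congrArg Subtype.val (pentS_injective C (h.trans (map_one (pentS C)).symm)))

theorem duad_CS {i j : ℕ} (h : (i = 5 ∧ j = 12) ∨ (i = 5 ∧ j = 13) ∨ (i = 12 ∧ j = 13)) :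
    vset C.M {pt i, pt j} ∈ C.CS := by
  have hij : i < 24 ∧ j < 24 ∧ i ≠ j := by omega
  have hV := vset_mem_V C (pt_ne hij.1 hij.2.1 hij.2.2)
  refine (mem_CS C).2 ⟨V_le_CZ C hV, ?_⟩
  have hfix := (e7_fixed C.M hV).2 (by
    rcases h with ⟨rfl, rfl⟩ | ⟨rfl, rfl⟩ | ⟨rfl, rfl⟩
    · exact Or.inr (Or.inl rfl)
    · exact Or.inr (Or.inr (Or.inl rfl))
    · exact Or.inr (Or.inr (Or.inr rfl)))
  exact (mul_inv_eq_iff_eq_mul.1 hfix).symm

/-- A double of `CS`: a duad, with its whole centraliser in `C(s7)` inside `M7`. -/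
theorem exists_double : ∃ u : ↥C.CS, (u : G) * u = 1 ∧ (u : G) ≠ 1 ∧ IsConj C.D.t (u : G) ∧
    Equiv.Perm.sign (pentS C u) = 1 ∧
    ∀ c : G, c * s7 C = s7 C * c → c * u = u * c → c ∈ C.M7 := by
  classical
  obtain ⟨i, j, hij, hsign⟩ : ∃ i j, ∃ h : (i = 5 ∧ j = 12) ∨ (i = 5 ∧ j = 13) ∨ (i = 12 ∧ j = 13),
      Equiv.Perm.sign (pentS C ⟨_, duad_CS C h⟩) = 1 := by
    by_contra hne
    push Not at hne
    have hm : ∀ i j (h : (i = 5 ∧ j = 12) ∨ (i = 5 ∧ j = 13) ∨ (i = 12 ∧ j = 13)),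
        Equiv.Perm.sign (pentS C ⟨_, duad_CS C h⟩) = -1 := fun i j h =>
      (Int.units_eq_one_or _).resolve_left (hne i j h)
    have he : (⟨_, duad_CS C (Or.inl ⟨rfl, rfl⟩)⟩ : ↥C.CS) * ⟨_, duad_CS C (Or.inr (Or.inl ⟨rfl, rfl⟩))⟩ =
        ⟨_, duad_CS C (Or.inr (Or.inr ⟨rfl, rfl⟩))⟩ := Subtype.ext (by
      show vset C.M {pt 5, pt 12} * vset C.M {pt 5, pt 13} = vset C.M {pt 12, pt 13}
      rw [← psi_dcls C.M (by norm_num) (by norm_num) (by norm_num),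
        ← psi_dcls C.M (by norm_num) (by norm_num) (by norm_num),
        ← psi_dcls C.M (by norm_num) (by norm_num) (by norm_num), ← psi_xor, d7_pairs.1, d7_pairs.2.1, d7_pairs.2.2]
      rfl)
    have h := congrArg (fun x => Equiv.Perm.sign (pentS C x)) he
    simp only [map_mul] at h
    rw [hm 5 12 (Or.inl ⟨rfl, rfl⟩), hm 5 13 (Or.inr (Or.inl ⟨rfl, rfl⟩)),
      hm 12 13 (Or.inr (Or.inr ⟨rfl, rfl⟩))] at h
    exact absurd h (by decide)
  have hr : (i = 5 ∨ i = 12 ∨ i = 13) ∧ (j = 5 ∨ j = 12 ∨ j = 13) ∧ i ≠ j ∧ i < 24 ∧ j < 24 := by omega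
  obtain ⟨hi, hj, hne, hi24, hj24⟩ := hr
  have hab := pt_ne hi24 hj24 hne
  set u : ↥C.CS := ⟨_, duad_CS C hij⟩
  have hu1 : (u : G) ≠ 1 := fun h => duad_not_mem C hij (by
    rw [show vset C.M {pt i, pt j} = 1 from h]; exact one_mem _)
  have hu2 : (u : G) * u = 1 := C.D.sq_one (vset_mem_V C hab)
  refine ⟨u, hu2, hu1, duad_conj C hab, hsign, ?_⟩
  set X := centralizer ({s7 C} : Set G) ⊓ centralizer ({(u : G)} : Set G)
  have hXN : X ≤ NV C.D := fun c hc =>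
    duad_cent C hab (mem_centralizer_singleton_iff.1 (Subgroup.mem_inf.1 hc).2)
  let f : ↥X →* ↥M24 := (pr C.D).comp (Subgroup.inclusion hXN)
  have hrange : Nat.card ↥f.range ≤ 14 := by
    refine le_trans ?_ (card_cent_e7_pair hi hj hne)
    refine Nat.card_le_card_of_injective (fun σ => ⟨σ.1, ?_⟩) fun a b e => Subtype.ext (Subtype.ext_iff.1 e :)
    obtain ⟨c, hc⟩ := σ.2
    rw [← hc]
    refine ⟨?_, pr_duad C hab _ (mem_centralizer_singleton_iff.1 (Subgroup.mem_inf.1 c.2).2)⟩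
    show pr C.D ⟨(c : G), hXN c.2⟩ * e7 = e7 * pr C.D ⟨(c : G), hXN c.2⟩
    rw [← pr_el C.D e7, ← map_mul, ← map_mul]
    exact congrArg (pr C.D) (Subtype.ext (mem_centralizer_singleton_iff.1 (Subgroup.mem_inf.1 c.2).1))
  have hker : Nat.card ↥f.ker ≤ 4 := by
    let L4 : Finset G :=
      {1, vset C.M {pt 5, pt 12}, vset C.M {pt 5, pt 13}, vset C.M {pt 12, pt 13}}
    have hmem : ∀ c : ↥f.ker, ((c : ↥X) : G) ∈ L4 := fun c => by
      have hV : ((c : ↥X) : G) ∈ C.D.V := (pr_eq_one C.D).1 (MonoidHom.mem_ker.1 c.2)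
      have h := (e7_fixed C.M hV).1 (mul_inv_eq_iff_eq_mul.2
        (mem_centralizer_singleton_iff.1 (Subgroup.mem_inf.1 (c : ↥X).2).1).symm)
      simpa [L4] using h
    refine le_trans (Nat.card_le_card_of_injective (fun c : ↥f.ker => (⟨_, hmem c⟩ : ↥L4)) fun a b e => ?_) ?_
    · exact Subtype.ext (Subtype.ext (congrArg (fun x : ↥L4 => (x : G)) e))
    · rw [Nat.card_eq_fintype_card, Fintype.card_coe]
      exact Finset.card_le_four
  have hX : Nat.card ↥X ≤ 56 := by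
    rw [← f.ker.card_mul_index, Subgroup.index_ker]
    exact Nat.mul_le_mul hker hrange
  have hlow := card_M7_cent_ge C ((p5_cent _ (mul_self_pentS C hu2) (pentS_ne_one C hu1)).1 hsign)
  have hle : C.M7 ⊓ centralizer ({(u : G)} : Set G) ≤ X := inf_le_inf_right _ inf_le_right
  have heq := eq_of_le_of_card_ge hle (hX.trans hlow)
  intro c hcs hcu
  have hcX : c ∈ X :=
    Subgroup.mem_inf.2 ⟨mem_centralizer_singleton_iff.2 hcs, mem_centralizer_singleton_iff.2 hcu⟩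
  rw [← heq] at hcX
  exact (Subgroup.mem_inf.1 hcX).1

/-- A transposition of `CS`: a conjugate of `z`, with its whole centraliser in `C(s7)` inside `M7`. -/
theorem exists_transposition : ∃ τ : ↥C.CS, (τ : G) * τ = 1 ∧ (τ : G) ≠ 1 ∧
    Equiv.Perm.sign (pentS C τ) = -1 ∧ (∃ g : G, g * τ * g⁻¹ = z) ∧
    ∀ c : G, c * s7 C = s7 C * c → c * τ = τ * c → c ∈ C.M7 := by
  classical
  have : Fact (Nat.Prime 3) := ⟨Nat.prime_three⟩
  obtain ⟨r, x, hr3, hr1, hx2, hx1, hxr⟩ := p5_exists.1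
  obtain ⟨r', rfl⟩ := pentS_surjective C r
  obtain ⟨τ, rfl⟩ := pentS_surjective C x
  have hτ2 : (τ : G) * τ = 1 :=
    congrArg Subtype.val (pentS_injective C (a₁ := τ * τ) (a₂ := 1) (by rw [map_mul, map_one]; exact hx2))
  have hτ1 : (τ : G) ≠ 1 := fun h => hx1 (by rw [show τ = 1 from Subtype.ext h, map_one])
  have hord : orderOf (r' : G) = 3 := by
    refine orderOf_eq_prime ?_ fun h => hr1 (by rw [show r' = 1 from Subtype.ext h, map_one])
    rw [← SubgroupClass.coe_pow, ← Subgroup.coe_one C.CS]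
    refine congrArg Subtype.val (pentS_injective C ?_)
    rw [map_pow, map_one, pow_succ, pow_two]
    exact hr3
  obtain ⟨g, hg⟩ := isConj_iff.1 (C.three _ _ hord C.S.gen_ord)
  have hr' := (mem_CS C).1 r'.2
  have hcz : ∀ y : G, y * r' = r' * y → (g⁻¹ * z * g) * y = y * (g⁻¹ * z * g) := by
    intro y hy
    have h1 : Commute (g * y * g⁻¹) C.S.gen := by
      show g * y * g⁻¹ * C.S.gen = C.S.gen * (g * y * g⁻¹)
      rw [← hg, show g * y * g⁻¹ * (g * (r' : G) * g⁻¹) = g * (y * r') * g⁻¹ by group, hy]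
      group
    have hN : g * y * g⁻¹ ∈ Cz z := C.norm_P (mem_normalizer_fintype fun p hp => by
      rw [SetLike.mem_coe, ← C.S.gen_zpowers] at hp ⊢
      obtain ⟨k, rfl⟩ := hp
      rw [(h1.zpow_right k).eq, mul_inv_cancel_right]
      exact zpow_mem (mem_zpowers _) k)
    calc g⁻¹ * z * g * y = g⁻¹ * (z * (g * y * g⁻¹)) * g := by group
      _ = g⁻¹ * (g * y * g⁻¹ * z) * g := by rw [mem_Cz.1 hN]
      _ = _ := by group
  have hzS : g⁻¹ * z * g ∈ C.CS := (mem_CS C).2 ⟨mem_centralizer_iff.2 fun p hp =>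
    (hcz p (mem_centralizer_iff.1 hr'.1 p hp)).symm, hcz _ hr'.2.symm⟩
  set zr : ↥C.CS := ⟨_, hzS⟩
  have hz2 : (zr : G) * zr = 1 := by
    show g⁻¹ * z * g * (g⁻¹ * z * g) = 1
    rw [show g⁻¹ * z * g * (g⁻¹ * z * g) = g⁻¹ * (z * z) * g by group, C.S.z_sq, mul_one, inv_mul_cancel]
  have hz1 : (zr : G) ≠ 1 := fun h => C.S.z_ne (by
    rw [show z = g * (g⁻¹ * z * g) * g⁻¹ by group, show g⁻¹ * z * g = 1 from h, mul_one, mul_inv_cancel])
  have hzc : zr * r' = r' * zr := Subtype.ext (hcz _ rfl)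
  obtain ⟨hsign, huniq⟩ := p5_three _ hr3 hr1 _ hx2 hx1 hxr
  have hzτ : τ = zr := pentS_injective C
    (huniq _ (mul_self_pentS C hz2) (pentS_ne_one C hz1) (by rw [← map_mul, ← map_mul, hzc]))
  have hgτ : g * (τ : G) * g⁻¹ = z := by
    rw [hzτ]; show g * (g⁻¹ * z * g) * g⁻¹ = z; group
  refine ⟨τ, hτ2, hτ1, hsign, ⟨g, hgτ⟩, ?_⟩
  set X := centralizer ({s7 C} : Set G) ⊓ centralizer ({(τ : G)} : Set G)
  have hconj : ∀ y : G, y * τ = τ * y → g * y * g⁻¹ ∈ Cz z := fun y hy => by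
    have h : g * y * g⁻¹ * (g * (τ : G) * g⁻¹) = g * (τ : G) * g⁻¹ * (g * y * g⁻¹) := by
      rw [show g * y * g⁻¹ * (g * (τ : G) * g⁻¹) = g * (y * τ) * g⁻¹ by group, hy]
      group
    rw [hgτ] at h
    exact mem_Cz.2 h
  have hsC : g * s7 C * g⁻¹ ∈ Cz z := hconj _ ((mem_CS C).1 τ.2).2.symm
  have hX : Nat.card ↥X ≤ 84 := by
    refine le_trans ?_ (card_cent_seven_le C.S hsC ((orderOf_conj' g (s7 C)).trans (orderOf_s7 C)))
    refine Nat.card_le_card_of_injective (fun c : ↥X =>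
      (⟨g * (c : G) * g⁻¹, ?_⟩ : ↥(Cz z ⊓ centralizer ({g * s7 C * g⁻¹} : Set G)))) fun a b e =>
        Subtype.ext ((MulAut.conj g).injective (congrArg Subtype.val e))
    obtain ⟨h1, h2⟩ := Subgroup.mem_inf.1 c.2
    rw [mem_centralizer_singleton_iff] at h1 h2
    refine Subgroup.mem_inf.2 ⟨hconj _ h2, mem_centralizer_singleton_iff.2 ?_⟩
    rw [show g * (c : G) * g⁻¹ * (g * s7 C * g⁻¹) = g * ((c : G) * s7 C) * g⁻¹ by group, h1]
    group
  have hlow := card_M7_cent_ge C ((p5_cent _ hx2 hx1).2 hsign)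
  have hle : C.M7 ⊓ centralizer ({(τ : G)} : Set G) ≤ X := inf_le_inf_right _ inf_le_right
  have heq := eq_of_le_of_card_ge hle (hX.trans hlow)
  intro c hcs hcu
  have hcX : c ∈ X :=
    Subgroup.mem_inf.2 ⟨mem_centralizer_singleton_iff.2 hcs, mem_centralizer_singleton_iff.2 hcu⟩
  rw [← heq] at hcX
  exact (Subgroup.mem_inf.1 hcX).1

theorem conj_in_CS {x y : ↥C.CS} (hx : (x : G) * x = 1) (hx1 : (x : G) ≠ 1) (hy : (y : G) * y = 1)
    (hy1 : (y : G) ≠ 1) (h : Equiv.Perm.sign (pentS C x) = Equiv.Perm.sign (pentS C y)) :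
    ∃ m : ↥C.CS, (y : G) = m * x * (m : G)⁻¹ := by
  obtain ⟨g, hg⟩ := p5_invol_conj _ (mul_self_pentS C hx) (pentS_ne_one C hx1) _ (mul_self_pentS C hy)
    (pentS_ne_one C hy1) h
  obtain ⟨m, rfl⟩ := pentS_surjective C g
  have e : m * x = y * m := pentS_injective C (by rw [map_mul, map_mul]; exact hg)
  refine ⟨m, ?_⟩
  rw [show (m : G) * x = y * m from congrArg Subtype.val e, mul_inv_cancel_right]

theorem not_conj_types {a b : G} (ha : ∃ g : G, g * a * g⁻¹ = z) (hb : IsConj C.D.t b) : ¬ IsConj a b := fun h => by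
  obtain ⟨g, hg⟩ := ha
  exact C.not_conj_t (((isConj_iff.2 ⟨g, hg⟩ : IsConj a z).symm.trans h).trans hb.symm)

/-- The centraliser of `s7`. -/
theorem cent_s7 : centralizer ({s7 C} : Set G) = C.M7 := by
  obtain ⟨u, hu2, hu1, hut, husign, hcu⟩ := exists_double C
  obtain ⟨τ, hτ2, hτ1, hτsign, hτz, hcτ⟩ := exists_transposition C
  refine (eq_of_two_classes (M := C.M7) inf_le_right (CS_le_M7 C τ.2) (CS_le_M7 C u.2) hτ2 hu2 hu1
    (not_conj_types C hτz hut) (fun c hc h => hcτ c (mem_centralizer_singleton_iff.1 hc) h)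
    (fun c hc h => hcu c (mem_centralizer_singleton_iff.1 hc) h) fun x hx hx2 hx1 => ?_).symm
  rcases Int.units_eq_one_or (Equiv.Perm.sign (pentS C ⟨x, invol_CS C hx hx2⟩)) with h | h
  · obtain ⟨m, hm⟩ := conj_in_CS C (x := u) (y := ⟨x, invol_CS C hx hx2⟩) hu2 hu1 hx2 hx1 (husign.trans h.symm)
    exact ⟨m, CS_le_M7 C m.2, Or.inr hm⟩
  · obtain ⟨m, hm⟩ := conj_in_CS C (x := τ) (y := ⟨x, invol_CS C hx hx2⟩) hτ2 hτ1 hx2 hx1 (hτsign.trans h.symm)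
    exact ⟨m, CS_le_M7 C m.2, Or.inl hm⟩

theorem zpowers_inf_CS : zpowers (s7 C) ⊓ C.CS = ⊥ := by
  rw [eq_bot_iff]
  intro x hx
  obtain ⟨⟨k, rfl⟩, hcs⟩ := Subgroup.mem_inf.1 hx
  rw [mem_bot]
  have h1 := (rho_eq_one C (n := ⟨s7 C ^ k, zpow_mem (s7_mem_NZ C) k⟩)).2 ((mem_CS C).1 hcs).1
  rw [show (⟨s7 C ^ k, zpow_mem (s7_mem_NZ C) k⟩ : ↥C.NZ) = ⟨s7 C, s7_mem_NZ C⟩ ^ k from rfl, map_zpow,
    rho_s7, ← orderOf_dvd_iff_zpow_eq_one, orderOf_g7] at h1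
  show s7 C ^ k = 1
  rwa [← orderOf_dvd_iff_zpow_eq_one, orderOf_s7]

/-- The direct product. -/
theorem direct_seven :
    IsInternalDirectProduct (zpowers (s7 C)) C.CS (centralizer ({s7 C} : Set G)) := by
  refine ⟨zpowers_le.2 (mem_centralizer_singleton_iff.2 rfl), inf_le_right, ?_, zpowers_inf_CS C, ?_⟩
  · rintro _ ⟨k, rfl⟩ b hb
    exact ((show Commute (s7 C) b from ((mem_CS C).1 hb).2.symm).zpow_left k).eq
  · refine le_antisymm (sup_le (zpowers_le.2 (mem_centralizer_singleton_iff.2 rfl)) inf_le_right) ?_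
    rw [cent_s7]
    intro m hm
    obtain ⟨k, hk⟩ := M7_decomp C hm
    rw [show m = m * (s7 C ^ k)⁻¹ * s7 C ^ k by group]
    exact mul_mem (mem_sup_right hk) (mem_sup_left (zpow_mem (mem_zpowers _) k))

theorem card_cent_s7 : Nat.card ↥(centralizer ({s7 C} : Set G)) = 840 := by
  obtain ⟨h1, h2, hcomm, hinf, hsup⟩ := direct_seven C
  let f : ↥(zpowers (s7 C)) × ↥C.CS → ↥(centralizer ({s7 C} : Set G)) := fun p =>
    ⟨(p.1 : G) * p.2, mul_mem (h1 p.1.2) (h2 p.2.2)⟩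
  have hf : Function.Bijective f := by
    constructor
    · rintro ⟨a, b⟩ ⟨a', b'⟩ e
      have e' : (a : G) * b = a' * b' := congrArg Subtype.val e
      have h : (a' : G)⁻¹ * a = b' * (b : G)⁻¹ := by
        calc (a' : G)⁻¹ * a = (a' : G)⁻¹ * (a * b) * (b : G)⁻¹ := by group
          _ = _ := by rw [e']; group
      have h0 : (a' : G)⁻¹ * a ∈ zpowers (s7 C) ⊓ C.CS :=
        Subgroup.mem_inf.2 ⟨mul_mem (inv_mem a'.2) a.2, h ▸ mul_mem b'.2 (inv_mem b.2)⟩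
      rw [hinf, mem_bot] at h0
      refine Prod.ext (Subtype.ext (inv_mul_eq_one.1 h0).symm) (Subtype.ext ?_)
      rw [h0] at h
      exact (mul_inv_eq_one.1 h.symm).symm
    · rintro ⟨c, hc⟩
      rw [cent_s7] at hc
      obtain ⟨k, hk⟩ := M7_decomp C hc
      refine ⟨⟨⟨s7 C ^ k, zpow_mem (mem_zpowers _) k⟩, ⟨_, hk⟩⟩, Subtype.ext ?_⟩
      show s7 C ^ k * (c * (s7 C ^ k)⁻¹) = c
      rw [hcomm _ (zpow_mem (mem_zpowers _) k) _ hk, inv_mul_cancel_right]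
  rw [← Nat.card_congr (Equiv.ofBijective f hf), Nat.card_prod, Nat.card_zpowers, orderOf_s7, card_CS]

include C in
theorem not_49_dvd : ¬ 49 ∣ Nat.card G := by
  have : Fact (Nat.Prime 7) := ⟨by norm_num⟩
  exact not_sq_dvd (p := 7) (orderOf_s7 C) (by rw [card_cent_s7]; norm_num)

/-- An element squaring `s7`. -/
theorem exists_norm_s7 : ∃ n ∈ C.NZ, n * s7 C * n⁻¹ = s7 C ^ 2 := by
  obtain ⟨g, hg⟩ := exists_square_label
  obtain ⟨n, hn⟩ := Psi_surjective C (1, matHom g)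
  have hy : Psi C ⟨(n : G) * s7 C * (n : G)⁻¹, mul_mem (mul_mem n.2 (s7_mem_NZ C)) (inv_mem n.2)⟩ =
      Psi C ⟨s7 C ^ 2, pow_mem (s7_mem_NZ C) 2⟩ := by
    rw [show (⟨(n : G) * s7 C * (n : G)⁻¹, mul_mem (mul_mem n.2 (s7_mem_NZ C)) (inv_mem n.2)⟩ : ↥C.NZ) =
        n * ⟨s7 C, s7_mem_NZ C⟩ * n⁻¹ from rfl,
      show (⟨s7 C ^ 2, pow_mem (s7_mem_NZ C) 2⟩ : ↥C.NZ) = ⟨s7 C, s7_mem_NZ C⟩ ^ 2 from rfl,
      map_mul, map_mul, map_inv, map_pow, hn]
    refine Prod.ext ?_ ?_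
    · show 1 * pent C ⟨s7 C, s7_mem_NZ C⟩ * 1⁻¹ = pent C ⟨s7 C, s7_mem_NZ C⟩ ^ 2
      rw [pent_s7, one_mul, inv_one, mul_one, one_pow]
    · show matHom g * rho C ⟨s7 C, s7_mem_NZ C⟩ * (matHom g)⁻¹ = rho C ⟨s7 C, s7_mem_NZ C⟩ ^ 2
      rw [rho_s7, hg]
  obtain ⟨x, hx, e⟩ := exists_conj_coset C (pow_mem (s7_mem_NZ C) 2) (fun c hc h => cent_L_s7 C hc (by
    have e4 : (s7 C ^ 2) ^ 4 = s7 C := by
      rw [← pow_mul, show 2 * 4 = 7 + 1 from rfl, pow_succ, s7_pow, one_mul]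
    have := (show Commute c (s7 C ^ 2) from h).pow_right 4
    rw [e4] at this
    exact this.eq)) _ hy
  refine ⟨x⁻¹ * n, mul_mem (inv_mem (L_le_NZ C hx)) n.2, ?_⟩
  calc x⁻¹ * (n : G) * s7 C * (x⁻¹ * (n : G))⁻¹ = x⁻¹ * ((n : G) * s7 C * (n : G)⁻¹) * x := by group
    _ = x⁻¹ * (x * s7 C ^ 2 * x⁻¹) * x := by rw [e]
    _ = _ := by group

/-- Nothing inverts `s7`. -/
theorem not_inverted_s7 (n : G) : n * s7 C * n⁻¹ ≠ (s7 C)⁻¹ := by
  intro h
  obtain ⟨u, hu2, hu1, hut, husign, -⟩ := exists_double C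
  obtain ⟨τ, hτ2, hτ1, hτsign, ⟨g, hg⟩, -⟩ := exists_transposition C
  have hcomm : n * (τ : G) * n⁻¹ * s7 C = s7 C * (n * (τ : G) * n⁻¹) := by
    have e : s7 C = (n * s7 C * n⁻¹)⁻¹ := by rw [h, inv_inv]
    have e' : n⁻¹ * s7 C * n = (s7 C)⁻¹ := by
      calc n⁻¹ * s7 C * n = n⁻¹ * (n * s7 C * n⁻¹)⁻¹ * n := by rw [← e]
        _ = _ := by group
    calc n * (τ : G) * n⁻¹ * s7 C = n * (τ * (n⁻¹ * s7 C * n)) * n⁻¹ := by group
      _ = n * (τ * (s7 C)⁻¹) * n⁻¹ := by rw [e']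
      _ = n * ((s7 C)⁻¹ * τ) * n⁻¹ := by
        rw [((show Commute (τ : G) (s7 C) from ((mem_CS C).1 τ.2).2).inv_right).eq]
      _ = (n * s7 C * n⁻¹)⁻¹ * (n * τ * n⁻¹) := by group
      _ = _ := by rw [← e]
  have hM : n * (τ : G) * n⁻¹ ∈ C.M7 := by
    rw [← cent_s7]; exact mem_centralizer_singleton_iff.2 hcomm
  have hx2 : n * (τ : G) * n⁻¹ * (n * (τ : G) * n⁻¹) = 1 := by
    rw [show n * (τ : G) * n⁻¹ * (n * (τ : G) * n⁻¹) = n * (τ * τ) * n⁻¹ by group, hτ2, mul_one, mul_inv_cancel]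
  have hx1 : n * (τ : G) * n⁻¹ ≠ 1 := fun e => hτ1 (conj_eq_one_iff.1 e)
  set y : ↥C.CS := ⟨_, invol_CS C hM hx2⟩
  rcases Int.units_eq_one_or (Equiv.Perm.sign (pentS C y)) with hs | hs
  · obtain ⟨m, hm⟩ := conj_in_CS C (x := u) (y := y) hu2 hu1 hx2 hx1 (husign.trans hs.symm)
    refine not_conj_types C ⟨g, hg⟩ hut ((isConj_iff.2 ⟨n, rfl⟩ : IsConj (τ : G) (y : G)).trans ?_)
    exact (isConj_iff.2 ⟨(m : G), hm.symm⟩ : IsConj (u : G) (y : G)).symm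
  · obtain ⟨m, hm⟩ := conj_in_CS C (x := τ) (y := y) hτ2 hτ1 hx2 hx1 (hτsign.trans hs.symm)
    set k := (m : G)⁻¹ * n
    have hk : k * τ * k⁻¹ = τ := by
      rw [show k * (τ : G) * k⁻¹ = (m : G)⁻¹ * (n * τ * n⁻¹) * m by simp only [k]; group,
        show n * (τ : G) * n⁻¹ = _ from hm]
      group
    have hks : k * s7 C * k⁻¹ = (s7 C)⁻¹ := by
      rw [show k * s7 C * k⁻¹ = (m : G)⁻¹ * (n * s7 C * n⁻¹) * m by simp only [k]; group, h,
        show (m : G)⁻¹ * (s7 C)⁻¹ * m = ((m : G)⁻¹ * s7 C * m)⁻¹ by group,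
        mul_assoc, ← ((mem_CS C).1 m.2).2, inv_mul_cancel_left]
    have hC : ∀ y : G, y * τ = τ * y → g * y * g⁻¹ ∈ Cz z := fun y hy => by
      have h : g * y * g⁻¹ * (g * (τ : G) * g⁻¹) = g * (τ : G) * g⁻¹ * (g * y * g⁻¹) := by
        rw [show g * y * g⁻¹ * (g * (τ : G) * g⁻¹) = g * (y * τ) * g⁻¹ by group, hy]
        group
      rw [hg] at h
      exact mem_Cz.2 h
    refine not_inverted C.S (h := g * k * g⁻¹) (s := g * s7 C * g⁻¹) (hC k (mul_inv_eq_iff_eq_mul.1 hk))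
      (hC _ ((mem_CS C).1 τ.2).2.symm) ((orderOf_conj' g (s7 C)).trans (orderOf_s7 C)) ?_
    rw [show g * k * g⁻¹ * (g * s7 C * g⁻¹) * (g * k * g⁻¹)⁻¹ = g * (k * s7 C * k⁻¹) * g⁻¹ by group, hks]
    group

theorem exists_norm_pow : ∀ k ∈ ({1, 2, 4} : Finset ℕ), ∃ n ∈ C.NZ, n * s7 C * n⁻¹ = s7 C ^ k := by
  intro k hk
  obtain ⟨n, hn, e⟩ := exists_norm_s7 C
  simp only [Finset.mem_insert, Finset.mem_singleton] at hk
  rcases hk with rfl | rfl | rfl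
  · exact ⟨1, one_mem _, by rw [one_mul, inv_one, mul_one, pow_one]⟩
  · exact ⟨n, hn, e⟩
  · refine ⟨n * n, mul_mem hn hn, ?_⟩
    rw [show n * n * s7 C * (n * n)⁻¹ = n * (n * s7 C * n⁻¹) * n⁻¹ by group, e, ← conj_pow, e, ← pow_mul]

theorem norm_cases {n : G} (hn : n ∈ normalizer (zpowers (s7 C) : Set G)) :
    ∃ k ∈ ({1, 2, 4} : Finset ℕ), n * s7 C * n⁻¹ = s7 C ^ k := by
  have hm : n * s7 C * n⁻¹ ∈ zpowers (s7 C) := (mem_normalizer_iff.1 hn _).1 (mem_zpowers _)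
  obtain ⟨k, hk⟩ := (isOfFinOrder_of_finite (s7 C)).mem_powers_iff_mem_zpowers.2 hm
  have hk' : s7 C ^ (k % 7) = n * s7 C * n⁻¹ := by rw [← pow_eq_pow_mod k (s7_pow C)]; exact hk
  have h6 : s7 C ^ 6 = (s7 C)⁻¹ := eq_inv_of_mul_eq_one_left (by rw [← pow_succ]; exact s7_pow C)
  have hlt : k % 7 < 7 := Nat.mod_lt _ (by norm_num)
  obtain ⟨d, hd, e⟩ := exists_norm_s7 C
  have hcomp : ∀ a b : ℕ, ∀ x : G, x * s7 C * x⁻¹ = s7 C ^ a → ∀ y : G, y * s7 C * y⁻¹ = s7 C ^ b →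
      (x * y) * s7 C * (x * y)⁻¹ = s7 C ^ (a * b) := fun a b x hx y hy => by
    rw [show x * y * s7 C * (x * y)⁻¹ = x * (y * s7 C * y⁻¹) * x⁻¹ by group, hy, ← conj_pow, hx, pow_mul]
  obtain h | h | h | h | h | h | h : k % 7 = 0 ∨ k % 7 = 1 ∨ k % 7 = 2 ∨ k % 7 = 3 ∨ k % 7 = 4 ∨ k % 7 = 5 ∨
      k % 7 = 6 := by omega
  · rw [h, pow_zero] at hk'
    have := conj_eq_one_iff.1 hk'.symm
    exact absurd ((orderOf_s7 C).symm.trans (by rw [this, orderOf_one])) (by norm_num)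
  · exact ⟨1, by simp, by rw [← h]; exact hk'.symm⟩
  · exact ⟨2, by simp, by rw [← h]; exact hk'.symm⟩
  · refine absurd ?_ (not_inverted_s7 C (n * d))
    rw [hcomp 3 2 n (by rw [← h]; exact hk'.symm) d e]
    exact h6
  · exact ⟨4, by simp, by rw [← h]; exact hk'.symm⟩
  · refine absurd ?_ (not_inverted_s7 C (n * (d * d)))
    rw [hcomp 5 4 n (by rw [← h]; exact hk'.symm) (d * d) (hcomp 2 2 d e d e), show 5 * 4 = 7 + (7 + 6) from rfl,
      pow_add, pow_add, s7_pow, one_mul, one_mul]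
    exact h6
  · exact absurd ((hk'.symm.trans (by rw [h])).trans h6) (not_inverted_s7 C n)

theorem mem_norm_of_pow {n : G} {k : ℕ} (e : n * s7 C * n⁻¹ = s7 C ^ k) :
    n ∈ normalizer (zpowers (s7 C) : Set G) :=
  mem_normalizer_fintype fun x hx => by
    obtain ⟨j, rfl⟩ := hx
    rw [SetLike.mem_coe, ← conj_zpow, e]
    exact zpow_mem (pow_mem (mem_zpowers _) k) j

/-- The normaliser of `⟨s7⟩`. -/
theorem card_norm_s7 : Nat.card ↥(normalizer (zpowers (s7 C) : Set G)) = 2520 := by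
  rw [card_normalizer_zpowers, card_cent_s7]
  have hset : {x : G | ∃ n ∈ normalizer (zpowers (s7 C) : Set G), n * s7 C * n⁻¹ = x} =
      (fun k : ℕ => s7 C ^ k) '' ↑({1, 2, 4} : Finset ℕ) := by
    ext x
    constructor
    · rintro ⟨n, hn, rfl⟩
      obtain ⟨k, hk, e⟩ := norm_cases C hn
      exact ⟨k, hk, e.symm⟩
    · rintro ⟨k, hk, rfl⟩
      obtain ⟨n, -, e⟩ := exists_norm_pow C k hk
      exact ⟨n, mem_norm_of_pow C e, e⟩
  have hinj : Set.InjOn (fun k : ℕ => s7 C ^ k) ↑({1, 2, 4} : Finset ℕ) := by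
    refine (pow_injOn_Iio_orderOf (x := s7 C)).mono fun k hk => ?_
    rw [Set.mem_Iio, orderOf_s7]
    simp only [Finset.coe_insert, Finset.coe_singleton, Set.mem_insert_iff, Set.mem_singleton_iff] at hk
    omega
  rw [hset, Set.InjOn.ncard_image hinj, Set.ncard_coe_finset]
  rfl

theorem norm_s7_le : normalizer (zpowers (s7 C) : Set G) ≤ C.NZ := fun n hn => by
  obtain ⟨k, hk, e⟩ := norm_cases C hn
  obtain ⟨d, hd, e'⟩ := exists_norm_pow C k hk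
  have hc : d⁻¹ * n ∈ centralizer ({s7 C} : Set G) := mem_centralizer_singleton_iff.2 (by
    calc d⁻¹ * n * s7 C = d⁻¹ * (n * s7 C * n⁻¹) * n := by group
      _ = d⁻¹ * (d * s7 C * d⁻¹) * n := by rw [e, e']
      _ = _ := by group)
  rw [cent_s7] at hc
  rw [show n = d * (d⁻¹ * n) by group]
  exact mul_mem hd (Subgroup.mem_inf.1 hc).1

end Cfsg.Agent.J4Type.Pentad
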