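import Cfsg.Agent.Lib.J4Type.PentadStruct
import Cfsg.Agent.Lib.PGroup.Basic

/-!
Groups of Janko-four type, pentad local (helper8): `L` is special.

* `core_le` : the words of `L` staying in all conjugates of `V` lie in `Zc`;
* `center_iff`, `isSpecial_L`, `card_center_L` : `Z(L) = L' = Φ(L) = Zc`;
* `normalizer_L`, `quotient_equiv` : `N(L) = N(Zc)`, quotient `S₅ × L₃(2)`.
-/

set_option autoImplicit false
set_option linter.unusedSectionVars false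

open scoped Pointwise commutatorElement

namespace Cfsg.Agent.J4Type.Pentad

open Cfsg Cfsg.Agent.Golay MulAction Subgroup

variable {G : Type*} [Group G] [Finite G] {z : G} {P : Subgroup G} (C : PCtx z P)

theorem Zc_le_L : C.Z ≤ C.L := fun x hx => by
  have hV := Zc_le C.M hx
  refine (mem_L C).2 ⟨V_le_NZ C hV, Equiv.ext fun q => ?_, V_le_CZ C hV⟩
  obtain ⟨c, hc, rfl⟩ := pent_transitive C q
  have hcx : (⟨x, V_le_NZ C hV⟩ : ↥C.NZ) * c = c * ⟨x, V_le_NZ C hV⟩ :=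
    Subtype.ext (mem_centralizer_iff.1 hc x hx)
  rw [Equiv.Perm.one_apply, ← Equiv.Perm.mul_apply, ← map_mul, hcx, map_mul, Equiv.Perm.mul_apply,
    (pent_fix C).2 (V_le C.D hV)]

/-- Conjugation by an element of `L` on a word of `L`. -/
theorem conj_LV {l d : G} (hl : l ∈ C.L) (hd : d ∈ C.L ⊓ C.D.V) : l * d * l⁻¹ * d ∈ C.Z := by
  rw [show l * d * l⁻¹ = (⟨l, L_le_NV C hl⟩ : ↥(NV C.D)) * d * ((⟨l, L_le_NV C hl⟩ : ↥(NV C.D)) : G)⁻¹ from rfl,
    conj_eq_el C.D _ (Subgroup.mem_inf.1 hd).2]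
  exact LV_commutator C hd (prL_range_le C ⟨⟨l, hl⟩, rfl⟩)

/-- The words of `L` staying in every conjugate of `V`. -/
def core : Subgroup G where
  carrier := {d | ∀ c ∈ C.CZ, c * d * c⁻¹ ∈ C.L ⊓ C.D.V}
  one_mem' c _ := by rw [mul_one, mul_inv_cancel]; exact one_mem _
  mul_mem' {a b} ha hb c hc := by
    rw [show c * (a * b) * c⁻¹ = c * a * c⁻¹ * (c * b * c⁻¹) by group]
    exact mul_mem (ha c hc) (hb c hc)
  inv_mem' {a} ha c hc := by rw [← conj_inv]; exact inv_mem (ha c hc)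

theorem core_le_LV : core C ≤ C.L ⊓ C.D.V := fun d hd => by
  have h := hd 1 (one_mem _)
  rwa [one_mul, inv_one, mul_one] at h

theorem core_conj {c d : G} (hc : c ∈ C.CZ) (hd : d ∈ core C) : c * d * c⁻¹ ∈ core C := fun e he => by
  rw [show e * (c * d * c⁻¹) * e⁻¹ = (e * c) * d * (e * c)⁻¹ by group]
  exact hd _ (mul_mem he hc)

/-- An element of `C(Zc)` centralising the core, congruent to `e3`. -/
theorem exists_cent_core : ∃ w l : G, l ∈ C.L ∧ C.D.el e3 = w * l ∧ ∀ d ∈ core C, w * d * w⁻¹ = d := by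
  classical
  let W : Subgroup G := C.CZ ⊓ centralizer (core C : Set G)
  have hW : W ≤ C.NZ := inf_le_left.trans (CZ_le_NZ C)
  have hVW : C.D.V ≤ W := le_inf (V_le_CZ C) fun v hv => mem_centralizer_iff.2 fun d hd =>
    C.D.comm (Subgroup.mem_inf.1 (core_le_LV C hd)).2 hv
  have hn : (img5 C W).Normal := ⟨fun a ha b => by
    obtain ⟨⟨x, hx⟩, rfl⟩ := (mem_img5 C hW).1 ha
    obtain ⟨hxC, hxD⟩ := Subgroup.mem_inf.1 hx
    have hb : b ∈ img5 C C.CZ := by rw [img5_CZ_top C]; trivial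
    obtain ⟨⟨c, hc⟩, rfl⟩ := (mem_img5 C (CZ_le_NZ C)).1 hb
    refine (mem_img5 C hW).2 ⟨⟨c * x * c⁻¹, Subgroup.mem_inf.2 ⟨mul_mem (mul_mem hc hxC) (inv_mem hc),
      mem_centralizer_iff.2 fun d hd => ?_⟩⟩, ?_⟩
    · have h := mem_centralizer_iff.1 hxD _ (core_conj C (inv_mem hc) hd)
      rw [inv_inv] at h
      calc d * (c * x * c⁻¹) = c * (c⁻¹ * d * c * x) * c⁻¹ := by group
        _ = c * (x * (c⁻¹ * d * c)) * c⁻¹ := by rw [h]
        _ = _ := by group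
    · rw [← map_inv, ← map_mul, ← map_mul]
      rfl⟩
  have hle : alternatingGroup (Fin 5) ≤ img5 C W := by
    have h := (alternatingGroup.normal_subgroup_eq_bot_or_eq_top (α := Fin 5) (by simp)
      (N := (img5 C W).subgroupOf (alternatingGroup (Fin 5))))
    rcases h with h | h
    · exfalso
      have h4 := card_dvd_of_le (show img5 C C.D.V ≤ img5 C W from Subgroup.map_mono fun x hx => hVW hx)
      rw [(pentad_orders C).2.2.2.2] at h4
      let f : ↥(img5 C W) →* ℤˣ := Equiv.Perm.sign.comp (img5 C W).subtype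
      have hf : Function.Injective f := (injective_iff_map_eq_one f).2 fun a ha => by
        have hm : (⟨(a : Equiv.Perm (Fin 5)), Equiv.Perm.mem_alternatingGroup.2 ha⟩ : ↥(alternatingGroup (Fin 5))) ∈
            (img5 C W).subgroupOf (alternatingGroup (Fin 5)) := a.2
        rw [h, mem_bot] at hm
        exact Subtype.ext (congrArg (fun x : ↥(alternatingGroup (Fin 5)) => (x : Equiv.Perm (Fin 5))) hm)
      have hc := Nat.card_le_card_of_injective f hf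
      rw [Nat.card_eq_fintype_card (α := ℤˣ), Fintype.card_units_int] at hc
      have := Nat.le_of_dvd Nat.card_pos h4
      omega
    · exact subgroupOf_eq_top.1 h
  set g := pent C ⟨C.D.el e3, (el3_mem C).1⟩ with hg
  have hg3 : g ^ 3 = 1 := by
    rw [hg, ← map_pow]
    convert map_one (pent C) using 2
    refine Subtype.ext ?_
    show C.D.el e3 ^ 3 = 1
    rw [show 3 = orderOf (C.D.el e3) by rw [orderOf_el3], pow_orderOf_eq_one]
  have hgW : g ∈ img5 C W := hle (Equiv.Perm.mem_alternatingGroup.2 (by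
    have h := congrArg Equiv.Perm.sign hg3
    rw [map_pow, map_one] at h
    rcases Int.units_eq_one_or (Equiv.Perm.sign g) with e | e
    · exact e
    · rw [e] at h; exact absurd h (by decide)))
  obtain ⟨⟨w, hw⟩, e⟩ := (mem_img5 C hW).1 hgW
  obtain ⟨hwC, hwD⟩ := Subgroup.mem_inf.1 hw
  refine ⟨w, w⁻¹ * C.D.el e3, (mem_L C).2 ⟨mul_mem (inv_mem (hW hw)) (el3_mem C).1, ?_,
    mul_mem (inv_mem hwC) (el3_mem C).2.2⟩, (mul_inv_cancel_left w _).symm, fun d hd => ?_⟩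
  · rw [show (⟨w⁻¹ * C.D.el e3, mul_mem (inv_mem (hW hw)) (el3_mem C).1⟩ : ↥C.NZ) =
      ⟨w, hW hw⟩⁻¹ * ⟨C.D.el e3, (el3_mem C).1⟩ from rfl, map_mul, map_inv, e, ← hg, inv_mul_cancel]
  · rw [← mem_centralizer_iff.1 hwD d hd, mul_inv_cancel_right]

/-- The core is in `Zc`. -/
theorem core_le : core C ≤ C.Z := by
  classical
  intro d hd
  obtain ⟨w, l, hl, hwl, hw⟩ := exists_cent_core C
  have hdLV := core_le_LV C hd
  have hdV := (Subgroup.mem_inf.1 hdLV).2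
  set t := C.D.el e3 with ht
  set ζ := l * d * l⁻¹ * d with hζdef
  have hζZ : ζ ∈ C.Z := conj_LV C hl hdLV
  have htC := (el3_mem C).2.2
  have hfix : ∀ u ∈ C.Z, t * u * t⁻¹ = u := fun u hu =>
    mul_inv_eq_iff_eq_mul.2 (mem_centralizer_iff.1 htC u hu).symm
  have hwC : w ∈ C.CZ := by
    rw [show w = t * l⁻¹ by rw [hwl, mul_inv_cancel_right]]
    exact mul_mem htC (inv_mem (L_le_CZ C hl))
  have htd : t * d * t⁻¹ = ζ * d := by
    calc t * d * t⁻¹ = w * (l * d * l⁻¹ * (d * d)) * w⁻¹ := by rw [hwl, C.D.sq_one hdV]; group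
      _ = w * ζ * w⁻¹ * (w * d * w⁻¹) := by rw [hζdef]; group
      _ = ζ * d := by rw [hw d hd, mul_inv_eq_iff_eq_mul.2 (mem_centralizer_iff.1 hwC ζ hζZ).symm]
  let f : ↥Rk → G := fun σ => C.D.el σ.1 * d * (C.D.el σ.1)⁻¹ * d
  have hfZ : ∀ σ, f σ ∈ C.Z := fun σ => LV_commutator C hdLV σ.2
  have hf : ∀ σ : ↥Rk, C.D.el σ.1 * d * (C.D.el σ.1)⁻¹ = f σ * d := fun σ => by
    show _ = C.D.el σ.1 * d * (C.D.el σ.1)⁻¹ * d * d
    rw [mul_assoc _ d d, C.D.sq_one hdV, mul_one]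
  have hRZ : ∀ (σ : ↥Rk) (u : G), u ∈ C.Z → C.D.el σ.1 * u * (C.D.el σ.1)⁻¹ = u := fun σ u hu =>
    fixed_of_mem C.M σ.2 hu
  have hconj : ∀ σ : ↥Rk, e3 * σ.1 * e3⁻¹ ∈ Rk := fun σ => Rk_normal e3_mem σ.2
  let φ : ↥Rk → ↥Rk := fun σ => ⟨e3 * σ.1 * e3⁻¹ * σ.1, mul_mem (hconj σ) σ.2⟩
  have hφ : Function.Surjective φ := Finite.injective_iff_surjective.1 fun σ τ e => by
    have e' : e3 * σ.1 * e3⁻¹ * σ.1 = e3 * τ.1 * e3⁻¹ * τ.1 := congrArg Subtype.val e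
    have hsq : ∀ x : ↥Rk, x.1⁻¹ = x.1 := fun x => inv_eq_of_mul_eq_one_right (Rk_sq x.2)
    have hcm : ∀ {x y : ↥M24}, x ∈ Rk → y ∈ Rk → x * y = y * x := fun {x y} hx hy => by
      have h := Rk_sq (mul_mem hx hy)
      calc x * y = (x * y)⁻¹ := (inv_eq_of_mul_eq_one_right h).symm
        _ = y⁻¹ * x⁻¹ := mul_inv_rev x y
        _ = y * x := by rw [inv_eq_of_mul_eq_one_right (Rk_sq hx), inv_eq_of_mul_eq_one_right (Rk_sq hy)]
    have hc : e3 * (σ.1 * τ.1) * e3⁻¹ = σ.1 * τ.1 := by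
      calc e3 * (σ.1 * τ.1) * e3⁻¹ = e3 * σ.1 * e3⁻¹ * σ.1 * σ.1⁻¹ * (e3 * τ.1 * e3⁻¹) := by group
        _ = e3 * τ.1 * e3⁻¹ * (τ.1 * σ.1) * (e3 * τ.1 * e3⁻¹) := by rw [e', hsq]; group
        _ = e3 * τ.1 * e3⁻¹ * (e3 * τ.1 * e3⁻¹) * (τ.1 * σ.1) := by
          rw [mul_assoc, hcm (mul_mem τ.2 σ.2) (hconj τ), ← mul_assoc]
        _ = σ.1 * τ.1 := by rw [Rk_sq (hconj τ), one_mul, hcm τ.2 σ.2]
    have h1 := e3_free (mul_mem σ.2 τ.2) (mul_inv_eq_iff_eq_mul.1 hc).symm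
    exact Subtype.ext (by rw [mul_eq_one_iff_eq_inv.1 h1, hsq])
  refine mem_Zc_of_fixed C.M hdV fun σ hσ => ?_
  obtain ⟨τ, hτ⟩ := hφ ⟨σ, hσ⟩
  have hσ' : σ = e3 * τ.1 * e3⁻¹ * τ.1 := (congrArg Subtype.val hτ).symm
  have h1 : t⁻¹ * d * t = ζ * d := by
    have hζ2 : ζ * ζ = 1 := C.D.sq_one (Zc_le C.M hζZ)
    calc t⁻¹ * d * t = t⁻¹ * (ζ * ζ * d) * t := by rw [hζ2, one_mul]
      _ = t⁻¹ * (t * ζ * t⁻¹) * (t * d * t⁻¹) * t := by rw [hfix ζ hζZ, htd]; group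
      _ = _ := by group
  have hfτ : f τ * f τ = 1 := C.D.sq_one (Zc_le C.M (hfZ τ))
  have hu : f τ * ζ ∈ C.Z := mul_mem (hfZ τ) hζZ
  rw [hσ']
  calc C.D.el (e3 * τ.1 * e3⁻¹ * τ.1) * d * (C.D.el (e3 * τ.1 * e3⁻¹ * τ.1))⁻¹
      = t * (C.D.el τ.1 * (t⁻¹ * (C.D.el τ.1 * d * (C.D.el τ.1)⁻¹) * t) * (C.D.el τ.1)⁻¹) * t⁻¹ := by
        simp only [C.D.el_mul, C.D.el_inv, ht]; group
    _ = t * (C.D.el τ.1 * (t⁻¹ * (f τ) * t * (t⁻¹ * d * t)) * (C.D.el τ.1)⁻¹) * t⁻¹ := by rw [hf τ]; group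
    _ = t * (C.D.el τ.1 * (f τ * ζ * d) * (C.D.el τ.1)⁻¹) * t⁻¹ := by
        rw [h1, show t⁻¹ * f τ * t = f τ by
          calc t⁻¹ * f τ * t = t⁻¹ * (t * f τ * t⁻¹) * t := by rw [hfix _ (hfZ τ)]
            _ = f τ := by group]
        simp only [mul_assoc]
    _ = t * (C.D.el τ.1 * (f τ * ζ) * (C.D.el τ.1)⁻¹ * (C.D.el τ.1 * d * (C.D.el τ.1)⁻¹)) * t⁻¹ := by group
    _ = t * (f τ * ζ * (f τ * d)) * t⁻¹ := by rw [hRZ τ _ hu, hf τ]
    _ = t * (ζ * d) * t⁻¹ := by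
        rw [C.D.comm (Zc_le C.M (hfZ τ)) (Zc_le C.M hζZ), mul_assoc ζ, ← mul_assoc (f τ), hfτ, one_mul]
    _ = t * ζ * t⁻¹ * (t * d * t⁻¹) := by group
    _ = d := by rw [hfix ζ hζZ, htd, ← mul_assoc, C.D.sq_one (Zc_le C.M hζZ), one_mul]

/-- Squares and commutators of `L` are in `Zc`. -/
theorem sq_comm_L {a b : G} (ha : a ∈ C.L) (hb : b ∈ C.L) : a * a ∈ C.Z ∧ ⁅a, b⁆ ∈ C.Z := by
  have key : ∀ a b : G, a ∈ C.L → b ∈ C.L → a * a ∈ C.L ⊓ C.D.V ∧ ⁅a, b⁆ ∈ C.L ⊓ C.D.V := by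
    intro a b ha hb
    have hA : prL C ⟨a, ha⟩ ∈ Rk := prL_range_le C ⟨_, rfl⟩
    have hB : prL C ⟨b, hb⟩ ∈ Rk := prL_range_le C ⟨_, rfl⟩
    have h1 : a * a ∈ C.L := mul_mem ha ha
    have h2 : ⁅a, b⁆ ∈ C.L := by
      rw [commutatorElement_def]
      exact mul_mem (mul_mem (mul_mem ha hb) (inv_mem ha)) (inv_mem hb)
    refine ⟨Subgroup.mem_inf.2 ⟨h1, ?_⟩, Subgroup.mem_inf.2 ⟨h2, ?_⟩⟩
    · refine (pr_eq_one C.D (n := ⟨a * a, L_le_NV C h1⟩)).1 ?_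
      show prL C (⟨a, ha⟩ * ⟨a, ha⟩) = 1
      rw [map_mul, Rk_sq hA]
    · refine (pr_eq_one C.D (n := ⟨⁅a, b⁆, L_le_NV C h2⟩)).1 ?_
      show prL C ⁅(⟨a, ha⟩ : ↥C.L), ⟨b, hb⟩⁆ = 1
      have h := Rk_sq (mul_mem hA hB)
      rw [map_commutatorElement, commutatorElement_def, inv_eq_of_mul_eq_one_right (Rk_sq hA),
        inv_eq_of_mul_eq_one_right (Rk_sq hB), mul_assoc]
      exact h
  refine ⟨core_le C fun c hc => ?_, core_le C fun c hc => ?_⟩
  · rw [show c * (a * a) * c⁻¹ = c * a * c⁻¹ * (c * a * c⁻¹) by group]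
    exact (key _ _ (L_conj C (CZ_le_NZ C hc) ha) (L_conj C (CZ_le_NZ C hc) hb)).1
  · rw [show c * ⁅a, b⁆ * c⁻¹ = ⁅c * a * c⁻¹, c * b * c⁻¹⁆ by simp only [commutatorElement_def]; group]
    exact (key _ _ (L_conj C (CZ_le_NZ C hc) ha) (L_conj C (CZ_le_NZ C hc) hb)).2

/-- The centre of `L`. -/
theorem center_iff {x : ↥C.L} : x ∈ center ↥C.L ↔ (x : G) ∈ C.Z := by
  constructor
  · intro hx
    have hc : ∀ u ∈ C.L, (x : G) * u * (x : G)⁻¹ = u := fun u hu =>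
      mul_inv_eq_iff_eq_mul.2 (congrArg Subtype.val (mem_center_iff.1 hx ⟨u, hu⟩)).symm
    set n : ↥(NV C.D) := ⟨(x : G), L_le_NV C x.2⟩
    have hσ : pr C.D n = 1 := eq_one_of_fix_wel C.M fun w hw => by
      obtain ⟨hL, hV⟩ := Subgroup.mem_inf.1 (wel_mem_L C hw)
      rw [← conj_eq_el C.D n hV]
      exact hc _ hL
    refine mem_Zc_of_fixed C.M ((pr_eq_one C.D).1 hσ) fun σ hσ' => ?_
    obtain ⟨l, -, v, hv, hl⟩ := exists_lift_Rk C hσ'
    have hxV : (x : G) ∈ C.D.V := (pr_eq_one C.D).1 hσ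
    have h : (l : G) * x * (l : G)⁻¹ = x :=
      mul_inv_eq_iff_eq_mul.2 (congrArg Subtype.val (mem_center_iff.1 hx l))
    rwa [hl, show v * C.D.el σ * x * (v * C.D.el σ)⁻¹ = v * (C.D.el σ * x * (C.D.el σ)⁻¹) * v⁻¹ by group,
      C.D.comm hv (C.D.conj_mem (C.D.el_norm σ) hxV), mul_inv_cancel_right] at h
  · intro hx
    exact mem_center_iff.2 fun l => Subtype.ext (mem_centralizer_iff.1 (L_le_CZ C l.2) x hx).symm

theorem card_center_L : Nat.card ↥(center ↥C.L) = 8 := by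
  rw [← card_Zc C.M]
  exact Nat.card_congr
    { toFun := fun x => ⟨x.1.1, (center_iff C).1 x.2⟩
      invFun := fun x => ⟨⟨x.1, Zc_le_L C x.2⟩, (center_iff C).2 x.2⟩
      left_inv := fun _ => rfl
      right_inv := fun _ => rfl }

theorem commutator_L : commutator ↥C.L = center ↥C.L := by
  classical
  have hle : commutator ↥C.L ≤ center ↥C.L := by
    rw [commutator_def, commutator_le]
    intro a _ b _
    exact (center_iff C).2 (sq_comm_L C a.2 b.2).2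
  refine le_antisymm hle fun x hx => ?_
  obtain ⟨a, b, hab⟩ : ∃ a b : ↥C.L, ⁅a, b⁆ ≠ 1 := by
    by_contra h
    push Not at h
    have htop : center ↥C.L = ⊤ := eq_top_iff.2 fun a _ => mem_center_iff.2 fun b => commutatorElement_eq_one_iff_mul_comm.1 (h b a)
    have h8 := card_center_L C
    rw [htop, card_top, card_L C] at h8
    norm_num at h8
  rcases (mem_Zc C.M).1 ((center_iff C).1 hx) with h | ⟨j, hj⟩
  · rw [show x = 1 from Subtype.ext h]; exact one_mem _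
  rcases (mem_Zc C.M).1 (sq_comm_L C a.2 b.2).2 with h | ⟨i, hi⟩
  · exact absurd (Subtype.ext h) hab
  obtain ⟨g, hg⟩ := labPerm_transitive i
  obtain ⟨g', hg'⟩ := labPerm_transitive j
  set k : ↥H0 := g' * g⁻¹
  have hk : labPerm k i = j := by
    rw [map_mul, Equiv.Perm.mul_apply, ← hg, ← Equiv.Perm.mul_apply (labPerm g⁻¹), ← map_mul, inv_mul_cancel,
      map_one, Equiv.Perm.one_apply, hg']
  set n := C.D.el k.1.1 with hndef
  have hn : n ∈ C.NZ := (Subgroup.mem_inf.1 (el_mem C k)).1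
  have e : x = ⁅(⟨n * a * n⁻¹, L_conj C hn a.2⟩ : ↥C.L), ⟨n * b * n⁻¹, L_conj C hn b.2⟩⁆ := Subtype.ext (by
    show (x : G) = ⁅n * (a : G) * n⁻¹, n * (b : G) * n⁻¹⁆
    rw [show ⁅n * (a : G) * n⁻¹, n * (b : G) * n⁻¹⁆ = n * ⁅(a : G), (b : G)⁆ * n⁻¹ by
      simp only [commutatorElement_def]; group, ← hi, hndef, zel_conj C.M k i, hk, hj])
  rw [e]
  exact commutator_mem_commutator (mem_top _) (mem_top _)

theorem isSpecial_L : IsSpecial 2 ↥C.L := by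
  refine ⟨isPGroup_L C, le_antisymm ?_ ?_, commutator_L C⟩
  · refine PGroup.frattini_le_of_quotient_elementary (p := 2) (commutator_L C).le fun x => ?_
    rw [pow_two]
    exact (center_iff C).2 (sq_comm_L C x.2 x.2).1
  · rw [← commutator_L C]
    have : Fact (Nat.Prime 2) := ⟨Nat.prime_two⟩
    exact PGroup.commutator_le_frattini (isPGroup_L C)

theorem normalizer_L : normalizer (C.L : Set G) = C.NZ := by
  refine le_antisymm (fun n hn => ?_) fun n hn => mem_normalizer_fintype fun x hx => L_conj C hn hx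
  refine mem_normalizer_fintype fun x hx => ?_
  have hn' : ∀ {n}, n ∈ normalizer (C.L : Set G) → ∀ u ∈ C.L, n * u * n⁻¹ ∈ C.L := fun h u hu =>
    (mem_normalizer_iff.1 h u).1 hu
  refine (center_iff C (x := ⟨n * x * n⁻¹, hn' hn x (Zc_le_L C hx)⟩)).1 (mem_center_iff.2 fun l => Subtype.ext ?_)
  have h := hn' (inv_mem hn) l l.2
  rw [inv_inv] at h
  have e : x * (n⁻¹ * l * n) = n⁻¹ * l * n * x := mem_centralizer_iff.1 (L_le_CZ C h) x hx
  show (l : G) * (n * x * n⁻¹) = n * x * n⁻¹ * l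
  calc (l : G) * (n * x * n⁻¹) = n * (n⁻¹ * l * n * x) * n⁻¹ := by group
    _ = n * (x * (n⁻¹ * l * n)) * n⁻¹ := by rw [e]
    _ = _ := by group

/-- `GL₃(2) = SL₃(2)`. -/
noncomputable def glEquiv : GL (Fin 3) (ZMod 2) ≃* Matrix.SpecialLinearGroup (Fin 3) (ZMod 2) := by
  let f : Matrix.SpecialLinearGroup (Fin 3) (ZMod 2) →* GL (Fin 3) (ZMod 2) := Matrix.SpecialLinearGroup.toGL
  refine (MulEquiv.ofBijective f ⟨fun A B h => ?_, fun A => ?_⟩).symm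
  · exact Subtype.ext (congrArg Units.val h)
  · have hu : IsUnit (A.1.det) := (Matrix.isUnit_iff_isUnit_det _).1 A.isUnit
    have key : ∀ x : ZMod 2, x = 0 ∨ x = 1 := by decide
    rcases key A.1.det with h | h
    · exact absurd h hu.ne_zero
    · exact ⟨⟨A.1, h⟩, Units.ext rfl⟩

/-- The quotient of `N(L)` by `L`. -/
theorem quotient_equiv : Nonempty (↥(normalizer (C.L : Set G)) ⧸ C.L.subgroupOf (normalizer (C.L : Set G)) ≃*
    Equiv.Perm (Fin 5) × Matrix.SpecialLinearGroup (Fin 3) (ZMod 2)) := by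
  let e : ↥(normalizer (C.L : Set G)) ≃* ↥C.NZ := MulEquiv.subgroupCongr (normalizer_L C)
  let f : ↥(normalizer (C.L : Set G)) →* Equiv.Perm (Fin 5) × GL (Fin 3) (ZMod 2) := (Psi C).comp e.toMonoidHom
  have hf : Function.Surjective f := (Psi_surjective C).comp e.surjective
  have hk : f.ker = C.L.subgroupOf (normalizer (C.L : Set G)) := by
    ext n
    rw [mem_subgroupOf]
    constructor
    · intro h
      exact ⟨e n, MonoidHom.mem_ker.2 (MonoidHom.mem_ker.1 h), rfl⟩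
    · rintro ⟨m, hm, hmn⟩
      refine MonoidHom.mem_ker.2 ?_
      show Psi C (e n) = 1
      rw [show e n = m from Subtype.ext hmn.symm]
      exact MonoidHom.mem_ker.1 hm
  exact ⟨(QuotientGroup.quotientMulEquivOfEq hk.symm).trans ((QuotientGroup.quotientKerEquivOfSurjective f hf).trans
    (MulEquiv.prodCongr (MulEquiv.refl _) glEquiv))⟩

end Cfsg.Agent.J4Type.Pentad
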