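import Cfsg.Agent.Lib.J4Type.PentadOrder

/-!
Groups of Janko-four type, pentad local (helper8): the kernel `L` and the quotient `S₅ × GL₃(2)`.

* `pent` : `N(Zc)` on the five cosets of its part in `N(V)`; `Psi = pent × rho`, `PCtx.L` its kernel;
* `no_three_L`, `V_moves` : `L` has no element of order 3 and `V` is not in it;
* `card_L`, `Psi_surjective`, `card_LV`, `exists_lift_Rk` : `|L| = 2^15`, `|L ∩ V| = 2^9`, `L` maps onto `R`;
* `LV_eq`, `LV_commutator`, `duad_not_mem` : the words in `L`.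
-/

set_option autoImplicit false
set_option linter.unusedSectionVars false

open scoped Pointwise

namespace Cfsg.Agent.J4Type.Pentad

open Cfsg Cfsg.Agent.Golay MulAction Subgroup

theorem no_comm_perm_five : ∀ (t : Equiv.Perm (Fin 5)) (p : Fin 5), t p = p → t * t = 1 → t ≠ 1 →
    ∀ g : Equiv.Perm (Fin 5), g p = p → g * g * g = 1 → g ≠ 1 → g * t ≠ t * g := by decide +kernel

theorem no_comm_perm_three : ∀ t : Equiv.Perm (Fin 3), t * t = 1 → t ≠ 1 → ∀ g : Equiv.Perm (Fin 3),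
    (∀ i, g i ≠ i) → g * t ≠ t * g := by decide +kernel

/-- Nine independent classes of witness pairs. -/
def wbasis : List ℕ := [2282, 318, 2710, 1811, 3185, 3157, 3873, 3350, 2424]

theorem wbasis_ok : (wbasis.all fun c => witnesses.any fun w => dcls w.1 w.2.1 == c) = true ∧
    distinctBits 12 ((List.range 512).map fun x => encAux wbasis x) = true ∧
    allSpan (fun h => evenB h && Nat.blt h 4096 && h != 2919 && h != 2916 && h != 3) wbasis 0 = true := by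
  decide +kernel

/-- An element of odd order normalising a group of order 3 centralises it. -/
theorem commute_of_odd {H : Type*} [Group H] {q r : H} (hr : orderOf r = 3)
    (hn : q ∈ normalizer (zpowers r : Set H)) {m : ℕ} (hm : Odd m) (hq : q ^ m = 1) : q * r = r * q := by
  rcases conj_gen_cases hr hn with h | h
  · exact mul_inv_eq_iff_eq_mul.1 h
  · exfalso
    have hodd : ∀ n : ℕ, MulAut.conj (q ^ (2 * n + 1)) r = r⁻¹ := by
      intro n
      induction n with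
      | zero => rw [show 2 * 0 + 1 = 1 from rfl, pow_one, MulAut.conj_apply]; exact h
      | succ n ih =>
        rw [show 2 * (n + 1) + 1 = 1 + 1 + (2 * n + 1) by omega, pow_add, map_mul, MulAut.mul_apply, ih, pow_add,
          pow_one, map_mul, MulAut.mul_apply, MulAut.conj_apply, MulAut.conj_apply,
          show q * r⁻¹ * q⁻¹ = r by rw [← conj_inv, h, inv_inv], h]
    obtain ⟨n, rfl⟩ := hm
    have := hodd n
    rw [hq, map_one, MulAut.one_apply] at this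
    have h2 : r ^ 2 = 1 := by
      rw [pow_two]
      exact mul_eq_one_iff_eq_inv.2 this
    have := orderOf_dvd_of_pow_eq_one h2
    rw [hr] at this
    norm_num at this

variable {G : Type*} [Group G] [Finite G] {z : G} {P : Subgroup G} (C : PCtx z P)

/-- `N(V) ∩ N(Zc)` inside `N(Zc)`. -/
abbrev PCtx.Y5 : Subgroup ↥C.NZ := (NV C.D).subgroupOf C.NZ

theorem card_cosets : Nat.card (↥C.NZ ⧸ C.Y5) = 5 := by
  rw [← index_eq_card]
  have h := C.Y5.card_mul_index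
  have e : Nat.card ↥C.Y5 = 2 ^ 11 * 64512 := by
    rw [show C.Y5 = (C.NZ ⊓ NV C.D).subgroupOf C.NZ from (inf_subgroupOf_left _ _).symm,
      Nat.card_congr (subgroupOfEquivOfLe (inf_le_left : C.NZ ⊓ NV C.D ≤ C.NZ)).toEquiv]
    exact card_NZ_NV C.M
  rw [e, card_NZ C] at h
  omega

/-- The five cosets, numbered. -/
noncomputable def cosetEquiv : (↥C.NZ ⧸ C.Y5) ≃ Fin 5 := Finite.equivFinOfCardEq (card_cosets C)

/-- The number of the trivial coset. -/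
noncomputable def p0 : Fin 5 := cosetEquiv C ((1 : ↥C.NZ) : ↥C.NZ ⧸ C.Y5)

/-- The action on the five cosets. -/
noncomputable def pent : ↥C.NZ →* Equiv.Perm (Fin 5) :=
  (cosetEquiv C).permCongrHom.toMonoidHom.comp (MulAction.toPermHom ↥C.NZ (↥C.NZ ⧸ C.Y5))

theorem pent_apply (n : ↥C.NZ) (q : ↥C.NZ ⧸ C.Y5) : pent C n (cosetEquiv C q) = cosetEquiv C (n • q) := by
  show (cosetEquiv C) (n • (cosetEquiv C).symm (cosetEquiv C q)) = _
  rw [Equiv.symm_apply_apply]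

theorem pent_fix {n : ↥C.NZ} : pent C n (p0 C) = p0 C ↔ (n : G) ∈ NV C.D := by
  rw [p0, pent_apply, (cosetEquiv C).injective.eq_iff, MulAction.Quotient.smul_coe, smul_eq_mul, mul_one,
    QuotientGroup.eq, mul_one, inv_mem_iff, mem_subgroupOf]

theorem exists_CZ_mul (n : ↥C.NZ) : ∃ c : ↥C.NZ, (c : G) ∈ C.CZ ∧ ∃ y ∈ C.Y5, n = c * y := by
  obtain ⟨g, hg⟩ := exists_rep C n.2
  refine ⟨n * ⟨C.D.el g.1.1, (Subgroup.mem_inf.1 (el_mem C g)).1⟩⁻¹, ?_, _,
    mem_subgroupOf.2 (Subgroup.mem_inf.1 (el_mem C g)).2, (inv_mul_cancel_right n _).symm⟩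
  rw [← rho_eq_one, map_mul, map_inv, rho_el, rho_eq C hg, mul_inv_cancel]

/-- `C(Zc)` is transitive on the five cosets. -/
theorem pent_transitive (q : Fin 5) : ∃ c : ↥C.NZ, (c : G) ∈ C.CZ ∧ pent C c (p0 C) = q := by
  obtain ⟨n, hn⟩ := Quotient.exists_rep ((cosetEquiv C).symm q)
  obtain ⟨c, hc, y, hy, rfl⟩ := exists_CZ_mul C n
  refine ⟨c, hc, ?_⟩
  rw [p0, pent_apply, ← Equiv.eq_symm_apply, ← hn]
  exact QuotientGroup.eq.2 (by simpa using hy)

/-- The action on the cosets and on `Zc`. -/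
noncomputable def Psi : ↥C.NZ →* Equiv.Perm (Fin 5) × GL (Fin 3) (ZMod 2) := (pent C).prod (rho C)

/-- The pentad subgroup. -/
noncomputable def PCtx.L : Subgroup G := (Psi C).ker.map C.NZ.subtype

theorem mem_L {x : G} : x ∈ C.L ↔ ∃ h : x ∈ C.NZ, pent C ⟨x, h⟩ = 1 ∧ x ∈ C.CZ := by
  constructor
  · rintro ⟨n, hn, rfl⟩
    obtain ⟨h1, h2⟩ := Prod.ext_iff.1 (MonoidHom.mem_ker.1 hn)
    exact ⟨n.2, h1, (rho_eq_one C).1 h2⟩
  · rintro ⟨h, h1, h2⟩
    exact ⟨⟨x, h⟩, MonoidHom.mem_ker.2 (Prod.ext h1 ((rho_eq_one C (n := ⟨x, h⟩)).2 h2)), rfl⟩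

theorem L_le_NZ : C.L ≤ C.NZ := map_subtype_le _

theorem L_le_CZ : C.L ≤ C.CZ := fun _ h => ((mem_L C).1 h).2.2

theorem L_le_NV : C.L ≤ NV C.D := fun x h => by
  obtain ⟨hx, h1, -⟩ := (mem_L C).1 h
  exact (pent_fix C (n := ⟨x, hx⟩)).1 (by rw [h1]; rfl)

theorem L_conj {n x : G} (hn : n ∈ C.NZ) (hx : x ∈ C.L) : n * x * n⁻¹ ∈ C.L := by
  obtain ⟨h, h1, h2⟩ := (mem_L C).1 hx
  have e : (⟨n * x * n⁻¹, mul_mem (mul_mem hn h) (inv_mem hn)⟩ : ↥C.NZ) = ⟨n, hn⟩ * ⟨x, h⟩ * ⟨n, hn⟩⁻¹ := rfl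
  refine (mem_L C).2 ⟨mul_mem (mul_mem hn h) (inv_mem hn), ?_, ?_⟩
  · rw [e, map_mul, map_mul, map_inv, h1, mul_one, mul_inv_cancel]
  · exact (rho_eq_one C (n := ⟨n * x * n⁻¹, mul_mem (mul_mem hn h) (inv_mem hn)⟩)).1
      (by rw [e, map_mul, map_mul, map_inv, (rho_eq_one C (n := ⟨x, h⟩)).2 h2, mul_one, mul_inv_cancel])

/-- The image of a subgroup on the cosets. -/
noncomputable def img5 (H : Subgroup G) : Subgroup (Equiv.Perm (Fin 5)) := (H.subgroupOf C.NZ).map (pent C)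

theorem mem_img5 {H : Subgroup G} (hH : H ≤ C.NZ) {a : Equiv.Perm (Fin 5)} :
    a ∈ img5 C H ↔ ∃ h : ↥H, pent C ⟨h, hH h.2⟩ = a :=
  ⟨fun ⟨n, hn, e⟩ => ⟨⟨n, mem_subgroupOf.1 hn⟩, e⟩, fun ⟨h, e⟩ => ⟨_, mem_subgroupOf.2 h.2, e⟩⟩

theorem card_img5 {H : Subgroup G} (hH : H ≤ C.CZ) :
    Nat.card ↥H = Nat.card ↥(H ⊓ C.L) * Nat.card ↥(img5 C H) := by
  have hHN : H ≤ C.NZ := hH.trans (CZ_le_NZ C)
  let f : ↥H →* Equiv.Perm (Fin 5) := (pent C).comp (Subgroup.inclusion hHN)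
  have hr : f.range = img5 C H := by
    ext a
    rw [mem_img5 C hHN]
    exact Iff.rfl
  have hk : Nat.card ↥f.ker = Nat.card ↥(H ⊓ C.L) :=
    Nat.card_congr
      { toFun := fun h => ⟨h.1.1, Subgroup.mem_inf.2 ⟨h.1.2, (mem_L C).2 ⟨_, MonoidHom.mem_ker.1 h.2, hH h.1.2⟩⟩⟩
        invFun := fun h => ⟨⟨h.1, (Subgroup.mem_inf.1 h.2).1⟩, MonoidHom.mem_ker.2 (by
          obtain ⟨_, h1, -⟩ := (mem_L C).1 (Subgroup.mem_inf.1 h.2).2
          exact h1)⟩
        left_inv := fun _ => rfl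
        right_inv := fun _ => rfl }
  rw [← f.ker.card_mul_index, Subgroup.index_ker, hk, hr]

theorem card_CZ_L : 2 ^ 18 * 15 = Nat.card ↥C.L * Nat.card ↥(img5 C C.CZ) := by
  rw [← card_CZ C, card_img5 C le_rfl, inf_eq_right.2 (L_le_CZ C)]

theorem five_dvd_img : 5 ∣ Nat.card ↥(img5 C C.CZ) := by
  have h := (stabilizer ↥(img5 C C.CZ) (p0 C)).index_mul_card
  have horb : MulAction.orbit ↥(img5 C C.CZ) (p0 C) = Set.univ := by
    refine Set.eq_univ_of_forall fun q => ?_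
    obtain ⟨c, hc, e⟩ := pent_transitive C q
    exact ⟨⟨pent C c, ⟨c, mem_subgroupOf.2 hc, rfl⟩⟩, e⟩
  rw [index_stabilizer, horb, Set.ncard_univ, Nat.card_fin] at h
  exact ⟨_, h.symm⟩

theorem not_five_dvd_L : ¬ 5 ∣ Nat.card ↥C.L := by
  intro h
  have h25 : 5 * 5 ∣ 2 ^ 18 * 15 := card_CZ_L C ▸ Nat.mul_dvd_mul h (five_dvd_img C)
  norm_num at h25

/-- `L` has no element of order 3. -/
theorem no_three_L : ¬ 3 ∣ Nat.card ↥C.L := by
  intro hd
  classical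
  have : Fact (Nat.Prime 3) := ⟨Nat.prime_three⟩
  have : Fact (Nat.Prime 5) := ⟨by norm_num⟩
  let K : Subgroup ↥C.CZ := C.L.subgroupOf C.CZ
  have hKn : K.Normal := ⟨fun x hx c => mem_subgroupOf.2 (L_conj C (CZ_le_NZ C c.2) (mem_subgroupOf.1 hx))⟩
  have hKc : Nat.card ↥K = Nat.card ↥C.L := Nat.card_congr (subgroupOfEquivOfLe (L_le_CZ C)).toEquiv
  obtain ⟨R⟩ : Nonempty (Sylow 3 ↥K) := inferInstance
  have hR3 : Nat.card ↥(R : Subgroup ↥K) = 3 := by
    obtain ⟨k, hk⟩ := R.isPGroup'.exists_card_eq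
    have h1 : 3 ∣ Nat.card ↥(R : Subgroup ↥K) := R.dvd_card_of_dvd_card (hKc ▸ hd)
    have h2 : Nat.card ↥(R : Subgroup ↥K) ∣ 2 ^ 18 * 15 := by
      refine (card_subgroup_dvd_card (R : Subgroup ↥K)).trans ?_
      rw [hKc, card_CZ_L C]
      exact dvd_mul_right _ _
    rw [hk] at h1 h2 ⊢
    rcases k with _ | _ | k
    · norm_num at h1
    · norm_num
    · exfalso
      have h9 : 3 ^ 2 ∣ 2 ^ 18 * 15 := (pow_dvd_pow 3 (Nat.le_add_left 2 k)).trans h2
      norm_num at h9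
  have htop := Sylow.normalizer_sup_eq_top R
  set N := normalizer (((R : Subgroup ↥K).map K.subtype : Subgroup ↥C.CZ) : Set ↥C.CZ) with hN
  have h5 : 5 ∣ Nat.card ↥N := by
    have hs : Function.Surjective ((QuotientGroup.mk' K).comp N.subtype) := by
      intro x
      obtain ⟨c, rfl⟩ := QuotientGroup.mk'_surjective K x
      have hc : c ∈ N ⊔ K := by rw [htop]; trivial
      obtain ⟨a, ha, b, hb, rfl⟩ := Subgroup.mem_sup_of_normal_right.1 hc
      exact ⟨⟨a, ha⟩, by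
        rw [map_mul, (QuotientGroup.eq_one_iff b).2 hb |> fun e => (show QuotientGroup.mk' K b = 1 from e), mul_one]
        rfl⟩
    refine dvd_trans ?_ (card_dvd_of_surjective _ hs)
    have h := K.card_mul_index
    rw [hKc, index_eq_card, card_CZ C] at h
    exact ((Nat.Prime.dvd_mul (by norm_num : Nat.Prime 5)).1 (h.symm ▸ (show 5 ∣ 2 ^ 18 * 15 by norm_num))).resolve_left
      (not_five_dvd_L C)
  obtain ⟨q, hq⟩ := exists_prime_orderOf_dvd_card' 5 h5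
  obtain ⟨r, hr⟩ := exists_prime_orderOf_dvd_card' (G := ↥(R : Subgroup ↥K)) 3 (by rw [hR3])
  rw [← Subgroup.orderOf_coe] at hq
  rw [← Subgroup.orderOf_coe, ← Subgroup.orderOf_coe] at hr
  set r' : ↥C.CZ := ((r : ↥K) : ↥C.CZ)
  have hzp : zpowers r' = (R : Subgroup ↥K).map K.subtype :=
    eq_of_le_of_card_ge (zpowers_le.2 ⟨_, r.2, rfl⟩)
      (by rw [card_map_of_injective (subtype_injective _), hR3, Nat.card_zpowers, hr])
  have hcomm : (q : ↥C.CZ) * r' = r' * q := by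
    refine commute_of_odd hr ?_ (show Odd 5 by decide) (hq ▸ pow_orderOf_eq_one _)
    rw [hzp]
    exact q.2
  have hqr : ((q : ↥C.CZ) : G) * r' = r' * ((q : ↥C.CZ) : G) := congrArg Subtype.val hcomm
  rw [← Subgroup.orderOf_coe] at hr hq
  obtain ⟨g, hg⟩ := isConj_iff.1 (C.three _ _ hr C.S.gen_ord)
  have hKz : ∀ y : G, y * r' = r' * y → g * y * g⁻¹ ∈ Kz z P := by
    intro y hy
    have h1 : g * y * g⁻¹ * C.S.gen = C.S.gen * (g * y * g⁻¹) := by
      rw [← hg, show g * y * g⁻¹ * (g * (r' : G) * g⁻¹) = g * (y * r') * g⁻¹ by group, hy]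
      group
    have hx : ∀ x ∈ P, x * (g * y * g⁻¹) = g * y * g⁻¹ * x := fun _ hx => by
      rw [← C.S.gen_zpowers] at hx
      obtain ⟨k, rfl⟩ := hx
      exact (show Commute C.S.gen (g * y * g⁻¹) from h1.symm).zpow_left k
    refine Subgroup.mem_inf.2 ⟨C.norm_P (mem_normalizer_fintype fun x hxP => ?_), mem_centralizer_iff.2 hx⟩
    rw [← hx x hxP, mul_inv_cancel_right]
    exact hxP
  refine no_eight C.S (X := C.Z.map (cj g)) (q := g * ((q : ↥C.CZ) : G) * g⁻¹)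
    (by rw [card_map_of_injective (cj_inj g), card_Zc]) ?_ (hKz _ hqr) ?_ ?_
  · rintro _ ⟨x, hx, rfl⟩
    exact hKz x (mem_centralizer_iff.1 ((r : ↥K) : ↥C.CZ).2 x hx)
  · rw [orderOf_conj', hq]
  · rintro _ ⟨x, hx, rfl⟩
    show g * x * g⁻¹ * _ = _
    calc g * x * g⁻¹ * (g * ((q : ↥C.CZ) : G) * g⁻¹) = g * (x * ((q : ↥C.CZ) : G)) * g⁻¹ := by group
      _ = g * (((q : ↥C.CZ) : G) * x) * g⁻¹ := by rw [mem_centralizer_iff.1 (q : ↥C.CZ).2 x hx]
      _ = g * ((q : ↥C.CZ) : G) * g⁻¹ * (g * x * g⁻¹) := by group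

theorem isPGroup_L : IsPGroup 2 ↥C.L := by
  have hd : Nat.card ↥C.L ∣ 2 ^ 18 * (3 * 5) :=
    (Dvd.intro _ (card_CZ_L C).symm).trans (show 2 ^ 18 * 15 ∣ 2 ^ 18 * (3 * 5) by norm_num)
  have hc : Nat.Coprime (Nat.card ↥C.L) (3 * 5) := Nat.Coprime.mul_right
    (((Nat.prime_three.coprime_iff_not_dvd).2 (no_three_L C)).symm)
    ((((by norm_num : Nat.Prime 5).coprime_iff_not_dvd).2 (not_five_dvd_L C)).symm)
  obtain ⟨k, -, hk⟩ := (Nat.dvd_prime_pow Nat.prime_two).1 (hc.dvd_of_dvd_mul_right hd)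
  exact IsPGroup.of_card hk

theorem V_le_CZ : C.D.V ≤ C.CZ := fun _ hv =>
  mem_centralizer_iff.2 fun _ hx => C.D.comm (Zc_le C.M hx) hv

theorem V_le_NZ : C.D.V ≤ C.NZ := (V_le_CZ C).trans (CZ_le_NZ C)

/-- `V` moves a coset. -/
theorem V_moves : img5 C C.D.V ≠ ⊥ := by
  intro hbot
  have hVL : C.D.V ≤ C.L := fun v hv =>
    (mem_L C).2 ⟨V_le_NZ C hv, by
      have h : pent C ⟨v, V_le_NZ C hv⟩ ∈ img5 C C.D.V := ⟨_, mem_subgroupOf.2 hv, rfl⟩
      rwa [hbot, mem_bot] at h, V_le_CZ C hv⟩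
  obtain ⟨T, hT⟩ := (isPGroup_L C).exists_le_sylow
  have hall : ∀ c ∈ C.CZ, c ∈ NV C.D := fun c hc => by
    have h := C.uniq (C.D.V.map (cj c)) T (fun x hx => by
      obtain ⟨v, hv, rfl⟩ := hx
      exact hT (L_conj C (CZ_le_NZ C hc) (hVL hv))) (hVL.trans hT) (elem_map C.D.elem c)
      (by rw [card_map_of_injective (cj_inj c), C.D.card])
    exact mem_normalizer_fintype fun x hx => h.le ⟨x, hx, rfl⟩
  have h1 : ∀ q, q = p0 C := fun q => by
    obtain ⟨c, hc, e⟩ := pent_transitive C q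
    rw [← e]
    exact (pent_fix C).2 (hall _ hc)
  exact absurd ((h1 0).trans (h1 1).symm) (by decide)

/-- A 2-group on the three octads normalised by a fixed point free element is trivial. -/
theorem two_group_perm_three {H : Subgroup (Equiv.Perm (Fin 3))} (hp : IsPGroup 2 ↥H) {c : Equiv.Perm (Fin 3)}
    (hc : ∀ i, c i ≠ i) (hn : ∀ a ∈ H, c * a * c⁻¹ ∈ H) : H = ⊥ := by
  rw [eq_bot_iff]
  intro t ht
  rw [mem_bot]
  by_contra ht1
  have : Fact (Nat.Prime 2) := ⟨Nat.prime_two⟩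
  obtain ⟨k, hk⟩ := hp.exists_card_eq
  have h6 : Nat.card ↥H ∣ 6 := by
    have h := card_subgroup_dvd_card H
    rwa [Nat.card_perm, Nat.card_fin] at h
  have hk1 : k ≤ 1 := by
    by_contra hk2
    have h4 : 2 ^ 2 ∣ 6 := (pow_dvd_pow 2 (by omega : 2 ≤ k)).trans (hk ▸ h6)
    norm_num at h4
  have htwo : ∀ a ∈ H, a ≠ 1 → a = t := by
    intro a ha ha1
    by_contra hne
    have h := Finset.card_le_card (s := ({1, a, t} : Finset _))
      (t := (Set.toFinite (H : Set (Equiv.Perm (Fin 3)))).toFinset) (by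
        intro x hx
        rw [Set.Finite.mem_toFinset]
        simp only [Finset.mem_insert, Finset.mem_singleton] at hx
        rcases hx with rfl | rfl | rfl
        · exact one_mem _
        · exact ha
        · exact ht)
    rw [Finset.card_insert_of_notMem (by simp [Ne.symm ha1, Ne.symm ht1]),
      Finset.card_insert_of_notMem (by simpa using hne), Finset.card_singleton,
      ← Set.ncard_eq_toFinset_card, ← Nat.card_coe_set_eq] at h
    have hle : Nat.card ↥H ≤ 2 := by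
      rw [hk]; exact (pow_le_pow_right₀ (by norm_num) hk1).trans (by norm_num)
    have h3 : 3 ≤ Nat.card ↥H := h
    omega
  have htt : t * t = 1 := by
    by_contra h
    exact ht1 (mul_eq_left.1 (htwo _ (mul_mem ht ht) h))
  exact no_comm_perm_three t htt ht1 c hc
    (mul_inv_eq_iff_eq_mul.1 (htwo _ (hn t ht) fun h => ht1 (conj_eq_one_iff.1 h)))

/-- The action of the trio group on its octads. -/
noncomputable def octG : ↥(G0 : Subgroup ↥M24) →* Equiv.Perm (Fin 3) :=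
  octHom.comp ((MonoidHom.id ↥(G0 : Subgroup ↥M24)).codRestrict H0 mem_H0)

theorem octG_eq (g : ↥H0) : octG g.1 = octHom g := rfl

theorem octG_e3 (i : Fin 3) : octG ⟨e3, e3_mem⟩ i ≠ i := e3_moves i

/-- The trio element `e3` in `H0`. -/
noncomputable def g3 : ↥H0 := h0Elem d3 d3_ok.1

theorem g3_val : g3.1.1 = e3 := rfl

theorem el3_mem : C.D.el e3 ∈ C.NZ ∧ C.D.el e3 ∈ NV C.D ∧ C.D.el e3 ∈ C.CZ := by
  obtain ⟨h1, h2⟩ := Subgroup.mem_inf.1 (el_mem C g3)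
  exact ⟨h1, h2, (rho_eq_one C).1 ((rho_el C g3).trans e3_matHom)⟩

theorem orderOf_el3 : orderOf (C.D.el e3) = 3 := by
  have : Fact (Nat.Prime 3) := ⟨Nat.prime_three⟩
  refine orderOf_eq_prime ?_ fun h => ?_
  · rw [pow_succ, pow_two, ← C.D.el_mul, ← C.D.el_mul, ← pow_two, ← pow_succ, cube_e3, C.D.el_one]
  · have h' := pr_el C.D e3
    rw [(pr_eq_one C.D).2 (show C.D.el e3 ∈ C.D.V by rw [h]; exact one_mem _)] at h'
    have := orderOf_e3
    rw [← h', orderOf_one] at this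
    norm_num at this

theorem pent_e3 : pent C ⟨C.D.el e3, (el3_mem C).1⟩ ≠ 1 := by
  intro h
  have hL : C.D.el e3 ∈ C.L := (mem_L C).2 ⟨(el3_mem C).1, h, (el3_mem C).2.2⟩
  have hd := orderOf_dvd_natCard (⟨_, hL⟩ : ↥C.L)
  rw [Subgroup.orderOf_mk, orderOf_el3] at hd
  exact no_three_L C hd

theorem four_le_img_V : 4 ≤ Nat.card ↥(img5 C C.D.V) := by
  have hV2 : IsPGroup 2 ↥C.D.V := IsPGroup.of_card C.D.card
  have : Fact (Nat.Prime 2) := ⟨Nat.prime_two⟩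
  have hp : IsPGroup 2 ↥(img5 C C.D.V) :=
    (hV2.of_equiv (subgroupOfEquivOfLe (V_le_NZ C)).symm).map (pent C)
  obtain ⟨k, hk⟩ := hp.exists_card_eq
  by_contra hlt
  rcases k with _ | _ | k
  · exact V_moves C (eq_bot_of_card_le _ (by rw [hk, pow_zero]))
  · rw [zero_add, pow_one] at hk
    have hbot : Nontrivial ↥(img5 C C.D.V) := Finite.one_lt_card_iff_nontrivial.1 (by rw [hk]; norm_num)
    obtain ⟨⟨t, ht⟩, ht1⟩ := exists_ne (1 : ↥(img5 C C.D.V))
    replace ht1 : t ≠ 1 := fun h => ht1 (Subtype.ext h)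
    set g := pent C ⟨C.D.el e3, (el3_mem C).1⟩ with hg
    have hgc : g * t * g⁻¹ ∈ img5 C C.D.V := by
      obtain ⟨⟨v, hv⟩, e⟩ := (mem_img5 C (V_le_NZ C)).1 ht
      refine (mem_img5 C (V_le_NZ C)).2 ⟨⟨C.D.el e3 * v * (C.D.el e3)⁻¹, C.D.conj_mem (el3_mem C).2.1 hv⟩, ?_⟩
      rw [← e, hg, ← map_inv, ← map_mul, ← map_mul]
      rfl
    have huniq : ∀ a ∈ img5 C C.D.V, a ≠ 1 → a = t := fun a ha ha1 => by
      obtain ⟨x, y, -, hxy⟩ := Nat.card_eq_two_iff.1 hk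
      have key : ∀ w : ↥(img5 C C.D.V), w = x ∨ w = y := fun w => by
        have : w ∈ ({x, y} : Set _) := hxy ▸ Set.mem_univ w
        simpa using this
      rcases key ⟨a, ha⟩ with e | e <;> rcases key ⟨t, ht⟩ with e' | e' <;> rcases key 1 with e'' | e'' <;>
        first
          | exact congrArg Subtype.val (e.trans e'.symm)
          | exact absurd (congrArg Subtype.val (e.trans e''.symm)) ha1
          | exact absurd (congrArg Subtype.val (e'.trans e''.symm)) ht1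
    have htt : t * t = 1 := by
      by_contra h
      exact ht1 (mul_eq_left.1 (huniq _ (mul_mem ht ht) h))
    refine no_comm_perm_five t (p0 C) ?_ htt ht1 g ((pent_fix C).2 (el3_mem C).2.1) ?_ (pent_e3 C) ?_
    · obtain ⟨⟨v, hv⟩, e⟩ := (mem_img5 C (V_le_NZ C)).1 ht
      rw [← e]
      exact (pent_fix C).2 (V_le C.D hv)
    · rw [hg, ← map_mul, ← map_mul]
      convert map_one (pent C) using 2
      refine Subtype.ext ?_
      show C.D.el e3 * C.D.el e3 * C.D.el e3 = 1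
      rw [← pow_two, ← pow_succ, show 2 + 1 = orderOf (C.D.el e3) by rw [orderOf_el3], pow_orderOf_eq_one]
    · exact mul_inv_eq_iff_eq_mul.1 (huniq _ hgc fun h => ht1 (conj_eq_one_iff.1 h))
  · exact hlt (by rw [hk, pow_succ, pow_succ]; have := Nat.one_le_pow k 2 (by norm_num); omega)

/-- The image of `L` in M24. -/
noncomputable def prL : ↥C.L →* ↥M24 := (pr C.D).comp (Subgroup.inclusion (L_le_NV C))

theorem prL_mem_Fk (m : ↥C.L) : prL C m ∈ Fk := by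
  obtain ⟨_, h⟩ := (mem_pre C.D).1 ((mem_CZ_NV C.M).1 (Subgroup.mem_inf.2 ⟨L_le_CZ C m.2, L_le_NV C m.2⟩))
  exact h

theorem prL_mem_G0 (m : ↥C.L) : prL C m ∈ (G0 : Subgroup ↥M24) := by
  obtain ⟨g, -, e⟩ := mem_Fk.1 (prL_mem_Fk C m)
  rw [← e]
  exact g.1.2

theorem prL_conj_e3 (m : ↥C.L) :
    prL C ⟨C.D.el e3 * m * (C.D.el e3)⁻¹, L_conj C (el3_mem C).1 m.2⟩ = e3 * prL C m * e3⁻¹ := by
  have h : prL C ⟨C.D.el e3 * m * (C.D.el e3)⁻¹, L_conj C (el3_mem C).1 m.2⟩ =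
      pr C.D (⟨C.D.el e3, C.D.el_norm e3⟩ * ⟨(m : G), L_le_NV C m.2⟩ * ⟨C.D.el e3, C.D.el_norm e3⟩⁻¹) := rfl
  rw [h, map_mul, map_mul, map_inv, pr_el]
  rfl

theorem prL_range_le : (prL C).range ≤ Rk := by
  rintro _ ⟨l, rfl⟩
  let f : ↥C.L →* Equiv.Perm (Fin 3) := octG.comp ((prL C).codRestrict _ (prL_mem_G0 C))
  have hf : f.range = ⊥ := by
    refine two_group_perm_three ((isPGroup_L C).of_surjective f.rangeRestrict f.rangeRestrict_surjective)
      octG_e3 ?_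
    rintro _ ⟨m, rfl⟩
    refine ⟨⟨C.D.el e3 * m * (C.D.el e3)⁻¹, L_conj C (el3_mem C).1 m.2⟩, ?_⟩
    simp only [f, MonoidHom.coe_comp, Function.comp_apply]
    rw [← map_inv, ← map_mul, ← map_mul]
    exact congrArg octG (Subtype.ext (prL_conj_e3 C m))
  obtain ⟨g, hg, e⟩ := mem_Fk.1 (prL_mem_Fk C l)
  refine mem_Rk_iff.2 ⟨g, Prod.ext hg ?_, e⟩
  show octHom g = 1
  have h1 : f l ∈ f.range := ⟨l, rfl⟩
  rw [hf, mem_bot] at h1
  rw [← octG_eq g, ← h1]
  exact congrArg octG (Subtype.ext e)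

theorem card_L_eq : Nat.card ↥C.L = Nat.card ↥(C.L ⊓ C.D.V) * Nat.card ↥(prL C).range := by
  have hk : Nat.card ↥(prL C).ker = Nat.card ↥(C.L ⊓ C.D.V) :=
    Nat.card_congr
      { toFun := fun h => ⟨h.1.1, Subgroup.mem_inf.2 ⟨h.1.2, (pr_eq_one C.D).1 (MonoidHom.mem_ker.1 h.2)⟩⟩
        invFun := fun h => ⟨⟨h.1, (Subgroup.mem_inf.1 h.2).1⟩,
          MonoidHom.mem_ker.2 ((pr_eq_one C.D).2 (Subgroup.mem_inf.1 h.2).2)⟩
        left_inv := fun _ => rfl
        right_inv := fun _ => rfl }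
  rw [← (prL C).ker.card_mul_index, Subgroup.index_ker, hk]

theorem pentad_orders : Nat.card ↥C.L = 2 ^ 15 ∧ Nat.card ↥(C.L ⊓ C.D.V) = 2 ^ 9 ∧
    Nat.card ↥(prL C).range = 64 ∧ Nat.card ↥(img5 C C.CZ) = 120 ∧ Nat.card ↥(img5 C C.D.V) = 4 := by
  have h1 := card_CZ_L C
  have h2 := card_L_eq C
  have h3 := card_img5 C (V_le_CZ C)
  rw [C.D.card, inf_comm] at h3
  have h4 := four_le_img_V C
  have h5 : Nat.card ↥(prL C).range ≤ 64 := card_Rk ▸ Nat.le_of_dvd Nat.card_pos (card_dvd_of_le (prL_range_le C))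
  have h6 : Nat.card ↥(img5 C C.CZ) ≤ 120 := by
    refine (Nat.le_of_dvd ?_ (card_subgroup_dvd_card _)).trans ?_
    · exact Nat.card_pos
    · rw [Nat.card_perm, Nat.card_fin]; rfl
  have h7 : Nat.card ↥(C.L ⊓ C.D.V) ≤ 512 := by
    have := Nat.mul_le_mul_left (Nat.card ↥(C.L ⊓ C.D.V)) h4
    omega
  have h8 : Nat.card ↥C.L ≤ 32768 := by
    rw [h2]; exact Nat.mul_le_mul h7 h5
  have h9 : 32768 * 120 ≤ Nat.card ↥C.L * 120 := le_trans (by rw [← h1]; norm_num) (Nat.mul_le_mul_left _ h6)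
  have e1 : Nat.card ↥C.L = 32768 := by omega
  rw [e1] at h1 h2
  have h10 : 512 * 64 ≤ 512 * Nat.card ↥(prL C).range := (show 512 * 64 = 32768 by norm_num).le.trans
    (h2.le.trans (Nat.mul_le_mul_right _ h7))
  have e2 : Nat.card ↥(prL C).range = 64 := by omega
  rw [e2] at h2
  have e3 : Nat.card ↥(C.L ⊓ C.D.V) = 512 := by omega
  rw [e3] at h3
  refine ⟨e1, e3, e2, ?_, ?_⟩ <;> omega

theorem card_L : Nat.card ↥C.L = 2 ^ 15 := (pentad_orders C).1

theorem exists_lift_Rk {σ : ↥M24} (hσ : σ ∈ Rk) :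
    ∃ l : ↥C.L, prL C l = σ ∧ ∃ v ∈ C.D.V, (l : G) = v * C.D.el σ := by
  have he : (prL C).range = Rk := eq_of_le_of_card_ge (prL_range_le C) (by rw [card_Rk, (pentad_orders C).2.2.1])
  rw [← he] at hσ
  obtain ⟨l, hl⟩ := hσ
  obtain ⟨τ, v, hv, e⟩ := exists_el C.D (L_le_NV C l.2)
  refine ⟨l, hl, v, hv, ?_⟩
  rw [← hl, show prL C l = τ from pr_eq C.D hv e]
  exact e

theorem img5_CZ_top : img5 C C.CZ = ⊤ :=
  eq_top_of_card_eq _ (by rw [(pentad_orders C).2.2.2.1, Nat.card_perm, Nat.card_fin]; rfl)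

theorem Psi_surjective : Function.Surjective (Psi C) := by
  rintro ⟨a, A⟩
  obtain ⟨n, hn⟩ := rho_surjective C A
  have ha : a * (pent C n)⁻¹ ∈ img5 C C.CZ := by rw [img5_CZ_top C]; trivial
  obtain ⟨c, hc, e⟩ := ha
  refine ⟨c * n, Prod.ext ?_ ?_⟩
  · show pent C (c * n) = a
    rw [map_mul, e, inv_mul_cancel_right]
  · show rho C (c * n) = A
    rw [map_mul, (rho_eq_one C).2 (mem_subgroupOf.1 hc), one_mul, hn]

/-! ### The words in `L` -/

theorem wel_mem_L {w : ℕ × ℕ × ℕ × ℕ} (hw : w ∈ witnesses) : wel C.M w ∈ C.L ⊓ C.D.V := by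
  obtain ⟨σ, hσ, v, hv, e⟩ := wel_commutator C.M hw
  obtain ⟨l, -, u, hu, hl⟩ := exists_lift_Rk C hσ
  have hc : (l : G) * v * (l : G)⁻¹ = C.D.el σ * v * (C.D.el σ)⁻¹ := by
    rw [hl, show u * C.D.el σ * v * (u * C.D.el σ)⁻¹ = u * (C.D.el σ * v * (C.D.el σ)⁻¹) * u⁻¹ by group,
      C.D.comm hu (C.D.conj_mem (C.D.el_norm σ) hv), mul_inv_cancel_right]
  refine Subgroup.mem_inf.2 ⟨?_, by rw [e]; exact mul_mem (C.D.conj_mem (C.D.el_norm σ) hv) hv⟩
  have e' : wel C.M w = (l : G) * (v * (l : G)⁻¹ * v⁻¹) := by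
    rw [e, ← hc, C.D.inv_eq hv]; group
  rw [e']
  exact mul_mem l.2 (L_conj C (V_le_NZ C hv) (inv_mem l.2))

theorem psi_span_mem : ∀ gs : List ℕ, (∀ g ∈ gs, g ∈ wbasis) → ∀ x, psi C.M (encAux gs x) ∈ C.L ⊓ C.D.V := by
  intro gs
  induction gs with
  | nil => intro _ x; simp only [encAux, psi_zero]; exact one_mem _
  | cons g gs ih =>
    intro h x
    simp only [encAux]
    rw [psi_xor]
    refine mul_mem ?_ (ih (fun a ha => h a (List.mem_cons_of_mem _ ha)) _)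
    split
    · have hb := List.all_eq_true.1 wbasis_ok.1 g (h g List.mem_cons_self)
      obtain ⟨w, hw, e⟩ := List.any_eq_true.1 hb
      rw [← beq_iff_eq.1 e]
      exact wel_mem_L C hw
    · rw [psi_zero]; exact one_mem _

theorem wbasis_bounds (x : ℕ) : encAux wbasis x < 4096 ∧ evenB (encAux wbasis x) = true ∧
    encAux wbasis x ≠ 2919 ∧ encAux wbasis x ≠ 2916 ∧ encAux wbasis x ≠ 3 := by
  have h := allSpan_sound _ wbasis 0 wbasis_ok.2.2 x
  simp only [Nat.zero_xor, Bool.and_eq_true, bne_iff_ne, Nat.blt_eq] at h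
  obtain ⟨⟨⟨⟨h1, h2⟩, h3⟩, h4⟩, h5⟩ := h
  exact ⟨h2, h1, h3, h4, h5⟩

/-- The words in `L` are the combinations of the witness pairs. -/
theorem LV_eq {x : G} (hx : x ∈ C.L ⊓ C.D.V) : ∃ k, psi C.M (encAux wbasis k) = x := by
  classical
  let f : Fin 512 → ↥(C.L ⊓ C.D.V) := fun k => ⟨_, psi_span_mem C wbasis (fun _ h => h) k.val⟩
  have hf : Function.Injective f := fun a b e => by
    have hb := nodup_of_distinctBits _ _ wbasis_ok.2.1
    refine Fin.ext (List.inj_on_of_nodup_map hb (List.mem_range.2 a.isLt) (List.mem_range.2 b.isLt) ?_)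
    exact psi_injective C.M (wbasis_bounds _).1 (wbasis_bounds _).1 (wbasis_bounds _).2.1 (wbasis_bounds _).2.1
      (congrArg Subtype.val e)
  have hb : Function.Bijective f :=
    (Nat.bijective_iff_injective_and_card f).2 ⟨hf, by rw [(pentad_orders C).2.1, Nat.card_fin]; norm_num⟩
  obtain ⟨k, hk⟩ := hb.2 ⟨x, hx⟩
  exact ⟨k, congrArg Subtype.val hk⟩

/-- `R` moves a word of `L` into `Zc`. -/
theorem LV_commutator {x : G} (hx : x ∈ C.L ⊓ C.D.V) {σ : ↥M24} (hσ : σ ∈ Rk) :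
    C.D.el σ * x * (C.D.el σ)⁻¹ * x ∈ C.Z := by
  have hn := C.D.el_norm σ
  have key : ∀ gs : List ℕ, (∀ g ∈ gs, g ∈ wbasis) → ∀ k,
      C.D.el σ * psi C.M (encAux gs k) * (C.D.el σ)⁻¹ * psi C.M (encAux gs k) ∈ C.Z := by
    intro gs
    induction gs with
    | nil => intro _ k; simp [encAux, psi_zero]
    | cons g gs ih =>
      intro h k
      simp only [encAux]
      split
      · obtain ⟨w, hw, e⟩ := List.any_eq_true.1 (List.all_eq_true.1 wbasis_ok.1 g (h g List.mem_cons_self))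
        rw [← beq_iff_eq.1 e, psi_xor]
        set b := psi C.M (encAux gs (k / 2))
        have hb : b ∈ C.D.V := psi_mem _ _
        have ha : psi C.M (dcls w.1 w.2.1) ∈ C.D.V := psi_mem _ _
        have e : C.D.el σ * (psi C.M (dcls w.1 w.2.1) * b) * (C.D.el σ)⁻¹ * (psi C.M (dcls w.1 w.2.1) * b) =
            (C.D.el σ * psi C.M (dcls w.1 w.2.1) * (C.D.el σ)⁻¹ * psi C.M (dcls w.1 w.2.1)) *
              (C.D.el σ * b * (C.D.el σ)⁻¹ * b) := by
          calc _ = C.D.el σ * psi C.M (dcls w.1 w.2.1) * (C.D.el σ)⁻¹ *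
                ((C.D.el σ * b * (C.D.el σ)⁻¹) * psi C.M (dcls w.1 w.2.1)) * b := by group
            _ = _ := by rw [C.D.comm (C.D.conj_mem hn hb) ha]; group
        rw [e]
        exact mul_mem (wel_conj C.M hw hσ) (ih (fun a ha => h a (List.mem_cons_of_mem _ ha)) _)
      · rw [Nat.zero_xor]
        exact ih (fun a ha => h a (List.mem_cons_of_mem _ ha)) _
  obtain ⟨k, rfl⟩ := LV_eq C hx
  exact key wbasis (fun _ h => h) k

/-- The three duads fixed by `e7` are outside `L`. -/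
theorem duad_not_mem {i j : ℕ} (h : (i = 5 ∧ j = 12) ∨ (i = 5 ∧ j = 13) ∨ (i = 12 ∧ j = 13)) :
    vset C.M {pt i, pt j} ∉ C.L := by
  intro hL
  have hb : i < 24 ∧ j < 24 ∧ i ≠ j ∧ (dcls i j = 2919 ∨ dcls i j = 2916 ∨ dcls i j = 3) := by
    rcases h with ⟨rfl, rfl⟩ | ⟨rfl, rfl⟩ | ⟨rfl, rfl⟩
    · exact ⟨by norm_num, by norm_num, by norm_num, Or.inl d7_pairs.1⟩
    · exact ⟨by norm_num, by norm_num, by norm_num, Or.inr (Or.inl d7_pairs.2.1)⟩
    · exact ⟨by norm_num, by norm_num, by norm_num, Or.inr (Or.inr d7_pairs.2.2)⟩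
  obtain ⟨hi, hj, hij, hd⟩ := hb
  rw [← psi_dcls C.M hi hj hij] at hL
  obtain ⟨k, hk⟩ := LV_eq C (Subgroup.mem_inf.2 ⟨hL, psi_mem _ _⟩)
  obtain ⟨h1, h2, h3, h4, h5⟩ := wbasis_bounds k
  have e := psi_injective C.M h1 (dcls_ok hi hj hij).1 h2 (dcls_ok hi hj hij).2 hk
  rcases hd with e' | e' | e' <;> rw [e'] at e
  · exact h3 e
  · exact h4 e
  · exact h5 e

end Cfsg.Agent.J4Type.Pentad
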