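import Cfsg.Agent.Lib.J4Type.PentadWords

/-!
Groups of Janko-four type, pentad local (helper8): the seven sextets refining the standard trio inside `V`.

* `Zc` : order 8; `zel` : its seven involutions, in the long orbit;
* `stab_zel` : the stabiliser of one is the sextet group; `conjZ_iff` : that of `Zc` is the trio group;
* `Rk` : the kernel of order 64, with fixed points exactly `Zc`.
-/

set_option autoImplicit false
set_option linter.unusedSectionVars false

open scoped Pointwise symmDiff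

namespace Cfsg.Agent.J4Type.Pentad

open Cfsg Cfsg.Agent.Golay MulAction

theorem zset_bounds : ∀ h ∈ zset, h < 4096 ∧ evenB h = true := by decide +kernel

theorem zcs_mem : ∀ i : Fin 7, zcs.getD i.val 0 ∈ zset ∧ zcs.getD i.val 0 ≠ 0 := by decide +kernel

theorem zcs_inj : ∀ i j : Fin 7, zcs.getD i.val 0 = zcs.getD j.val 0 → i = j := by decide +kernel

theorem zset_cases : ∀ h ∈ zset, h = 0 ∨ ∃ i : Fin 7, zcs.getD i.val 0 = h := by decide +kernel

theorem sxt_sextet (i : Fin 7) : sxt i ∈ sextets :=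
  toFinS_mem_sextets (List.all_eq_true.1 trio_sextet.2.2 i.val (List.mem_range.2 i.isLt)) (sxt_props i).1

theorem tetrad_card {i : Fin 7} {t : Finset GolayPt} (ht : t ∈ sxt i) : t.card = 4 := (sxt_sextet i).2.1 t ht

variable {G : Type*} [Group G] [Finite G] {D : SplitData G} (M : VModel D)

/-- The element of `V` of a refining sextet. -/
def zel (i : Fin 7) : G := psi M (zcs.getD i.val 0)

theorem zel_mem (i : Fin 7) : zel M i ∈ D.V := psi_mem M _

theorem vset_sxt {i : Fin 7} {t : Finset GolayPt} (ht : t ∈ sxt i) : vset M t = zel M i := by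
  have hc := tetrad_card ht
  obtain ⟨a, ha, rfl⟩ := mem_toFinS.1 ht
  have hcls : cls a = zcs.getD i.val 0 := by
    have h := List.all_eq_true.1 (List.all_eq_true.1 zcs_ok.1 i.val (List.mem_range.2 i.isLt)) a ha
    simpa using h
  rw [zel, ← hcls, vset_pts]
  rw [card_pts] at hc
  simp [evenB, hc]

theorem exists_tetrad (i : Fin 7) : ∃ t, t ∈ sxt i := by
  have h : (sxt i).card = 6 := (sxt_props i).1
  exact Finset.card_pos.1 (by omega)

theorem zel_injective : Function.Injective (zel M) := fun i j h =>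
  zcs_inj i j (psi_injective M (zset_bounds _ (zcs_mem i).1).1 (zset_bounds _ (zcs_mem j).1).1
    (zset_bounds _ (zcs_mem i).1).2 (zset_bounds _ (zcs_mem j).1).2 h)

theorem zel_ne_one (i : Fin 7) : zel M i ≠ 1 := fun h =>
  (zcs_mem i).2 (psi_injective M (zset_bounds _ (zcs_mem i).1).1 (by norm_num)
    (zset_bounds _ (zcs_mem i).1).2 (by decide +kernel) (h.trans (psi_zero M).symm))

theorem zel_conj (g : ↥H0) (i : Fin 7) :
    D.el g.1.1 * zel M i * (D.el g.1.1)⁻¹ = zel M (labPerm g i) := by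
  obtain ⟨t, ht⟩ := exists_tetrad i
  rw [← vset_sxt M ht, vset_smul M _ (by rw [tetrad_card ht]), vset_sxt M]
  rw [sxt_labPerm]
  exact Finset.smul_mem_smul_finset ht

/-- A refining sextet is not a duad. -/
theorem zel_ne_duad (i : Fin 7) {a b : GolayPt} (hab : a ≠ b) : zel M i ≠ vset M {a, b} := by
  obtain ⟨t, ht⟩ := exists_tetrad i
  rw [← vset_sxt M ht]
  intro h
  have e := vset_eq_short M (by rw [tetrad_card ht]) (by rw [Finset.card_pair hab])
    (by rw [tetrad_card ht, Finset.card_pair hab]; norm_num) h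
  have := congrArg Finset.card e
  rw [tetrad_card ht, Finset.card_pair hab] at this
  omega

theorem t_orbit_duad (σ : ↥M24) :
    ∃ a b : GolayPt, a ≠ b ∧ D.el σ * D.t * (D.el σ)⁻¹ = vset M {a, b} := by
  obtain ⟨a, b, hab, h⟩ := M.duad_all σ
  exact ⟨a, b, hab, by rw [vset, ← pair_eq_indW hab, h]⟩

/-- A refining sextet is in the long orbit. -/
theorem zel_long (i : Fin 7) : ∃ σ, D.el σ * D.s * (D.el σ)⁻¹ = zel M i := by
  rcases D.eq_one_or (zel_mem M i) with h | ⟨σ, h⟩ | h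
  · exact absurd h (zel_ne_one M i)
  · obtain ⟨a, b, hab, e⟩ := t_orbit_duad M σ
    exact absurd (h.symm.trans e) (zel_ne_duad M i hab)
  · exact h

/-- The stabiliser of a refining sextet is the sextet group. -/
theorem stab_zel (i : Fin 7) : D.stab (zel M i) = stabilizer ↥M24 (sxt i) := by
  obtain ⟨t, ht⟩ := exists_tetrad i
  have ht4 := tetrad_card ht
  ext σ
  rw [SplitData.mem_stab, mem_stabilizer_iff]
  constructor
  · intro h
    rw [← vset_sxt M ht, vset_smul M _ (by rw [ht4])] at h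
    have h4 : ((σ : Equiv.Perm GolayPt) • t).card = 4 := by rw [Finset.card_smul_finset, ht4]
    have e := sextetOf_eq_of_vset M h4 ht4 h
    have hm : σ • sxt i ∈ sextets := smul_mem_sextets σ.2 (sxt_sextet i)
    rw [eq_sextetOf hm (Finset.smul_mem_smul_finset ht)]
    exact e.trans (eq_sextetOf (sxt_sextet i) ht).symm
  · intro h
    rw [← vset_sxt M ht, vset_smul M _ (by rw [ht4]), vset_sxt M ht, vset_sxt M]
    have := Finset.smul_mem_smul_finset (a := σ) ht
    rwa [h] at this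

/-- The subgroup of the seven refining sextets. -/
def Zc : Subgroup G where
  carrier := {x | ∃ h ∈ zset, psi M h = x}
  one_mem' := ⟨0, by simp [zset], psi_zero M⟩
  mul_mem' := by
    rintro x y ⟨a, ha, rfl⟩ ⟨b, hb, rfl⟩
    have h := List.all_eq_true.1 (List.all_eq_true.1 zcs_ok.2.2.2 a ha) b hb
    exact ⟨a ^^^ b, List.contains_iff_mem.1 h, psi_xor M a b⟩
  inv_mem' := by
    rintro x ⟨a, ha, rfl⟩
    exact ⟨a, ha, (D.inv_eq (psi_mem M a)).symm⟩

theorem psi_mem_Zc {h : ℕ} (hh : h ∈ zset) : psi M h ∈ Zc M := ⟨h, hh, rfl⟩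

theorem Zc_le : Zc M ≤ D.V := by
  rintro x ⟨h, -, rfl⟩
  exact psi_mem M h

theorem mem_Zc {x : G} : x ∈ Zc M ↔ x = 1 ∨ ∃ i, zel M i = x := by
  constructor
  · rintro ⟨h, hh, rfl⟩
    rcases zset_cases h hh with rfl | ⟨i, rfl⟩
    · exact Or.inl (psi_zero M)
    · exact Or.inr ⟨i, rfl⟩
  · rintro (rfl | ⟨i, rfl⟩)
    · exact one_mem _
    · exact psi_mem_Zc M (zcs_mem i).1

theorem zel_mem_Zc (i : Fin 7) : zel M i ∈ Zc M := (mem_Zc M).2 (Or.inr ⟨i, rfl⟩)

theorem card_Zc : Nat.card ↥(Zc M) = 8 := by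
  have h : (Zc M : Set G) = insert 1 (Set.range (zel M)) := by
    ext x
    rw [SetLike.mem_coe, mem_Zc]
    simp [eq_comm]
  rw [← SetLike.coe_sort_coe, Nat.card_coe_set_eq, h,
    Set.ncard_insert_of_notMem (by rintro ⟨i, e⟩; exact zel_ne_one M i e) (Set.toFinite _),
    Set.ncard_range_of_injective (zel_injective M), Nat.card_fin]

theorem mem_H0 (g : ↥G0) : g ∈ H0 := by rw [trio_kernel.1]; trivial

theorem isCoatom_G0 : IsCoatom (G0 : Subgroup ↥M24) := by
  obtain ⟨_, _, _, _, _, _, _, _, _, _, _, _, _, h⟩ := exists_trio_orbits trio0_mem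
  exact h

/-- The stabiliser of `Zc` is the trio group. -/
theorem conjZ_iff (σ : ↥M24) : (∀ x ∈ Zc M, D.el σ * x * (D.el σ)⁻¹ ∈ Zc M) ↔ σ ∈ G0 := by
  have key : ∀ τ, τ ∈ G0 → ∀ x ∈ Zc M, D.el τ * x * (D.el τ)⁻¹ ∈ Zc M := by
    intro τ hτ x hx
    rcases (mem_Zc M).1 hx with rfl | ⟨i, rfl⟩
    · simp
    · exact (zel_conj M ⟨⟨τ, hτ⟩, mem_H0 _⟩ i) ▸ zel_mem_Zc M _
  refine ⟨fun h => ?_, key σ⟩
  let S : Subgroup ↥M24 :=
    { carrier := {τ | ∀ x ∈ Zc M, D.el τ * x * (D.el τ)⁻¹ ∈ Zc M}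
      one_mem' := fun x hx => by simpa [SplitData.el] using hx
      mul_mem' := fun {a b} ha hb x hx => by rw [← D.conj_conj]; exact ha _ (hb x hx)
      inv_mem' := fun {a} ha x hx => by
        let f : ↥(Zc M) → ↥(Zc M) := fun y => ⟨_, ha y.1 y.2⟩
        have hf : Function.Injective f := fun y z e =>
          Subtype.ext (MulAut.conj (D.el a) |>.injective (congrArg Subtype.val e))
        obtain ⟨y, hy⟩ := (Finite.injective_iff_surjective.1 hf) ⟨x, hx⟩
        rw [show x = D.el a * y.1 * (D.el a)⁻¹ from (congrArg Subtype.val hy).symm, D.conj_conj,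
          inv_mul_cancel]
        simp [SplitData.el] }
  rcases lt_or_eq_of_le (show (G0 : Subgroup ↥M24) ≤ S from key) with hlt | heq
  · exfalso
    have htop := isCoatom_G0.2 S hlt
    have hsub : (Set.range fun τ : ↥M24 => D.el τ * D.s * (D.el τ)⁻¹) ⊆ Set.range (zel M) := by
      obtain ⟨ρ, hρ⟩ := zel_long M 0
      rintro _ ⟨τ, rfl⟩
      have hm : τ * ρ⁻¹ ∈ S := htop ▸ Subgroup.mem_top _
      have h1 := hm _ (zel_mem_Zc M 0)
      rw [← hρ, D.conj_conj, inv_mul_cancel_right] at h1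
      rcases (mem_Zc M).1 h1 with e | e
      · exact absurd (conj_eq_one_iff.1 e) D.s_ne_one
      · exact e
    have := Set.ncard_le_ncard hsub (Set.toFinite _)
    rw [D.s_range, Set.ncard_range_of_injective (zel_injective M), Nat.card_fin] at this
    omega
  · exact heq ▸ h

/-- The kernel on the octads and on the seven sextets. -/
noncomputable def Rk : Subgroup ↥M24 := trioHom.ker.map ((G0 : Subgroup ↥M24).subtype.comp H0.subtype)

theorem card_Rk : Nat.card ↥Rk = 64 := by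
  rw [Rk, ← Nat.card_congr (Subgroup.equivMapOfInjective _ _
    (Subtype.val_injective.comp Subtype.val_injective)).toEquiv]
  exact trio_kernel.2.1

theorem Rk_le : Rk ≤ G0 := by
  rintro _ ⟨g, -, rfl⟩
  exact g.1.2

theorem Rk_sq {σ : ↥M24} (h : σ ∈ Rk) : σ * σ = 1 := by
  obtain ⟨g, hg, rfl⟩ := h
  rw [← map_mul, trio_kernel.2.2 g hg, map_one]

theorem mem_Rk_iff {σ : ↥M24} : σ ∈ Rk ↔ ∃ g : ↥H0, trioHom g = 1 ∧ g.1.1 = σ :=
  ⟨fun ⟨g, hg, e⟩ => ⟨g, hg, e⟩, fun ⟨g, hg, e⟩ => ⟨g, hg, e⟩⟩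

theorem Rk_normal {σ τ : ↥M24} (hσ : σ ∈ G0) (hτ : τ ∈ Rk) : σ * τ * σ⁻¹ ∈ Rk := by
  obtain ⟨g, hg, rfl⟩ := mem_Rk_iff.1 hτ
  refine mem_Rk_iff.2 ⟨⟨⟨σ, hσ⟩, mem_H0 _⟩ * g * ⟨⟨σ, hσ⟩, mem_H0 _⟩⁻¹, ?_, rfl⟩
  rw [map_mul, map_mul, hg, mul_one, map_inv, mul_inv_cancel]

theorem normal_mem {d : ℕ} (hd : d ∈ trioNormal) :
    ∃ h : h0Ok d = true, pe d (isAut_of_h0Ok h) ∈ Rk := by
  have hok := trioNormal_ok
  simp only [List.all_eq_true, Bool.and_eq_true, beq_iff_eq, List.mem_range] at hok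
  obtain ⟨⟨⟨h0, hl⟩, ho⟩, -⟩ := hok d hd
  refine ⟨h0, mem_Rk_iff.2 ⟨h0Elem d h0, ?_, rfl⟩⟩
  refine Prod.ext ?_ (Equiv.ext fun i => Fin.ext ?_)
  · show matHom (h0Elem d h0) = 1
    rw [← map_one matHom]
    refine matHom_eq_of_labPerm (Equiv.ext fun i => Fin.ext ?_)
    rw [labPerm_h0Elem, map_one, hl i.val i.isLt]
    rfl
  · show ((octHom (h0Elem d h0) i : Fin 3) : ℕ) = i.val
    rw [octHom_h0Elem, ho i.val i.isLt]

/-- Every kernel element is tabulated. -/
theorem exists_code {σ : ↥M24} (hσ : σ ∈ Rk) :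
    ∃ d ∈ trioNormal, ∃ h : isAut d = true, σ = pe d h := by
  classical
  have hk := nodup_of_distinctBits _ _ trio_distinct.1
  let f : {d // d ∈ trioNormal.toFinset} → ↥Rk := fun d =>
    ⟨pe d.1 (isAut_of_h0Ok (normal_mem (List.mem_toFinset.mp d.2)).choose),
      (normal_mem (List.mem_toFinset.mp d.2)).choose_spec⟩
  have hf : Function.Injective f := by
    rintro ⟨a, ha⟩ ⟨b, hb⟩ e
    rw [List.mem_toFinset] at ha hb
    refine Subtype.ext (List.inj_on_of_nodup_map hk ha hb ?_)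
    refine List.foldr_ext _ _ _ fun i hi acc => congrArg (· + 32 * acc) ?_
    have e' := congrArg (fun x : ↥Rk => idx (((x : ↥M24) : Equiv.Perm GolayPt) (pt i))) e
    simp only [f, pe_coe] at e'
    rwa [idx_toPerm (validPerm_of_isAut (isAut_of_h0Ok (normal_mem ha).choose)),
      idx_toPerm (validPerm_of_isAut (isAut_of_h0Ok (normal_mem hb).choose)),
      idx_pt (List.mem_range.mp hi)] at e'
  have : Fintype ↥Rk := Fintype.ofFinite _
  have hb := (Fintype.bijective_iff_injective_and_card f).mpr ⟨hf, by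
    rw [Fintype.card_coe, List.toFinset_card_of_nodup (List.Nodup.of_map _ hk), trio_lengths.1,
      ← Nat.card_eq_fintype_card, card_Rk]⟩
  obtain ⟨d, hd⟩ := hb.2 ⟨σ, hσ⟩
  exact ⟨d.1, List.mem_toFinset.mp d.2, isAut_of_h0Ok (normal_mem (List.mem_toFinset.mp d.2)).choose,
    (congrArg Subtype.val hd).symm⟩

theorem fixed_of_mem {σ : ↥M24} (hσ : σ ∈ Rk) {x : G} (hx : x ∈ Zc M) :
    D.el σ * x * (D.el σ)⁻¹ = x := by
  obtain ⟨d, hd, h, rfl⟩ := exists_code hσ
  obtain ⟨k, hk, rfl⟩ := hx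
  refine (psi_fixed_iff M h (zset_bounds k hk).1 (zset_bounds k hk).2).2 ?_
  simpa using List.all_eq_true.1 (List.all_eq_true.1 fixed_normal d hd) k hk

/-- The fixed points of `Rk` in `V` are `Zc`. -/
theorem mem_Zc_of_fixed {x : G} (hx : x ∈ D.V) (hfix : ∀ σ ∈ Rk, D.el σ * x * (D.el σ)⁻¹ = x) :
    x ∈ Zc M := by
  obtain ⟨h, hh, he, rfl⟩ := psi_surj M hx
  refine psi_mem_Zc M ?_
  have hall : rgens.all (fun d => act d h == h) = true := by
    refine List.all_eq_true.2 fun d hd => beq_iff_eq.2 ?_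
    have hdn : d ∈ trioNormal := List.contains_iff_mem.1 (List.all_eq_true.1 rgens_mem d hd)
    obtain ⟨h0, hR⟩ := normal_mem hdn
    exact (psi_fixed_iff M (isAut_of_h0Ok h0) hh he).1 (hfix _ hR)
  have := of_overClasses fixed_rgens hh he
  simp only [hall, Bool.not_true, Bool.false_or] at this
  exact List.contains_iff_mem.1 this

end Cfsg.Agent.J4Type.Pentad
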