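import Cfsg.Agent.Lib.J4Type.PentadData
import Cfsg.Agent.Lib.J4Type.VModel
import Cfsg.Agent.Lib.Golay.TrioOrbits

/-!
Groups of Janko-four type, pentad local (helper8): the module `V` in the twelve-bit classes, and the subgroup
`Zc` of the seven sextets refining the standard trio.

* `psi` : the element of `V` of a class, with `psi_xor`, `psi_injective`, `psi_surj`, `psi_act`;
* `Zc` : order 8, the fixed points of the kernel `R` of the trio group;
* `conjZ_iff` : its stabiliser is the trio group; `stab_zc` : that of one sextet.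
-/

set_option autoImplicit false
set_option linter.unusedSectionVars false

open scoped Pointwise symmDiff

namespace Cfsg.Agent.J4Type.Pentad

open Cfsg Cfsg.Agent.Golay MulAction

/-! ### Classes -/

theorem cls_xor (a b : ℕ) : cls (a ^^^ b) = cls a ^^^ cls b := by
  unfold cls
  rw [show (4096 : ℕ) = 2 ^ 12 from rfl, Nat.xor_mod_two_pow, enc_xor, ← Nat.shiftRight_xor_distrib]
  congr 1
  rw [Nat.xor_assoc, Nat.xor_assoc, Nat.xor_left_comm b]

theorem cls_lt {m : ℕ} (hm : m < 2 ^ 24) : cls m < 4096 := by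
  rw [cls, Nat.shiftRight_eq_div_pow]
  exact (Nat.div_lt_iff_lt_mul (by norm_num)).2 (Nat.xor_lt_two_pow hm (enc_lt _))

theorem shiftLeft_cls (m : ℕ) : cls m <<< 12 = m ^^^ enc (m % 4096) := by
  have h : (m ^^^ enc (m % 4096)) % 2 ^ 12 = 0 := by
    rw [Nat.xor_mod_two_pow, show (2 : ℕ) ^ 12 = 4096 from rfl, enc_mod (Nat.mod_lt _ (by norm_num)),
      Nat.xor_self]
  rw [cls, Nat.shiftRight_eq_div_pow, Nat.shiftLeft_eq]
  exact Nat.div_mul_cancel (Nat.dvd_of_mod_eq_zero h)

theorem shiftLeft_lt {h : ℕ} (hh : h < 4096) : h <<< 12 < 2 ^ 24 := by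
  rw [Nat.shiftLeft_eq]; omega

theorem cls_shiftLeft {h : ℕ} (_hh : h < 4096) : cls (h <<< 12) = h := by
  have e : (h <<< 12) % 4096 = 0 := by rw [Nat.shiftLeft_eq]; omega
  rw [cls, e, enc_zero, Nat.xor_zero, Nat.shiftLeft_shiftRight]

theorem word_mem_iff_cls {m : ℕ} (hm : m < 2 ^ 24) : word m ∈ golayCode ↔ cls m = 0 := by
  rw [word_mem_golayCode_iff hm, isCode, beq_iff_eq]
  constructor
  · intro h; rw [cls, h, Nat.xor_self, Nat.zero_shiftRight]
  · intro h
    have e := shiftLeft_cls m
    rw [h, Nat.zero_shiftLeft] at e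
    have e' := congrArg (fun x => x ^^^ enc (m % 4096)) e.symm
    simp only [Nat.xor_assoc, Nat.xor_self, Nat.xor_zero, Nat.zero_xor] at e'
    exact e'.symm

theorem word_add_cls_mem (m : ℕ) : word m + word (cls m <<< 12) ∈ golayCode := by
  rw [shiftLeft_cls, word_xor, ← add_assoc, GolayModule.add_self_word, zero_add]
  exact word_enc_mem _

theorem imgMask_lt {d : ℕ} (hd : validPerm d = true) (m : ℕ) : imgMask d m < 2 ^ 24 := by
  refine Nat.lt_pow_two_of_testBit _ fun i hi => ?_
  by_contra h
  rw [Bool.not_eq_false] at h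
  obtain ⟨k, hk, -, he⟩ := (testBit_imgAux d m i 24).1 h
  have := fn_lt_of_valid hd hk
  omega

theorem zmod_two_natCast (n : ℕ) : ((n : ZMod 2) = 0) ↔ n % 2 = 0 := by
  rw [ZMod.natCast_eq_zero_iff_even, Nat.even_iff]

theorem ev_word_iff (m : ℕ) : Ev (word m) ↔ evenB m = true := by
  rw [evenB, beq_iff_eq, ← card_pts, ← zmod_two_natCast, Ev, pts]
  simp [word]

theorem evenB_cls {m : ℕ} (h : evenB m = true) : evenB (cls m <<< 12) = true := by
  rw [← ev_word_iff] at h ⊢
  have h2 : Ev (word m + word (cls m <<< 12)) := by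
    have := self_orthogonal (word_add_cls_mem m) GolayModule.one_mem
    simpa [Ev] using this
  have := ev_add h h2
  rwa [← add_assoc, GolayModule.add_self_word, zero_add] at this

theorem evenB_shift : ∀ h < 4096, evenB (h <<< 12) = evenB h := by
  have h : allBits (fun h => evenB (h <<< 12) == evenB h) 12 0 = true := by decide +kernel
  intro k hk
  simpa using forall_lt_two_pow h (k := 12) hk

theorem evenB_cls' {m : ℕ} (hm : m < 2 ^ 24) (h : evenB m = true) : evenB (cls m) = true := by
  rw [← evenB_shift _ (cls_lt hm)]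
  exact evenB_cls h

theorem of_overClasses {p : ℕ → Bool} (h : overClasses p = true) {k : ℕ} (hk : k < 4096)
    (he : evenB k = true) : p k = true := by
  have := forall_lt_two_pow h (k := 12) hk
  simpa [he] using this

/-- The element of M24 with a given code. -/
noncomputable def pe (d : ℕ) (h : isAut d = true) : ↥M24 := ⟨Golay.toPerm d, toPerm_mem_M24 h⟩

theorem isAut_of_h0Ok {d : ℕ} (h : h0Ok d = true) : isAut d = true :=
  (Bool.and_eq_true_iff.mp (Bool.and_eq_true_iff.mp (Bool.and_eq_true_iff.mp h).1).1).1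

theorem pe_coe {d : ℕ} (hd : isAut d = true) : ((pe d hd : ↥M24) : Equiv.Perm GolayPt) = Golay.toPerm d := by simp only [pe]

theorem sh_pe {d : ℕ} (hd : isAut d = true) (m : ℕ) : sh (pe d hd) (word m) = word (imgMask d m) := by
  rw [GolayModule.word_imgMask (validPerm_of_isAut hd)]
  funext p
  rw [sh, pe_coe]

theorem evenB_imgMask {d : ℕ} (hd : isAut d = true) {m : ℕ} (h : evenB m = true) :
    evenB (imgMask d m) = true := by
  rw [← ev_word_iff] at h ⊢
  rw [← sh_pe hd, Ev, sum_sh]
  exact h

/-! ### The model -/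

variable {G : Type*} [Group G] [Finite G] {D : SplitData G} (M : VModel D)

/-- The element of `V` of a class. -/
def psi (h : ℕ) : G := M.phi (word (h <<< 12))

theorem psi_mem (h : ℕ) : psi M h ∈ D.V := M.mem _

theorem phi_congr {v w : Wd} (hv : Ev v) (hw : Ev w) (h : v + w ∈ golayCode) : M.phi v = M.phi w := by
  have e := (M.ker _ (ev_add hv hw)).2 h
  rw [M.map_add] at e
  rw [mul_eq_one_iff_eq_inv.1 e, D.inv_eq (M.mem _)]

theorem psi_cls {m : ℕ} (he : evenB m = true) : psi M (cls m) = M.phi (word m) :=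
  (phi_congr M ((ev_word_iff _).2 he) ((ev_word_iff _).2 (evenB_cls he)) (word_add_cls_mem m)).symm

theorem psi_xor (a b : ℕ) : psi M (a ^^^ b) = psi M a * psi M b := by
  rw [psi, Nat.shiftLeft_xor_distrib, word_xor, M.map_add]; rfl

theorem psi_zero : psi M 0 = 1 := by
  have h := psi_xor M 0 0
  rwa [Nat.xor_zero, left_eq_mul] at h

theorem psi_injective {a b : ℕ} (ha : a < 4096) (hb : b < 4096) (ea : evenB a = true) (eb : evenB b = true)
    (h : psi M a = psi M b) : a = b := by
  have h1 : psi M (a ^^^ b) = 1 := by rw [psi_xor, h, D.sq_one (psi_mem M b)]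
  have hab : a ^^^ b < 4096 := Nat.xor_lt_two_pow (n := 12) ha hb
  have hev : Ev (word ((a ^^^ b) <<< 12)) := by
    rw [Nat.shiftLeft_xor_distrib, word_xor]
    exact ev_add ((ev_word_iff _).2 (by rw [evenB_shift _ ha, ea]))
      ((ev_word_iff _).2 (by rw [evenB_shift _ hb, eb]))
  have h2 := (M.ker _ hev).1 h1
  rw [word_mem_iff_cls (shiftLeft_lt hab), cls_shiftLeft hab] at h2
  exact Nat.xor_eq_zero_iff.1 h2

theorem psi_surj {x : G} (hx : x ∈ D.V) : ∃ h < 4096, evenB h = true ∧ psi M h = x := by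
  obtain ⟨w, hw, rfl⟩ := M.surj x hx
  have hm : evenB (maskOf (support₂ w)) = true := by rwa [← ev_word_iff, word_maskOf_support₂]
  exact ⟨_, cls_lt (maskOf_lt _), evenB_cls' (maskOf_lt _) hm,
    by rw [psi_cls M hm, word_maskOf_support₂]⟩

theorem psi_act {d : ℕ} (hd : isAut d = true) {h : ℕ} (hh : h < 4096) (he : evenB h = true) :
    D.el (pe d hd) * psi M h * (D.el (pe d hd))⁻¹ = psi M (act d h) := by
  have hm : evenB (h <<< 12) = true := by rw [evenB_shift _ hh, he]
  rw [psi, M.equiv _ _ ((ev_word_iff _).2 hm), sh_pe, act, psi_cls M (evenB_imgMask hd hm)]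

theorem act_lt {d : ℕ} (hd : isAut d = true) (h : ℕ) : act d h < 4096 :=
  cls_lt (imgMask_lt (validPerm_of_isAut hd) _)

theorem evenB_act {d : ℕ} (hd : isAut d = true) {h : ℕ} (hh : h < 4096) (he : evenB h = true) :
    evenB (act d h) = true := by
  have hv := validPerm_of_isAut hd
  exact evenB_cls' (imgMask_lt hv _) (evenB_imgMask hd (by rw [evenB_shift _ hh, he]))

/-- A coded element fixes `psi h` exactly when it fixes the class. -/
theorem psi_fixed_iff {d : ℕ} (hd : isAut d = true) {h : ℕ} (hh : h < 4096) (he : evenB h = true) :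
    D.el (pe d hd) * psi M h * (D.el (pe d hd))⁻¹ = psi M h ↔ act d h = h := by
  rw [psi_act M hd hh he]
  exact ⟨psi_injective M (act_lt hd h) hh (evenB_act hd hh he) he, fun e => by rw [e]⟩

/-- The element of `V` of a set of points. -/
noncomputable def vset (t : Finset GolayPt) : G := M.phi (GolayModule.indW t)

theorem ev_indW_iff (t : Finset GolayPt) : Ev (GolayModule.indW t) ↔ t.card % 2 = 0 := by
  rw [← zmod_two_natCast, Ev]
  simp [GolayModule.indW]

theorem sh_indW (σ : ↥M24) (t : Finset GolayPt) :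
    sh σ (GolayModule.indW t) = GolayModule.indW ((σ : Equiv.Perm GolayPt) • t) := by
  funext p
  simp only [sh, GolayModule.indW, ← Finset.inv_smul_mem_iff, Equiv.Perm.smul_def, Equiv.Perm.inv_def]

theorem vset_smul (σ : ↥M24) {t : Finset GolayPt} (ht : t.card % 2 = 0) :
    D.el σ * vset M t * (D.el σ)⁻¹ = vset M ((σ : Equiv.Perm GolayPt) • t) := by
  rw [vset, M.equiv σ _ ((ev_indW_iff t).2 ht), sh_indW]; rfl

theorem word_eq_indW (m : ℕ) : word m = GolayModule.indW (pts m) := by
  refine eq_of_support₂_eq ?_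
  rw [support₂_word, GolayModule.support₂_indW]

theorem vset_pts {m : ℕ} (he : evenB m = true) : vset M (pts m) = psi M (cls m) := by
  rw [psi_cls M he, word_eq_indW]; rfl

theorem pair_eq_indW {a b : GolayPt} (hab : a ≠ b) : GolayModule.pair a b = GolayModule.indW {a, b} := by
  funext p
  simp only [GolayModule.pair, GolayModule.indW, Pi.add_apply, Pi.single_apply, Finset.mem_insert,
    Finset.mem_singleton]
  by_cases h1 : p = a
  · subst h1; simp [hab]
  · simp [h1]

theorem support_add (s t : Finset GolayPt) :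
    GolayModule.indW s + GolayModule.indW t = GolayModule.indW (s ∆ t) := by
  funext p
  by_cases h1 : p ∈ s <;> by_cases h2 : p ∈ t <;>
    simp [GolayModule.indW, Finset.mem_symmDiff, h1, h2, CharTwo.add_self_eq_zero]

/-- Two sets with the same element differ in a code word. -/
theorem vset_eq {s t : Finset GolayPt} (hs : s.card % 2 = 0) (ht : t.card % 2 = 0) (h : vset M s = vset M t) :
    GolayModule.indW (s ∆ t) ∈ golayCode := by
  rw [← support_add]
  refine (M.ker _ (ev_add ((ev_indW_iff s).2 hs) ((ev_indW_iff t).2 ht))).1 ?_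
  rw [M.map_add]
  show vset M s * vset M t = 1
  rw [h]
  exact D.sq_one (M.mem _)

theorem vset_eq_short {s t : Finset GolayPt} (hs : s.card % 2 = 0) (ht : t.card % 2 = 0)
    (h8 : s.card + t.card < 8) (h : vset M s = vset M t) : s = t := by
  refine symmDiff_eq_bot.1 (GolayModule.eq_empty_of_indW_mem (vset_eq M hs ht h) ?_)
  exact lt_of_le_of_lt ((Finset.card_le_card (by intro p; simp [Finset.mem_symmDiff]; tauto :
      s ∆ t ⊆ s ∪ t)).trans (Finset.card_union_le s t)) h8

/-- Tetrads with the same element have the same sextet. -/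
theorem sextetOf_eq_of_vset {s t : Finset GolayPt} (hs : s.card = 4) (ht : t.card = 4)
    (h : vset M s = vset M t) : sextetOf s = sextetOf t := by
  by_cases hst : s = t
  · rw [hst]
  have hc := vset_eq M (by omega) (by omega) h
  have hsup : s ∆ t ∈ supports (golayCode : Set (GolayPt → ZMod 2)) :=
    ⟨_, hc, GolayModule.support₂_indW _⟩
  have hw := card_mem_weights hsup
  have h0 : (s ∆ t).card ≠ 0 := fun e => hst (symmDiff_eq_bot.1 (Finset.card_eq_zero.1 e))
  have hle := card_symmDiff_add s t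
  have ho : s ∆ t ∈ octads := ⟨hsup, by omega⟩
  have hd : Disjoint s t := Finset.disjoint_iff_inter_eq_empty.2 (Finset.card_eq_zero.1 (by omega))
  refine eq_sextetOf (sextetOf_mem hs) (Finset.mem_insert_of_mem (Finset.mem_image.2 ⟨s ∆ t, ?_, ?_⟩))
  · refine mem_octadsThrough.2 ⟨ho, fun p hp => ?_⟩
    exact Finset.mem_symmDiff.2 (Or.inl ⟨hp, Finset.disjoint_left.1 hd hp⟩)
  · rw [hd.symmDiff_eq_sup, Finset.sup_eq_union]
    exact Finset.union_sdiff_cancel_left hd

end Cfsg.Agent.J4Type.Pentad
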