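import Cfsg.Agent.Lib.J4Type.TCoord
import Cfsg.Agent.Lib.J4Type.DuadLabels
import Cfsg.Agent.Lib.Golay.Mathieu

/-!
The normaliser of `Vo` induces M24 on it (helper19).

* `Setting.exists_duad_perm` : an element of the normaliser permutes the duad labels as an element of M24
* `Setting.isoM24_quotient` : `N(V)/V` is M24
* `Setting.exists_conj_Vg` : every elementary subgroup of order 2^11 is conjugate to `V`
-/

set_option autoImplicit false
set_option maxHeartbeats 1000000
set_option linter.style.haveILetI false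
set_option linter.unusedSectionVars false
open scoped Pointwise symmDiff
open Cfsg Subgroup

namespace Cfsg.Agent.J4Type.Setting

open Cfsg.Agent.Golay TModel

variable {G : Type*} [Group G] [Finite G] {z : G} {P : Subgroup G} (S : Setting z P)
  {o : Finset GolayPt} (ho : HexOct o)
include S ho

/-- An element of the normaliser acts on the labels as an element of M24. -/
theorem exists_duad_perm (hs : IsSimpleGroup G) (hG : ¬ IsMulCommutative G) {Φ : ℕ → ↥(Cz z)}
    (hxor : ∀ x y, Φ (x ^^^ y) = Φ x * Φ y) (hbij : Set.BijOn Φ (Set.Iio 2048) (S.Vo ho))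
    (hT : ∀ x < 2048, (Φ x ∈ S.Tz ho ↔ tMask.testBit x = true)) {n : G}
    (hn : n ∈ Subgroup.normalizer (S.Vg ho : Set G)) :
    ∃ σ ∈ M24, ∀ s : Finset GolayPt, s.card = 2 →
      n * (Φ (vset s) : G) * n⁻¹ = (Φ (vset (σ • s)) : G) := by
  classical
  have hlab : ∀ s : Finset GolayPt, s.card = 2 → Φ (vset s) ∈ S.Tz ho :=
    fun s hs => (hT _ (vset_lt s)).2 (vset_duad hs)
  -- the map of the duads
  have hex : ∀ s : Finset GolayPt, ∃ t : Finset GolayPt, s.card = 2 →
      t.card = 2 ∧ n * (Φ (vset s) : G) * n⁻¹ = (Φ (vset t) : G) := by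
    intro s
    by_cases hs2 : s.card = 2
    · obtain ⟨y, hy, he⟩ := S.conj_mem_Tz ho hn (hlab s hs2)
      obtain ⟨x, hx, rfl⟩ := hbij.2.2 hy.1
      obtain ⟨t, ht, rfl⟩ := exists_duad_of_testBit ((hT x hx).1 hy)
      exact ⟨t, fun _ => ⟨ht, he.symm⟩⟩
    · exact ⟨s, fun h => absurd h hs2⟩
  choose d hd using hex
  have hdinj : ∀ s t, s.card = 2 → t.card = 2 → d s = d t → s = t := by
    intro s t hs ht h
    have h1 := (hd s hs).2
    rw [h, ← (hd t ht).2] at h1
    exact duad_inj hs ht (hbij.2.1 (vset_lt s) (vset_lt t) (Subtype.ext (mul_left_cancel (mul_right_cancel h1))))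
  have hdmeet : ∀ s t, s.card = 2 → t.card = 2 → (s ∩ t).card = 1 → (d s ∩ d t).card = 1 := by
    intro s t hs ht h
    rw [meet_iff (hd s hs).1 (hd t ht).1]
    have hx : vset s ^^^ vset t < 2048 := Nat.xor_lt_two_pow (n := 11) (vset_lt s) (vset_lt t)
    obtain ⟨y, hy, he⟩ := S.conj_mem_Tz ho hn ((hT _ hx).2 ((meet_iff hs ht).1 h))
    have hy' : Φ (vset (d s) ^^^ vset (d t)) = y := by
      refine Subtype.ext ?_
      rw [he, hxor, hxor, Subgroup.coe_mul, Subgroup.coe_mul, ← (hd s hs).2, ← (hd t ht).2]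
      group
    exact (hT _ (Nat.xor_lt_two_pow (n := 11) (vset_lt _) (vset_lt _))).1 (hy' ▸ hy)
  obtain ⟨τ, hτ⟩ := exists_perm_of_duads d (fun s hs => (hd s hs).1) hdinj hdmeet
  have hpair : ∀ s : Finset GolayPt, s.card = 2 → n * (Φ (vset s) : G) * n⁻¹ = (Φ (vset (τ • s)) : G) :=
    fun s hs => hτ s hs ▸ (hd s hs).2
  have hzero : Φ 0 = 1 := by
    have h := hxor 0 0
    rw [Nat.xor_self] at h
    exact mul_eq_left.1 h.symm
  have heven : ∀ k, ∀ s : Finset GolayPt, s.card = 2 * k → n * (Φ (vset s) : G) * n⁻¹ = (Φ (vset (τ • s)) : G) := by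
    intro k
    induction k with
    | zero =>
      intro s hs
      rw [Finset.card_eq_zero.1 (by omega : s.card = 0), Finset.smul_finset_empty, vset_empty, hzero]
      simp
    | succ k ih =>
      intro s hs
      obtain ⟨p, hps, hp⟩ := Finset.exists_subset_card_eq (s := s) (n := 2) (by omega)
      have hsd : s = (s \ p) ∆ p := by
        ext x
        simp only [Finset.mem_symmDiff, Finset.mem_sdiff]
        constructor
        · intro h; by_cases hx : x ∈ p
          · exact Or.inr ⟨hx, fun h' => h'.2 hx⟩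
          · exact Or.inl ⟨⟨h, hx⟩, hx⟩
        · rintro (⟨⟨h, -⟩, -⟩ | ⟨h, -⟩)
          · exact h
          · exact hps h
      have hc : (s \ p).card = 2 * k := by rw [Finset.card_sdiff_of_subset hps]; omega
      rw [hsd, vset_symmDiff, smul_symmDiff, vset_symmDiff, hxor, hxor, Subgroup.coe_mul, Subgroup.coe_mul,
        ← ih _ hc, ← hpair p hp]
      group
  refine ⟨τ, ?_, hpair⟩
  rw [mem_M24_iff]
  intro s hs'
  obtain ⟨x, hx, rfl⟩ := mem_supports_iff_exists.1 hs'
  have hw := card_mem_weights hs'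
  have heven2 : (pts (enc x)).card = 2 * ((pts (enc x)).card / 2) := by omega
  have hz : vset (pts (enc x)) = 0 := by
    rw [vset, maskOf_pts (enc_lt x)]
    have hk : ∀ gs : List ℕ, (∀ g ∈ gs, encAux eta g = 0) → ∀ y, encAux eta (encAux gs y) = 0 := by
      intro gs
      induction gs with
      | nil => intro _ y; exact encAux_zero _
      | cons g gs ih =>
        intro hg y
        simp only [encAux, encAux_xor, ih fun a ha => hg a (List.mem_cons_of_mem _ ha)]
        split
        · simp [hg g List.mem_cons_self]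
        · simp [encAux_zero]
    exact hk rows (fun g hg => beq_iff_eq.1 (List.all_eq_true.1 eta_ker g hg)) x
  have h1 := heven _ _ heven2
  rw [hz, hzero] at h1
  have h2 : Φ (vset (τ • pts (enc x))) = Φ 0 := by
    rw [hzero]
    exact Subtype.ext (h1.symm.trans (by simp))
  rw [mem_supports_iff]
  refine code_of_vset_eq_zero ?_ (hbij.2.1 (vset_lt _) (show (0 : ℕ) < 2048 by norm_num) h2)
  rw [Finset.card_smul_finset, heven2]
  exact even_two_mul _

omit ho S in
theorem perm_ext_duads {σ τ : Equiv.Perm GolayPt}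
    (h : ∀ s : Finset GolayPt, s.card = 2 → σ • s = τ • s) : σ = τ := by
  refine Equiv.ext fun a => ?_
  obtain ⟨b, c, hab, hac, hbc⟩ := (by decide +kernel : ∀ a : GolayPt,
    ∃ b c : GolayPt, a ≠ b ∧ a ≠ c ∧ b ≠ c) a
  by_contra hne
  have hmem : ∀ b : GolayPt, a ≠ b → τ a = σ b := by
    intro b hab
    have h1 : τ a ∈ σ • ({a, b} : Finset GolayPt) := by
      rw [h _ (Finset.card_pair hab), Finset.smul_finset_insert]
      exact Finset.mem_insert_self _ _
    rw [Finset.smul_finset_insert, Finset.smul_finset_singleton, Finset.mem_insert, Finset.mem_singleton] at h1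
    exact h1.resolve_left fun e => hne e.symm
  exact hbc (σ.injective ((hmem b hab).symm.trans (hmem c hac)))

/-- **The quotient is M24.** -/
theorem isoM24_quotient (hs : IsSimpleGroup G) (hG : ¬ IsMulCommutative G) :
    Spor.IsoM24 (↥(Subgroup.normalizer (S.Vg ho : Set G)) ⧸
      (S.Vg ho).subgroupOf (Subgroup.normalizer (S.Vg ho : Set G))) := by
  classical
  obtain ⟨Φ, hxor, hbij, hT⟩ := S.exists_model ho hs hG
  set N := Subgroup.normalizer (S.Vg ho : Set G) with hN
  choose χ hχM hχ using fun n : ↥N => S.exists_duad_perm ho hs hG hxor hbij hT n.2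
  have huniq : ∀ (n : ↥N) (σ : Equiv.Perm GolayPt),
      (∀ s : Finset GolayPt, s.card = 2 → (n : G) * (Φ (vset s) : G) * (n : G)⁻¹ = (Φ (vset (σ • s)) : G)) →
      χ n = σ := fun n σ h => perm_ext_duads fun s hs2 =>
    duad_inj (by rw [Finset.card_smul_finset, hs2]) (by rw [Finset.card_smul_finset, hs2])
      (hbij.2.1 (vset_lt _) (vset_lt _) (Subtype.ext ((hχ n s hs2).symm.trans (h s hs2))))
  let f : ↥N →* ↥M24 :=
    { toFun := fun n => ⟨χ n, hχM n⟩
      map_one' := Subtype.ext (huniq 1 1 fun s _ => by simp)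
      map_mul' := fun m n => Subtype.ext (huniq (m * n) (χ m * χ n) fun s hs2 => by
        rw [mul_smul, ← hχ m (χ n • s) (by rw [Finset.card_smul_finset, hs2]), ← hχ n s hs2, Subgroup.coe_mul]
        group) }
  have hker : f.ker = (S.Vg ho).subgroupOf N := by
    refine le_antisymm (fun n hn => ?_) fun n hn => ?_
    · -- fixing the labels it centralises everything
      have hfix : ∀ s : Finset GolayPt, s.card = 2 → (n : G) * (Φ (vset s) : G) = (Φ (vset s) : G) * n := by
        intro s hs2
        have h1 := hχ n s hs2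
        rw [show χ n = 1 from congrArg Subtype.val hn, one_smul] at h1
        exact mul_inv_eq_iff_eq_mul.1 h1
      have hpt : ∀ p : GolayPt, (n : G) * (Φ (et p) : G) = (Φ (et p) : G) * n := by
        intro p
        by_cases hp : p = none
        · have h0 := hxor 0 0
          rw [Nat.xor_self] at h0
          rw [hp, show et none = 0 from rfl, mul_eq_left.1 h0.symm]
          simp
        · have h1 := hfix {none, p} (Finset.card_pair (Ne.symm hp))
          rw [vset_pair (Ne.symm hp), show et none = 0 from rfl, Nat.zero_xor] at h1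
          exact h1
      let C : Set ℕ := {x | (n : G) * (Φ x : G) = (Φ x : G) * n}
      have hCxor : ∀ x ∈ C, ∀ y ∈ C, x ^^^ y ∈ C := fun x hx y hy => by
        show (n : G) * (Φ (x ^^^ y) : G) = (Φ (x ^^^ y) : G) * n
        rw [hxor, Subgroup.coe_mul]
        exact ((show Commute (n : G) (Φ x : G) from hx).mul_right hy).eq
      have hC0 : 0 ∈ C := by
        have := hpt none
        exact this
      have henc : ∀ gs : List ℕ, (∀ g ∈ gs, g ∈ C) → ∀ y, encAux gs y ∈ C := by
        intro gs
        induction gs with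
        | nil => intro _ y; exact hC0
        | cons g gs ih =>
          intro hg y
          simp only [encAux]
          refine hCxor _ ?_ _ (ih (fun a ha => hg a (List.mem_cons_of_mem _ ha)) _)
          split
          · exact hg g List.mem_cons_self
          · exact hC0
      have heta : ∀ g ∈ eta, g ∈ C := by
        intro g hg
        obtain ⟨i, hi, rfl⟩ := List.getElem_of_mem hg
        have hi24 : i < 24 := hi
        have h1 : et (pt i) ∈ C := hpt _
        rw [et, idx_pt hi24, etaAt, List.getD_eq_getElem eta 0 hi] at h1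
        exact h1
      have hunit : ∀ k, k < 11 → 2 ^ k ∈ C := fun k hk => by
        rw [← beq_iff_eq.1 (List.all_eq_true.1 eta_gen k (List.mem_range.2 hk))]
        exact henc eta heta _
      have hall : ∀ j x, j ≤ 11 → x < 2 ^ j → x ∈ C := by
        intro j
        induction j with
        | zero => intro x _ hx; rw [show x = 0 by omega]; exact hC0
        | succ j ih =>
          intro x hj hx
          by_cases hlt : x < 2 ^ j
          · exact ih x (by omega) hlt
          · have h1 : x ^^^ 2 ^ j < 2 ^ j := by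
              apply Nat.lt_pow_two_of_testBit
              intro i hi
              rw [Nat.testBit_xor, Nat.testBit_two_pow]
              rcases Nat.eq_or_lt_of_le hi with rfl | hlt'
              · simp [Nat.testBit_eq_decide_div_mod_eq, show x / 2 ^ j = 1 from
                  Nat.div_eq_of_lt_le (by omega) (by rw [pow_succ] at hx; omega)]
              · rw [Nat.testBit_lt_two_pow (lt_of_lt_of_le hx (Nat.pow_le_pow_right (by norm_num) hlt'))]
                simp [show j ≠ i by omega]
            have h2 := hCxor _ (ih _ (by omega) h1) _ (hunit j (by omega))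
            rwa [Nat.xor_assoc, Nat.xor_self, Nat.xor_zero] at h2
      refine Subgroup.mem_subgroupOf.2 (S.mem_Vg_of_comm ho fun v hv => ?_)
      obtain ⟨y, hy, rfl⟩ := S.exists_of_mem_Vg ho hv
      obtain ⟨x, hx, rfl⟩ := hbij.2.2 hy
      exact (hall 11 x le_rfl hx).symm
    · have hn' : (n : G) ∈ S.Vg ho := Subgroup.mem_subgroupOf.1 hn
      refine Subtype.ext (huniq n 1 fun s _ => ?_)
      obtain ⟨y, hy, he⟩ := S.exists_of_mem_Vg ho hn'
      rw [one_smul, ← he, ← Subgroup.coe_mul, S.Vo_comm ho hy (hbij.1 (vset_lt s)), Subgroup.coe_mul,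
        mul_inv_cancel_right]
  haveI : ((S.Vg ho).subgroupOf N).Normal := hker ▸ inferInstance
  have hsurj : Function.Surjective f := by
    refine MonoidHom.range_eq_top.1 (Subgroup.eq_top_of_card_eq _ ?_)
    rw [natCard_M24, ← Subgroup.index_ker, hker]
    have h := ((S.Vg ho).subgroupOf N).index_mul_card
    rw [Nat.card_congr (Subgroup.subgroupOfEquivOfLe (Subgroup.le_normalizer (H := S.Vg ho))).toEquiv,
      S.natCard_Vg ho, hN, S.natCard_normalizer_Vg ho hs hG, Nat.mul_comm (2 ^ 11) 244823040] at h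
    exact Nat.eq_of_mul_eq_mul_right (by norm_num) h
  let e : (↥N ⧸ (S.Vg ho).subgroupOf N) ≃* ↥M24 :=
    (QuotientGroup.quotientMulEquivOfEq hker).symm.trans (QuotientGroup.quotientKerEquivOfSurjective f hsurj)
  exact ⟨e⟩

omit ho in
/-- Every elementary subgroup of order `2^11` is conjugate to `V`. -/
theorem exists_conj_Vg {o : Finset GolayPt} (ho : HexOct o) {V : Subgroup G} (hV : IsElementaryAbelian 2 V)
    (hVc : Nat.card ↥V = 2 ^ 11) : ∃ g : G, V.map (MulAut.conj g).toMonoidHom = S.Vg ho := by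
  haveI : Fact (Nat.Prime 2) := ⟨Nat.prime_two⟩
  obtain ⟨T0, hT0⟩ := S.exists_sylow_le_Cz
  obtain ⟨T2, hT2⟩ := (IsPGroup.of_card hVc : IsPGroup 2 ↥V).exists_le_sylow
  obtain ⟨g, hg⟩ := MulAction.exists_smul_eq G T2 T0
  set A := V.map (MulAut.conj g).toMonoidHom
  have hAle : A ≤ Cz z := by
    rintro _ ⟨x, hx, rfl⟩
    refine hT0 ?_
    rw [← hg, Sylow.coe_subgroup_smul]
    exact Subgroup.smul_mem_pointwise_smul x (MulAut.conj g) _ (hT2 hx)
  have hA : IsElementaryAbelian 2 A := by
    refine ⟨⟨⟨?_⟩⟩, ?_⟩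
    · rintro ⟨_, a, ha, rfl⟩ ⟨_, b, hb, rfl⟩
      refine Subtype.ext ?_
      show (MulAut.conj g) a * (MulAut.conj g) b = (MulAut.conj g) b * (MulAut.conj g) a
      rw [← map_mul, ← map_mul, show a * b = b * a from congrArg Subtype.val (hV.1.is_comm.comm ⟨a, ha⟩ ⟨b, hb⟩)]
    · rintro _ ⟨a, ha, rfl⟩
      rw [← map_pow, hV.2 a ha, map_one]
  have hAc : Nat.card ↥A = 2 ^ 11 := by
    rw [← Nat.card_congr (Subgroup.equivMapOfInjective _ _ (MulAut.conj g).injective).toEquiv, hVc]
  obtain ⟨hel, hcard⟩ := S.isElementary_Vo ho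
  obtain ⟨h, -, hmap⟩ := S.conj_le_Cz hA hAc hAle hel hcard (S.Vg_le_Cz ho)
  refine ⟨h * g, ?_⟩
  show _ = (S.Vo ho).map (Cz z).subtype
  rw [← hmap, Subgroup.map_map]
  congr 1
  ext x
  simp [MulAut.conj_apply, mul_assoc]

end Cfsg.Agent.J4Type.Setting
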