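import Cfsg.Agent.EqLemmas
import Mathlib

/-!
A field with four elements acting through a fixed-point-free operator of order three (helper19).

* `K4`, its field structure and `K4.zeta`
* `opHom` : the ring map `K4 →+* Module.End (ZMod 2) U` of an operator `w` with `w² + w + 1 = 0`
* `finrank_dvd_three` : if `w` lies in the commutator subgroup of a group of `K4`-linear maps, the
  dimension is a multiple of three
* `opHom_relation` : `w³ = 1` without fixed points gives `w² + w + 1 = 0`
-/

set_option autoImplicit false
set_option linter.style.haveILetI false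

namespace Cfsg.Agent.J4Type

/-- The field with four elements, as pairs `a + b ζ` with `ζ² = ζ + 1`. -/
structure K4 where
  /-- constant part -/
  a : ZMod 2
  /-- coefficient of `ζ` -/
  b : ZMod 2
deriving DecidableEq

namespace K4

/-- The pairs. -/
def equivProd : K4 ≃ ZMod 2 × ZMod 2 := ⟨fun x => (x.a, x.b), fun p => ⟨p.1, p.2⟩, fun _ => rfl, fun _ => rfl⟩

instance : Fintype K4 := Fintype.ofEquiv _ equivProd.symm

instance : Zero K4 := ⟨⟨0, 0⟩⟩
instance : One K4 := ⟨⟨1, 0⟩⟩
instance : Add K4 := ⟨fun x y => ⟨x.a + y.a, x.b + y.b⟩⟩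
instance : Neg K4 := ⟨fun x => x⟩
instance : Mul K4 := ⟨fun x y => ⟨x.a * y.a + x.b * y.b, x.a * y.b + x.b * y.a + x.b * y.b⟩⟩
instance : Inv K4 := ⟨fun x => x * x⟩

/-- The generator. -/
def zeta : K4 := ⟨0, 1⟩

instance : Field K4 where
  add_assoc := by decide +kernel
  zero_add := by decide +kernel
  add_zero := by decide +kernel
  add_comm := by decide +kernel
  neg_add_cancel := by decide +kernel
  mul_assoc := by decide +kernel
  one_mul := by decide +kernel
  mul_one := by decide +kernel
  mul_comm := by decide +kernel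
  left_distrib := by decide +kernel
  right_distrib := by decide +kernel
  zero_mul := by decide +kernel
  mul_zero := by decide +kernel
  exists_pair_ne := ⟨0, 1, by decide⟩
  mul_inv_cancel := by decide +kernel
  inv_zero := by decide +kernel
  nsmul := nsmulRec
  zsmul := zsmulRec
  nnqsmul := _
  qsmul := _

theorem natCard_K4 : Nat.card K4 = 4 := by
  rw [Nat.card_congr equivProd, Nat.card_prod, Nat.card_zmod]

theorem zeta_relation : zeta * zeta + zeta + 1 = 0 := by decide +kernel

theorem zeta_pow_eq_one {n : ℕ} (h : zeta ^ n = 1) : 3 ∣ n := by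
  have h3 : zeta ^ 3 = 1 := by decide +kernel
  rw [← Nat.mod_add_div n 3, pow_add, pow_mul, h3, one_pow, mul_one] at h
  have hlt := Nat.mod_lt n (show 3 > 0 by norm_num)
  obtain h0 | h0 | h0 : n % 3 = 0 ∨ n % 3 = 1 ∨ n % 3 = 2 := by omega
  · exact Nat.dvd_of_mod_eq_zero h0
  · rw [h0] at h; exact absurd h (by decide +kernel)
  · rw [h0] at h; exact absurd h (by decide +kernel)

theorem cases' (x : K4) : x = 0 ∨ x = 1 ∨ x = zeta ∨ x = zeta + 1 := by revert x; decide +kernel

end K4

section

variable {U : Type*} [AddCommGroup U] [Module (ZMod 2) U]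

theorem add_self' (u : U) : u + u = 0 := ZModModule.add_self u

/-- An operator of order three without fixed points satisfies `w² + w + 1 = 0`. -/
theorem opHom_relation {w : Module.End (ZMod 2) U} (h3 : w * w * w = 1) (hf : ∀ u, w u = u → u = 0) :
    w * w + w + 1 = 0 := by
  refine LinearMap.ext fun u => hf _ ?_
  have h : w (w (w u)) = u := DFunLike.congr_fun h3 u
  simp only [LinearMap.add_apply, Module.End.mul_apply, Module.End.one_apply, map_add, h]
  abel

/-- The operator map of the field with four elements. -/
def opHom (w : Module.End (ZMod 2) U) (hw : w * w + w + 1 = 0) : K4 →+* Module.End (ZMod 2) U where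
  toFun x := x.a • 1 + x.b • w
  map_zero' := show (0 : ZMod 2) • (1 : Module.End (ZMod 2) U) + (0 : ZMod 2) • w = 0 by simp
  map_one' := show (1 : ZMod 2) • (1 : Module.End (ZMod 2) U) + (0 : ZMod 2) • w = 1 by simp
  map_add' x y := by
    show (x.a + y.a) • (1 : Module.End (ZMod 2) U) + (x.b + y.b) • w = _
    rw [add_smul, add_smul]; abel
  map_mul' x y := by
    have hww : w * w = w + 1 := by
      have h1 : w * w + (w + 1) = 0 := by rw [← add_assoc]; exact hw
      rw [eq_neg_of_add_eq_zero_left h1, ZModModule.neg_eq_self]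
    show (x.a * y.a + x.b * y.b) • (1 : Module.End (ZMod 2) U) + (x.a * y.b + x.b * y.a + x.b * y.b) • w = _
    simp only [mul_add, add_mul, smul_mul_smul_comm, one_mul, mul_one, hww, smul_add, add_smul]
    abel

theorem opHom_zeta (w : Module.End (ZMod 2) U) (hw : w * w + w + 1 = 0) : opHom w hw K4.zeta = w := by
  show (0 : ZMod 2) • (1 : Module.End (ZMod 2) U) + (1 : ZMod 2) • w = w
  simp

end

/-- If the scalar `ζ` comes from the commutator subgroup, the dimension is a multiple of three. -/
theorem finrank_dvd_three {X U : Type*} [Group X] [AddCommGroup U] [Module K4 U] [Finite U]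
    (ρ : X →* Module.End K4 U) {x : X} (hx : x ∈ commutator X) (hρ : ρ x = K4.zeta • 1) :
    3 ∣ Module.finrank K4 U := by
  let δ : X →* K4ˣ := (Units.map (LinearMap.det : Module.End K4 U →* K4)).comp ρ.toHomUnits
  have h1 : δ x = 1 := Abelianization.commutator_subset_ker δ hx
  have h2 : LinearMap.det (ρ x) = 1 := congrArg Units.val h1
  rw [hρ, LinearMap.det_smul, map_one, mul_one] at h2
  exact K4.zeta_pow_eq_one h2

theorem natCard_eq_four_pow {U : Type*} [AddCommGroup U] [Module K4 U] [Finite U] :
    Nat.card U = 4 ^ Module.finrank K4 U := by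
  rw [Module.natCard_eq_pow_finrank (K := K4), K4.natCard_K4]

end Cfsg.Agent.J4Type
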