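/-
An element of order 3 whose centraliser is a perfect sixfold cover of M22 (owner: helper40).

Main results (namespace `Cfsg.Agent.J4Type`):
* `Cover x z p` : `p` maps `C(x)` onto M22 with kernel `⟨x, z⟩`
* `exists_cover` : it exists
* `exists_conf` : if the centre of a Sylow 3-subgroup has another conjugate inside, `x` has a
  conjugate `y` in `C(x)` outside `⟨x⟩`, conjugate to `y x` in `C(x)`, and `x` is inverted in `C(z)`
-/
import Cfsg.Agent.Lib.J4Type.ThreeFacts

set_option autoImplicit false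
set_option linter.style.haveILetI false
set_option linter.unusedSectionVars false

namespace Cfsg.Agent.J4Type

open Cfsg Subgroup Cfsg.Agent.OrderM22

variable {G : Type*} [Group G]

/-- `p` induces a homomorphism of `C(x)` onto M22 with kernel `⟨x, z⟩`, central in `C(x)`. -/
structure Cover (x z : G) (p : G → ↥Spor.M22) : Prop where
  ordx : orderOf x = 3
  ordz : orderOf z = 2
  comm : Commute z x
  central : ∀ c, Commute c x → Commute c z
  map_mul : ∀ a b, Commute a x → Commute b x → p (a * b) = p a * p b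
  surj : ∀ m, ∃ c, Commute c x ∧ p c = m
  map_x : p x = 1
  map_z : p z = 1
  ker : ∀ c, Commute c x → p c = 1 → ∃ i j : ℕ, c = x ^ i * z ^ j
  perf : ⁅centralizer ({x} : Set G), centralizer ({x} : Set G)⁆ = centralizer ({x} : Set G)

namespace Cover

variable {x z : G} {p : G → ↥Spor.M22} (S : Cover x z p)
include S

theorem map_one : p 1 = 1 := by
  have h := S.map_mul 1 1 (Commute.one_left x) (Commute.one_left x)
  rwa [mul_one, left_eq_mul] at h

theorem map_inv {a : G} (ha : Commute a x) : p a⁻¹ = (p a)⁻¹ :=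
  (inv_eq_of_mul_eq_one_right (by rw [← S.map_mul a a⁻¹ ha ha.inv_left, mul_inv_cancel, S.map_one])).symm

theorem map_pow {a : G} (ha : Commute a x) (n : ℕ) : p (a ^ n) = p a ^ n := by
  induction n with
  | zero => rw [pow_zero, pow_zero, S.map_one]
  | succ n ih => rw [pow_succ, pow_succ, S.map_mul _ _ (ha.pow_left n) ha, ih]

theorem map_conj {a b : G} (ha : Commute a x) (hb : Commute b x) :
    p (a * b * a⁻¹) = p a * p b * (p a)⁻¹ := by
  rw [S.map_mul _ _ (ha.mul_left hb) ha.inv_left, S.map_mul _ _ ha hb, S.map_inv ha]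

theorem x3 : x ^ 3 = 1 := by rw [← S.ordx, pow_orderOf_eq_one]

theorem z2 : z * z = 1 := by rw [← pow_two, ← S.ordz, pow_orderOf_eq_one]

theorem z_ne : z ≠ 1 := fun h => by
  have := S.ordz
  rw [h, orderOf_one] at this
  omega

theorem x_ne : x ≠ 1 := fun h => by
  have := S.ordx
  rw [h, orderOf_one] at this
  omega

/-- An element of the kernel of exponent 3 lies in `⟨x⟩`. -/
theorem ker_three {c : G} (hc : Commute c x) (h : p c = 1) (h3 : c ^ 3 = 1) : c ∈ zpowers x := by
  obtain ⟨i, j, rfl⟩ := S.ker c hc h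
  have hj : z ^ (j * 3) = 1 := by
    have := h3
    rw [((S.comm.symm.pow_left i).pow_right j).mul_pow, ← pow_mul, ← pow_mul, mul_comm i 3, pow_mul, S.x3,
      one_pow, one_mul] at this
    exact this
  have h2 : 2 ∣ j := by
    have := orderOf_dvd_iff_pow_eq_one.2 hj
    rw [S.ordz] at this
    exact (Nat.Coprime.dvd_of_dvd_mul_right (by norm_num) this)
  obtain ⟨k, rfl⟩ := h2
  rw [pow_mul, pow_two, S.z2, one_pow, mul_one]
  exact pow_mem (mem_zpowers x) i

/-- An element of the kernel of exponent a power of 2 lies in `⟨z⟩`. -/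
theorem ker_two {c : G} (hc : Commute c x) (h : p c = 1) {n : ℕ} (h2 : c ^ 2 ^ n = 1) : c = 1 ∨ c = z := by
  obtain ⟨i, j, rfl⟩ := S.ker c hc h
  have hi : x ^ (i * 2 ^ (n + 1)) = 1 := by
    have := congrArg (· ^ 2) h2
    simp only [one_pow] at this
    rw [← pow_mul, ← pow_succ, ((S.comm.symm.pow_left i).pow_right j).mul_pow, ← pow_mul, ← pow_mul,
      show z ^ (j * 2 ^ (n + 1)) = 1 by
        rw [pow_succ', mul_left_comm, pow_mul, pow_two, S.z2, one_pow], mul_one] at this
    exact this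
  have h3 : 3 ∣ i := by
    have := orderOf_dvd_iff_pow_eq_one.2 hi
    rw [S.ordx] at this
    exact (Nat.Coprime.dvd_of_dvd_mul_right ((show Nat.Coprime 3 2 by norm_num).pow_right _) this)
  obtain ⟨k, rfl⟩ := h3
  rw [pow_mul, S.x3, one_pow, one_mul]
  obtain ⟨l, rfl | rfl⟩ := j.even_or_odd'
  · left; rw [pow_mul, pow_two, S.z2, one_pow]
  · right; rw [pow_succ, pow_mul, pow_two, S.z2, one_pow, one_mul]

theorem orderOf_map_three {c : G} (hc : Commute c x) (h3 : orderOf c = 3) (hX : c ∉ zpowers x) :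
    orderOf (p c) = 3 := by
  have h : c ^ 3 = 1 := h3 ▸ pow_orderOf_eq_one c
  refine orderOf_eq_prime (hp := ⟨Nat.prime_three⟩) (by rw [← S.map_pow hc, h, S.map_one]) fun h1 => ?_
  exact hX (S.ker_three hc h1 h)

theorem orderOf_map_two {c : G} (hc : Commute c x) (h2 : c * c = 1) (h1 : c ≠ 1) (hz : c ≠ z) :
    orderOf (p c) = 2 := by
  refine orderOf_eq_prime (hp := ⟨Nat.prime_two⟩) (by rw [← S.map_pow hc, pow_two, h2, S.map_one]) fun h => ?_
  rcases S.ker_two hc h (n := 1) (by rw [pow_one, pow_two, h2]) with h' | h'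
  exacts [h1 h', hz h']

/-- Elements of order dividing 3 with the same image. -/
theorem eq_of_map_three {a b : G} (ha : Commute a x) (hb : Commute b x) (h : p a = p b)
    (ha3 : a ^ 3 = 1) (hb3 : b ^ 3 = 1) : ∃ i : ℕ, b = a * x ^ i := by
  obtain ⟨i, j, hij⟩ := S.ker (a⁻¹ * b) (ha.inv_left.mul_left hb)
    (by rw [S.map_mul _ _ ha.inv_left hb, S.map_inv ha, h, inv_mul_cancel])
  have hb' : b = a * (x ^ i * z ^ j) := by rw [← hij, mul_inv_cancel_left]
  have hac : Commute a (x ^ i * z ^ j) := (ha.pow_right i).mul_right ((S.central a ha).pow_right j)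
  have hw : (x ^ i * z ^ j) ^ 3 = 1 := by
    rw [hb', hac.mul_pow, ha3, one_mul] at hb3
    exact hb3
  obtain ⟨k, hk⟩ := mem_zpowers_iff.1 (S.ker_three
    (((Commute.refl x).pow_left i).mul_left (S.comm.pow_left j))
    (by rw [S.map_mul _ _ ((Commute.refl x).pow_left i) (S.comm.pow_left j), S.map_pow (Commute.refl x),
      S.map_pow S.comm, S.map_x, S.map_z, one_pow, one_pow, one_mul]) hw)
  refine ⟨(k % 3).toNat, ?_⟩
  rw [hb', ← hk, ← zpow_natCast, Int.toNat_of_nonneg (Int.emod_nonneg k (by norm_num)),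
    show (3 : ℤ) = ((orderOf x : ℕ) : ℤ) by rw [S.ordx]; rfl, zpow_mod_orderOf]

/-- The data at a conjugate. -/
theorem conj (h : G) : Cover (h * x * h⁻¹) (h * z * h⁻¹) (fun g => p (h⁻¹ * g * h)) := by
  have key : ∀ {a b : G}, Commute a (h * b * h⁻¹) → Commute (h⁻¹ * a * h) b := fun {a b} hab => by
    have := hab.map (MulAut.conj h⁻¹).toMonoidHom
    simpa [mul_assoc] using this
  have key' : ∀ {a b : G}, Commute a b → Commute (h * a * h⁻¹) (h * b * h⁻¹) := fun hab =>
    hab.map (MulAut.conj h).toMonoidHom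
  refine ⟨?_, ?_, key' S.comm, ?_, ?_, ?_, ?_, ?_, ?_, ?_⟩
  · exact (orderOf_injective (MulAut.conj h).toMonoidHom (MulAut.conj h).injective x).trans S.ordx
  · exact (orderOf_injective (MulAut.conj h).toMonoidHom (MulAut.conj h).injective z).trans S.ordz
  · intro c hc
    have := key' (S.central _ (key hc))
    rwa [show h * (h⁻¹ * c * h) * h⁻¹ = c by group] at this
  · intro a b ha hb
    rw [show h⁻¹ * (a * b) * h = h⁻¹ * a * h * (h⁻¹ * b * h) by group, S.map_mul _ _ (key ha) (key hb)]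
  · intro m
    obtain ⟨c, hc, hm⟩ := S.surj m
    exact ⟨h * c * h⁻¹, key' hc, by rw [← hm]; exact congrArg p (by group)⟩
  · show p (h⁻¹ * (h * x * h⁻¹) * h) = 1
    rw [show h⁻¹ * (h * x * h⁻¹) * h = x by group, S.map_x]
  · show p (h⁻¹ * (h * z * h⁻¹) * h) = 1
    rw [show h⁻¹ * (h * z * h⁻¹) * h = z by group, S.map_z]
  · intro c hc hp
    obtain ⟨i, j, hij⟩ := S.ker _ (key hc) hp
    refine ⟨i, j, ?_⟩
    calc c = h * (h⁻¹ * c * h) * h⁻¹ := by group
      _ = h * (x ^ i * z ^ j) * h⁻¹ := by rw [hij]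
      _ = _ := by rw [conj_pow, conj_pow]; group
  · have e : centralizer ({h * x * h⁻¹} : Set G) = (centralizer ({x} : Set G)).map (MulAut.conj h).toMonoidHom := by
      ext g
      constructor
      · intro hg
        exact ⟨h⁻¹ * g * h, mem_centralizer_singleton_iff.2 (key (mem_centralizer_singleton_iff.1 hg)).eq,
          by show h * (h⁻¹ * g * h) * h⁻¹ = g; group⟩
      · rintro ⟨a, ha, rfl⟩
        exact mem_centralizer_singleton_iff.2 (key' (mem_centralizer_singleton_iff.1 ha)).eq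
    rw [e, ← map_commutator, S.perf]

end Cover

variable [Finite G]

/-- The data of a sixfold cover. -/
theorem exists_cover {x : G} (hx : orderOf x = 3)
    (hperf : ⁅(⊤ : Subgroup ↥(centralizer ({x} : Set G))), (⊤ : Subgroup ↥(centralizer ({x} : Set G)))⁆ = ⊤)
    (hZc : Nat.card ↥(center ↥(centralizer ({x} : Set G))) = 6)
    (e : ↥(centralizer ({x} : Set G)) ⧸ center ↥(centralizer ({x} : Set G)) ≃* ↥Spor.M22) :
    ∃ z p, Cover x z p := by
  classical
  set C := centralizer ({x} : Set G) with hC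
  set π : C →* ↥Spor.M22 := e.toMonoidHom.comp (QuotientGroup.mk' (center C)) with hπ
  have hker : ∀ c : C, π c = 1 ↔ c ∈ center C := fun c => by
    rw [hπ, MonoidHom.comp_apply, MulEquiv.coe_toMonoidHom, EmbeddingLike.map_eq_one_iff,
      QuotientGroup.mk'_apply, QuotientGroup.eq_one_iff]
  have hxC : x ∈ C := mem_centralizer_singleton_iff.2 rfl
  set x' : C := ⟨x, hxC⟩
  have hx'Z : x' ∈ center C := mem_center_iff.2 fun c =>
    Subtype.ext (mem_centralizer_singleton_iff.1 c.2)
  obtain ⟨⟨z', hz'Z⟩, hz'⟩ := exists_prime_orderOf_dvd_card' (G := center C) (hp := ⟨Nat.prime_two⟩) 2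
    (by rw [hZc]; norm_num)
  rw [Subgroup.orderOf_mk] at hz'
  have hxz : Commute x' z' := ((mem_center_iff.1 hx'Z) z').symm
  have hx'o : orderOf x' = 3 := by rw [← Subgroup.orderOf_coe]; exact hx
  have hgen : ∀ c ∈ center C, ∃ i j : ℕ, c = x' ^ i * z' ^ j := by
    intro c hc
    have ho : orderOf (x' * z') = 6 := by
      rw [hxz.orderOf_mul_eq_mul_orderOf_of_coprime (by rw [hx'o, hz']; norm_num), hx'o, hz']
    have hle : zpowers (x' * z') ≤ center C := zpowers_le.2 (mul_mem hx'Z hz'Z)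
    have heq := eq_of_le_of_card_ge hle (by rw [hZc, Nat.card_zpowers, ho])
    rw [← heq, ← mem_powers_iff_mem_zpowers] at hc
    obtain ⟨k, rfl⟩ := hc
    exact ⟨k, k, hxz.mul_pow k⟩
  have hperf' : ⁅C, C⁆ = C := by
    have h := congrArg (Subgroup.map C.subtype) hperf
    rwa [map_commutator, ← MonoidHom.range_eq_map, C.range_subtype] at h
  let p : G → ↥Spor.M22 := fun g => if h : Commute g x then π ⟨g, mem_centralizer_singleton_iff.2 h.eq⟩ else 1
  have hp : ∀ c : C, p c = π c := fun c => by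
    have h : Commute (c : G) x := mem_centralizer_singleton_iff.1 c.2
    show dite (Commute (c : G) x) _ _ = _
    rw [dif_pos h]
  refine ⟨z', p, hx, by rw [Subgroup.orderOf_coe]; exact hz', mem_centralizer_singleton_iff.1 z'.2,
    fun c hc => congrArg Subtype.val (mem_center_iff.1 hz'Z ⟨c, mem_centralizer_singleton_iff.2 hc.eq⟩),
    fun a b ha hb => ?_, fun m => ?_, ?_, ?_, fun c hc h => ?_, hperf'⟩
  · simp only [p, dif_pos ha, dif_pos hb, dif_pos (ha.mul_left hb)]
    rw [← map_mul]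
    rfl
  · obtain ⟨q, hq⟩ := e.surjective m
    obtain ⟨c, rfl⟩ := QuotientGroup.mk_surjective q
    exact ⟨c, mem_centralizer_singleton_iff.1 c.2, (hp c).trans hq⟩
  · exact (hp x').trans ((hker x').2 hx'Z)
  · exact (hp z').trans ((hker z').2 hz'Z)
  · obtain ⟨i, j, hij⟩ := hgen ⟨c, mem_centralizer_singleton_iff.2 hc.eq⟩
      ((hker _).1 ((hp _).symm.trans h))
    exact ⟨i, j, congrArg Subtype.val hij⟩

/-- An element inverting `x` and a second conjugate. -/
structure Conf (x z : G) (p : G → ↥Spor.M22) (y r g : G) : Prop where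
  cover : Cover x z p
  yx : Commute y x
  y_not : y ∉ zpowers x
  conj : IsConj x y
  rx : Commute r x
  shift : r * y * r⁻¹ = y * x
  inverts : g * x * g⁻¹ = x⁻¹
  gz : Commute g z

/-- The Sylow 3-subgroups of `C(x)` are not abelian. -/
theorem Cover.not_abelian {x z : G} {p : G → ↥Spor.M22} (S : Cover x z p)
    (hCcard : Nat.card ↥(centralizer ({x} : Set G)) = 2661120) (R : Subgroup ↥(centralizer ({x} : Set G)))
    (hR27 : Nat.card R = 27) : ¬ IsMulCommutative R := by
  classical
  revert R hR27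
  set C := centralizer ({x} : Set G) with hCdef
  have hCx : ∀ {c : G}, c ∈ C → Commute c x := fun hc => mem_centralizer_singleton_iff.1 hc
  set x' : C := ⟨x, mem_centralizer_singleton_iff.2 rfl⟩
  have hx'Z : x' ∈ center C := mem_center_iff.2 fun c => Subtype.ext (hCx c.2).eq
  intro R hR27 hab
  let φ : R →* R := MonoidHom.id _
  letI : CommGroup R := { (inferInstance : Group R) with mul_comm := hab.1.1 }
  have hidx : R.index = 98560 := by
    have := R.card_mul_index
    rw [hR27, hCcard] at this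
    omega
  have key : ∀ (k : ℕ) (g₀ : C), g₀⁻¹ * x' ^ k * g₀ ∈ R → g₀⁻¹ * x' ^ k * g₀ = x' ^ k :=
    fun k g₀ _ => by
      rw [mul_assoc, ← (mem_center_iff.1 ((center C).pow_mem hx'Z k) g₀), inv_mul_cancel_left]
  have h1 := MonoidHom.transfer_eq_pow (ϕ := φ) x' key
  have h2 : MonoidHom.transfer φ x' = 1 := by
    have hperfC : commutator C = ⊤ := by
      refine Subgroup.map_injective C.subtype_injective ?_
      rw [show commutator C = ⁅(⊤ : Subgroup C), ⊤⁆ from rfl, map_commutator, ← MonoidHom.range_eq_map,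
        C.range_subtype]
      exact S.perf
    exact Abelianization.commutator_subset_ker (MonoidHom.transfer φ) (hperfC ▸ mem_top x')
  rw [h2] at h1
  have h3 : x' ^ R.index = 1 := (congrArg Subtype.val h1).symm
  have := orderOf_dvd_iff_pow_eq_one.2 h3
  rw [hidx, ← Subgroup.orderOf_coe, show ((x' : C) : G) = x from rfl, S.ordx] at this
  norm_num at this

theorem Cover.exists_conf {x z : G} {p : G → ↥Spor.M22} (S : Cover x z p) (P : Sylow 3 G) (a : G)
    (hng : ((center ↥(P : Subgroup G)).map (P : Subgroup G).subtype).map (MulAut.conj a).toMonoidHom ≤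
      (P : Subgroup G))
    (hne : ((center ↥(P : Subgroup G)).map (P : Subgroup G).subtype).map (MulAut.conj a).toMonoidHom ≠
      (center ↥(P : Subgroup G)).map (P : Subgroup G).subtype) :
    ∃ y r g, Conf x z p y r g := by
  classical
  haveI : Fact (Nat.Prime 3) := ⟨Nat.prime_three⟩
  haveI := simple_m22
  set C := centralizer ({x} : Set G) with hCdef
  have hCx : ∀ {c : G}, c ∈ C → Commute c x := fun hc => mem_centralizer_singleton_iff.1 hc
  let π : C →* ↥Spor.M22 :=
    MonoidHom.mk' (fun c => p c) fun c d => S.map_mul c d (hCx c.2) (hCx d.2)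
  have hxC : x ∈ C := mem_centralizer_singleton_iff.2 rfl
  have hxz6 : orderOf (x * z) = 6 := by
    rw [S.comm.symm.orderOf_mul_eq_mul_orderOf_of_coprime (by rw [S.ordx, S.ordz]; norm_num), S.ordx, S.ordz]
  have hkerC : π.ker.map C.subtype = zpowers (x * z) := by
    refine le_antisymm ?_ (zpowers_le.2 ?_)
    · rintro _ ⟨c, hc, rfl⟩
      obtain ⟨i, j, hij⟩ := S.ker _ (hCx c.2) hc
      show (c : G) ∈ _
      rw [hij]
      have hpow : ∀ k : ℕ, (x * z) ^ k ∈ zpowers (x * z) := fun k => pow_mem (mem_zpowers _) k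
      refine mul_mem (pow_mem ?_ i) (pow_mem ?_ j)
      · have := hpow 4
        rwa [S.comm.symm.mul_pow, show x ^ 4 = x by rw [pow_succ, S.x3, one_mul],
          show z ^ 4 = 1 by rw [show 4 = 2 * 2 from rfl, pow_mul, pow_two z, S.z2, one_pow], mul_one] at this
      · have := hpow 3
        rwa [S.comm.symm.mul_pow, S.x3, one_mul, pow_succ, pow_two, S.z2, one_mul] at this
    · exact ⟨⟨x * z, mem_centralizer_singleton_iff.2 ((Commute.refl x).mul_left S.comm).eq⟩,
        (S.map_mul x z (Commute.refl x) S.comm).trans (by rw [S.map_x, S.map_z, one_mul]), rfl⟩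
  have hπs : Function.Surjective π := fun m => by
    obtain ⟨c, hc, hm⟩ := S.surj m
    exact ⟨⟨c, mem_centralizer_singleton_iff.2 hc.eq⟩, hm⟩
  have hCcard : Nat.card C = 2661120 := by
    rw [← π.ker.card_mul_index, index_ker, MonoidHom.range_eq_top.2 hπs, card_top, hyp_m22.card,
      ← Subgroup.card_map_of_injective C.subtype_injective, hkerC, Nat.card_zpowers, hxz6]
  -- a Sylow 3-subgroup
  set x' : C := ⟨x, hxC⟩
  have hx'Z : x' ∈ center C := mem_center_iff.2 fun c => Subtype.ext (hCx c.2).eq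
  obtain ⟨R⟩ : Nonempty (Sylow 3 C) := inferInstance
  have hR27 : Nat.card (R : Subgroup C) = 27 := by
    rw [SmallOrders.card_sylow_subgroup (hCcard.trans (show (2661120 : ℕ) = 3 ^ 3 * 98560 by norm_num))
      (by norm_num) R]
    norm_num
  have hxR : x' ∈ (R : Subgroup C) := by
    have hn : (zpowers x').Normal := ⟨fun n hn c => by
      rw [mem_center_iff.1 (zpowers_le.2 hx'Z hn) c, mul_inv_cancel_right]
      exact hn⟩
    have hp : IsPGroup 3 (zpowers x') := IsPGroup.of_card (n := 1) (by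
      rw [Nat.card_zpowers, ← Subgroup.orderOf_coe, pow_one]; exact S.ordx)
    exact hp.le_sylow_of_normal R (mem_zpowers x')
  have hnab : ¬ IsMulCommutative (R : Subgroup C) := S.not_abelian hCcard R hR27
  set R' := (R : Subgroup C).map C.subtype with hR'
  have hR'C : R' ≤ C := map_subtype_le _
  have hxR' : x ∈ R' := ⟨x', hxR, rfl⟩
  have hR'27 : Nat.card R' = 27 := by
    rw [hR', Subgroup.card_map_of_injective C.subtype_injective, hR27]
  -- the centre of `R'`
  have hZR : ∀ w ∈ R', (∀ u ∈ R', Commute u w) → w ∈ zpowers x := by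
    intro w hw hwc
    set Z := center (R : Subgroup C) with hZdef
    have hZ3 : Nat.card Z = 3 := by
      have hd : Nat.card Z ∣ 3 ^ 3 := by
        have := card_subgroup_dvd_card Z
        rwa [hR27, show (27 : ℕ) = 3 ^ 3 by norm_num] at this
      obtain ⟨j, hj, hj'⟩ := (Nat.dvd_prime_pow Nat.prime_three).1 hd
      have h2 : j < 2 := by
        by_contra hge
        refine hnab ⟨⟨fun u v => ?_⟩⟩
        have hidx : Z.index = 1 ∨ Z.index = 3 := by
          have := Z.card_mul_index
          rw [hj', hR27] at this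
          interval_cases j <;> omega
        have hcyc : IsCyclic ((R : Subgroup C) ⧸ Z) := by
          rw [Subgroup.index_eq_card] at hidx
          rcases hidx with h | h
          · exact isCyclic_of_card_dvd_prime (p := 3) (by rw [h]; exact one_dvd _)
          · exact isCyclic_of_prime_card h
        exact commutative_of_cyclic_center_quotient (QuotientGroup.mk' Z)
          (by rw [QuotientGroup.ker_mk']) u v
      haveI : Nontrivial (R : Subgroup C) := Finite.one_lt_card_iff_nontrivial.1 (by rw [hR27]; norm_num)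
      have h1 : 1 < Nat.card Z := by
        rw [Finite.one_lt_card_iff_nontrivial]
        exact (IsPGroup.center_nontrivial R.isPGroup')
      rw [hj'] at h1 ⊢
      interval_cases j <;> simp_all
    have hxZ : (⟨x', hxR⟩ : (R : Subgroup C)) ∈ Z := mem_center_iff.2 fun u =>
      Subtype.ext (mem_center_iff.1 hx'Z u)
    have heq : zpowers (⟨x', hxR⟩ : (R : Subgroup C)) = Z := eq_of_le_of_card_ge (zpowers_le.2 hxZ) (by
      rw [hZ3, Nat.card_zpowers, ← Subgroup.orderOf_coe, ← Subgroup.orderOf_coe]; exact S.ordx.ge)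
    obtain ⟨w', hw', rfl⟩ := hw
    have hwZ : (⟨w', hw'⟩ : (R : Subgroup C)) ∈ Z := mem_center_iff.2 fun u =>
      Subtype.ext (Subtype.ext (hwc _ ⟨u, u.2, rfl⟩).eq)
    rw [← heq] at hwZ
    obtain ⟨k, hk⟩ := hwZ
    exact ⟨k, congrArg (fun u : (R : Subgroup C) => ((u : C) : G)) hk⟩
  -- `R'` is a Sylow 3-subgroup of `G`
  obtain ⟨P', hP'⟩ := (IsPGroup.of_card (n := 3) (hR'27.trans (by norm_num)) : IsPGroup 3 R').exists_le_sylow
  have hP'R : (P' : Subgroup G) = R' := by
    refine (le_antisymm hP' ?_).symm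
    by_contra hlt
    have hlt' : R'.subgroupOf (P' : Subgroup G) < ⊤ := lt_of_le_of_ne le_top fun h => hlt (subgroupOf_eq_top.1 h)
    haveI := P'.isPGroup'.isNilpotent
    obtain ⟨⟨u, huP⟩, hu, hu'⟩ := SetLike.exists_of_lt (Group.normalizerCondition_of_isNilpotent _ hlt')
    have hun : ∀ w ∈ R', u * w * u⁻¹ ∈ R' := fun w hw =>
      (mem_normalizer_iff.1 hu ⟨w, hP' hw⟩).1 hw
    have hun' : ∀ w ∈ R', u⁻¹ * w * u ∈ R' := fun w hw => by
      have := (mem_normalizer_iff.1 (Subgroup.inv_mem _ hu) ⟨w, hP' hw⟩).1 hw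
      simpa [Subgroup.mem_subgroupOf] using this
    have hux : u * x * u⁻¹ ∈ zpowers x := hZR _ (hun x hxR') fun v hv => by
      have h1 : Commute (u⁻¹ * v * u) x := hCx (hR'C (hun' v hv))
      have := h1.map (MulAut.conj u).toMonoidHom
      simpa [mul_assoc] using this
    obtain ⟨k, hk⟩ := hux
    have hk' : x ^ k = u * x * u⁻¹ := hk
    have huC : u ∈ C := by
      by_contra hnC
      rw [← zpow_mod_orderOf, S.ordx] at hk'
      have hk1 : k % 3 = 0 ∨ k % 3 = 1 ∨ k % 3 = 2 := by omega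
      rcases hk1 with h | h | h <;> simp only [Nat.cast_ofNat, h] at hk'
      · rw [zpow_zero] at hk'
        exact S.x_ne (conj_eq_one_iff.1 hk'.symm)
      · rw [zpow_one] at hk'
        exact hnC (mem_centralizer_singleton_iff.2 (mul_inv_eq_iff_eq_mul.1 hk'.symm))
      · have h2 : u ^ 2 * x * (u ^ 2)⁻¹ = x := by
          calc u ^ 2 * x * (u ^ 2)⁻¹ = u * (u * x * u⁻¹) * u⁻¹ := by rw [pow_two]; group
            _ = u * x ^ (2 : ℤ) * u⁻¹ := by rw [hk']
            _ = (u * x * u⁻¹) ^ (2 : ℤ) := by rw [conj_zpow]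
            _ = x := by
              rw [← hk', ← zpow_mul, ← zpow_mod_orderOf, S.ordx]
              norm_num
        have hc2 : Commute (u ^ 2) x := mul_inv_eq_iff_eq_mul.1 h2
        obtain ⟨m, hm⟩ := IsPGroup.iff_orderOf.1 P'.isPGroup' ⟨u, huP⟩
        rw [Subgroup.orderOf_mk] at hm
        obtain ⟨l, hl⟩ := exists_pow_eq_self_of_coprime (x := u) (n := 2)
          (by rw [hm]; exact (show Nat.Coprime 2 3 by norm_num).pow_right m)
        exact hnC (mem_centralizer_singleton_iff.2 (hl ▸ hc2.pow_left l).eq)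
    refine hu' ?_
    rw [Subgroup.mem_subgroupOf]
    show u ∈ R'
    have hp : IsPGroup 3 ↥((R : Subgroup C) ⊔ zpowers (⟨u, huC⟩ : C)) := by
      refine R.isPGroup'.to_sup_of_normal_left' ?_ (zpowers_le.2 (mem_normalizer_iff.2 fun w => ?_))
      · obtain ⟨m, hm⟩ := IsPGroup.iff_orderOf.1 P'.isPGroup' ⟨u, huP⟩
        exact IsPGroup.of_card (n := m) (by rw [Nat.card_zpowers, ← hm, Subgroup.orderOf_mk, Subgroup.orderOf_mk])
      · constructor
        · intro hw
          obtain ⟨w', hw', e⟩ := hun w ⟨w, hw, rfl⟩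
          rwa [show w' = (⟨u, huC⟩ : C) * w * (⟨u, huC⟩ : C)⁻¹ from Subtype.ext e] at hw'
        · intro hw
          obtain ⟨w', hw', e⟩ := hun' _ ⟨_, hw, rfl⟩
          rwa [show w' = w from Subtype.ext (e.trans (by
            show u⁻¹ * (u * (w : G) * u⁻¹) * u = w
            group))] at hw'
    exact ⟨⟨u, huC⟩, (R.is_maximal' hp le_sup_left).le (le_sup_right (a := (R : Subgroup C)) (mem_zpowers _)), rfl⟩
  -- transfer the conjugate
  obtain ⟨b, hb⟩ := MulAction.exists_smul_eq G P P'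
  have hPb : ∀ w, w ∈ (P : Subgroup G) ↔ b * w * b⁻¹ ∈ R' := fun w => by
    rw [← hP'R, ← hb, Sylow.coe_subgroup_smul, Subgroup.mem_pointwise_smul_iff_inv_smul_mem]
    simp [MulAut.smul_def, mul_assoc]
  set Z₀ := (center ↥(P : Subgroup G)).map (P : Subgroup G).subtype with hZ₀
  have hZ₀mem : ∀ w, w ∈ Z₀ ↔ b * w * b⁻¹ ∈ zpowers x := by
    intro w
    constructor
    · rintro ⟨w', hw', rfl⟩
      refine hZR _ ((hPb w').1 w'.2) fun v hv => ?_
      have hv' : b⁻¹ * v * b ∈ (P : Subgroup G) := (hPb _).2 (by simpa [mul_assoc] using hv)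
      have h1 : Commute (b⁻¹ * v * b) (w' : G) := congrArg Subtype.val (mem_center_iff.1 hw' ⟨_, hv'⟩)
      have := h1.map (MulAut.conj b).toMonoidHom
      simpa [mul_assoc] using this
    · intro hw
      have hwR : b * w * b⁻¹ ∈ R' := zpowers_le.2 hxR' hw
      obtain ⟨k, hk⟩ := hw
      have hk' : x ^ k = b * w * b⁻¹ := hk
      refine ⟨⟨w, (hPb w).2 hwR⟩, mem_center_iff.2 fun v => Subtype.ext ?_, rfl⟩
      have h1 : Commute (b * (v : G) * b⁻¹) (b * w * b⁻¹) :=
        hk' ▸ (hCx (hR'C ((hPb _).1 v.2))).zpow_right k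
      have := h1.map (MulAut.conj b⁻¹).toMonoidHom
      simpa [mul_assoc] using this.eq
  have hxw : b⁻¹ * x * b ∈ Z₀ := (hZ₀mem _).2 (by simp [mul_assoc, mem_zpowers])
  set h := b * a * b⁻¹ with hh
  set y := h * x * h⁻¹ with hy
  have hyR : y ∈ R' := by
    have h1 := (hPb _).1 (hng ⟨_, hxw, rfl⟩)
    rwa [hy, hh, show b * a * b⁻¹ * x * (b * a * b⁻¹)⁻¹ = b * (a * (b⁻¹ * x * b) * a⁻¹) * b⁻¹ by group]
  have hy3 : orderOf y = 3 :=
    (orderOf_injective (MulAut.conj h).toMonoidHom (MulAut.conj h).injective x).trans S.ordx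
  have hyC : Commute y x := hCx (hR'C hyR)
  have hy_not : y ∉ zpowers x := by
    intro hyX
    refine hne ((eq_of_le_of_card_ge ?_ ?_))
    · rintro _ ⟨w, hw, rfl⟩
      obtain ⟨k, hk⟩ := (hZ₀mem w).1 hw
      have hk' : x ^ k = b * w * b⁻¹ := hk
      refine (hZ₀mem _).2 ?_
      show b * (a * w * a⁻¹) * b⁻¹ ∈ _
      rw [show b * (a * w * a⁻¹) * b⁻¹ = h * (b * w * b⁻¹) * h⁻¹ by rw [hh]; group, ← hk', ← conj_zpow]
      exact zpow_mem hyX k
    · rw [Subgroup.card_map_of_injective (f := (MulAut.conj a).toMonoidHom) (MulAut.conj a).injective]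
  have hshift : ∀ u : G, Commute u x → ∀ k : ℕ, ∀ w : G, u * y * u⁻¹ = y * w → Commute u w →
      u ^ k * y * (u ^ k)⁻¹ = y * w ^ k := by
    intro u _ k w hw hc
    induction k with
    | zero => simp
    | succ k ih =>
      rw [pow_succ', show u * u ^ k * y * (u * u ^ k)⁻¹ = u * (u ^ k * y * (u ^ k)⁻¹) * u⁻¹ by group, ih,
        show u * (y * w ^ k) * u⁻¹ = (u * y * u⁻¹) * (u * w ^ k * u⁻¹) by group, hw,
        (hc.pow_right k).eq, mul_inv_cancel_right, mul_assoc, ← pow_succ']
  obtain ⟨r, hrC, hr⟩ : ∃ r, Commute r x ∧ r * y * r⁻¹ = y * x := by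
    obtain ⟨u, hu, hucomm⟩ : ∃ u ∈ R', ¬ Commute u y := by
      by_contra hall
      push Not at hall
      exact hy_not (hZR y hyR hall)
    have huC := hCx (hR'C hu)
    obtain ⟨u', hu', hu'e⟩ := hu
    obtain ⟨y', hy', hy'e⟩ := hyR
    have hcom : Commute (p u) (p y) := by
      haveI : IsMulCommutative ((R : Subgroup C).map π) := by
        have hd : Nat.card ((R : Subgroup C).map π) ∣ 3 ^ 3 := by
          have := Subgroup.card_map_dvd (H := (R : Subgroup C)) π
          rwa [hR27, show (27 : ℕ) = 3 ^ 3 by norm_num] at this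
        obtain ⟨j, -, hj⟩ := (Nat.dvd_prime_pow Nat.prime_three).1 hd
        have h9 : j ≤ 2 := by
          by_contra hlt
          have h27 := (pow_dvd_pow 3 (show 3 ≤ j by omega)).trans (hj ▸ card_subgroup_dvd_card _)
          rw [hyp_m22.card] at h27
          norm_num at h27
        rcases (show j = 0 ∨ j = 1 ∨ j = 2 by omega) with rfl | rfl | rfl
        · rw [pow_zero, Subgroup.card_eq_one] at hj
          rw [hj]
          exact ⟨⟨fun a b => Subsingleton.elim _ _⟩⟩
        · haveI := isCyclic_of_prime_card (hj.trans (pow_one 3))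
          exact ⟨⟨IsCyclic.commGroup.mul_comm⟩⟩
        · exact IsPGroup.isMulCommutative_of_card_eq_prime_sq (p := 3) hj
      have h1 := setLike_mul_comm (Subgroup.mem_map_of_mem π hu') (Subgroup.mem_map_of_mem π hy')
      show p u * p y = p y * p u
      rw [← hu'e, ← hy'e]
      exact h1
    obtain ⟨i, hi⟩ := S.eq_of_map_three hyC
      ((huC.mul_left hyC).mul_left huC.inv_left) (b := u * y * u⁻¹)
      (by rw [S.map_conj huC hyC, hcom.eq, mul_inv_cancel_right])
      (hy3 ▸ pow_orderOf_eq_one y) (by rw [conj_pow, ← hy3, pow_orderOf_eq_one, mul_one, mul_inv_cancel])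
    have hi3 : i % 3 ≠ 0 := fun h0 => hucomm (mul_inv_eq_iff_eq_mul.1 (by
      rw [hi, ← pow_mod_orderOf, S.ordx, h0, pow_zero, mul_one]))
    have h1 := hshift u huC (i % 3) (x ^ i) hi (huC.pow_right i)
    refine ⟨u ^ (i % 3), huC.pow_left _, ?_⟩
    rw [h1, ← pow_mul, ← pow_mod_orderOf, S.ordx]
    rcases (show i % 3 = 1 ∨ i % 3 = 2 by omega) with h0 | h0 <;> simp [Nat.mul_mod, h0]
  -- an element inverting `x`
  obtain ⟨m, hm⟩ := isConj_iff.1 (hyp_m22.one_class_three (u := p y) (v := (p y)⁻¹)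
    (S.orderOf_map_three hyC hy3 hy_not) (by rw [orderOf_inv]; exact S.orderOf_map_three hyC hy3 hy_not))
  obtain ⟨c, hcC, rfl⟩ := S.surj m
  obtain ⟨i, hi⟩ := S.eq_of_map_three hyC.inv_left ((hcC.mul_left hyC).mul_left hcC.inv_left)
    (b := c * y * c⁻¹) (by rw [S.map_conj hcC hyC, hm, S.map_inv hyC])
    (by rw [inv_pow, ← hy3, pow_orderOf_eq_one, inv_one])
    (by rw [conj_pow, ← hy3, pow_orderOf_eq_one, mul_one, mul_inv_cancel])
  have hri := hshift r hrC i x hr hrC
  have hinv : (r ^ i * c) * y * (r ^ i * c)⁻¹ = y⁻¹ := by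
    calc (r ^ i * c) * y * (r ^ i * c)⁻¹ = r ^ i * (c * y * c⁻¹) * (r ^ i)⁻¹ := by group
      _ = (r ^ i * y * (r ^ i)⁻¹)⁻¹ * (r ^ i * x ^ i * (r ^ i)⁻¹) := by rw [hi]; group
      _ = y⁻¹ := by
        rw [hri, ((hrC.pow_left i).pow_right i).eq, mul_inv_cancel_right, mul_inv_rev, mul_assoc,
          (hyC.inv_left.pow_right i).eq, inv_mul_cancel_left]
  set g := h⁻¹ * (r ^ i * c) * h with hg
  have hgx : g * x * g⁻¹ = x⁻¹ := by
    calc g * x * g⁻¹ = h⁻¹ * ((r ^ i * c) * (h * x * h⁻¹) * (r ^ i * c)⁻¹) * h := by rw [hg]; group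
      _ = h⁻¹ * y⁻¹ * h := by rw [← hy, hinv]
      _ = x⁻¹ := by rw [hy]; group
  have hgz : Commute g z := by
    have hcz : ∀ w, Commute w x → Commute (g * w * g⁻¹) x := fun w hw => by
      have h1 := (hw.inv_right).map (MulAut.conj g).toMonoidHom
      simp only [MulEquiv.coe_toMonoidHom, MulAut.conj_apply] at h1
      rwa [← conj_inv, hgx, inv_inv] at h1
    have hcentral : p (g * z * g⁻¹) ∈ center ↥Spor.M22 := mem_center_iff.2 fun m' => by
      obtain ⟨d, hd, rfl⟩ := S.surj m'
      have hd' : Commute (g⁻¹ * d * g) x := by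
        have h1 := (hd.inv_right).map (MulAut.conj g⁻¹).toMonoidHom
        simp only [MulEquiv.coe_toMonoidHom, MulAut.conj_apply, inv_inv] at h1
        rwa [show g⁻¹ * x⁻¹ * g = x by rw [← hgx]; group] at h1
      have h2 : Commute d (g * z * g⁻¹) := by
        have := (S.central _ hd').map (MulAut.conj g).toMonoidHom
        simpa [mul_assoc] using this
      rw [← S.map_mul _ _ hd (hcz z S.comm), ← S.map_mul _ _ (hcz z S.comm) hd, h2.eq]
    rw [center_m22, mem_bot] at hcentral
    rcases S.ker_two (hcz z S.comm) hcentral (n := 1)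
      (by rw [pow_one, pow_two, conj_mul, S.z2, mul_one, mul_inv_cancel]) with h1 | h1
    · exact absurd (conj_eq_one_iff.1 h1) S.z_ne
    · exact mul_inv_eq_iff_eq_mul.1 h1
  exact ⟨y, r, g, S, hyC, hy_not, isConj_iff.2 ⟨h, rfl⟩, hrC, hr, hgx, hgz⟩

end Cfsg.Agent.J4Type
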