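/-
Two facts on a group with the invariants of M22, used for the sixfold cover (owner: helper40).

Main results (namespace `Cfsg.Agent.J4Type`):
* `no_elementary_core` : no elementary abelian subgroup of order 32 of the centraliser of an
  involution is invariant under an element of order 3 of it
* `no_odd_385` : no subgroup of odd order has order divisible by 385
-/
import Cfsg.Agent.Lib.OrderM22.Hexad
import Cfsg.Agent.Lib.Coprime.Factorization

set_option autoImplicit false

set_option linter.style.haveILetI false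

namespace Cfsg.Agent.J4Type

open Subgroup Cfsg.Agent.OrderM22 Cfsg.Agent.SmallOrders
open scoped Pointwise

variable {G : Type*} [Group G] [Finite G] [IsSimpleGroup G]

/-- There is no elementary abelian invariant subgroup of order 32. -/
theorem no_elementary_core (h : Hyp G) {t x : G} (ht : orderOf t = 2) (hx : orderOf x = 3)
    (hxt : Commute x t) {N : Subgroup G} (htN : t ∈ N) (hN : Nat.card N = 32) (hNe : ∀ n ∈ N, n * n = 1)
    (hNt : ∀ n ∈ N, Commute t n) (hxN : ∀ n ∈ N, x * n * x⁻¹ ∈ N) : False := by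
  classical
  haveI : Fact (Nat.Prime 2) := ⟨Nat.prime_two⟩
  haveI : Fact (Nat.Prime 3) := ⟨Nat.prime_three⟩
  obtain ⟨P, T⟩ := h.exists_core ht
  have hN2 : IsPGroup 2 N := IsPGroup.of_card (n := 5) (by rw [hN]; norm_num)
  have hNP : N ≤ P := T.max N x hx hxt hN2 hNt hxN
  have hNc : ∀ a ∈ N, ∀ b ∈ N, Commute a b := fun a ha b hb => by
    show a * b = b * a
    rw [← inv_eq_of_mul_eq_one_right (hNe _ (N.mul_mem ha hb)), mul_inv_rev,
      inv_eq_of_mul_eq_one_right (hNe a ha), inv_eq_of_mul_eq_one_right (hNe b hb)]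
  have hVP := T.four_le h ht hx hxt
  have htV : t ∈ four x := ⟨by rw [← pow_two, ← ht, pow_orderOf_eq_one], hxt.symm⟩
  -- an element of the four group outside `N`
  have hfix : {m ∈ (N : Set G) | Commute x m} = (N : Set G) ∩ four x := by
    ext m
    exact ⟨fun hm => ⟨hm.1, T.fixed h hx (hNP hm.1) hm.2.symm⟩, fun hm => ⟨hm.1, hm.2.2.symm⟩⟩
  have h3 := ncard_modEq hx (N : Set G) hxN
  rw [hfix, ← Nat.card_coe_set_eq (N : Set G)] at h3
  change 3 ∣ Nat.card N - ((N : Set G) ∩ four x).ncard at h3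
  rw [hN] at h3
  obtain ⟨v, hv, hvN⟩ : ∃ v ∈ four x, v ∉ N := by
    by_contra hall
    push Not at hall
    rw [Set.inter_eq_right.2 fun v hv => hall v hv, (h.four_spec hx).1] at h3
    norm_num at h3
  have hv1 : v * v = 1 := hv.1
  -- `P` is `N` and `N v`
  have hP : ∀ p ∈ P, p ∈ N ∨ p * v ∈ N := by
    have hi : (N.subgroupOf P).index = 2 := by
      have h1 := (N.subgroupOf P).card_mul_index
      rw [Nat.card_congr (Subgroup.subgroupOfEquivOfLe hNP).toEquiv, T.card, hN] at h1
      omega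
    intro p hp
    rcases em (p ∈ N) with h1 | h1
    · exact Or.inl h1
    · exact Or.inr (((Subgroup.mul_mem_iff_of_index_two hi (a := ⟨p, hp⟩) (b := ⟨v, hVP hv⟩)).2
        (iff_of_false h1 hvN) :))
  -- the hexad through `t`
  obtain ⟨E₀, hE₀⟩ := h.exists_hexad
  obtain ⟨e₀, he₀, he₀1⟩ : ∃ e ∈ E₀, e ≠ 1 := by
    by_contra hall
    push Not at hall
    have hbot : E₀ = ⊥ := (eq_bot_iff_forall _).2 hall
    have := hE₀.card
    rw [hbot, card_bot] at this
    omega
  obtain ⟨g₀, hg₀⟩ := isConj_iff.1 (h.one_class (orderOf_eq_prime (by rw [pow_two, hE₀.elem e₀ he₀]) he₀1) ht)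
  set E := E₀.map (MulAut.conj g₀).toMonoidHom with hEdef
  have htE : t ∈ E := ⟨e₀, he₀, hg₀⟩
  have hEe : ∀ e ∈ E, e * e = 1 := by
    rintro _ ⟨e, he, rfl⟩
    rw [← map_mul, hE₀.elem e he, map_one]
  have hEc : Nat.card E = 16 := by
    rw [hEdef, Nat.card_congr (E₀.equivMapOfInjective _ (MulAut.conj g₀).injective).toEquiv.symm, hE₀.card]
  have hNorm : normalizer (E : Set G) = (normalizer (E₀ : Set G)).map (MulAut.conj g₀).toMonoidHom :=
    (Subgroup.map_equiv_normalizer_eq E₀ (MulAut.conj g₀)).symm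
  have hEn : ∀ e ∈ E, e ≠ 1 → centralizer ({e} : Set G) ≤ normalizer (E : Set G) := by
    rintro _ ⟨e, he, rfl⟩ he1 c hc
    rw [hNorm]
    refine ⟨g₀⁻¹ * c * g₀, hE₀.cent_le e he (fun e1 => he1 (by rw [e1, map_one])) ?_, ?_⟩
    · rw [mem_centralizer_singleton_iff] at hc ⊢
      change c * (g₀ * e * g₀⁻¹) = g₀ * e * g₀⁻¹ * c at hc
      calc g₀⁻¹ * c * g₀ * e = g₀⁻¹ * (c * (g₀ * e * g₀⁻¹)) * g₀ := by group
        _ = g₀⁻¹ * (g₀ * e * g₀⁻¹ * c) * g₀ := by rw [hc]
        _ = e * (g₀⁻¹ * c * g₀) := by group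
    · show g₀ * (g₀⁻¹ * c * g₀) * g₀⁻¹ = c
      group
  have ht1 : t ≠ 1 := fun e => by rw [e, orderOf_one] at ht; omega
  have hCE : ∀ c, Commute c t → ∀ e ∈ E, c * e * c⁻¹ ∈ E := fun c hc e he =>
    (mem_normalizer_iff.1 (hEn t htE ht1 (mem_centralizer_singleton_iff.2 hc.eq)) e).1 he
  have hEcomm : ∀ a ∈ E, ∀ b ∈ E, Commute a b := fun a ha b hb => by
    show a * b = b * a
    rw [← inv_eq_of_mul_eq_one_right (hEe _ (E.mul_mem ha hb)), mul_inv_rev,
      inv_eq_of_mul_eq_one_right (hEe a ha), inv_eq_of_mul_eq_one_right (hEe b hb)]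
  have hxE : ∀ e ∈ E, x * e * x⁻¹ ∈ E := hCE x hxt
  have hEP : E ≤ P := T.max E x hx hxt (IsPGroup.of_card (n := 4) (by rw [hEc]; norm_num))
    (fun e he => hEcomm t htE e he) hxE
  have hVE : four x ⊆ (E : Set G) := by
    have h3' := ncard_modEq hx (E : Set G) hxE
    have hfix' : {m ∈ (E : Set G) | Commute x m} = (E : Set G) ∩ four x := by
      ext m
      exact ⟨fun hm => ⟨hm.1, T.fixed h hx (hEP hm.1) hm.2.symm⟩, fun hm => ⟨hm.1, hm.2.2.symm⟩⟩
    rw [hfix', ← Nat.card_coe_set_eq (E : Set G)] at h3'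
    change 3 ∣ Nat.card E - ((E : Set G) ∩ four x).ncard at h3'
    rw [hEc] at h3'
    have hle : ((E : Set G) ∩ four x).ncard ≤ 4 :=
      (h.four_spec hx).1 ▸ Set.ncard_le_ncard Set.inter_subset_right
    have h2 : 2 ≤ ((E : Set G) ∩ four x).ncard := by
      rw [← Set.ncard_pair ht1]
      refine Set.ncard_le_ncard ?_
      rintro a (rfl | rfl)
      exacts [⟨htE, htV⟩, ⟨E.one_mem, four_one x⟩]
    have h4 : ((E : Set G) ∩ four x).ncard = 4 := by omega
    exact fun v hv => ((Set.eq_of_subset_of_ncard_le (Set.inter_subset_right : (E : Set G) ∩ four x ⊆ _)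
      (by rw [h4, (h.four_spec hx).1])).symm ▸ hv : v ∈ (E : Set G) ∩ four x).1
  have hvE : v ∈ E := hVE hv
  -- `Z = N ⊓ E` has order 8 and is centralised by `P`
  set Z := N ⊓ E with hZdef
  have hZc : Nat.card Z = 8 := by
    have hi : (Z.subgroupOf E).index = 2 := by
      rw [Subgroup.index_eq_two_iff]
      refine ⟨⟨v, hvE⟩, fun e => ?_⟩
      rcases em ((e : G) ∈ N) with h1 | h1
      · refine Or.inr ⟨⟨h1, e.2⟩, fun h' => hvN ?_⟩
        have h2 : (e : G) * v ∈ N := h'.1
        exact (N.mul_mem_cancel_left h1).1 h2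
      · exact Or.inl ⟨⟨(hP e (hEP e.2)).resolve_left h1, E.mul_mem e.2 hvE⟩, fun h' => h1 h'.1⟩
    have h1 := (Z.subgroupOf E).card_mul_index
    rw [Nat.card_congr (Subgroup.subgroupOfEquivOfLe (inf_le_right : Z ≤ E)).toEquiv, hi, hEc] at h1
    show Nat.card ↥(N ⊓ E) = 8; omega
  have hPZ : ∀ p ∈ P, ∀ a ∈ Z, Commute p a := by
    intro p hp a ha
    rcases hP p hp with h1 | h1
    · exact hNc p h1 a ha.1
    · rw [show p = p * v * v by rw [mul_assoc, hv1, mul_one]]
      exact (hNc _ h1 a ha.1).mul_left (hEcomm v hvE a ha.2)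
  -- `E` is its own centraliser in `P`
  have hCPv : ∀ p ∈ P, Commute p v → p ∈ E := by
    set W := N ⊓ centralizer ({v} : Set G) with hWdef
    have hZW : Z ≤ W := fun a ha => ⟨ha.1, mem_centralizer_singleton_iff.2 (hEcomm a ha.2 v hvE).eq⟩
    have hxW : ∀ w ∈ W, x * w * x⁻¹ ∈ W := fun w hw => ⟨hxN w hw.1, by
      have := (show Commute w v from mem_centralizer_singleton_iff.1 hw.2).map (MulAut.conj x).toMonoidHom
      simp only [MulEquiv.coe_toMonoidHom, MulAut.conj_apply] at this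
      rw [show x * v * x⁻¹ = v by rw [← hv.2.eq, mul_inv_cancel_right]] at this
      exact mem_centralizer_singleton_iff.2 this.eq⟩
    have hW3 := ncard_modEq hx (W : Set G) hxW
    have hfixW : {m ∈ (W : Set G) | Commute x m} = {m ∈ (Z : Set G) | Commute x m} := by
      ext m
      exact ⟨fun hm => ⟨⟨hm.1.1, hVE (T.fixed h hx (hNP hm.1.1) hm.2.symm)⟩, hm.2⟩,
        fun hm => ⟨hZW hm.1, hm.2⟩⟩
    have hZ3 := ncard_modEq hx (Z : Set G) fun a ha => ⟨hxN a ha.1, hxE a ha.2⟩
    rw [hfixW, ← Nat.card_coe_set_eq (W : Set G)] at hW3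
    rw [← Nat.card_coe_set_eq (Z : Set G)] at hZ3
    change 3 ∣ Nat.card W - _ at hW3
    change 3 ∣ Nat.card Z - _ at hZ3
    have hle : {m ∈ (Z : Set G) | Commute x m}.ncard ≤ Nat.card Z := by
      rw [← SetLike.coe_sort_coe, Nat.card_coe_set_eq]
      exact Set.ncard_le_ncard (fun m hm => hm.1)
    have hWd : Nat.card W ∣ 32 := hN ▸ Subgroup.card_dvd_of_le (inf_le_left : W ≤ N)
    have hWge := Subgroup.card_le_of_le hZW
    rw [hZc] at hWge hZ3 hle
    intro p hp hpv
    obtain ⟨j, hj, hj'⟩ := (Nat.dvd_prime_pow Nat.prime_two).1 (show Nat.card W ∣ 2 ^ 5 by norm_num; exact hWd)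
    rw [hj'] at hWge hW3
    have hj3 : j = 3 ∨ j = 5 := by interval_cases j <;> omega
    rcases hj3 with rfl | rfl
    · have hWZ : W = Z := (eq_of_le_of_card_ge hZW (by rw [hj', hZc]; norm_num)).symm
      rcases hP p hp with h1 | h1
      · exact (hWZ ▸ (⟨h1, mem_centralizer_singleton_iff.2 hpv.eq⟩ : p ∈ W) : p ∈ Z).2
      · have h2 : p * v ∈ Z := hWZ ▸ ⟨h1, mem_centralizer_singleton_iff.2
          (hpv.mul_left (Commute.refl v)).eq⟩
        have := E.mul_mem h2.2 hvE
        rwa [mul_assoc, hv1, mul_one] at this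
    · exfalso
      have hWN : W = N := eq_of_le_of_card_ge inf_le_left (by rw [hj', hN]; norm_num)
      refine h.not_central T ht hx hxt fun q hq u hu => ?_
      have hu' : ∀ n ∈ N, Commute n u := fun n hn => by
        have hnv : Commute n v := mem_centralizer_singleton_iff.1 (hWN.ge hn).2
        rcases hP u (hVP hu) with h1 | h1
        · exact hNc n hn u h1
        · rw [show u = u * v * v by rw [mul_assoc, hv1, mul_one]]
          exact (hNc n hn _ h1).mul_right hnv
      rcases hP q hq with h1 | h1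
      · exact (hu' q h1).eq
      · rw [show q = q * v * v by rw [mul_assoc, hv1, mul_one]]
        exact ((hu' _ h1).mul_left (h.commute_four hx hv hu)).eq
  -- `P` is the centraliser of `Z`
  have htZ : t ∈ Z := ⟨htN, htE⟩
  have hCZ : centralizer (Z : Set G) ≤ P := by
    set X := centralizer (Z : Set G) with hXdef
    have hXt : ∀ g ∈ X, Commute t g := fun g hg => (hg t htZ : t * g = g * t)
    have hXC : X ≤ centralizer ({t} : Set G) := fun g hg =>
      mem_centralizer_singleton_iff.2 (hXt g hg).symm.eq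
    have hX2 : IsPGroup 2 X := by
      have hd := Subgroup.card_dvd_of_le hXC
      rw [h.card_centralizer_two ht] at hd
      have h3 : ¬ 3 ∣ Nat.card X := by
        intro h3
        obtain ⟨u, hu⟩ := exists_prime_orderOf_dvd_card' (G := X) 3 h3
        rw [← Subgroup.orderOf_coe] at hu
        have hsub : (Z : Set G) ⊆ four (u : G) := fun a ha => ⟨hEe a ha.2, u.2 a ha⟩
        have := Set.ncard_le_ncard hsub
        rw [(h.four_spec hu).1, ← Nat.card_coe_set_eq] at this
        change Nat.card Z ≤ 4 at this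
        omega
      have hco : Nat.Coprime (Nat.card X) 3 := ((Nat.prime_three).coprime_iff_not_dvd.2 h3).symm
      obtain ⟨j, -, hj⟩ := (Nat.dvd_prime_pow Nat.prime_two).1
        (hco.dvd_of_dvd_mul_right (show Nat.card X ∣ 2 ^ 7 * 3 by norm_num; exact hd))
      exact IsPGroup.of_card hj
    refine T.max X x hx hxt hX2 hXt fun g hg a ha => ?_
    have hxi : x⁻¹ * a * x ∈ Z := by
      have e : x⁻¹ = x * x := inv_eq_of_mul_eq_one_right (by
        rw [← mul_assoc, ← pow_three', ← hx, pow_orderOf_eq_one])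
      have h1 : x * (x * a * x⁻¹) * x⁻¹ ∈ Z :=
        ⟨hxN _ (hxN a ha.1), hxE _ (hxE a ha.2)⟩
      rwa [show x * (x * a * x⁻¹) * x⁻¹ = x⁻¹ * a * x by
        rw [show x * (x * a * x⁻¹) * x⁻¹ = (x * x) * a * (x * x)⁻¹ by group, ← e, inv_inv]] at h1
    have hc : Commute (x⁻¹ * a * x) g := hg _ hxi
    have := hc.map (MulAut.conj x).toMonoidHom
    simpa [mul_assoc] using this.eq
  -- the orbit of `t` in `Z`
  set L := normalizer (E : Set G) ⊓ normalizer (Z : Set G) with hLdef
  have horb : orb L t = (Z : Set G) \ {1} := by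
    refine Set.Subset.antisymm ?_ ?_
    · rintro _ ⟨g, hg, rfl⟩
      exact ⟨(mem_normalizer_iff.1 hg.2 t).1 htZ, fun e => ht1 (conj_eq_one_iff.1 (Set.mem_singleton_iff.1 e))⟩
    rintro e ⟨heZ, he1⟩
    have he1' : e ≠ 1 := he1
    -- an element of the normaliser moving `t` to `e`
    have htE₀ : g₀⁻¹ * t * g₀ = e₀ := by rw [← hg₀]; simp [mul_assoc]
    obtain ⟨f, hf, hfe⟩ := heZ.2
    obtain ⟨k, hk, hk'⟩ := hE₀.trans e₀ he₀ f hf he₀1 fun e1 => he1' (by rw [← hfe, e1, map_one])
    set g := g₀ * k * g₀⁻¹ with hgdef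
    have hg : g ∈ normalizer (E : Set G) := hNorm ▸ ⟨k, hk, rfl⟩
    have hge : g * t * g⁻¹ = e := by
      rw [← hfe, ← hk', ← htE₀]
      show g₀ * k * g₀⁻¹ * t * (g₀ * k * g₀⁻¹)⁻¹ = g₀ * (k * (g₀⁻¹ * t * g₀) * k⁻¹) * g₀⁻¹
      group
    set P' := P.map (MulAut.conj g).toMonoidHom with hP'def
    have T' : TwoCore e P' := hge ▸ T.conj g
    have hgE : ∀ a, a ∈ E ↔ g * a * g⁻¹ ∈ E := fun a => mem_normalizer_iff.1 hg a
    have hPe : ∀ p ∈ P, Commute p e := fun p hp => hPZ p hp e heZ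
    have hsup : IsPGroup 2 ↥(P' ⊔ P) := T'.isPGroup.to_sup_of_normal_left' T.isPGroup fun p hp =>
      mem_normalizer_of_conj (T'.normal p (hPe p hp))
    have hsupC : P' ⊔ P ≤ centralizer ({e} : Set G) := sup_le
      (fun p hp => mem_centralizer_singleton_iff.2 (T'.comm p hp).symm.eq)
      (fun p hp => mem_centralizer_singleton_iff.2 (hPe p hp).eq)
    have he2 : orderOf e = 2 := orderOf_eq_prime (by rw [pow_two, hEe e heZ.2]) he1'
    have hd := pGroup_card_dvd hsup (h.card_centralizer_two he2 ▸ Subgroup.card_dvd_of_le hsupC) rfl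
    -- the intersection of the cores is not in `E`
    obtain ⟨f', hf'P, hf'P', hf'E⟩ : ∃ f, f ∈ P ∧ f ∈ P' ∧ f ∉ E := by
      by_contra hall
      push Not at hall
      have hle : P' ⊓ P ≤ E := fun f hf => hall f hf.2 hf.1
      have hm := Coprime.card_mul_inf P' P
      have h16 := Subgroup.card_le_of_le hle
      rw [hEc] at h16
      rw [T.card, T'.card] at hm
      have hsub : Nat.card ((P' : Set G) * (P : Set G) : Set G) ≤ 128 := by
        refine le_trans (Nat.card_mono (Set.toFinite _) ?_) (Nat.le_of_dvd (by norm_num) hd)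
        rintro _ ⟨a, ha, b, hb, rfl⟩
        exact (P' ⊔ P).mul_mem (Subgroup.mem_sup_left ha) (Subgroup.mem_sup_right hb)
      nlinarith
    -- both centralised subgroups of `E` equal `E ⊓ C(f)`
    set Z' := Z.map (MulAut.conj g).toMonoidHom with hZ'def
    set F := E ⊓ centralizer ({f'} : Set G) with hFdef
    have hZF : Z ≤ F := fun a ha => ⟨ha.2, mem_centralizer_singleton_iff.2 (hPZ f' hf'P a ha).symm.eq⟩
    have hZ'F : Z' ≤ F := by
      rintro _ ⟨a, ha, rfl⟩
      refine ⟨(hgE a).1 ha.2, mem_centralizer_singleton_iff.2 ?_⟩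
      obtain ⟨p, hp, hpf⟩ := hf'P'
      rw [← hpf]
      exact ((hPZ p hp a ha).symm.map (MulAut.conj g).toMonoidHom).eq
    have hFc : Nat.card F ≤ 8 := by
      have hd' := Subgroup.card_dvd_of_le (inf_le_left : F ≤ E)
      rw [hEc] at hd'
      have hne : Nat.card F ≠ 16 := fun e' => by
        have hFE := eq_of_le_of_card_ge (inf_le_left : F ≤ E) (by rw [e', hEc])
        exact hf'E (hCPv f' hf'P
          (show Commute f' v from (mem_centralizer_singleton_iff.1 (hFE.ge hvE).2).symm))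
      have := Nat.le_of_dvd (by norm_num) hd'
      by_contra hc
      interval_cases hh : Nat.card F <;> omega
    have hZ'c : Nat.card Z' = 8 := by
      rw [hZ'def, Nat.card_congr (Z.equivMapOfInjective _ (MulAut.conj g).injective).toEquiv.symm, hZc]
    have hZeq : Z' = Z := (eq_of_le_of_card_ge hZ'F (by omega)).trans (eq_of_le_of_card_ge hZF (by omega)).symm
    refine ⟨g, ⟨hg, ?_⟩, hge⟩
    refine mem_normalizer_of_conj fun a ha => ?_
    exact hZeq ▸ (⟨a, ha, rfl⟩ : g * a * g⁻¹ ∈ Z')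
  have hcard := ncard_orbit_mul L t
  rw [horb, Set.ncard_sdiff_singleton_of_mem (show (1 : G) ∈ (Z : Set G) from one_mem Z),
    ← Nat.card_coe_set_eq (Z : Set G)] at hcard
  change (Nat.card Z - 1) * _ = Nat.card L at hcard
  rw [hZc] at hcard
  have h5760 : Nat.card (normalizer (E : Set G)) = 5760 := by
    rw [hNorm, Nat.card_congr (Subgroup.equivMapOfInjective _ _ (MulAut.conj g₀).injective).toEquiv.symm,
      hE₀.card_normalizer]
  have h7 : 7 ∣ 5760 := (dvd_mul_right 7 _).trans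
    (hcard ▸ h5760 ▸ Subgroup.card_dvd_of_le (inf_le_left : L ≤ normalizer (E : Set G)))
  norm_num at h7

/-- No subgroup of odd order has order divisible by 385. -/
theorem no_odd_385 (h : Hyp G) {O : Subgroup G} (hodd : Odd (Nat.card O)) (h385 : 385 ∣ Nat.card O) :
    False := by
  haveI : Fact (Nat.Prime 11) := ⟨by norm_num⟩
  have hd : Nat.card O ∣ 3465 := by
    have h1 := card_subgroup_dvd_card O
    rw [h.card] at h1
    exact (Nat.Coprime.pow_right 7 (Nat.coprime_two_right.2 hodd)).dvd_of_dvd_mul_left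
      (show Nat.card O ∣ 2 ^ 7 * 3465 by norm_num; exact h1)
  obtain ⟨u, hu⟩ := exists_prime_orderOf_dvd_card' (G := O) 11 ((by norm_num : (11 : ℕ) ∣ 385).trans h385)
  obtain ⟨P, hP⟩ := exists_sylow_eq_zpowers (G := O) (q := 11) (fun P => by
    obtain ⟨c, hc⟩ := (by norm_num : (11 : ℕ) ∣ 385).trans h385
    rw [card_sylow_subgroup (show Nat.card O = 11 ^ 1 * c by rw [hc, pow_one]) (fun h' => by
      have : 121 ∣ 3465 := (hc ▸ Nat.mul_dvd_mul_left 11 h' : 11 * 11 ∣ Nat.card O).trans hd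
      norm_num at this) P, pow_one]) hu
  have hn := card_normalizer_mul_card_sylow P
  have hm := card_sylow_modEq_one 11 O
  have hN : Nat.card (normalizer ((P : Subgroup O) : Set O)) ∣ 55 := by
    rw [← (h.eleven (x := (u : G)) (by rw [Subgroup.orderOf_coe, hu])).2, hP,
      ← Subgroup.card_map_of_injective O.subtype_injective]
    refine Subgroup.card_dvd_of_le ?_
    refine le_trans (Subgroup.le_normalizer_map O.subtype) ?_
    rw [MonoidHom.map_zpowers]
    exact le_rfl
  obtain ⟨c, hc⟩ := h385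
  rw [hc] at hd hn
  have hc9 : c ∣ 9 := Nat.dvd_of_mul_dvd_mul_left (show 0 < 385 by norm_num) (by simpa using hd)
  have hc' := Nat.le_of_dvd (by norm_num) hc9
  have hN' := Nat.le_of_dvd (by norm_num) hN
  unfold Nat.ModEq at hm
  generalize Nat.card (Sylow 11 O) = s at hn hm
  generalize Nat.card (normalizer ((P : Subgroup O) : Set O)) = k at hn hN hN'
  have hk : k = 1 ∨ k = 5 ∨ k = 11 ∨ k = 55 := by
    interval_cases k <;> first | omega | norm_num at hN
  have hc3 : c = 1 ∨ c = 3 ∨ c = 9 := by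
    interval_cases c <;> first | omega | norm_num at hc9
  rcases hc3 with rfl | rfl | rfl <;> rcases hk with rfl | rfl | rfl | rfl <;> omega

end Cfsg.Agent.J4Type
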