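/-
The order formula for two commuting elements of order 3 normalising a 3'-subgroup (owner: helper40).

Main result (namespace `Cfsg.Agent.J4Type`):
* `card_mul_fixed` : `|Q| |C(a, b)|^3 = |C(a)| |C(a b)| |C(a b^2)| |C(b)|` inside `Q`
-/
import Cfsg.Agent.Lib.CoprimeFixProduct.Main

set_option autoImplicit false
set_option linter.style.haveILetI false

namespace Cfsg.Agent.J4Type

open Subgroup CoprimeFixProduct

universe u

theorem card_mul_fixed {G : Type u} [Group G] [Finite G] {Q : Subgroup G} (h3 : ¬ 3 ∣ Nat.card Q) {a b : G}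
    (hab : Commute a b) (ha : a ^ 3 = 1) (hb : b ^ 3 = 1) (haQ : a ∈ normalizer (Q : Set G))
    (hbQ : b ∈ normalizer (Q : Set G)) :
    Nat.card Q * Nat.card ↥(Q ⊓ centralizer ({a} : Set G) ⊓ centralizer ({b} : Set G)) ^ 3 =
      Nat.card ↥(Q ⊓ centralizer ({a} : Set G)) * Nat.card ↥(Q ⊓ centralizer ({a * b} : Set G)) *
        Nat.card ↥(Q ⊓ centralizer ({a * b ^ 2} : Set G)) * Nat.card ↥(Q ⊓ centralizer ({b} : Set G)) := by
  classical
  haveI : Fact (Nat.Prime 3) := ⟨Nat.prime_three⟩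
  have hmem : ∀ i j : ℕ, a ^ i * b ^ j ∈ normalizer (Q : Set G) :=
    fun i j => mul_mem (pow_mem haQ i) (pow_mem hbQ j)
  let φ : EE 3 →* MulAut Q :=
    { toFun := fun k => Q.normalizerMonoidHom
        ⟨a ^ (Multiplicative.toAdd k).1.val * b ^ (Multiplicative.toAdd k).2.val, hmem _ _⟩
      map_one' := by
        rw [show (⟨_, hmem (Multiplicative.toAdd (1 : EE 3)).1.val (Multiplicative.toAdd (1 : EE 3)).2.val⟩ :
          normalizer (Q : Set G)) = 1 from Subtype.ext (by simp), map_one]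
      map_mul' := fun k l => by
        rw [← map_mul]
        refine congrArg _ (Subtype.ext ?_)
        obtain ⟨⟨i, j⟩, rfl⟩ := Multiplicative.ofAdd.surjective k
        obtain ⟨⟨i', j'⟩, rfl⟩ := Multiplicative.ofAdd.surjective l
        simp only [toAdd_mul, toAdd_ofAdd, Prod.mk_add_mk, Subgroup.coe_mul]
        rw [mul_assoc (a ^ i.val), ← mul_assoc (b ^ j.val), ← (hab.pow_pow i'.val j.val).eq,
          mul_assoc (a ^ i'.val), ← mul_assoc (a ^ i.val), ← pow_add, ← pow_add, ZMod.val_add, ZMod.val_add,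
          ← pow_eq_pow_mod _ ha, ← pow_eq_pow_mod _ hb] }
  have hφ : ∀ (w : ZMod 3 × ZMod 3) (q : Q),
      ((φ (Multiplicative.ofAdd w) q : Q) : G) = a ^ w.1.val * b ^ w.2.val * q * (a ^ w.1.val * b ^ w.2.val)⁻¹ :=
    fun w q => rfl
  have hline : ∀ (w : ZMod 3 × ZMod 3) (c : G), a ^ w.1.val * b ^ w.2.val = c →
      Nat.card (FixedFormula.fixBy φ (line w)) = Nat.card ↥(Q ⊓ centralizer ({c} : Set G)) := by
    intro w c hc
    refine Nat.card_congr
      { toFun := fun q => ⟨(q.1 : G), q.1.2, mem_centralizer_singleton_iff.2 ?_⟩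
        invFun := fun q => ⟨⟨q.1, q.2.1⟩, fun k hk => ?_⟩
        left_inv := fun _ => rfl
        right_inv := fun _ => rfl }
    · have h : φ (Multiplicative.ofAdd w) q.1 = q.1 := q.2 _ (mem_zpowers _)
      have h' := congrArg Subtype.val h
      rw [hφ, hc] at h'
      exact (mul_inv_eq_iff_eq_mul.1 h').symm
    · obtain ⟨n, rfl⟩ := mem_zpowers_iff.1 hk
      rw [map_zpow]
      refine (MulAction.mem_stabilizer_iff (G := MulAut Q)).1 (zpow_mem ?_ n)
      refine MulAction.mem_stabilizer_iff.2 (Subtype.ext ?_)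
      show ((φ (Multiplicative.ofAdd w) _ : Q) : G) = q.1
      rw [hφ, hc]
      exact mul_inv_eq_iff_eq_mul.2 (mem_centralizer_singleton_iff.1 q.2.2).symm
  have htop : Nat.card (FixedFormula.fixBy φ (⊤ : Subgroup (EE 3))) =
      Nat.card ↥(Q ⊓ centralizer ({a} : Set G) ⊓ centralizer ({b} : Set G)) := by
    refine Nat.card_congr
      { toFun := fun q => ⟨(q.1 : G), ⟨q.1.2, ?_⟩, ?_⟩
        invFun := fun q => ⟨⟨q.1, q.2.1.1⟩, fun k _ => ?_⟩
        left_inv := fun _ => rfl
        right_inv := fun _ => rfl }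
    · have h' := congrArg Subtype.val (q.2 (Multiplicative.ofAdd ((1 : ZMod 3), (0 : ZMod 3))) trivial)
      rw [hφ, ZMod.val_one, ZMod.val_zero, pow_one, pow_zero, mul_one] at h'
      exact mem_centralizer_singleton_iff.2 (mul_inv_eq_iff_eq_mul.1 h').symm
    · have h' := congrArg Subtype.val (q.2 (Multiplicative.ofAdd ((0 : ZMod 3), (1 : ZMod 3))) trivial)
      rw [hφ, ZMod.val_one, ZMod.val_zero, pow_one, pow_zero, one_mul] at h'
      exact mem_centralizer_singleton_iff.2 (mul_inv_eq_iff_eq_mul.1 h').symm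
    · obtain ⟨w, rfl⟩ := Multiplicative.ofAdd.surjective k
      refine Subtype.ext ?_
      rw [hφ]
      have h1 : Commute a (q.1 : G) := (mem_centralizer_singleton_iff.1 q.2.1.2).symm
      have h2 : Commute b (q.1 : G) := (mem_centralizer_singleton_iff.1 q.2.2).symm
      exact mul_inv_eq_iff_eq_mul.2 ((h1.pow_left _).mul_left (h2.pow_left _)).eq
  have hv2 : (2 : ZMod 3).val = 2 := rfl
  have h := CoprimeFixProduct.rank_two (p := 3) (V := Q) h3 φ
  rw [show (∏ j : ZMod 3, Nat.card (FixedFormula.fixBy φ (line (1, j)))) =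
      Nat.card (FixedFormula.fixBy φ (line (1, 0))) * Nat.card (FixedFormula.fixBy φ (line (1, 1))) *
        Nat.card (FixedFormula.fixBy φ (line (1, 2))) from Fin.prod_univ_three _, htop,
    hline (1, 0) a (by simp [ZMod.val_one]), hline (1, 1) (a * b) (by simp [ZMod.val_one]),
    hline (1, 2) (a * b ^ 2) (by simp [ZMod.val_one, hv2]), hline (0, 1) b (by simp [ZMod.val_one])] at h
  rw [← h]

end Cfsg.Agent.J4Type
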