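/-
The 2-core of the centraliser of the central involution of the sixfold cover (owner: helper40).

Main results (namespace `Cfsg.Agent.J4Type`):
* `Conf.exists_qFacts` : in a group of characteristic 2 type it is extraspecial of order 2^13, with
  `C(x)` of order 2 and `C(y)` of order 32 in it
-/
import Cfsg.Agent.Lib.J4Type.SixCoverBasic
import Cfsg.Agent.Lib.J4Type.SixCoverCore
import Cfsg.Agent.Lib.J4Type.SixCoverWielandt
import Cfsg.Agent.Lib.Coprime.Generation
import Cfsg.Agent.Lib.Cores.Basic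
import Cfsg.Agent.Lib.PGroup.Basic
import Cfsg.Prelude.Def_JankoFourType
import Cfsg.Prelude.Def_CaseTheorems

set_option autoImplicit false
set_option linter.style.haveILetI false
set_option linter.unusedSectionVars false

namespace Cfsg.Agent.J4Type

open Cfsg Subgroup Cfsg.Agent.OrderM22
open scoped commutatorElement

universe u

variable {G : Type u} [Group G] [Finite G]

/-- The 2-core of `C(z)`. -/
structure CoreFacts (z : G) (Q : Subgroup G) : Prop where
  eq : Q = twoCoreOfCentralizer z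
  two : IsPGroup 2 Q
  comm : ∀ q ∈ Q, Commute q z
  normal : ∀ h, Commute h z → ∀ q ∈ Q, h * q * h⁻¹ ∈ Q
  self : ∀ h, Commute h z → (∀ q ∈ Q, Commute h q) → h ∈ Q
  mem : z ∈ Q
  max : ∀ M : Subgroup G, IsPGroup 2 M → (∀ m ∈ M, Commute m z) →
    (∀ h, Commute h z → ∀ m ∈ M, h * m * h⁻¹ ∈ M) → M ≤ Q

theorem isOfCharacteristicTwo_congr {K L : Subgroup G} (e : K = L) (h : IsOfCharacteristicTwo K) :
    IsOfCharacteristicTwo L := e ▸ h

theorem coreFacts (h2 : IsCharacteristicTwoType G) {z : G} (hz : orderOf z = 2) :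
    CoreFacts z (twoCoreOfCentralizer z) := by
  haveI : Fact (Nat.Prime 2) := ⟨Nat.prime_two⟩
  set H := centralizer ({z} : Set G) with hH
  have hHmem : ∀ {g : G}, g ∈ H ↔ Commute g z := fun {g} => mem_centralizer_singleton_iff
  have hnorm : normalizer (zpowers z : Set G) = H := by
    refine le_antisymm (fun g hg => hHmem.2 ?_) (fun g hg => ?_)
    · have h1 := (mem_normalizer_iff.1 hg z).1 (mem_zpowers z)
      obtain ⟨k, hk⟩ := h1
      have hk' : z ^ k = g * z * g⁻¹ := hk
      rw [← zpow_mod_orderOf, hz] at hk'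
      rcases Int.emod_two_eq_zero_or_one k with h0 | h0 <;> rw [Nat.cast_ofNat, h0] at hk'
      · rw [zpow_zero] at hk'
        rw [conj_eq_one_iff.1 hk'.symm]
        exact Commute.one_right g
      · rw [zpow_one] at hk'
        exact mul_inv_eq_iff_eq_mul.1 hk'.symm
    · refine mem_normalizer_of_conj fun w hw => ?_
      obtain ⟨k, rfl⟩ := hw
      exact ⟨k, show z ^ k = g * z ^ k * g⁻¹ by rw [((hHmem.1 hg).zpow_right k).eq, mul_inv_cancel_right]⟩
  have hzp : IsPGroup 2 (zpowers z) := IsPGroup.of_card (n := 1) (by rw [Nat.card_zpowers, hz, pow_one])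
  have hchar : IsOfCharacteristicTwo H := isOfCharacteristicTwo_congr hnorm
    (h2.2 _ hzp fun h => by
      rw [zpowers_eq_bot] at h
      rw [h, orderOf_one] at hz
      omega)
  have hmax : ∀ M : Subgroup G, IsPGroup 2 M → (∀ m ∈ M, Commute m z) →
      (∀ h, Commute h z → ∀ m ∈ M, h * m * h⁻¹ ∈ M) → M ≤ twoCoreOfCentralizer z := by
    intro M hM hMz hMn
    have hMH : M ≤ H := fun m hm => hHmem.2 (hMz m hm)
    have hn : (M.subgroupOf H).Normal := ⟨fun m hm h => hMn h (hHmem.1 h.2) m hm⟩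
    have hle := Cores.le_pCore hn (hM.comap_subtype : IsPGroup 2 (M.subgroupOf H))
    intro m hm
    exact ⟨⟨m, hMH hm⟩, hle hm, rfl⟩
  refine ⟨rfl, (Cores.isPGroup_pCore 2 H).map _, ?_, ?_, ?_, ?_, hmax⟩
  · rintro _ ⟨q, -, rfl⟩
    exact hHmem.1 q.2
  · rintro h hh _ ⟨q, hq, rfl⟩
    exact ⟨_, (Cores.pCore_normal 2 H).conj_mem q hq ⟨h, hHmem.2 hh⟩, rfl⟩
  · intro h hh hc
    refine ⟨⟨h, hHmem.2 hh⟩, hchar (mem_centralizer_iff.2 fun q hq => ?_), rfl⟩
    exact Subtype.ext ((hc _ ⟨q, hq, rfl⟩).eq.symm)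
  · refine hmax (zpowers z) hzp (fun m hm => ?_) (fun h hh m hm => ?_) (mem_zpowers z)
    · obtain ⟨k, rfl⟩ := hm
      exact (Commute.refl z).zpow_left k
    · obtain ⟨k, rfl⟩ := hm
      exact ⟨k, show z ^ k = h * z ^ k * h⁻¹ by rw [(hh.zpow_right k).eq, mul_inv_cancel_right]⟩

variable {x z : G} {p : G → ↥Spor.M22} {Q : Subgroup G}

/-- `C_Q(x) = ⟨z⟩`. -/
theorem Cover.fixed (S : Cover x z p) (F : CoreFacts z Q) {q : G} (hq : q ∈ Q) (hqx : Commute q x) :
    q = 1 ∨ q = z := by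
  haveI : Fact (Nat.Prime 2) := ⟨Nat.prime_two⟩
  haveI := simple_m22
  set M := Q ⊓ centralizer ({x} : Set G) with hM
  have hMc : ∀ m ∈ M, Commute m x := fun m hm => mem_centralizer_singleton_iff.1 hm.2
  let f : M →* ↥Spor.M22 :=
    MonoidHom.mk' (fun m => p m) fun a b => S.map_mul a b (hMc a a.2) (hMc b b.2)
  have hn : f.range.Normal := ⟨by
    rintro _ ⟨m, rfl⟩ n
    obtain ⟨c, hc, rfl⟩ := S.surj n
    exact ⟨⟨c * m * c⁻¹, F.normal c (S.central c hc) m m.2.1,
      mem_centralizer_singleton_iff.2 ((hc.mul_left (hMc m m.2)).mul_left hc.inv_left).eq⟩,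
      S.map_conj hc (hMc m m.2)⟩⟩
  have hp : IsPGroup 2 f.range :=
    ((F.two.to_le (inf_le_left : M ≤ Q))).of_surjective f.rangeRestrict f.rangeRestrict_surjective
  have hbot : f.range = ⊥ := by
    refine hn.eq_bot_or_eq_top.resolve_right fun h => ?_
    obtain ⟨k, hk⟩ := IsPGroup.iff_card.1 hp
    rw [h, card_top, hyp_m22.card] at hk
    have h3 : 3 ∣ 2 ^ k := hk ▸ (by norm_num)
    have := (Nat.prime_three).dvd_of_dvd_pow h3
    norm_num at this
  have hqM : q ∈ M := ⟨hq, mem_centralizer_singleton_iff.2 hqx.eq⟩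
  have h1 : p q = 1 := by
    have : f ⟨q, hqM⟩ ∈ f.range := ⟨_, rfl⟩
    rwa [hbot, mem_bot] at this
  obtain ⟨n, hn'⟩ := F.two ⟨q, hq⟩
  exact S.ker_two hqx h1 (n := n) (congrArg Subtype.val hn')

/-- An element of order 11 acts trivially on small 2-groups. -/
theorem commute_of_eleven {c : G} (hc : orderOf c = 11) {M : Subgroup G} (hM : IsPGroup 2 M)
    (hcM : ∀ m ∈ M, c * m * c⁻¹ ∈ M)
    (hsmall : Nat.card M < 2 ^ 10 * Nat.card ↥(M ⊓ centralizer ({c} : Set G))) :
    ∀ m ∈ M, Commute c m := by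
  haveI : Fact (Nat.Prime 11) := ⟨by norm_num⟩
  haveI : Fact (Nat.Prime 2) := ⟨Nat.prime_two⟩
  set F := M ⊓ centralizer ({c} : Set G) with hF
  have hset : {m ∈ (M : Set G) | Commute c m} = (F : Set G) := Set.ext fun m =>
    ⟨fun h => ⟨h.1, mem_centralizer_singleton_iff.2 h.2.symm.eq⟩,
      fun h => ⟨h.1, (mem_centralizer_singleton_iff.1 h.2).symm⟩⟩
  have h11 := ncard_modEq hc (M : Set G) hcM
  rw [hset, ← Nat.card_coe_set_eq, ← Nat.card_coe_set_eq] at h11
  change 11 ∣ Nat.card M - Nat.card F at h11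
  obtain ⟨a, ha⟩ := IsPGroup.iff_card.1 hM
  obtain ⟨b, hb⟩ := IsPGroup.iff_card.1 (hM.to_le (inf_le_left : F ≤ M))
  rw [← hF] at hb
  have hba : b ≤ a := by
    have := Subgroup.card_dvd_of_le (inf_le_left : F ≤ M)
    rw [ha, hb] at this
    exact (Nat.pow_dvd_pow_iff_le_right (by norm_num)).1 this
  have hlt : a < 10 + b := by
    change Nat.card M < 2 ^ 10 * Nat.card F at hsmall
    rw [ha, hb, ← pow_add] at hsmall
    exact (Nat.pow_lt_pow_iff_right (by norm_num)).1 hsmall
  have hab : a = b := by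
    by_contra hne
    obtain ⟨d, rfl⟩ := Nat.exists_eq_add_of_le hba
    rw [ha, hb, pow_add, ← Nat.mul_sub_one] at h11
    have h' := ((Nat.Coprime.pow_right b (show Nat.Coprime 11 2 by norm_num))).dvd_of_dvd_mul_left h11
    have hd : d < 10 := by omega
    interval_cases d <;> first | omega | norm_num at h'
  intro m hm
  have heq : F = M := eq_of_le_of_card_ge inf_le_left (by rw [ha, hb, hab])
  exact (mem_centralizer_singleton_iff.1 (heq.ge hm).2).symm

/-- The facts on the 2-core at a configuration. -/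
structure QFacts (x z : G) (p : G → ↥Spor.M22) (y r g zy : G) (py : G → ↥Spor.M22) (Q : Subgroup G) :
    Prop where
  conf : Conf x z p y r g
  core : CoreFacts z Q
  covy : Cover y zy py
  zy_comm : Commute zy z
  zy_x : Commute zy x
  zy_not : zy ∉ Q
  card : Nat.card Q = 2 ^ 13
  card_y : Nat.card ↥(Q ⊓ centralizer ({y} : Set G)) = 32
  sq : ∀ q ∈ Q, q * q ∈ zpowers z
  comm : ∀ a ∈ Q, ∀ b ∈ Q, a * b * a⁻¹ * b⁻¹ ∈ zpowers z
  extra : IsExtraspecial 2 Q

theorem Conf.exists_qFacts {y r g : G} (K : Conf x z p y r g) (F : CoreFacts z Q) :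
    ∃ zy py, QFacts x z p y r g zy py Q := by
  classical
  haveI : Fact (Nat.Prime 2) := ⟨Nat.prime_two⟩
  haveI : Fact (Nat.Prime 3) := ⟨Nat.prime_three⟩
  haveI := simple_m22
  obtain ⟨S, hyx, hy_not, hconj, hrx, hshift, -, -⟩ := id K
  obtain ⟨h, hh⟩ := isConj_iff.1 hconj
  have Sy : Cover y (h * z * h⁻¹) (fun g => p (h⁻¹ * g * h)) := hh ▸ S.conj h
  set zy := h * z * h⁻¹ with hzy
  set py : G → ↥Spor.M22 := fun g => p (h⁻¹ * g * h) with hpy
  have hzx : Commute z x := S.comm
  have hyz : Commute y z := S.central y hyx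
  have hrz : Commute r z := S.central r hrx
  have hxy : Commute x y := hyx.symm
  have hy3 : y ^ 3 = 1 := Sy.x3
  have hzyx : Commute zy x := (Sy.central x hxy).symm
  have hzyz : Commute zy z := (Sy.central z hyz.symm).symm
  have hQn : ∀ {w : G}, Commute w z → w ∈ normalizer (Q : Set G) := fun hw =>
    mem_normalizer_of_conj (F.normal _ hw)
  -- conjugates of `y` under `r`
  have hrk : ∀ k : ℕ, r ^ k * y * (r ^ k)⁻¹ = y * x ^ k := by
    intro k
    induction k with
    | zero => simp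
    | succ k ih =>
      rw [pow_succ', show r * r ^ k * y * (r * r ^ k)⁻¹ = r * (r ^ k * y * (r ^ k)⁻¹) * r⁻¹ by group, ih,
        show r * (y * x ^ k) * r⁻¹ = r * y * r⁻¹ * (r * x ^ k * r⁻¹) by group, hshift,
        (hrx.pow_right k).eq, mul_inv_cancel_right, mul_assoc, ← pow_succ']
  -- `z` and `zy` differ
  have hne : zy ≠ z := by
    intro heq
    have hall : ∀ q ∈ Q, q ∈ zpowers z := by
      have Syz : Cover y z py := heq ▸ Sy
      have hfixy : ∀ k : ℕ, ∀ q ∈ Q, Commute q (y * x ^ k) → q ∈ zpowers z := by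
        intro k q hq hqc
        have hq' : (r ^ k)⁻¹ * q * r ^ k ∈ Q := by
          simpa using F.normal _ (hrz.pow_left k).inv_left q hq
        have hc : Commute ((r ^ k)⁻¹ * q * r ^ k) y := by
          have := hqc.map (MulAut.conj (r ^ k)⁻¹).toMonoidHom
          simp only [MulEquiv.coe_toMonoidHom, MulAut.conj_apply, inv_inv] at this
          rwa [show (r ^ k)⁻¹ * (y * x ^ k) * r ^ k = y by rw [← hrk]; group] at this
        have hval : (r ^ k)⁻¹ * q * r ^ k = 1 ∨ (r ^ k)⁻¹ * q * r ^ k = z := Syz.fixed F hq' hc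
        have hq2 : q = r ^ k * ((r ^ k)⁻¹ * q * r ^ k) * (r ^ k)⁻¹ := by group
        rcases hval with e | e <;> rw [e] at hq2
        · rw [hq2, mul_one, mul_inv_cancel]; exact one_mem _
        · rw [hq2, (hrz.pow_left k).eq, mul_inv_cancel_right]; exact mem_zpowers z
      set A := closure ({x, y} : Set G) with hA
      have hxA : x ∈ A := subset_closure (Or.inl rfl)
      have hyA : y ∈ A := subset_closure (Or.inr rfl)
      haveI : IsMulCommutative A := isMulCommutative_closure (by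
        rintro a (rfl | rfl) b (rfl | rfl)
        exacts [rfl, hxy.eq, hxy.symm.eq, rfl])
      have hA3 : ∀ a ∈ A, a ^ 3 = 1 ∧ Commute a z := by
        intro a ha
        induction ha using closure_induction with
        | mem a ha => rcases ha with rfl | rfl; exacts [⟨S.x3, hzx.symm⟩, ⟨hy3, hyz⟩]
        | one => exact ⟨one_pow 3, Commute.one_left z⟩
        | mul a b ha hb iha ihb =>
          exact ⟨by rw [(show Commute a b from setLike_mul_comm ha hb).mul_pow, iha.1, ihb.1, one_mul],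
            iha.2.mul_left ihb.2⟩
        | inv a ha iha => exact ⟨by rw [inv_pow, iha.1, inv_one], iha.2.inv_left⟩
      have hAp : IsPGroup 3 A := fun a => ⟨1, Subtype.ext (by
        rw [pow_one, SubmonoidClass.coe_pow]; exact (hA3 a a.2).1)⟩
      have hcop : (Nat.card A).Coprime (Nat.card Q) := by
        obtain ⟨i, hi⟩ := IsPGroup.iff_card.1 hAp
        obtain ⟨j, hj⟩ := IsPGroup.iff_card.1 F.two
        rw [hi, hj]
        exact Nat.Coprime.pow _ _ (by norm_num)
      have hle : Q ≤ zpowers z := by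
        refine Coprime.le_of_pair (A := A) (p := 3) (fun a ha => hQn (hA3 a ha).2) hcop Nat.prime_three hxA hyA
          (by rw [S.x3]; exact one_mem _) (by rw [hy3]; exact one_mem _) fun i j hij => ?_
        rintro q ⟨hq, hqc⟩
        have hqc' : Commute q (x ^ i * y ^ j) := mem_centralizer_singleton_iff.1 hqc
        by_cases hj : 3 ∣ j
        · obtain ⟨j, rfl⟩ := hj
          rw [pow_mul, hy3, one_pow, mul_one] at hqc'
          have hi : ¬ 3 ∣ i := fun hi => hij ⟨hi, dvd_mul_right 3 j⟩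
          obtain ⟨m, hm⟩ := exists_pow_eq_self_of_coprime (x := x) (n := i)
            (by rw [S.ordx]; exact ((Nat.prime_three).coprime_iff_not_dvd.2 hi).symm)
          rcases S.fixed F hq (hm ▸ hqc'.pow_right m) with e | e <;> rw [e]
          exacts [one_mem _, mem_zpowers z]
        · have hxi : x ^ i = x ^ (i % 3) := by rw [← pow_mod_orderOf, S.ordx]
          have hyj : y ^ j = y ^ (j % 3) := by rw [← pow_mod_orderOf, Sy.ordx]
          rw [hxi, hyj] at hqc'
          rcases (show j % 3 = 1 ∨ j % 3 = 2 by omega) with h0 | h0 <;> rw [h0] at hqc'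
          · exact hfixy (i % 3) q hq (by rw [pow_one] at hqc'; rwa [(hyx.pow_right _).eq])
          · refine hfixy (2 * (i % 3)) q hq ?_
            have := hqc'.pow_right 2
            rwa [((hxy.pow_left (i % 3)).pow_right 2).mul_pow, ← pow_mul, ← pow_mul, mul_comm (i % 3) 2,
              show y ^ (2 * 2) = y by rw [pow_succ, hy3, one_mul],
              ← ((hyx.pow_right (2 * (i % 3)))).eq] at this
      exact hle
    have hxQ : x ∈ Q := F.self x hzx.symm fun q hq => by
      obtain ⟨k, rfl⟩ := hall q hq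
      exact hzx.symm.zpow_right k
    obtain ⟨n, hn⟩ := F.two ⟨x, hxQ⟩
    have h3 := orderOf_dvd_iff_pow_eq_one.2 (congrArg Subtype.val hn : x ^ 2 ^ n = 1)
    rw [S.ordx] at h3
    have := (Nat.prime_three).dvd_of_dvd_pow h3
    norm_num at this
  have hzynQ : zy ∉ Q := fun hq => by
    rcases S.fixed F hq hzyx with e | e
    exacts [Sy.z_ne e, hne e]
  -- the image of `C_Q(y)`
  set Qy := Q ⊓ centralizer ({y} : Set G) with hQy
  have hQyc : ∀ q ∈ Qy, Commute q y := fun q hq => mem_centralizer_singleton_iff.1 hq.2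
  let f : Qy →* ↥Spor.M22 :=
    MonoidHom.mk' (fun q => py q) fun a b => Sy.map_mul a b (hQyc a a.2) (hQyc b b.2)
  have hfinj : Function.Injective f := (injective_iff_map_eq_one f).2 fun q hq => by
    obtain ⟨n, hn⟩ := F.two ⟨q, q.2.1⟩
    rcases Sy.ker_two (hQyc q q.2) hq (n := n) (congrArg Subtype.val hn) with e | e
    · exact Subtype.ext e
    · exact absurd (e ▸ q.2.1) hzynQ
  have hzQy : z ∈ Qy := ⟨F.mem, mem_centralizer_singleton_iff.2 hyz.symm.eq⟩
  set t := py z with ht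
  set xb := py x with hxb
  have hx_not : x ∉ zpowers y := fun hx => by
    have heq : zpowers x = zpowers y := eq_of_le_of_card_ge (zpowers_le.2 hx) (by
      rw [Nat.card_zpowers, Nat.card_zpowers, S.ordx, Sy.ordx])
    exact hy_not (heq ▸ mem_zpowers y)
  have ht2 : orderOf t = 2 := Sy.orderOf_map_two hyz.symm S.z2 S.z_ne hne.symm
  have hxb3 : orderOf xb = 3 := Sy.orderOf_map_three hxy S.ordx hx_not
  have hxt : Commute xb t := by
    show py x * py z = py z * py x
    rw [← Sy.map_mul _ _ hxy hyz.symm, ← Sy.map_mul _ _ hyz.symm hxy, hzx.eq]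
  set N := f.range with hN
  have hNt : ∀ n ∈ N, Commute t n := by
    rintro _ ⟨q, rfl⟩
    show py z * py q = py q * py z
    rw [← Sy.map_mul _ _ hyz.symm (hQyc q q.2), ← Sy.map_mul _ _ (hQyc q q.2) hyz.symm,
      (F.comm q q.2.1).eq]
  have hxQy : ∀ q ∈ Qy, x * q * x⁻¹ ∈ Qy := fun q hq =>
    ⟨F.normal x hzx.symm q hq.1,
      mem_centralizer_singleton_iff.2 ((hxy.mul_left (hQyc q hq)).mul_left hxy.inv_left).eq⟩
  have hxN : ∀ n ∈ N, xb * n * xb⁻¹ ∈ N := by
    rintro _ ⟨q, rfl⟩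
    exact ⟨⟨x * q * x⁻¹, hxQy q q.2⟩, Sy.map_conj hxy (hQyc q q.2)⟩
  have hN2 : IsPGroup 2 N :=
    (F.two.to_le (inf_le_left : Qy ≤ Q)).of_surjective f.rangeRestrict f.rangeRestrict_surjective
  have hNcard : Nat.card N = Nat.card Qy := Nat.card_congr (MonoidHom.ofInjective hfinj).toEquiv.symm
  obtain ⟨P, T⟩ := hyp_m22.exists_core ht2
  have hNP : N ≤ P := T.max N xb hxb3 hxt hN2 hNt hxN
  have hfix : {n ∈ (N : Set ↥Spor.M22) | Commute xb n} = {1, t} := by
    refine Set.Subset.antisymm ?_ ?_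
    · rintro n ⟨⟨q, rfl⟩, hn⟩
      have hq : x * q * x⁻¹ = q := by
        refine congrArg Subtype.val (hfinj (a₁ := ⟨x * q * x⁻¹, hxQy q q.2⟩) (a₂ := q) ?_)
        show py (x * q * x⁻¹) = py q
        rw [Sy.map_conj hxy (hQyc q q.2)]
        exact mul_inv_eq_iff_eq_mul.2 hn.eq
      have hqx : Commute (q : G) x := (mul_inv_eq_iff_eq_mul.1 hq).symm
      rcases S.fixed F q.2.1 hqx with e | e
      · left; show py q = 1; rw [e, Sy.map_one]
      · right; show py q = t; rw [e]
    · rintro n (rfl | rfl)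
      exacts [⟨N.one_mem, Commute.one_right xb⟩, ⟨⟨⟨z, hzQy⟩, rfl⟩, hxt⟩]
  have htN : t ∈ N := ⟨⟨z, hzQy⟩, rfl⟩
  have ht1 : (1 : ↥Spor.M22) ≠ t := fun e => by rw [← e, orderOf_one] at ht2; omega
  have hpow32 : Nat.card Qy = 2 ∨ Nat.card Qy = 8 ∨ Nat.card Qy = 32 := by
    have h3 := ncard_modEq hxb3 (N : Set ↥Spor.M22) hxN
    rw [hfix, Set.ncard_pair ht1, ← Nat.card_coe_set_eq] at h3
    change 3 ∣ Nat.card N - 2 at h3
    obtain ⟨j, hj, hj'⟩ := (Nat.dvd_prime_pow Nat.prime_two).1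
      (show Nat.card N ∣ 2 ^ 6 by rw [show (2 : ℕ) ^ 6 = 64 by norm_num, ← T.card]; exact Subgroup.card_dvd_of_le hNP)
    have h1 : 2 ≤ Nat.card N := by
      rw [← Set.ncard_pair ht1]
      refine le_trans (Set.ncard_le_ncard (t := (N : Set ↥Spor.M22)) ?_) (le_of_eq (Nat.card_coe_set_eq _).symm)
      rintro n (rfl | rfl)
      exacts [N.one_mem, htN]
    have hne64 : Nat.card N ≠ 64 := fun e => by
      have hNP' : N = P := eq_of_le_of_card_ge hNP (by rw [e, T.card])
      have hsub : four xb ⊆ {n ∈ (N : Set ↥Spor.M22) | Commute xb n} := fun v hv =>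
        ⟨hNP' ▸ T.four_le hyp_m22 ht2 hxb3 hxt hv, hv.2.symm⟩
      have := Set.ncard_le_ncard hsub
      rw [hfix, Set.ncard_pair ht1, (hyp_m22.four_spec hxb3).1] at this
      omega
    rw [← hNcard]
    rw [hj'] at h1 h3 hne64 ⊢
    interval_cases j <;> first | omega | (norm_num at h3; done) | (norm_num; done)
  -- the formula for invariant subgroups
  have hform : ∀ M : Subgroup G, M ≤ Q → z ∈ M → (∀ w, Commute w z → ∀ m ∈ M, w * m * w⁻¹ ∈ M) →
      Nat.card M * 2 ^ 3 = 2 * Nat.card ↥(M ⊓ centralizer ({y} : Set G)) ^ 3 := by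
    intro M hMQ hzM hMn
    have hMN : ∀ {w : G}, Commute w z → w ∈ normalizer (M : Set G) := fun hw => mem_normalizer_of_conj (hMn _ hw)
    have hfx : ∀ L : Subgroup G, L ≤ Q → z ∈ L → (∀ q ∈ L, Commute q x) → L = zpowers z := fun L hL hzL hLx =>
      le_antisymm (fun q hq => by
        rcases S.fixed F (hL hq) (hLx q hq) with e | e <;> rw [e]
        exacts [one_mem _, mem_zpowers z]) (zpowers_le.2 hzL)
    have h3 : ¬ 3 ∣ Nat.card M := fun h3 => by
      obtain ⟨n, hn⟩ := IsPGroup.iff_card.1 (F.two.to_le hMQ)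
      rw [hn] at h3
      have := (Nat.prime_three).dvd_of_dvd_pow h3
      norm_num at this
    have hw := card_mul_fixed h3 hyx hy3 S.x3 (hMN hyz) (hMN hzx.symm)
    have hMx : M ⊓ centralizer ({x} : Set G) = zpowers z := hfx _ (inf_le_left.trans hMQ)
      ⟨hzM, mem_centralizer_singleton_iff.2 hzx.eq⟩ fun q hq => mem_centralizer_singleton_iff.1 hq.2
    have hMA : M ⊓ centralizer ({y} : Set G) ⊓ centralizer ({x} : Set G) = zpowers z := hfx _
      ((inf_le_left.trans inf_le_left).trans hMQ)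
      ⟨⟨hzM, mem_centralizer_singleton_iff.2 hyz.symm.eq⟩, mem_centralizer_singleton_iff.2 hzx.eq⟩
      fun q hq => mem_centralizer_singleton_iff.1 hq.2
    have hk : ∀ k : ℕ, Nat.card ↥(M ⊓ centralizer ({y * x ^ k} : Set G)) =
        Nat.card ↥(M ⊓ centralizer ({y} : Set G)) := by
      intro k
      have hwz := hrz.pow_left k
      have e : M ⊓ centralizer ({y * x ^ k} : Set G) =
          (M ⊓ centralizer ({y} : Set G)).map (MulAut.conj (r ^ k)).toMonoidHom := by
        ext q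
        constructor
        · intro hq
          refine ⟨(r ^ k)⁻¹ * q * r ^ k, ⟨by simpa using hMn _ hwz.inv_left q hq.1, ?_⟩, ?_⟩
          · have := (show Commute q (y * x ^ k) from mem_centralizer_singleton_iff.1 hq.2).map
              (MulAut.conj (r ^ k)⁻¹).toMonoidHom
            simp only [MulEquiv.coe_toMonoidHom, MulAut.conj_apply, inv_inv] at this
            rw [show (r ^ k)⁻¹ * (y * x ^ k) * r ^ k = y by rw [← hrk]; group] at this
            exact mem_centralizer_singleton_iff.2 this.eq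
          · show r ^ k * ((r ^ k)⁻¹ * q * r ^ k) * (r ^ k)⁻¹ = q
            group
        · rintro ⟨m, hm, rfl⟩
          refine ⟨hMn _ hwz m hm.1, mem_centralizer_singleton_iff.2 ?_⟩
          rw [← hrk]
          exact ((show Commute m y from mem_centralizer_singleton_iff.1 hm.2).map
            (MulAut.conj (r ^ k)).toMonoidHom).eq
      rw [e, Subgroup.card_map_of_injective (MulAut.conj (r ^ k)).injective]
    have hk1 : Nat.card ↥(M ⊓ centralizer ({y * x} : Set G)) =
        Nat.card ↥(M ⊓ centralizer ({y} : Set G)) := by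
      have := hk 1
      rwa [pow_one] at this
    rw [hMA, hMx, Nat.card_zpowers, S.ordz, hk 2, hk1] at hw
    rw [hw]
    ring
  have hQcard := hform Q le_rfl F.mem F.normal
  change Nat.card Q * 2 ^ 3 = 2 * Nat.card Qy ^ 3 at hQcard
  -- an element of order 11
  obtain ⟨u, hu⟩ := exists_prime_orderOf_dvd_card' (G := ↥Spor.M22) (hp := ⟨by norm_num⟩) 11
    (by rw [hyp_m22.card]; norm_num)
  obtain ⟨c, hcC, rfl⟩ := S.surj u
  obtain ⟨m, hm⟩ : 11 ∣ orderOf c := hu ▸ orderOf_dvd_iff_pow_eq_one.2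
    (by rw [← S.map_pow hcC, pow_orderOf_eq_one, S.map_one])
  set e := c ^ m with he
  have he11 : orderOf e = 11 := by
    rw [he, orderOf_pow_of_dvd (fun h0 => by rw [h0, mul_zero] at hm; exact (orderOf_pos c).ne' hm)
      (hm ▸ dvd_mul_left m 11), hm, Nat.mul_div_cancel _ (Nat.pos_of_ne_zero fun h0 => by
      rw [h0, mul_zero] at hm; exact (orderOf_pos c).ne' hm)]
  have hez : Commute e z := (S.central c hcC).pow_left m
  have heQ : ∀ M : Subgroup G, M ≤ Q → (∀ w, Commute w z → ∀ q ∈ M, w * q * w⁻¹ ∈ M) →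
      Nat.card M < 2 ^ 10 * Nat.card ↥(M ⊓ centralizer ({e} : Set G)) → ∀ q ∈ M, Commute e q :=
    fun M hMQ hMn => commute_of_eleven he11 (F.two.to_le hMQ) (hMn e hez)
  have hnocent : ¬ ∀ q ∈ Q, Commute e q := fun hall => by
    obtain ⟨n, hn⟩ := F.two ⟨e, F.self e hez hall⟩
    have h11 := orderOf_dvd_iff_pow_eq_one.2 (congrArg Subtype.val hn : e ^ 2 ^ n = 1)
    rw [he11] at h11
    have := (show Nat.Prime 11 by norm_num).dvd_of_dvd_pow h11
    norm_num at this
  have hQy32 : Nat.card Qy = 32 := by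
    rcases hpow32 with hd | hd | hd
    · exfalso
      refine hnocent (heQ Q le_rfl F.normal ?_)
      rw [hd] at hQcard
      have : 1 ≤ Nat.card ↥(Q ⊓ centralizer ({e} : Set G)) := Nat.card_pos
      omega
    · exfalso
      refine hnocent (heQ Q le_rfl F.normal ?_)
      rw [hd] at hQcard
      have : 1 ≤ Nat.card ↥(Q ⊓ centralizer ({e} : Set G)) := Nat.card_pos
      omega
    · exact hd
  have hQ13 : Nat.card Q = 2 ^ 13 := by
    rw [hQy32] at hQcard
    omega
  -- invariant subgroups containing `z`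
  have hcases : ∀ M : Subgroup G, M ≤ Q → z ∈ M → (∀ w, Commute w z → ∀ m ∈ M, w * m * w⁻¹ ∈ M) →
      M = zpowers z ∨ M = Q ∨ (∀ m ∈ M, Commute e m) ∧ Nat.card M = 2 ^ 7 := by
    intro M hMQ hzM hMn
    have hM := hform M hMQ hzM hMn
    set My := M ⊓ centralizer ({y} : Set G) with hMy
    have hle : My ≤ Qy := inf_le_inf_right _ hMQ
    have hx_inv : ∀ q ∈ My, x * q * x⁻¹ ∈ My := fun q hq =>
      ⟨hMn x hzx.symm q hq.1, (hxQy q (hle hq)).2⟩
    have hfixM : {q ∈ (My : Set G) | Commute x q} = {1, z} := by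
      refine Set.Subset.antisymm (fun q hq => S.fixed F (hMQ hq.1.1) hq.2.symm) ?_
      rintro q (rfl | rfl)
      exacts [⟨My.one_mem, Commute.one_right x⟩,
        ⟨⟨hzM, mem_centralizer_singleton_iff.2 hyz.symm.eq⟩, hzx.symm⟩]
    have h3 := ncard_modEq S.ordx (My : Set G) hx_inv
    rw [hfixM, Set.ncard_pair S.z_ne.symm, ← Nat.card_coe_set_eq] at h3
    change 3 ∣ Nat.card My - 2 at h3
    have h2 : 2 ≤ Nat.card My := by
      rw [← Set.ncard_pair S.z_ne.symm, ← SetLike.coe_sort_coe, Nat.card_coe_set_eq]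
      exact Set.ncard_le_ncard (by
        rintro q (rfl | rfl); exacts [My.one_mem, ⟨hzM, mem_centralizer_singleton_iff.2 hyz.symm.eq⟩])
    obtain ⟨j, hj, hj'⟩ := (Nat.dvd_prime_pow Nat.prime_two).1
      (show Nat.card My ∣ 2 ^ 5 by norm_num; exact hQy32 ▸ Subgroup.card_dvd_of_le hle)
    rw [hj'] at h2 h3 hM
    interval_cases j <;> first | (norm_num at h2; done) | (norm_num at h3; done) | skip
    all_goals norm_num at hM
    · left
      exact (eq_of_le_of_card_ge (zpowers_le.2 hzM) (by rw [Nat.card_zpowers, S.ordz]; omega)).symm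
    · right; right
      have hM7 : Nat.card M = 2 ^ 7 := by omega
      refine ⟨heQ M hMQ hMn ?_, hM7⟩
      have : 1 ≤ Nat.card ↥(M ⊓ centralizer ({e} : Set G)) := Nat.card_pos
      omega
    · right; left
      exact eq_of_le_of_card_ge hMQ (by rw [hQ13]; omega)
  have hbig : ∀ M : Subgroup G, M ≤ Q → (∀ m ∈ M, Commute e m) → Nat.card M = 2 ^ 7 → False := by
    intro M hMQ hMe hM7
    refine hnocent (heQ Q le_rfl F.normal ?_)
    have h7 : 2 ^ 7 ≤ Nat.card ↥(Q ⊓ centralizer ({e} : Set G)) := hM7 ▸ Subgroup.card_le_of_le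
      (le_inf hMQ fun m hm => mem_centralizer_singleton_iff.2 (hMe m hm).symm.eq)
    omega
  -- the Frattini subgroup
  have hQne : Q ≠ zpowers z := fun e' => by
    have := hQ13
    rw [e', Nat.card_zpowers, S.ordz] at this
    norm_num at this
  set Φ := (frattini Q).map Q.subtype with hΦ
  have hchar : ∀ (L : Subgroup Q) [L.Characteristic] (w : G), Commute w z →
      ∀ m ∈ L.map Q.subtype, w * m * w⁻¹ ∈ L.map Q.subtype := by
    intro L _ w hw
    rintro _ ⟨m, hm, rfl⟩
    exact ⟨Q.normalizerMonoidHom ⟨w, hQn hw⟩ m,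
      (Subgroup.characteristic_iff_le_comap.1 inferInstance _) hm, rfl⟩
  have hΦz : Φ ≤ zpowers z := by
    set M := Φ ⊔ zpowers z with hMdef
    have hMn : ∀ w, Commute w z → ∀ m ∈ M, w * m * w⁻¹ ∈ M := fun w hw m hm => by
      have hle : M ≤ M.comap (MulAut.conj w).toMonoidHom := by
        refine sup_le (fun m hm => le_sup_left (b := zpowers z) (hchar _ w hw m hm)) (zpowers_le.2 ?_)
        show w * z * w⁻¹ ∈ M
        rw [hw.eq, mul_inv_cancel_right]
        exact mem_sup_right (mem_zpowers z)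
      exact hle hm
    have hMQ : M ≤ Q := sup_le (map_subtype_le _) (zpowers_le.2 F.mem)
    rcases hcases M hMQ (mem_sup_right (mem_zpowers z)) hMn with e1 | e1 | ⟨e1, e2⟩
    · exact le_sup_left.trans e1.le
    · exfalso
      refine hQne (le_antisymm ?_ (zpowers_le.2 F.mem))
      have htop : zpowers (⟨z, F.mem⟩ : Q) = ⊤ := frattini_nongenerating (by
        refine Subgroup.map_injective Q.subtype_injective ?_
        rw [Subgroup.map_sup, ← MonoidHom.range_eq_map, Q.range_subtype, MonoidHom.map_zpowers, sup_comm]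
        exact e1)
      intro q hq
      have hmem : (⟨q, hq⟩ : Q) ∈ zpowers (⟨z, F.mem⟩ : Q) := htop ▸ mem_top _
      obtain ⟨k, hk⟩ := hmem
      exact ⟨k, congrArg Subtype.val hk⟩
    · exact absurd (hbig M hMQ e1 e2) not_false
  have hQp := F.two
  have hsq : ∀ q ∈ Q, q * q ∈ zpowers z := fun q hq => hΦz ⟨⟨q, hq⟩ ^ 2, PGroup.pow_mem_frattini hQp _, by
    simp [pow_two]⟩
  have hcomm : ∀ a ∈ Q, ∀ b ∈ Q, a * b * a⁻¹ * b⁻¹ ∈ zpowers z := fun a ha b hb =>
    hΦz ⟨⁅(⟨a, ha⟩ : Q), ⟨b, hb⟩⁆, PGroup.commutatorElement_mem_frattini hQp _ _, by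
      simp [commutatorElement_def]⟩
  -- the centre
  have hzQ : ∀ q ∈ Q, Commute q z := F.comm
  have hnab : ∃ a ∈ Q, ∃ b ∈ Q, ¬ Commute a b := by
    by_contra hall
    push Not at hall
    let M : Subgroup G :=
      { carrier := {q | q ∈ Q ∧ q * q = 1}
        one_mem' := ⟨Q.one_mem, one_mul 1⟩
        mul_mem' := fun {a b} ha hb => ⟨Q.mul_mem ha.1 hb.1, by
          rw [show a * b * (a * b) = a * (b * a) * b by group, (hall b hb.1 a ha.1).eq,
            show a * (a * b) * b = a * a * (b * b) by group, ha.2, hb.2, one_mul]⟩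
        inv_mem' := fun {a} ha => ⟨Q.inv_mem ha.1, by rw [← mul_inv_rev, ha.2, inv_one]⟩ }
    have hMQ : M ≤ Q := fun q hq => hq.1
    have hMn : ∀ w, Commute w z → ∀ m ∈ M, w * m * w⁻¹ ∈ M := fun w hw m hm =>
      ⟨F.normal w hw m hm.1, by rw [conj_mul, hm.2, mul_one, mul_inv_cancel]⟩
    have hidx : 2 ^ 12 ≤ Nat.card M := by
      let s : Q →* Q := MonoidHom.mk' (fun q => q * q) fun a b => by
        have hab : (a * b : Q) = b * a := Subtype.ext (hall a a.2 b b.2).eq
        calc a * b * (a * b) = a * (b * a) * b := by group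
          _ = a * a * (b * b) := by rw [← hab]; group
      have hker : s.ker.map Q.subtype = M := by
        ext q
        constructor
        · rintro ⟨q', hq', rfl⟩
          exact ⟨q'.2, congrArg Subtype.val (MonoidHom.mem_ker.1 hq')⟩
        · rintro ⟨hq, hq'⟩
          exact ⟨⟨q, hq⟩, MonoidHom.mem_ker.2 (Subtype.ext hq'), rfl⟩
      have hr : Nat.card s.range ≤ 2 := by
        rw [← Subgroup.card_map_of_injective (K := s.range) Q.subtype_injective]
        refine le_trans (Subgroup.card_le_of_le (K := zpowers z) ?_) (le_of_eq (by rw [Nat.card_zpowers, S.ordz]))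
        rintro _ ⟨_, ⟨q, rfl⟩, rfl⟩
        exact hsq q q.2
      have h1 := s.ker.card_mul_index
      rw [Subgroup.index_ker, hQ13] at h1
      rw [← hker, Subgroup.card_map_of_injective Q.subtype_injective]
      nlinarith
    rcases hcases M hMQ ⟨F.mem, S.z2⟩ hMn with e1 | e1 | ⟨-, e2⟩
    · rw [e1, Nat.card_zpowers, S.ordz] at hidx; norm_num at hidx
    · refine no_elementary_core hyp_m22 ht2 hxb3 hxt htN (hNcard.trans hQy32) ?_ hNt hxN
      rintro _ ⟨q, rfl⟩
      show py q * py q = 1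
      rw [← Sy.map_mul _ _ (hQyc q q.2) (hQyc q q.2), (e1.ge q.2.1).2, Sy.map_one]
    · rw [e2] at hidx; norm_num at hidx
  have hcent : ∀ w ∈ Q, (∀ q ∈ Q, Commute q w) → w ∈ zpowers z := by
    set M := (center Q).map Q.subtype with hM
    intro w hw hwc
    have hwM : w ∈ M := ⟨⟨w, hw⟩, mem_center_iff.2 fun q => Subtype.ext (hwc q q.2).eq, rfl⟩
    rcases hcases M (map_subtype_le _) ⟨⟨z, F.mem⟩, mem_center_iff.2 fun q => Subtype.ext (hzQ q q.2).eq, rfl⟩
      (hchar _) with e1 | e1 | ⟨e1, e2⟩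
    · exact e1 ▸ hwM
    · exfalso
      obtain ⟨a, ha, b, hb, hab⟩ := hnab
      obtain ⟨a', ha', rfl⟩ := (e1.ge ha : a ∈ M)
      exact hab (congrArg Subtype.val (mem_center_iff.1 ha' ⟨b, hb⟩)).symm
    · exact absurd (hbig M (map_subtype_le _) e1 e2) not_false
  refine ⟨zy, py, K, F, Sy, hzyz, hzyx, hzynQ, hQ13, hQy32, hsq, hcomm, ?_⟩
  have hcQ : center Q = zpowers (⟨z, F.mem⟩ : Q) := by
    refine le_antisymm (fun w hw => ?_) (zpowers_le.2 (mem_center_iff.2 fun q => Subtype.ext (hzQ q q.2).eq))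
    obtain ⟨k, hk⟩ := hcent w w.2 fun q hq => congrArg Subtype.val (mem_center_iff.1 hw ⟨q, hq⟩)
    exact ⟨k, Subtype.ext hk⟩
  have hc2 : Nat.card (center Q) = 2 := by
    rw [hcQ, Nat.card_zpowers, ← Subgroup.orderOf_coe]
    exact S.ordz
  obtain ⟨a, ha, b, hb, hab⟩ := hnab
  let aQ : Q := ⟨a, ha⟩
  let bQ : Q := ⟨b, hb⟩
  have hne1 : ⁅aQ, bQ⁆ ≠ 1 := fun h1 =>
    hab (congrArg Subtype.val (commutatorElement_eq_one_iff_commute.1 h1).eq)
  have hΦc : frattini Q ≤ center Q := fun q hq => by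
    rw [hcQ]
    obtain ⟨k, hk⟩ := hΦz ⟨q, hq, rfl⟩
    exact ⟨k, Subtype.ext hk⟩
  have hC' : commutator Q = center Q := by
    have hle : commutator Q ≤ center Q := by
      show ⁅(⊤ : Subgroup Q), ⊤⁆ ≤ center Q
      rw [Subgroup.commutator_le]
      exact fun a _ b _ => hΦc (PGroup.commutatorElement_mem_frattini hQp a b)
    refine eq_of_le_of_card_ge hle ?_
    rw [hc2]
    refine (Finite.one_lt_card_iff_nontrivial.2 ?_)
    exact (Subgroup.nontrivial_iff_exists_ne_one _).2
      ⟨_, commutator_mem_commutator (mem_top _) (mem_top _), hne1⟩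
  have hΦ' : frattini Q = center Q := by
    refine le_antisymm hΦc (hC'.ge.trans ?_)
    show ⁅(⊤ : Subgroup Q), ⊤⁆ ≤ frattini Q
    rw [Subgroup.commutator_le]
    exact fun a _ b _ => PGroup.commutatorElement_mem_frattini hQp a b
  exact ⟨⟨hQp, hΦ', hC'⟩, hc2⟩

end Cfsg.Agent.J4Type
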