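/-
Fusion in the centraliser of the central involution modulo its 2-core (owner: helper40).

Main results (namespace `Cfsg.Agent.J4Type`):
* `QFacts.conj_three` : elements of order 3 congruent modulo `Q` are conjugate under `Q`
* `QFacts.mem_of_conj` : `x` is weakly closed in `C(x)`
* `QFacts.fixed_y` : the centraliser of `y` normalises `⟨x⟩` modulo `Q`
-/
import Cfsg.Agent.Lib.J4Type.SixCoverQ
import Cfsg.Agent.Lib.Coprime.Basic

set_option autoImplicit false
set_option linter.style.haveILetI false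
set_option linter.unusedSectionVars false

namespace Cfsg.Agent.J4Type

open Cfsg Subgroup Cfsg.Agent.OrderM22
open scoped Pointwise

universe u

variable {G : Type u} [Group G] [Finite G] {x z : G} {p : G → ↥Spor.M22} {y r g zy : G}
  {py : G → ↥Spor.M22} {Q : Subgroup G}

theorem CoreFacts.mem_normalizer (F : CoreFacts z Q) {w : G} (hw : Commute w z) :
    w ∈ normalizer (Q : Set G) := mem_normalizer_of_conj (F.normal w hw)

theorem CoreFacts.eq_one_of_three (F : CoreFacts z Q) {w : G} (hw : w ∈ Q) (h3 : w ^ 3 = 1) : w = 1 := by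
  obtain ⟨n, hn⟩ := F.two ⟨w, hw⟩
  exact orderOf_eq_one_iff.1 (Nat.eq_one_of_dvd_coprimes ((show Nat.Coprime 3 2 by norm_num).pow_right n)
    (orderOf_dvd_of_pow_eq_one h3) (orderOf_dvd_of_pow_eq_one (congrArg Subtype.val hn : w ^ 2 ^ n = 1)))

theorem CoreFacts.conj_three (F : CoreFacts z Q) {u w : G} (hu : Commute u z) (hu3 : u ^ 3 = 1)
    (hw3 : w ^ 3 = 1) (hu1 : u ≠ 1) (hq : u⁻¹ * w ∈ Q) : ∃ q ∈ Q, q * w * q⁻¹ = u := by
  haveI : Fact (Nat.Prime 2) := ⟨Nat.prime_two⟩
  haveI : Fact (Nat.Prime 3) := ⟨Nat.prime_three⟩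
  have hw1 : w ≠ 1 := by
    rintro rfl
    rw [mul_one, inv_mem_iff] at hq
    exact hu1 (F.eq_one_of_three hq hu3)
  have huo : orderOf u = 3 := orderOf_eq_prime hu3 hu1
  have hwo : orderOf w = 3 := orderOf_eq_prime hw3 hw1
  have hwz : Commute w z := by
    rw [show w = u * (u⁻¹ * w) by group]
    exact hu.mul_left (F.comm _ hq)
  obtain ⟨j, hj⟩ := IsPGroup.iff_card.1 F.two
  obtain ⟨n, hn, hnH⟩ := Coprime.exists_conj_eq_of_le_sup (N := Q) (H := zpowers u) (L := zpowers w)
    (zpowers_le.2 (F.mem_normalizer hu))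
    (by rw [Nat.card_zpowers, huo, hj]; exact (show Nat.Coprime 3 2 by norm_num).pow_right j)
    (Or.inl inferInstance)
    (zpowers_le.2 (by
      rw [show w = u * (u⁻¹ * w) by group]
      exact mul_mem (mem_sup_right (mem_zpowers u)) (mem_sup_left hq)))
    (by rw [Nat.card_zpowers, Nat.card_zpowers, huo, hwo])
  have hmem : n * u * n⁻¹ ∈ zpowers w := by
    rw [← hnH, Coprime.mem_conj]
    simp [mul_assoc, mem_zpowers]
  obtain ⟨k, hk⟩ := hmem
  have hk' : w ^ k = n * u * n⁻¹ := hk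
  have hdiff : (n * u * n⁻¹)⁻¹ * w ∈ Q := by
    rw [show (n * u * n⁻¹)⁻¹ * w = n * (u⁻¹ * n⁻¹ * u) * (u⁻¹ * w) by group]
    refine mul_mem (mul_mem hn ?_) hq
    simpa using F.normal u⁻¹ hu.inv_left n⁻¹ (inv_mem hn)
  rw [← hk', ← zpow_mod_orderOf, hwo] at hdiff
  rw [← zpow_mod_orderOf, hwo] at hk'
  refine ⟨n⁻¹, inv_mem hn, ?_⟩
  rcases (show k % 3 = 0 ∨ k % 3 = 1 ∨ k % 3 = 2 by omega) with h | h | h <;>
    simp only [Nat.cast_ofNat, h] at hk' hdiff
  · rw [zpow_zero] at hk'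
    exact absurd (conj_eq_one_iff.1 hk'.symm) hu1
  · rw [zpow_one] at hk'
    conv_lhs => rw [hk']
    group
  · exfalso
    refine hw1 (F.eq_one_of_three ?_ hw3)
    have e : (w ^ (2 : ℤ))⁻¹ * w = w⁻¹ := by group
    rwa [e, inv_mem_iff] at hdiff

variable (D : QFacts x z p y r g zy py Q)
include D

theorem QFacts.card_fixed_conj {w a : G} (hw : Commute w z) :
    Nat.card ↥(Q ⊓ centralizer ({w * a * w⁻¹} : Set G)) = Nat.card ↥(Q ⊓ centralizer ({a} : Set G)) := by
  have e : Q ⊓ centralizer ({w * a * w⁻¹} : Set G) =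
      (Q ⊓ centralizer ({a} : Set G)).map (MulAut.conj w).toMonoidHom := by
    ext q
    constructor
    · intro hq
      refine ⟨w⁻¹ * q * w, ⟨by simpa using D.core.normal w⁻¹ hw.inv_left q hq.1, ?_⟩, ?_⟩
      · have := (show Commute q (w * a * w⁻¹) from mem_centralizer_singleton_iff.1 hq.2).map
          (MulAut.conj w⁻¹).toMonoidHom
        refine mem_centralizer_singleton_iff.2 ?_
        simpa [mul_assoc] using this.eq
      · show w * (w⁻¹ * q * w) * w⁻¹ = q
        group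
    · rintro ⟨m, hm, rfl⟩
      exact ⟨D.core.normal w hw m hm.1, mem_centralizer_singleton_iff.2
        ((show Commute m a from mem_centralizer_singleton_iff.1 hm.2).map (MulAut.conj w).toMonoidHom).eq⟩
  rw [e, Subgroup.card_map_of_injective (MulAut.conj w).injective]

theorem QFacts.rz : Commute r z := D.conf.cover.central r D.conf.rx

theorem QFacts.yz : Commute y z := D.conf.cover.central y D.conf.yx

theorem QFacts.pow_shift (k : ℕ) : r ^ k * y * (r ^ k)⁻¹ = y * x ^ k := by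
  induction k with
  | zero => simp
  | succ k ih =>
    rw [pow_succ', show r * r ^ k * y * (r * r ^ k)⁻¹ = r * (r ^ k * y * (r ^ k)⁻¹) * r⁻¹ by group, ih,
      show r * (y * x ^ k) * r⁻¹ = r * y * r⁻¹ * (r * x ^ k * r⁻¹) by group, D.conf.shift,
      (D.conf.rx.pow_right k).eq, mul_inv_cancel_right, mul_assoc, ← pow_succ']

/-- `x` is weakly closed in its centraliser. -/
theorem QFacts.mem_of_conj {w : G} (hw : Commute w z) (hc : Commute (w * x * w⁻¹) x) :
    w * x * w⁻¹ ∈ zpowers x := by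
  haveI := simple_m22
  by_contra hnot
  have S := D.conf.cover
  set u := w * x * w⁻¹ with hu
  have huo : orderOf u = 3 :=
    (orderOf_injective (MulAut.conj w).toMonoidHom (MulAut.conj w).injective x).trans S.ordx
  have hyo : orderOf y = 3 := D.covy.ordx
  obtain ⟨m, hm⟩ := isConj_iff.1 (hyp_m22.one_class_three (S.orderOf_map_three hc huo hnot)
    (S.orderOf_map_three D.conf.yx hyo D.conf.y_not))
  obtain ⟨c, hcx, rfl⟩ := S.surj m
  obtain ⟨i, hi⟩ := S.eq_of_map_three D.conf.yx ((hcx.mul_left hc).mul_left hcx.inv_left)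
    (b := c * u * c⁻¹) (by rw [S.map_conj hcx hc, hm]) D.covy.x3
    (by rw [conj_pow, ← huo, pow_orderOf_eq_one, mul_one, mul_inv_cancel])
  have h1 := D.card_fixed_conj (a := u) (S.central c hcx)
  rw [hi, ← D.pow_shift i, D.card_fixed_conj (D.rz.pow_left i), D.card_y, hu, D.card_fixed_conj hw] at h1
  have hle : Q ⊓ centralizer ({x} : Set G) ≤ zpowers z := fun q hq => by
    rcases S.fixed D.core hq.1 (mem_centralizer_singleton_iff.1 hq.2) with e | e <;> rw [e]
    exacts [one_mem _, mem_zpowers z]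
  have h2 := Subgroup.card_le_of_le hle
  rw [Nat.card_zpowers, S.ordz] at h2
  omega

/-- The centraliser of `y` normalises `⟨x⟩` modulo `Q`. -/
theorem QFacts.fixed_y {w : G} (hw : Commute w z) (hwy : Commute w y) :
    ∃ q ∈ Q, q * w * x * (q * w)⁻¹ ∈ zpowers x := by
  haveI : Fact (Nat.Prime 2) := ⟨Nat.prime_two⟩
  haveI : Fact (Nat.Prime 3) := ⟨Nat.prime_three⟩
  haveI := simple_m22
  have S := D.conf.cover
  have Sy := D.covy
  have hxy : Commute x y := D.conf.yx.symm
  have hzy : Commute z y := D.yz.symm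
  have hne : z ≠ zy := fun e => D.zy_not (e ▸ D.core.mem)
  have hx_not : x ∉ zpowers y := fun hx => by
    have heq : zpowers x = zpowers y := eq_of_le_of_card_ge (zpowers_le.2 hx) (by
      rw [Nat.card_zpowers, Nat.card_zpowers, S.ordx, Sy.ordx])
    exact D.conf.y_not (heq ▸ mem_zpowers y)
  set t := py z
  set xb := py x with hxb
  have ht2 : orderOf t = 2 := Sy.orderOf_map_two hzy S.z2 S.z_ne hne
  have hxb3 : orderOf xb = 3 := Sy.orderOf_map_three hxy S.ordx hx_not
  have hxt : Commute xb t := by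
    show py x * py z = py z * py x
    rw [← Sy.map_mul _ _ hxy hzy, ← Sy.map_mul _ _ hzy hxy, S.comm.eq]
  have hxc : Commute (w * x * w⁻¹) y := (hwy.mul_left hxy).mul_left hwy.inv_left
  have hxcz : Commute (w * x * w⁻¹) z := (hw.mul_left S.comm.symm).mul_left hw.inv_left
  have hwo : orderOf (w * x * w⁻¹) = 3 :=
    (orderOf_injective (MulAut.conj w).toMonoidHom (MulAut.conj w).injective x).trans S.ordx
  set v := py (w * x * w⁻¹) with hv
  have hv3 : orderOf v = 3 := by
    refine orderOf_eq_prime (by rw [← Sy.map_pow hxc, ← hwo, pow_orderOf_eq_one, Sy.map_one]) fun h1 => ?_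
    have hmem := Sy.ker_three hxc h1 (hwo ▸ pow_orderOf_eq_one _)
    refine hx_not ?_
    obtain ⟨k, hk⟩ := hmem
    have hk' : y ^ k = w * x * w⁻¹ := hk
    refine ⟨k, show y ^ k = x from ?_⟩
    have e : y ^ k = w⁻¹ * y ^ k * w := by rw [(hwy.inv_left.zpow_right k).eq, inv_mul_cancel_right]
    rw [e, hk']; group
  have hvt : Commute v t := by
    show py (w * x * w⁻¹) * py z = py z * py (w * x * w⁻¹)
    rw [← Sy.map_mul _ _ hxc hzy, ← Sy.map_mul _ _ hzy hxc, hxcz.eq]
  -- the image of `C_Q(y)` is transitive on the conjugates under the core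
  set Qy := Q ⊓ centralizer ({y} : Set G) with hQy
  have hQyc : ∀ q ∈ Qy, Commute q y := fun q hq => mem_centralizer_singleton_iff.1 hq.2
  let f : Qy →* ↥Spor.M22 :=
    MonoidHom.mk' (fun q => py q) fun a b => Sy.map_mul a b (hQyc a a.2) (hQyc b b.2)
  have hfinj : Function.Injective f := (injective_iff_map_eq_one f).2 fun q hq => by
    obtain ⟨n, hn⟩ := D.core.two ⟨q, q.2.1⟩
    rcases Sy.ker_two (hQyc q q.2) hq (n := n) (congrArg Subtype.val hn) with e | e
    · exact Subtype.ext e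
    · exact absurd (e ▸ q.2.1) D.zy_not
  set N := f.range with hN
  obtain ⟨P, T⟩ := hyp_m22.exists_core ht2
  have hNc : Nat.card N = 32 := (Nat.card_congr (MonoidHom.ofInjective hfinj).toEquiv.symm).trans D.card_y
  have hNP : N ≤ P := by
    refine T.max N xb hxb3 hxt (IsPGroup.of_card (n := 5) (hNc.trans (by norm_num))) ?_ ?_
    · rintro _ ⟨q, rfl⟩
      show py z * py q = py q * py z
      rw [← Sy.map_mul _ _ hzy (hQyc q q.2), ← Sy.map_mul _ _ (hQyc q q.2) hzy, (D.core.comm q q.2.1).eq]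
    · rintro _ ⟨q, rfl⟩
      exact ⟨⟨x * q * x⁻¹, D.core.normal x S.comm.symm q q.2.1,
        mem_centralizer_singleton_iff.2 ((hxy.mul_left (hQyc q q.2)).mul_left hxy.inv_left).eq⟩,
        Sy.map_conj hxy (hQyc q q.2)⟩
  have horb : ∀ u, orderOf u = 3 → zpowers u = zpowers xb → orb P u ⊆ orb N u := by
    intro u hu huX
    have huc : ∀ a, Commute a u ↔ Commute a xb := by
      intro a
      obtain ⟨i, hi⟩ : xb ∈ zpowers u := huX.ge (mem_zpowers xb)
      obtain ⟨j, hj⟩ : u ∈ zpowers xb := huX.le (mem_zpowers u)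
      exact ⟨fun h => hi ▸ h.zpow_right i, fun h => hj ▸ h.zpow_right j⟩
    have hut : Commute u t := ((huc t).2 hxt.symm).symm
    have hP4 : Nat.card ↥(P ⊓ centralizer ({u} : Set ↥Spor.M22)) = 4 := by
      rw [← (hyp_m22.four_spec hu).1, ← Nat.card_coe_set_eq]
      exact Nat.card_congr (Equiv.subtypeEquivRight fun a =>
        ⟨fun ha => T.fixed hyp_m22 hu ha.1 (mem_centralizer_singleton_iff.1 ha.2),
          fun ha => ⟨T.four_le hyp_m22 ht2 hu hut ha, mem_centralizer_singleton_iff.2 ha.2.eq⟩⟩)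
    have hN2 : Nat.card ↥(N ⊓ centralizer ({u} : Set ↥Spor.M22)) ≤ 2 := by
      have hsub : ((N ⊓ centralizer ({u} : Set ↥Spor.M22) : Subgroup ↥Spor.M22) : Set ↥Spor.M22) ⊆ {1, t} := by
        rintro a ⟨⟨q, rfl⟩, ha⟩
        have hq : x * q * x⁻¹ = q := by
          refine congrArg Subtype.val (hfinj (a₁ := ⟨x * q * x⁻¹, D.core.normal x S.comm.symm q q.2.1,
            mem_centralizer_singleton_iff.2 ((hxy.mul_left (hQyc q q.2)).mul_left hxy.inv_left).eq⟩) (a₂ := q) ?_)
          show py (x * q * x⁻¹) = py q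
          rw [Sy.map_conj hxy (hQyc q q.2)]
          exact mul_inv_eq_iff_eq_mul.2 ((huc _).1 (mem_centralizer_singleton_iff.1 ha)).symm.eq
        rcases S.fixed D.core q.2.1 (mul_inv_eq_iff_eq_mul.1 hq).symm with e | e
        · left; show py q = 1; rw [e, Sy.map_one]
        · right; show py q = t; rw [e]
      refine le_trans (le_of_eq (Nat.card_coe_set_eq _)) ?_
      exact le_trans (Set.ncard_le_ncard hsub) ((Set.ncard_insert_le 1 ({t} : Set ↥Spor.M22)).trans
        (by rw [Set.ncard_singleton]))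
    have h1 := ncard_orbit_mul P u
    have h2 := ncard_orbit_mul N u
    rw [hP4, T.card] at h1
    rw [hNc] at h2
    have hsub : orb N u ⊆ orb P u := by
      rintro _ ⟨a, ha, rfl⟩
      exact ⟨a, hNP ha, rfl⟩
    refine (Set.eq_of_subset_of_ncard_le hsub ?_).ge
    have := Nat.mul_le_mul_left (orb N u).ncard hN2
    omega
  obtain ⟨a, haP, ha⟩ := T.exists_conj hyp_m22 ht2 hxb3 hxt hv3 hvt
  obtain ⟨e, q, he1, he2, hev⟩ : ∃ (e : G) (q : Qy), Commute e y ∧ (e = x ∨ e = x ^ 2) ∧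
      f q * py e * (f q)⁻¹ = v := by
    rcases ha with ha | ha
    · obtain ⟨_, ⟨q, rfl⟩, hn⟩ := horb xb hxb3 rfl ⟨a, haP, ha⟩
      exact ⟨x, q, hxy, Or.inl rfl, hn⟩
    · have hx2 : orderOf (xb ^ 2) = 3 := by rw [orderOf_pow' xb (by norm_num), hxb3]; norm_num
      have hzz : zpowers (xb ^ 2) = zpowers xb := eq_of_le_of_card_ge
        (zpowers_le.2 (pow_mem (mem_zpowers xb) 2)) (by rw [Nat.card_zpowers, Nat.card_zpowers, hxb3, hx2])
      obtain ⟨_, ⟨q, rfl⟩, hn⟩ := horb _ hx2 hzz ⟨a, haP, ha⟩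
      exact ⟨x ^ 2, q, hxy.pow_left 2, Or.inr rfl, by rw [Sy.map_pow hxy]; exact hn⟩
  have hqi : Commute ((q : G)⁻¹) y := (hQyc q q.2).inv_left
  set u := (q : G)⁻¹ * w with hu
  have huy : Commute u y := hqi.mul_left hwy
  have he3 : e ^ 3 = 1 := by
    rcases he2 with h | h <;> rw [h]
    · exact S.x3
    · rw [← pow_mul, mul_comm, pow_mul, S.x3, one_pow]
  obtain ⟨i, hi⟩ := Sy.eq_of_map_three he1 ((huy.mul_left hxy).mul_left huy.inv_left) (b := u * x * u⁻¹)
    (by
      rw [show u * x * u⁻¹ = (q : G)⁻¹ * (w * x * w⁻¹) * ((q : G)⁻¹)⁻¹ by rw [hu]; group,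
        Sy.map_conj hqi hxc, Sy.map_inv (hQyc q q.2), ← hv, ← hev]
      show py e = (py q)⁻¹ * (py q * py e * (py q)⁻¹) * ((py q)⁻¹)⁻¹
      group)
    he3 (by rw [conj_pow, S.x3, mul_one, mul_inv_cancel])
  refine ⟨(q : G)⁻¹, inv_mem q.2.1, D.mem_of_conj ((D.core.comm _ q.2.1).inv_left.mul_left hw) ?_⟩
  rw [hi]
  refine Commute.mul_left ?_ (D.conf.yx.pow_left i)
  rcases he2 with h | h <;> rw [h]
  exacts [Commute.refl _, (Commute.refl _).pow_left 2]

end Cfsg.Agent.J4Type
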