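/-
The action of the centraliser of the central involution on the central quotient of its 2-core
(owner: helper40).

Main results (namespace `Cfsg.Agent.J4Type`):
* `exists_act` : the action on `W = Q / ⟨z⟩`
* `Act.ker` : its kernel is `Q`
* `Act.involution` : `zy` fixes the part fixed by `y` and induces a non-trivial involution on the two
  others, so it fixes 2^8 points
* `Act.not_inverting` : so none of its conjugates inverts `x`
-/
import Cfsg.Agent.Lib.J4Type.SixCoverLift
import Cfsg.Agent.Lib.Coprime.Factorization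

set_option autoImplicit false
set_option linter.style.haveILetI false
set_option linter.unusedSectionVars false

namespace Cfsg.Agent.J4Type

open Cfsg Subgroup Cfsg.Agent.OrderM22
open scoped Pointwise

universe u

variable {G : Type u} [Group G] [Finite G] {x z : G} {p : G → ↥Spor.M22} {y r g zy : G}
  {py : G → ↥Spor.M22} {Q : Subgroup G}

/-- `W` is `Q / ⟨z⟩` with the action of `C(z)`. -/
structure Act (z : G) (Q : Subgroup G) {W : Type u} [CommGroup W] (act : G → MulAut W) (cls : G → W) :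
    Prop where
  surj : ∀ w : W, ∃ q ∈ Q, cls q = w
  cls_mul : ∀ a ∈ Q, ∀ b ∈ Q, cls (a * b) = cls a * cls b
  cls_one : ∀ q ∈ Q, cls q = 1 ↔ q ∈ zpowers z
  act_cls : ∀ h, Commute h z → ∀ q ∈ Q, act h (cls q) = cls (h * q * h⁻¹)
  act_mul : ∀ a b, Commute a z → Commute b z → act (a * b) = act a * act b
  card : Nat.card W = 2 ^ 12

theorem exists_act (D : QFacts x z p y r g zy py Q) :
    ∃ (W : Type u) (_ : CommGroup W) (_ : Finite W) (act : G → MulAut W) (cls : G → W), Act z Q act cls := by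
  classical
  set Zc := (zpowers z).subgroupOf Q with hZc
  have hmemQ : ∀ {a : Q}, a ∈ Zc ↔ (a : G) ∈ zpowers z := fun {a} => Iff.rfl
  haveI : Zc.Normal := ⟨fun a ha b => by
    have h1 : Commute (b : G) z := D.core.comm _ b.2
    obtain ⟨k, hk⟩ := ha
    have hk' : z ^ k = (a : G) := hk
    refine ⟨k, show z ^ k = (b : G) * a * (b : G)⁻¹ from ?_⟩
    rw [← hk', (h1.zpow_right k).eq, mul_inv_cancel_right]⟩
  have hc : ∀ a b : Q ⧸ Zc, a * b = b * a := by
    intro a b
    induction a using QuotientGroup.induction_on with | H a => ?_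
    induction b using QuotientGroup.induction_on with | H b => ?_
    rw [← QuotientGroup.mk_mul, ← QuotientGroup.mk_mul, QuotientGroup.eq]
    show ((a * b)⁻¹ * (b * a) : Q).1 ∈ zpowers z
    have := D.comm _ (inv_mem b.2) _ (inv_mem a.2)
    simpa [mul_assoc] using this
  letI : CommGroup (Q ⧸ Zc) := { (inferInstance : Group (Q ⧸ Zc)) with mul_comm := hc }
  let π : Q →* Q ⧸ Zc := QuotientGroup.mk' Zc
  have hfun : ∀ h : G, Commute h z → ∀ a ∈ Zc, ∀ ha : h * (a : G) * h⁻¹ ∈ Q,
      (⟨h * (a : G) * h⁻¹, ha⟩ : Q) ∈ Zc := by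
    intro h hh a ha _
    obtain ⟨k, hk⟩ := ha
    have hk' : z ^ k = (a : G) := hk
    refine ⟨k, show z ^ k = h * a * h⁻¹ from ?_⟩
    rw [← hk', (hh.zpow_right k).eq, mul_inv_cancel_right]
  let cj : ∀ h : G, Commute h z → MulAut Q := fun h hh =>
    Q.normalizerMonoidHom ⟨h, D.core.mem_normalizer hh⟩
  have hcj : ∀ h hh (q : Q), ((cj h hh q : Q) : G) = h * q * h⁻¹ := fun h hh q => rfl
  have hmap : ∀ h hh, Zc.map (cj h hh).toMonoidHom = Zc := by
    intro h hh
    refine eq_of_le_of_card_ge ?_ ((Subgroup.card_map_of_injective (f := (cj h hh).toMonoidHom) (cj h hh).injective).ge)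
    rintro _ ⟨a, ha, rfl⟩
    exact hfun h hh a ha (D.core.normal h hh a a.2)
  let act : G → MulAut (Q ⧸ Zc) := fun h =>
    if hh : Commute h z then QuotientGroup.congr Zc Zc (cj h hh) (hmap h hh) else 1
  let cls : G → Q ⧸ Zc := fun q => if hq : q ∈ Q then π ⟨q, hq⟩ else 1
  have hact : ∀ h (hh : Commute h z) (q : Q), act h (π q) = π (cj h hh q) := by
    intro h hh q
    simp only [act, dif_pos hh]
    rfl
  refine ⟨Q ⧸ Zc, inferInstance, inferInstance, act, cls, fun w => ?_, fun a ha b hb => ?_,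
    fun q hq => ?_, fun h hh q hq => ?_, fun a b ha hb => ?_, ?_⟩
  · obtain ⟨q, rfl⟩ := QuotientGroup.mk_surjective w
    exact ⟨q, q.2, dif_pos q.2⟩
  · simp only [cls, dif_pos ha, dif_pos hb, dif_pos (Q.mul_mem ha hb), ← map_mul]
    rfl
  · simp only [cls, dif_pos hq]
    exact QuotientGroup.eq_one_iff _
  · simp only [cls, dif_pos hq, dif_pos (D.core.normal h hh q hq)]
    rw [hact h hh]
    rfl
  · refine MulEquiv.ext fun w => ?_
    obtain ⟨q, rfl⟩ := QuotientGroup.mk_surjective w
    show act (a * b) (π q) = act a (act b (π q))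
    rw [hact _ (ha.mul_left hb), hact b hb, hact a ha]
    refine congrArg π (Subtype.ext ?_)
    show a * b * (q : G) * (a * b)⁻¹ = a * (b * q * b⁻¹) * a⁻¹
    group
  · have h1 := Zc.card_mul_index
    rw [D.card, Nat.card_congr (Subgroup.subgroupOfEquivOfLe (zpowers_le.2 D.core.mem)).toEquiv,
      Nat.card_zpowers, D.conf.cover.ordz, Subgroup.index_eq_card] at h1
    show Nat.card (Q ⧸ Zc) = _
    omega

namespace Act

variable {W : Type u} [CommGroup W] [Finite W] {act : G → MulAut W} {cls : G → W}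
  (A : Act z Q act cls) (D : QFacts x z p y r g zy py Q)
include A

theorem act_one : act 1 = 1 := by
  have h := A.act_mul 1 1 (Commute.one_left z) (Commute.one_left z)
  rwa [mul_one, left_eq_mul] at h

theorem act_inv {a : G} (ha : Commute a z) : act a⁻¹ = (act a)⁻¹ :=
  (inv_eq_of_mul_eq_one_right (by rw [← A.act_mul a a⁻¹ ha ha.inv_left, mul_inv_cancel, A.act_one])).symm

theorem act_pow {a : G} (ha : Commute a z) (n : ℕ) : act (a ^ n) = act a ^ n := by
  induction n with
  | zero => rw [pow_zero, pow_zero, A.act_one]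
  | succ n ih => rw [pow_succ, pow_succ, A.act_mul _ _ (ha.pow_left n) ha, ih]

theorem act_conj {a b : G} (ha : Commute a z) (hb : Commute b z) :
    act (a * b * a⁻¹) = act a * act b * (act a)⁻¹ := by
  rw [A.act_mul _ _ (ha.mul_left hb) ha.inv_left, A.act_mul _ _ ha hb, A.act_inv ha]

theorem act_comm {a b : G} (ha : Commute a z) (hb : Commute b z) (hab : Commute a b) (w : W) :
    act a (act b w) = act b (act a w) := by
  rw [← MulAut.mul_apply, ← A.act_mul a b ha hb, hab.eq, A.act_mul b a hb ha, MulAut.mul_apply]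

include D

theorem cls_z : cls z = 1 := (A.cls_one z D.core.mem).2 (mem_zpowers z)

theorem exp (w : W) : w * w = 1 := by
  obtain ⟨q, hq, rfl⟩ := A.surj w
  rw [← A.cls_mul q hq q hq, A.cls_one _ (mul_mem hq hq)]
  exact D.sq q hq

theorem act_mem {q : G} (hq : q ∈ Q) : act q = 1 := by
  refine MulEquiv.ext fun w => ?_
  obtain ⟨a, ha, rfl⟩ := A.surj w
  rw [A.act_cls q (D.core.comm q hq) a ha, MulAut.one_apply,
    show q * a * q⁻¹ = q * a * q⁻¹ * a⁻¹ * a by group, A.cls_mul _ ?_ _ ha,
    (A.cls_one _ ?_).2 (D.comm q hq a ha), one_mul]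
  all_goals exact mul_mem (mul_mem (mul_mem hq ha) (inv_mem hq)) (inv_mem ha)

theorem fixed_iff {h : G} (hh : Commute h z) {q : G} (hq : q ∈ Q) :
    act h (cls q) = cls q ↔ h * q * h⁻¹ * q⁻¹ ∈ zpowers z := by
  have hm := D.core.normal h hh q hq
  rw [A.act_cls h hh q hq, ← A.cls_one _ (mul_mem hm (inv_mem hq))]
  constructor
  · intro e
    have h1 : cls q * cls q⁻¹ = 1 := by
      rw [← A.cls_mul q hq _ (inv_mem hq), mul_inv_cancel, (A.cls_one 1 Q.one_mem).2 (one_mem _)]
    rw [A.cls_mul _ hm _ (inv_mem hq), e, h1]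
  · intro e
    calc cls (h * q * h⁻¹) = cls (h * q * h⁻¹ * q⁻¹ * q) := congrArg cls (by group)
      _ = cls q := by rw [A.cls_mul _ (mul_mem hm (inv_mem hq)) _ hq, e, one_mul]

/-- The action is faithful modulo `Q`. -/
theorem ker {h : G} (hh : Commute h z) (h1 : act h = 1) : h ∈ Q := by
  haveI : Fact (Nat.Prime 2) := ⟨Nat.prime_two⟩
  let M : Subgroup G :=
    { carrier := {a | Commute a z ∧ act a = 1}
      one_mem' := ⟨Commute.one_left z, A.act_one⟩
      mul_mem' := fun {a b} ha hb => ⟨ha.1.mul_left hb.1, by rw [A.act_mul a b ha.1 hb.1, ha.2, hb.2, one_mul]⟩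
      inv_mem' := fun {a} ha => ⟨ha.1.inv_left, by rw [A.act_inv ha.1, ha.2, inv_one]⟩ }
  have hodd : ∀ a ∈ M, Odd (orderOf a) → a = 1 := by
    intro a ha ho
    refine orderOf_eq_one_iff.1 ?_
    have haQ : a ∈ Q := D.core.self a ha.1 fun q hq => by
      have hfix : a * q * a⁻¹ * q⁻¹ ∈ zpowers z := (A.fixed_iff D ha.1 hq).1 (by rw [ha.2]; rfl)
      obtain ⟨k, hk⟩ := hfix
      have hk' : z ^ k = a * q * a⁻¹ * q⁻¹ := hk
      rw [← zpow_mod_orderOf, D.conf.cover.ordz] at hk'
      rcases Int.emod_two_eq_zero_or_one k with h0 | h0 <;> rw [Nat.cast_ofNat, h0] at hk'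
      · rw [zpow_zero] at hk'
        exact mul_inv_eq_iff_eq_mul.1 (mul_inv_eq_one.1 hk'.symm)
      · exfalso
        rw [zpow_one] at hk'
        have hstep : a * q * a⁻¹ = z * q := by rw [hk']; group
        have hpow : ∀ n : ℕ, a ^ n * q * (a ^ n)⁻¹ = z ^ n * q := by
          intro n
          induction n with
          | zero => simp
          | succ n ih =>
            rw [pow_succ', show a * a ^ n * q * (a * a ^ n)⁻¹ = a * (a ^ n * q * (a ^ n)⁻¹) * a⁻¹ by group, ih,
              show a * (z ^ n * q) * a⁻¹ = a * z ^ n * a⁻¹ * (a * q * a⁻¹) by group, hstep,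
              (ha.1.pow_right n).eq, mul_inv_cancel_right, ← mul_assoc, ← pow_succ]
        have h2 := hpow (orderOf a)
        rw [pow_orderOf_eq_one, one_mul, inv_one, mul_one, right_eq_mul] at h2
        obtain ⟨m, hm⟩ := ho
        rw [hm, pow_succ, pow_mul, pow_two, D.conf.cover.z2, one_pow, one_mul] at h2
        exact D.conf.cover.z_ne h2
    obtain ⟨n, hn⟩ := D.core.two ⟨a, haQ⟩
    exact Nat.eq_one_of_dvd_coprimes ((Nat.coprime_two_right.2 ho).pow_right n) dvd_rfl
      (orderOf_dvd_of_pow_eq_one (congrArg Subtype.val hn : a ^ 2 ^ n = 1))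
  have hM : IsPGroup 2 M := fun a => by
    obtain ⟨n, m, hm, hnm⟩ := Nat.exists_eq_two_pow_mul_odd (orderOf_pos (a : G)).ne'
    refine ⟨n, Subtype.ext ?_⟩
    show (a : G) ^ 2 ^ n = 1
    refine hodd _ (M.pow_mem a.2 _) ?_
    rw [orderOf_pow_of_dvd (by positivity) (hnm ▸ dvd_mul_right _ _), hnm,
      Nat.mul_div_cancel_left _ (by positivity)]
    exact hm
  refine D.core.max M hM (fun a ha => ha.1) (fun w hw a ha => ?_) (show h ∈ M from ⟨hh, h1⟩)
  exact ⟨(hw.mul_left ha.1).mul_left hw.inv_left, by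
    rw [A.act_conj hw ha.1, ha.2, mul_one, mul_inv_cancel]⟩

theorem fpf_x {w : W} (h : act x w = w) : w = 1 := by
  have S := D.conf.cover
  obtain ⟨q, hq, rfl⟩ := A.surj w
  rw [A.fixed_iff D S.comm.symm hq] at h
  have hc : Commute q x := by
    obtain ⟨k, hk⟩ := h
    have hk' : z ^ k = x * q * x⁻¹ * q⁻¹ := hk
    rw [← zpow_mod_orderOf, S.ordz] at hk'
    rcases Int.emod_two_eq_zero_or_one k with h0 | h0 <;> rw [Nat.cast_ofNat, h0] at hk'
    · rw [zpow_zero] at hk'
      exact (show Commute x q from mul_inv_eq_iff_eq_mul.1 (mul_inv_eq_one.1 hk'.symm)).symm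
    · exfalso
      rw [zpow_one] at hk'
      have hstep : x * q * x⁻¹ = z * q := by rw [hk']; group
      have hxz : x * z * x⁻¹ = z := by rw [← S.comm.eq, mul_inv_cancel_right]
      have h3 : q = z * (z * (z * q)) := by
        calc q = x * (x * (x * q * x⁻¹) * x⁻¹) * x⁻¹ := by
              rw [show x * (x * (x * q * x⁻¹) * x⁻¹) * x⁻¹ = x ^ 3 * q * (x ^ 3)⁻¹ by
                rw [pow_succ, pow_two]; group, S.x3, one_mul, inv_one, mul_one]
          _ = x * (z * (z * q)) * x⁻¹ := by
            rw [hstep, show x * (z * q) * x⁻¹ = (x * z * x⁻¹) * (x * q * x⁻¹) by group, hxz, hstep]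
          _ = z * (z * (z * q)) := by
            rw [show x * (z * (z * q)) * x⁻¹ = (x * z * x⁻¹) * ((x * z * x⁻¹) * (x * q * x⁻¹)) by group,
              hxz, hstep]
      rw [← mul_assoc z z, S.z2, one_mul, right_eq_mul] at h3
      exact S.z_ne h3
  rcases S.fixed D.core hq hc with e | e <;> rw [e]
  · exact (A.cls_one 1 Q.one_mem).2 (one_mem _)
  · exact A.cls_z D

theorem sum_x (w : W) : act x (act x w) * act x w * w = 1 := by
  have S := D.conf.cover
  refine A.fpf_x D ?_
  have h3 : act x (act x (act x w)) = w := by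
    rw [← MulAut.mul_apply, ← MulAut.mul_apply, ← pow_three', ← A.act_pow S.comm.symm, S.x3, A.act_one,
      MulAut.one_apply]
  rw [map_mul, map_mul, h3, mul_comm _ w, mul_assoc, mul_comm w]

end Act

/-- Conjugates of `zy`. -/
abbrev invol (r zy : G) (k : ℕ) : G := r ^ k * zy * (r ^ k)⁻¹

/-- The fixed points of an element of `C(z)` on `W`. -/
abbrev fixW {W : Type u} [CommGroup W] (act : G → MulAut W) (a : G) : Subgroup W :=
  (act a).toMonoidHom.eqLocus (MonoidHom.id W)

theorem mem_fixW {W : Type u} [CommGroup W] {act : G → MulAut W} {a : G} {w : W} :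
    w ∈ fixW act a ↔ act a w = w := Iff.rfl

/-- The commutator map of an element on `W`. -/
abbrev diffW {W : Type u} [CommGroup W] (act : G → MulAut W) (a : G) : W →* W :=
  MonoidHom.id W * (act a).toMonoidHom

theorem diffW_apply {W : Type u} [CommGroup W] (act : G → MulAut W) (a : G) (w : W) :
    diffW act a w = w * act a w := rfl

namespace Act

variable {W : Type u} [CommGroup W] [Finite W] {act : G → MulAut W} {cls : G → W}
  (A : Act z Q act cls) (D : QFacts x z p y r g zy py Q)
include A D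

theorem yz' : Commute y z := D.conf.cover.central y D.conf.yx

/-- The fixed points of `y x^k` are `2^4`. -/
theorem card_part (k : ℕ) : Nat.card (fixW act (y * x ^ k)) = 16 ∧
    ∀ w ∈ fixW act (y * x ^ k), ∃ q ∈ Q, Commute q (y * x ^ k) ∧ cls q = w := by
  have hxz : Commute x z := D.conf.cover.comm.symm
  have hyz := A.yz' D
  have haz : Commute (y * x ^ k) z := hyz.mul_left (hxz.pow_left k)
  set M := Q ⊓ centralizer ({y * x ^ k} : Set G) with hM
  have hM32 : Nat.card M = 32 := by rw [hM, ← D.pow_shift k, D.card_fixed_conj (D.rz.pow_left k), D.card_y]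
  have hlift : ∀ w ∈ fixW act (y * x ^ k), ∃ q ∈ Q, Commute q (y * x ^ k) ∧ cls q = w := by
    intro w hw
    obtain ⟨q, hq, rfl⟩ := A.surj w
    obtain ⟨j, hj⟩ := (A.fixed_iff D haz hq).1 hw
    refine ⟨q, hq, ?_, rfl⟩
    have hj' : z ^ j = (y * x ^ k) * q * (y * x ^ k)⁻¹ * q⁻¹ := hj
    set a := y * x ^ k
    have ha3 : a ^ 3 = 1 := by
      rw [(D.conf.yx.pow_right k).mul_pow, D.covy.x3, one_mul, ← pow_mul, mul_comm, pow_mul,
        D.conf.cover.x3, one_pow]
    rw [← zpow_mod_orderOf, D.conf.cover.ordz] at hj'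
    rcases Int.emod_two_eq_zero_or_one j with h0 | h0 <;> rw [Nat.cast_ofNat, h0] at hj'
    · rw [zpow_zero] at hj'
      exact (show Commute a q from mul_inv_eq_iff_eq_mul.1 (mul_inv_eq_one.1 hj'.symm)).symm
    · exfalso
      rw [zpow_one] at hj'
      have hstep : a * q * a⁻¹ = z * q := by rw [hj']; group
      have hazc : a * z * a⁻¹ = z := by rw [haz.eq, mul_inv_cancel_right]
      have h3 : q = z * (z * (z * q)) := by
        calc q = a * (a * (a * q * a⁻¹) * a⁻¹) * a⁻¹ := by
              rw [show a * (a * (a * q * a⁻¹) * a⁻¹) * a⁻¹ = a ^ 3 * q * (a ^ 3)⁻¹ by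
                rw [pow_succ, pow_two]; group, ha3, one_mul, inv_one, mul_one]
          _ = a * (z * (z * q)) * a⁻¹ := by
            rw [hstep, show a * (z * q) * a⁻¹ = (a * z * a⁻¹) * (a * q * a⁻¹) by group, hazc, hstep]
          _ = z * (z * (z * q)) := by
            rw [show a * (z * (z * q)) * a⁻¹ = (a * z * a⁻¹) * ((a * z * a⁻¹) * (a * q * a⁻¹)) by group,
              hazc, hstep]
      rw [← mul_assoc z z, D.conf.cover.z2, one_mul, right_eq_mul] at h3
      exact D.conf.cover.z_ne h3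
  refine ⟨?_, hlift⟩
  let f : M →* W := MonoidHom.mk' (fun q => cls q) fun a b => A.cls_mul a a.2.1 b b.2.1
  have hrange : f.range = fixW act (y * x ^ k) := by
    refine le_antisymm ?_ fun w hw => ?_
    · rintro _ ⟨q, rfl⟩
      refine (A.fixed_iff D haz q.2.1).2 ?_
      rw [← (show Commute (q : G) (y * x ^ k) from mem_centralizer_singleton_iff.1 q.2.2).eq]
      simp [mul_assoc]
    · obtain ⟨q, hq, hqc, rfl⟩ := hlift w hw
      exact ⟨⟨q, hq, mem_centralizer_singleton_iff.2 hqc.eq⟩, rfl⟩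
  have hzM : z ∈ M := ⟨D.core.mem, mem_centralizer_singleton_iff.2 haz.symm.eq⟩
  have hker : f.ker.map M.subtype = zpowers z := by
    refine le_antisymm ?_ (zpowers_le.2 ⟨⟨z, hzM⟩, A.cls_z D, rfl⟩)
    rintro _ ⟨q, hq, rfl⟩
    exact (A.cls_one q q.2.1).1 hq
  have h1 := f.ker.card_mul_index
  rw [Subgroup.index_ker, hrange, hM32, ← Subgroup.card_map_of_injective M.subtype_injective, hker,
    Nat.card_zpowers, D.conf.cover.ordz] at h1
  omega

theorem gen : ∀ w : W, ∃ a ∈ fixW act y, ∃ b ∈ fixW act (y * x), ∃ c ∈ fixW act (y * x ^ 2),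
    a * b * c = w := by
  classical
  have S := D.conf.cover
  have hyx := D.conf.yx
  have hxz : Commute x z := S.comm.symm
  have hyz := A.yz' D
  intro w
  obtain ⟨q, hq, rfl⟩ := A.surj w
  set F0 := fixW act y
  set F1 := fixW act (y * x)
  set F2 := fixW act (y * x ^ 2)
  suffices hmem : cls q ∈ F0 ⊔ F1 ⊔ F2 by
    obtain ⟨ab, hab, c, hc, e⟩ := Subgroup.mem_sup.1 hmem
    obtain ⟨a, ha, b, hb, e'⟩ := Subgroup.mem_sup.1 hab
    exact ⟨a, ha, b, hb, c, hc, by rw [e', e]⟩
  let M : Subgroup G :=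
    { carrier := {a | a ∈ Q ∧ cls a ∈ F0 ⊔ F1 ⊔ F2}
      one_mem' := ⟨Q.one_mem, by rw [(A.cls_one 1 Q.one_mem).2 (one_mem _)]; exact one_mem _⟩
      mul_mem' := fun {a b} ha hb => ⟨Q.mul_mem ha.1 hb.1, by
        rw [A.cls_mul a ha.1 b hb.1]; exact mul_mem ha.2 hb.2⟩
      inv_mem' := fun {a} ha => ⟨Q.inv_mem ha.1, by
        have h1 : cls a⁻¹ = (cls a)⁻¹ := by
          refine eq_inv_of_mul_eq_one_left ?_
          rw [← A.cls_mul _ (Q.inv_mem ha.1) a ha.1, inv_mul_cancel, (A.cls_one 1 Q.one_mem).2 (one_mem _)]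
        rw [h1]; exact inv_mem ha.2⟩ }
  suffices hle : Q ≤ M from (hle hq).2
  set Ab := closure ({x, y} : Set G) with hA
  have hxA : x ∈ Ab := subset_closure (Or.inl rfl)
  have hyA : y ∈ Ab := subset_closure (Or.inr rfl)
  haveI : IsMulCommutative Ab := isMulCommutative_closure (by
    rintro a (rfl | rfl) b (rfl | rfl)
    exacts [rfl, hyx.symm.eq, hyx.eq, rfl])
  have hA3 : ∀ a ∈ Ab, a ^ 3 = 1 ∧ Commute a z := by
    intro a ha
    induction ha using closure_induction with
    | mem a ha => rcases ha with rfl | rfl; exacts [⟨S.x3, hxz⟩, ⟨D.covy.x3, hyz⟩]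
    | one => exact ⟨one_pow 3, Commute.one_left z⟩
    | mul a b ha hb iha ihb =>
      exact ⟨by rw [(show Commute a b from setLike_mul_comm ha hb).mul_pow, iha.1, ihb.1, one_mul],
        iha.2.mul_left ihb.2⟩
    | inv a ha iha => exact ⟨by rw [inv_pow, iha.1, inv_one], iha.2.inv_left⟩
  haveI : Fact (Nat.Prime 3) := ⟨Nat.prime_three⟩
  have hAp : IsPGroup 3 Ab := fun a => ⟨1, Subtype.ext (by
    rw [pow_one, SubmonoidClass.coe_pow]; exact (hA3 a a.2).1)⟩
  have hcop : (Nat.card Ab).Coprime (Nat.card Q) := by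
    obtain ⟨i, hi⟩ := IsPGroup.iff_card.1 hAp
    rw [hi, D.card]
    exact Nat.Coprime.pow _ _ (by norm_num)
  refine Coprime.le_of_pair (A := Ab) (p := 3) (fun a ha => D.core.mem_normalizer (hA3 a ha).2) hcop
    Nat.prime_three hxA hyA (by rw [S.x3]; exact one_mem _) (by rw [D.covy.x3]; exact one_mem _)
    fun i j hij => ?_
  rintro a ⟨ha, hac⟩
  have hac' : Commute a (x ^ i * y ^ j) := mem_centralizer_singleton_iff.1 hac
  refine ⟨ha, ?_⟩
  by_cases hj : 3 ∣ j
  · obtain ⟨j, rfl⟩ := hj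
    rw [pow_mul, D.covy.x3, one_pow, mul_one] at hac'
    have hi : ¬ 3 ∣ i := fun hi => hij ⟨hi, dvd_mul_right 3 j⟩
    obtain ⟨m, hm⟩ := exists_pow_eq_self_of_coprime (x := x) (n := i)
      (by rw [S.ordx]; exact ((Nat.prime_three).coprime_iff_not_dvd.2 hi).symm)
    rcases S.fixed D.core ha (hm ▸ hac'.pow_right m) with e | e <;> rw [e]
    · rw [(A.cls_one 1 Q.one_mem).2 (one_mem _)]; exact one_mem _
    · rw [A.cls_z D]; exact one_mem _
  · -- a power is one of the three elements
    obtain ⟨k, hk, hc⟩ : ∃ k < 3, Commute a (y * x ^ k) := by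
      have hxi : x ^ i = x ^ (i % 3) := by rw [← pow_mod_orderOf, S.ordx]
      have hyj : y ^ j = y ^ (j % 3) := by rw [← pow_mod_orderOf, D.covy.ordx]
      rw [hxi, hyj] at hac'
      rcases (show j % 3 = 1 ∨ j % 3 = 2 by omega) with h0 | h0 <;> rw [h0] at hac'
      · exact ⟨i % 3, by omega, by rw [pow_one] at hac'; rwa [(hyx.pow_right _).eq]⟩
      · refine ⟨(2 * (i % 3)) % 3, by omega, ?_⟩
        have := hac'.pow_right 2
        rwa [((hyx.symm.pow_left (i % 3)).pow_right 2).mul_pow, ← pow_mul, ← pow_mul, mul_comm (i % 3) 2,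
          show y ^ (2 * 2) = y by rw [pow_succ, D.covy.x3, one_mul],
          ← ((hyx.pow_right (2 * (i % 3)))).eq, ← pow_mod_orderOf x (2 * (i % 3)), S.ordx] at this
    have hfix : cls a ∈ fixW act (y * x ^ k) := by
      refine (A.fixed_iff D (hyz.mul_left (hxz.pow_left k)) ha).2 ?_
      rw [← hc.eq]
      simp [mul_assoc]
    interval_cases k
    · rw [pow_zero, mul_one] at hfix
      exact Subgroup.mem_sup_left (Subgroup.mem_sup_left hfix)
    · rw [pow_one] at hfix
      exact Subgroup.mem_sup_left (Subgroup.mem_sup_right hfix)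
    · exact Subgroup.mem_sup_right hfix

theorem eq_one_of_gen {α : MulAut W} (h0 : ∀ w ∈ fixW act y, α w = w)
    (h1 : ∀ w ∈ fixW act (y * x), α w = w) (h2 : ∀ w ∈ fixW act (y * x ^ 2), α w = w) : α = 1 := by
  refine MulEquiv.ext fun w => ?_
  obtain ⟨a, ha, b, hb, c, hc, rfl⟩ := A.gen D w
  rw [map_mul, map_mul, h0 a ha, h1 b hb, h2 c hc, MulAut.one_apply]

theorem zy_fix {w : W} (hw : w ∈ fixW act y) : act zy w = w := by
  have h := A.card_part D 0
  rw [pow_zero, mul_one] at h
  obtain ⟨q, hq, hqy, rfl⟩ := h.2 w hw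
  refine (A.fixed_iff D D.zy_comm hq).2 ?_
  rw [← (D.covy.central q hqy).eq]
  simp [mul_assoc]

theorem rfix {a : G} (ha : Commute a z) (k : ℕ) {w : W} (hw : w ∈ fixW act a) :
    act (r ^ k) w ∈ fixW act (r ^ k * a * (r ^ k)⁻¹) := by
  rw [mem_fixW, A.act_conj (D.rz.pow_left k) ha]
  simp only [MulAut.mul_apply, MulAut.inv_apply_self]
  rw [mem_fixW.1 hw]

theorem rfix' (j k l : ℕ) (hl : l % 3 = (j + k) % 3) {w : W} (hw : w ∈ fixW act (y * x ^ j)) :
    act (r ^ k) w ∈ fixW act (y * x ^ l) := by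
  have h := A.rfix D (a := y * x ^ j) ((A.yz' D).mul_left (D.conf.cover.comm.symm.pow_left j)) k hw
  have e : r ^ k * (y * x ^ j) * (r ^ k)⁻¹ = y * x ^ l := by
    rw [show r ^ k * (y * x ^ j) * (r ^ k)⁻¹ = r ^ k * y * (r ^ k)⁻¹ * (r ^ k * x ^ j * (r ^ k)⁻¹) by group,
      D.pow_shift, ((D.conf.rx.pow_left k).pow_right j).eq, mul_inv_cancel_right, mul_assoc, ← pow_add,
      ← pow_mod_orderOf x l, ← pow_mod_orderOf x (k + j), D.conf.cover.ordx, hl, add_comm j k]
  rwa [e] at h

/-- `zy` induces non-trivial involutions on the two parts not fixed by `y`. -/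
theorem moves {k : ℕ} (hk : k = 1 ∨ k = 2) : ∃ w ∈ fixW act (y * x ^ k), act zy w ≠ w := by
  classical
  haveI := simple_m22
  have S := D.conf.cover
  have hxy := D.conf.yx.symm
  have hrx := D.conf.rx
  set ι : ℕ → MulAut W := fun j => act (invol r zy j) with hι
  have hizc : ∀ j, Commute (invol r zy j) z := fun j =>
    ((D.rz.pow_left j).mul_left D.zy_comm).mul_left (D.rz.pow_left j).inv_left
  have hixc : ∀ j, Commute (invol r zy j) x := fun j =>
    ((hrx.pow_left j).mul_left D.zy_x).mul_left (hrx.pow_left j).inv_left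
  have hι0 : ι 0 = act zy := by simp [hι, invol]
  have hιfix : ∀ j, ∀ w ∈ fixW act (y * x ^ j), ι j w = w := by
    intro j w hw
    set w' := (act (r ^ j))⁻¹ w with hw'
    have hmem : w' ∈ fixW act y := by
      rw [mem_fixW, hw', ← MulAut.mul_apply, ← A.act_inv (D.rz.pow_left j),
        ← A.act_mul _ _ (A.yz' D) (D.rz.pow_left j).inv_left,
        show y * (r ^ j)⁻¹ = (r ^ j)⁻¹ * (y * x ^ j) by rw [← D.pow_shift j]; group,
        A.act_mul _ _ (D.rz.pow_left j).inv_left ((A.yz' D).mul_left (S.comm.symm.pow_left j)),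
        MulAut.mul_apply, mem_fixW.1 hw]
    show act (r ^ j * zy * (r ^ j)⁻¹) w = w
    rw [A.act_conj (D.rz.pow_left j) D.zy_comm]
    simp only [MulAut.mul_apply]
    rw [← hw', A.zy_fix D hmem, hw', MulAut.apply_inv_self]
  by_contra hall
  push Not at hall
  -- the moved part
  set l := 3 - k with hl
  have hl' : l = 1 ∨ l = 2 := by omega
  have hmv : ∃ w ∈ fixW act (y * x ^ l), act zy w ≠ w := by
    by_contra hfix
    push Not at hfix
    refine D.zy_not (A.ker D D.zy_comm (A.eq_one_of_gen D (fun w hw => A.zy_fix D hw) ?_ ?_))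
    · rw [show y * x = y * x ^ 1 by rw [pow_one]]
      rcases hk with rfl | rfl
      · exact hall
      · exact hfix
    · rcases hk with rfl | rfl
      · exact hfix
      · exact hall
  obtain ⟨w0, hw0, hne0⟩ := hmv
  -- transported
  have htransp : ∀ j, ∀ w ∈ fixW act (y * x ^ l), act zy w ≠ w → ι j (act (r ^ j) w) ≠ act (r ^ j) w := by
    intro j w _ hne h
    refine hne ((act (r ^ j)).injective ?_)
    have h' : act (r ^ j * zy * (r ^ j)⁻¹) (act (r ^ j) w) = act (r ^ j) w := h
    rw [A.act_conj (D.rz.pow_left j) D.zy_comm] at h'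
    simpa using h'
  have hι0k : ∀ w ∈ fixW act (y * x ^ k), ι 0 w = w := fun w hw => by rw [hι0]; exact hall w hw
  have hkfix : ∀ j, ∀ w ∈ fixW act (y * x ^ ((k + j) % 3)), ι j w = w := by
    intro j w hw
    have hjj : Commute (r ^ j) z := D.rz.pow_left j
    set w' := (act (r ^ j))⁻¹ w with hw'
    have hmem : w' ∈ fixW act (y * x ^ k) := by
      have e : r ^ j * (y * x ^ k) * (r ^ j)⁻¹ = y * x ^ ((k + j) % 3) := by
        rw [show r ^ j * (y * x ^ k) * (r ^ j)⁻¹ = r ^ j * y * (r ^ j)⁻¹ * (r ^ j * x ^ k * (r ^ j)⁻¹) by group,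
          D.pow_shift, ((hrx.pow_left j).pow_right k).eq, mul_inv_cancel_right, mul_assoc, ← pow_add,
          ← pow_mod_orderOf x (j + k), S.ordx, add_comm j k]
      rw [mem_fixW, hw', ← MulAut.mul_apply, ← A.act_inv hjj,
        ← A.act_mul _ _ ((A.yz' D).mul_left (S.comm.symm.pow_left k)) hjj.inv_left,
        show y * x ^ k * (r ^ j)⁻¹ = (r ^ j)⁻¹ * (y * x ^ ((k + j) % 3)) by rw [← e]; group,
        A.act_mul _ _ hjj.inv_left ((A.yz' D).mul_left (S.comm.symm.pow_left _)), MulAut.mul_apply,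
        mem_fixW.1 hw]
    show act (r ^ j * zy * (r ^ j)⁻¹) w = w
    rw [A.act_conj hjj D.zy_comm]
    simp only [MulAut.mul_apply]
    rw [← hw']
    have := hall w' hmem
    rw [this, hw', MulAut.apply_inv_self]
  -- the product of the three is trivial
  have hi2 : ∀ j, invol r zy j * invol r zy j = 1 := fun j => by
    show r ^ j * zy * (r ^ j)⁻¹ * (r ^ j * zy * (r ^ j)⁻¹) = 1
    rw [conj_mul, D.covy.z2, mul_one, mul_inv_cancel]
  have hιne : ∀ j, ι j ≠ 1 := fun j h => by
    refine htransp j w0 hw0 hne0 ?_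
    rw [h]; rfl
  have hiy : ∀ j, Commute (invol r zy j) y := by
    intro j
    have h1 : Commute zy (y * x ^ (2 * j)) := (D.covy.central y (Commute.refl y)).symm.mul_right (D.zy_x.pow_right _)
    have h2 := h1.map (MulAut.conj (r ^ j)).toMonoidHom
    simp only [MulEquiv.coe_toMonoidHom, MulAut.conj_apply] at h2
    rwa [show r ^ j * (y * x ^ (2 * j)) * (r ^ j)⁻¹ =
      r ^ j * y * (r ^ j)⁻¹ * (r ^ j * x ^ (2 * j) * (r ^ j)⁻¹) by group, D.pow_shift,
      ((hrx.pow_left j).pow_right _).eq, mul_inv_cancel_right, mul_assoc y (x ^ j), ← pow_add,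
      show x ^ (j + 2 * j) = 1 by rw [show j + 2 * j = 3 * j by ring, pow_mul, S.x3, one_pow], mul_one] at h2
  have hi1 : ∀ j, invol r zy j ≠ 1 ∧ invol r zy j ≠ z := fun j => by
    constructor <;> intro h
    · exact hιne j (show act _ = 1 by rw [h, A.act_one])
    · exact hιne j (show act _ = 1 by rw [h, A.act_mem D D.core.mem])
  set m : ℕ → ↥Spor.M22 := fun j => p (invol r zy j) with hm
  have hm2 : ∀ j, orderOf (m j) = 2 := fun j => S.orderOf_map_two (hixc j) (hi2 j) (hi1 j).1 (hi1 j).2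
  have hyo := S.orderOf_map_three D.conf.yx D.covy.ordx D.conf.y_not
  have hfour : ∀ j, m j ∈ four (p y) := fun j => ⟨by rw [← pow_two, ← hm2 j, pow_orderOf_eq_one], by
    show p _ * p y = p y * p _
    rw [← S.map_mul _ _ (hixc j) D.conf.yx, ← S.map_mul _ _ D.conf.yx (hixc j), (hiy j).eq]⟩
  have hx_act : ∀ a : ℕ, act x ^ a * act x ^ a = 1 → act x ^ a = 1 := by
    intro a h
    rw [← pow_add] at h
    have h3 : act x ^ 3 = 1 := by rw [← A.act_pow S.comm.symm, S.x3, A.act_one]
    calc act x ^ a = act x ^ (3 * a) * (act x ^ (a + a))⁻¹ := by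
          rw [show 3 * a = a + (a + a) by ring, pow_add, mul_assoc, mul_inv_cancel, mul_one]
      _ = 1 := by rw [pow_mul, h3, one_pow, h, inv_one, one_mul]
  have hcls : ∀ {c : G}, Commute c x → p c = 1 → ∃ a : ℕ, act c = act x ^ a := by
    intro c hc hp
    obtain ⟨a, b, rfl⟩ := S.ker c hc hp
    exact ⟨a, by rw [A.act_mul _ _ (S.comm.symm.pow_left a) ((Commute.refl z).pow_left b),
      A.act_pow S.comm.symm, A.act_mem D (Q.pow_mem D.core.mem b), mul_one]⟩
  have hι2 : ∀ j, ι j * ι j = 1 := fun j => by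
    show act _ * act _ = 1
    rw [← A.act_mul _ _ (hizc j) (hizc j), hi2, A.act_one]
  have hιx : ∀ j, Commute (ι j) (act x) := fun j => MulEquiv.ext fun w =>
    A.act_comm (hizc j) S.comm.symm (hixc j) w
  have heq : ∀ a b, m a = m b → ι a = ι b := by
    intro a b hab
    obtain ⟨n, hn⟩ := hcls ((hixc a).mul_left (hixc b))
      (by rw [S.map_mul _ _ (hixc a) (hixc b)]; show m a * m b = 1; rw [hab, ← pow_two, ← hm2 b, pow_orderOf_eq_one])
    rw [A.act_mul _ _ (hizc a) (hizc b)] at hn
    have h' : ι b = ι a * act x ^ n := by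
      rw [← hn]
      show ι b = ι a * (ι a * ι b)
      rw [← mul_assoc, hι2, one_mul]
    have h1 := hx_act n (by
      have h2 := hι2 b
      rw [h', show ι a * act x ^ n * (ι a * act x ^ n) = ι a * (act x ^ n * ι a) * act x ^ n by group,
        ← ((hιx a).pow_right n).eq, ← mul_assoc (ι a) (ι a), hι2, one_mul] at h2
      exact h2)
    rw [h', h1, mul_one]
  have hkl : (l + k) % 3 = 0 := by omega
  -- `ι j` moves the part of index `j + l` and fixes the others
  have hdis : ∀ a b, a < 3 → b < 3 → a ≠ b → ι a ≠ ι b := by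
    intro a b ha hb hab heq'
    have hmva := htransp a w0 hw0 hne0
    have hmem := A.rfix' D l a ((l + a) % 3) (by omega) hw0
    refine hmva ?_
    rw [heq']
    by_cases hbk : (k + b) % 3 = (l + a) % 3
    · exact hkfix b _ (by rw [hbk]; exact hmem)
    · exact hιfix b _ (by rwa [show (l + a) % 3 = b by omega] at hmem)
  have hd : m 0 ≠ m 1 ∧ m 0 ≠ m 2 ∧ m 1 ≠ m 2 := ⟨fun h => hdis 0 1 (by omega) (by omega) (by omega) (heq 0 1 h),
    fun h => hdis 0 2 (by omega) (by omega) (by omega) (heq 0 2 h),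
    fun h => hdis 1 2 (by omega) (by omega) (by omega) (heq 1 2 h)⟩
  have hne1 : ∀ j, m j ≠ 1 := fun j e => by have := hm2 j; rw [e, orderOf_one] at this; omega
  have hprod : m 0 * m 1 = m 2 := by
    rcases hyp_m22.four_cases hyo (hfour 0) (hfour 1) (hne1 0) (hne1 1) hd.1 (hfour 2) with e | e | e | e
    · exact absurd e (hne1 2)
    · exact absurd e.symm hd.2.1
    · exact absurd e.symm hd.2.2
    · exact e.symm
  obtain ⟨n, hn⟩ := hcls (((hixc 0).mul_left (hixc 1)).mul_left (hixc 2)) (by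
    rw [S.map_mul _ _ ((hixc 0).mul_left (hixc 1)) (hixc 2), S.map_mul _ _ (hixc 0) (hixc 1)]
    show m 0 * m 1 * m 2 = 1
    rw [hprod]
    have h22 := pow_orderOf_eq_one (m 2)
    rwa [hm2 2, pow_two] at h22)
  rw [A.act_mul _ _ ((hizc 0).mul_left (hizc 1)) (hizc 2), A.act_mul _ _ (hizc 0) (hizc 1)] at hn
  -- on the part moved by `zy` the product is `zy`
  have hw1 : ι 1 w0 = w0 ∧ ι 2 w0 = w0 := by
    have key : ∀ j, j < 3 → j ≠ 0 → ι j w0 = w0 := by
      intro j hj hj0
      by_cases hjl : j = l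
      · exact hιfix j _ (hjl ▸ hw0)
      · exact hkfix j _ (by rwa [show (k + j) % 3 = l by omega])
    exact ⟨key 1 (by omega) (by omega), key 2 (by omega) (by omega)⟩
  have hP : (ι 0 * ι 1 * ι 2) w0 = act zy w0 := by
    simp only [MulAut.mul_apply, hw1.1, hw1.2, hι0]
  have hn' : (ι 0 * ι 1 * ι 2) = act x ^ n := hn
  rw [hn'] at hP
  have hsq : (act x ^ n * act x ^ n) w0 = w0 := by
    rw [MulAut.mul_apply, hP]
    have h1 : (act x ^ n) (act zy w0) = act zy ((act x ^ n) w0) := by
      rw [← MulAut.mul_apply, ← ((hι0 ▸ hιx 0 : Commute (act zy) (act x)).pow_right n).eq, MulAut.mul_apply]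
    rw [h1, hP, ← MulAut.mul_apply, ← hι0, hι2, MulAut.one_apply]
  -- so `x^n` fixes it
  refine hne0 ?_
  rw [← hP]
  have h3 : (act x ^ n) ^ 3 = 1 := by
    rw [← pow_mul, mul_comm, pow_mul, ← A.act_pow S.comm.symm, S.x3, A.act_one, one_pow]
  calc (act x ^ n) w0 = (act x ^ n) ((act x ^ n * act x ^ n) w0) := by rw [hsq]
    _ = ((act x ^ n) ^ 3) w0 := by rw [← MulAut.mul_apply, pow_three]
    _ = w0 := by rw [h3, MulAut.one_apply]

/-- `zy` fixes `2^8` and displaces by `2^4`; the two non-fixed parts give the basis. -/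
theorem involution : Nat.card (fixW act zy) = 2 ^ 8 ∧ Nat.card (diffW act zy).range = 16 ∧
    ∀ k, k = 1 ∨ k = 2 → ∃ u ∈ (diffW act zy).range, u ≠ 1 ∧ u ∈ fixW act (y * x ^ k) := by
  classical
  haveI : Fact (Nat.Prime 2) := ⟨Nat.prime_two⟩
  haveI : Fact (Nat.Prime 3) := ⟨Nat.prime_three⟩
  have S := D.conf.cover
  have hxz : Commute x z := S.comm.symm
  set d := diffW act zy with hd
  have hι2 : ∀ w, act zy (act zy w) = w := fun w => by
    rw [← MulAut.mul_apply, ← A.act_mul _ _ D.zy_comm D.zy_comm, D.covy.z2, A.act_one, MulAut.one_apply]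
  have hzc : ∀ k : ℕ, Commute zy (y * x ^ k) := fun k =>
    (D.covy.central y (Commute.refl y)).symm.mul_right (D.zy_x.pow_right k)
  have hak : ∀ k : ℕ, Commute (y * x ^ k) z := fun k => (A.yz' D).mul_left (hxz.pow_left k)
  have hpres : ∀ k, ∀ w ∈ fixW act (y * x ^ k), act zy w ∈ fixW act (y * x ^ k) := fun k w hw => by
    rw [mem_fixW, ← A.act_comm D.zy_comm (hak k) (hzc k), mem_fixW.1 hw]
  -- the parts
  have hpart : ∀ k, k = 1 ∨ k = 2 → Nat.card ↥((fixW act (y * x ^ k)).map d) = 4 ∧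
      (fixW act (y * x ^ k)).map d ≤ fixW act (y * x ^ k) := by
    intro k hk
    set F := fixW act (y * x ^ k) with hF
    have hmap : F.map d ≤ F := by
      rintro _ ⟨w, hw, rfl⟩
      exact F.mul_mem hw (hpres k w hw)
    refine ⟨?_, hmap⟩
    have hkerge : F.map d ≤ fixW act zy := by
      rintro _ ⟨w, -, rfl⟩
      rw [mem_fixW, diffW_apply, map_mul, hι2, mul_comm]
    set K := d.comp F.subtype
    have hrange : K.range = F.map d := by
      rw [MonoidHom.range_eq_map, ← Subgroup.map_map, ← MonoidHom.range_eq_map, F.range_subtype]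
    have hker : F.map d ≤ K.ker.map F.subtype := fun w hw =>
      ⟨⟨w, hmap hw⟩, show w * act zy w = 1 by rw [mem_fixW.1 (hkerge hw), A.exp D], rfl⟩
    have h1 := K.ker.card_mul_index
    rw [Subgroup.index_ker, hrange, (A.card_part D k).1] at h1
    have h2 := Subgroup.card_le_of_le hker
    rw [Subgroup.card_map_of_injective F.subtype_injective] at h2
    have h3 : 1 < Nat.card ↥(F.map d) := by
      rw [Finite.one_lt_card_iff_nontrivial]
      obtain ⟨w, hw, hne⟩ := A.moves D hk
      refine (Subgroup.nontrivial_iff_exists_ne_one _).2 ⟨d w, ⟨w, hw, rfl⟩, fun h => hne ?_⟩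
      calc act zy w = w * (w * act zy w) := by rw [← mul_assoc, A.exp D, one_mul]
        _ = w := by rw [show w * act zy w = 1 from h, mul_one]
    -- `x` has no fixed point
    have hxinv : ∀ u ∈ F.map d, act x u ∈ F.map d := by
      rintro _ ⟨w, hw, rfl⟩
      refine ⟨act x w, ?_, ?_⟩
      · have hc : Commute (y * x ^ k) x := D.conf.yx.mul_left ((Commute.refl x).pow_left k)
        show act (y * x ^ k) (act x w) = act x w
        rw [A.act_comm (hak k) hxz hc, mem_fixW.1 hw]
      · rw [diffW_apply, diffW_apply, map_mul, A.act_comm D.zy_comm hxz D.zy_x]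
    have hmod : 3 ∣ Nat.card ↥(F.map d) - 1 := by
      let σ : Equiv.Perm ↥(F.map d) :=
        Equiv.ofBijective (fun u => ⟨act x u, hxinv u u.2⟩) (Finite.injective_iff_bijective.1
          (fun a b h => Subtype.ext ((act x).injective (congrArg Subtype.val h))))
      have hσ : σ ^ 3 = 1 := Equiv.ext fun u => Subtype.ext (by
        show act x (act x (act x u)) = u
        rw [← MulAut.mul_apply, ← MulAut.mul_apply, ← pow_three', ← A.act_pow hxz, S.x3, A.act_one,
          MulAut.one_apply])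
      haveI := Fintype.ofFinite ↥(F.map d)
      have := Equiv.Perm.card_compl_support_modEq (p := 3) (n := 1) (σ := σ) (by rw [pow_one]; exact hσ)
      have hfp : σ.supportᶜ = {(1 : ↥(F.map d))} := by
        ext u
        rw [Finset.mem_compl, Equiv.Perm.notMem_support, Finset.mem_singleton]
        refine ⟨fun hu => Subtype.ext (A.fpf_x D (congrArg Subtype.val hu)), ?_⟩
        rintro rfl
        exact Subtype.ext (map_one (act x))
      rw [hfp, Finset.card_singleton, Nat.ModEq] at this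
      rw [Nat.card_eq_fintype_card]
      omega
    obtain ⟨j, -, hj⟩ := (Nat.dvd_prime_pow Nat.prime_two).1
      (show Nat.card ↥(F.map d) ∣ 2 ^ 4 from ⟨Nat.card K.ker, by rw [show (2 : ℕ) ^ 4 = 16 by norm_num, ← h1, mul_comm]⟩)
    rw [hj] at h1 h2 h3 hmod ⊢
    have hjle : j ≤ 2 := by
      by_contra hlt
      have h8 : 8 ≤ 2 ^ j := le_trans (by norm_num) (Nat.pow_le_pow_right (by norm_num) (show 3 ≤ j by omega))
      nlinarith
    interval_cases j <;> first | omega | norm_num
  obtain ⟨h1c, h1le⟩ := hpart 1 (Or.inl rfl)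
  obtain ⟨h2c, h2le⟩ := hpart 2 (Or.inr rfl)
  simp only [pow_one] at h1c h1le
  set U1 := (fixW act (y * x)).map d
  set U2 := (fixW act (y * x ^ 2)).map d
  -- the parts meet trivially
  have hrange : d.range = U1 ⊔ U2 := by
    refine le_antisymm ?_ (sup_le (Subgroup.map_le_range _ _) (Subgroup.map_le_range _ _))
    rintro _ ⟨w, rfl⟩
    obtain ⟨a, ha, b, hb, c, hc, rfl⟩ := A.gen D w
    rw [map_mul, map_mul]
    refine mul_mem (mul_mem ?_ (mem_sup_left ⟨b, hb, rfl⟩)) (mem_sup_right ⟨c, hc, rfl⟩)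
    rw [diffW_apply, A.zy_fix D ha, A.exp D]
    exact one_mem _
  have hmeet : U1 ⊓ U2 = ⊥ := by
    refine (eq_bot_iff_forall _).2 fun w hw => A.fpf_x D ?_
    have e1 : act (y * x) w = w := h1le hw.1
    have e2 : act (y * x ^ 2) w = w := h2le hw.2
    rw [pow_two, ← mul_assoc, A.act_mul _ _ ((A.yz' D).mul_left hxz) hxz, MulAut.mul_apply] at e2
    exact (act (y * x)).injective (e2.trans e1.symm)
  have hr16 : Nat.card d.range = 16 := by
    have hm := Coprime.card_mul_inf U1 U2
    have hsup : ((U1 : Set W) * (U2 : Set W)) = ((U1 ⊔ U2 : Subgroup W) : Set W) := by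
      ext w
      exact (Subgroup.mem_sup.trans (by simp [Set.mem_mul])).symm
    rw [hmeet, Subgroup.card_bot, mul_one, h1c, h2c, hsup] at hm
    rw [hrange]
    exact hm
  refine ⟨?_, hr16, fun k hk => ?_⟩
  · have hker : d.ker = fixW act zy := by
      ext w
      rw [MonoidHom.mem_ker, diffW_apply, mem_fixW]
      refine ⟨fun h => ?_, fun h => by rw [h, A.exp D]⟩
      calc act zy w = w * (w * act zy w) := by rw [← mul_assoc, A.exp D, one_mul]
        _ = w := by rw [h, mul_one]
    have h1 := d.ker.card_mul_index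
    rw [Subgroup.index_ker, hr16, A.card, hker] at h1
    omega
  · obtain ⟨hc, hle⟩ := hpart k hk
    obtain ⟨u, hu, hu1⟩ := (Subgroup.nontrivial_iff_exists_ne_one _).1
      (Finite.one_lt_card_iff_nontrivial.1 (show 1 < Nat.card ↥((fixW act (y * x ^ k)).map d) by omega))
    exact ⟨u, Subgroup.map_le_range _ _ hu, hu1, hle hu⟩

/-- No conjugate of `zy` inverts `x`. -/
theorem not_inverting {w : G} (hw : Commute w z) (h : w * zy * w⁻¹ * x * (w * zy * w⁻¹)⁻¹ * x ∈ Q) : False := by
  have S := D.conf.cover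
  have hxz : Commute x z := S.comm.symm
  set a := w * zy * w⁻¹ with ha
  have haz : Commute a z := (hw.mul_left D.zy_comm).mul_left hw.inv_left
  have hcard : Nat.card (fixW act a) = 2 ^ 8 := by
    have e : fixW act a = (fixW act zy).map (act w).toMonoidHom := by
      ext v
      rw [mem_fixW, ha, A.act_conj hw D.zy_comm]
      constructor
      · intro hv
        exact ⟨(act w)⁻¹ v, (act w).injective (by
          show act w (act zy ((act w)⁻¹ v)) = act w ((act w)⁻¹ v)
          rw [MulAut.apply_inv_self]; exact hv), MulAut.apply_inv_self _ _ _⟩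
      · rintro ⟨u, hu, rfl⟩
        show act w (act zy ((act w)⁻¹ (act w u))) = act w u
        rw [MulAut.inv_apply_self, mem_fixW.1 hu]
    rw [e, Subgroup.card_map_of_injective (act w).injective]
    exact (A.involution D).1
  have hax : act a * act x * (act a)⁻¹ * act x = 1 := by
    rw [← A.act_conj haz hxz, ← A.act_mul _ _ ((haz.mul_left hxz).mul_left haz.inv_left) hxz, A.act_mem D h]
  set F := fixW act a
  have hmeet : F ⊓ F.map (act x).toMonoidHom = ⊥ := by
    refine (eq_bot_iff_forall _).2 ?_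
    rintro v ⟨hv, u, hu, rfl⟩
    have h1 : act x (act a (act x u)) = act a u := by
      have h2 : act a * act x * (act a)⁻¹ = (act x)⁻¹ := eq_inv_of_mul_eq_one_left hax
      have h3 : act a (act x u) = (act x)⁻¹ (act a u) := by
        rw [← h2]
        simp [MulAut.mul_apply]
      rw [h3, MulAut.apply_inv_self]
    rw [show act a (act x u) = act x u from hv, show act a u = u from hu] at h1
    show act x u = 1
    have hu1 : u = 1 := by
      refine A.fpf_x D ?_
      have h3 : act x (act x (act x u)) = u := by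
        rw [← MulAut.mul_apply, ← MulAut.mul_apply, ← pow_three', ← A.act_pow hxz, S.x3, A.act_one,
          MulAut.one_apply]
      rwa [h1] at h3
    rw [hu1, map_one]
  have hm := Coprime.card_mul_inf F (F.map (act x).toMonoidHom)
  rw [hmeet, Subgroup.card_bot, mul_one, Subgroup.card_map_of_injective (act x).injective, hcard] at hm
  have hle := Nat.card_le_card_of_injective (Subtype.val : ((F : Set W) * (F.map (act x).toMonoidHom : Set W) : Set W) → W)
    Subtype.val_injective
  rw [hm, A.card] at hle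
  norm_num at hle

end Act

end Cfsg.Agent.J4Type
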