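/-
The centraliser of the central involution modulo its 2-core (owner: helper40).

Main results (namespace `Cfsg.Agent.J4Type`):
* `Bar z Q bar` : `bar` maps `C(z)` onto `Γ` with kernel `Q`; `exists_bar`
* `Bar.exists_lift`, `Bar.exists_lift_three` : the centraliser of the image of `x` is covered by `C(x)`
* `Bar.mem_of_commute` : the centralisers of the other lines normalise `⟨x⟩`
* `Bar.commute_of_invariant` : invariant 3'-subgroups are centralised by `x`
-/
import Cfsg.Agent.Lib.J4Type.SixCoverLift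
import Cfsg.Agent.Lib.Coprime.Generation

set_option autoImplicit false
set_option linter.style.haveILetI false
set_option linter.unusedSectionVars false

namespace Cfsg.Agent.J4Type

open Cfsg Subgroup Cfsg.Agent.OrderM22
open scoped Pointwise

universe u

/-- Elements of order 3 congruent modulo a 3'-subgroup are conjugate under it. -/
theorem conj_three_mod {Γ : Type*} [Group Γ] [Finite Γ] {K : Subgroup Γ} (h3 : ¬ 3 ∣ Nat.card K) {u w : Γ}
    (hu : u ∈ normalizer (K : Set Γ)) (hu3 : u ^ 3 = 1) (hw3 : w ^ 3 = 1) (hq : u⁻¹ * w ∈ K) :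
    ∃ k ∈ K, k * w * k⁻¹ = u := by
  haveI : Fact (Nat.Prime 3) := ⟨Nat.prime_three⟩
  have hone : ∀ a ∈ K, a ^ 3 = 1 → a = 1 := by
    intro a ha ha3
    exact orderOf_eq_one_iff.1 (Nat.eq_one_of_dvd_coprimes ((Nat.prime_three).coprime_iff_not_dvd.2 h3)
      (orderOf_dvd_of_pow_eq_one ha3) (Subgroup.orderOf_dvd_natCard K ha))
  rcases eq_or_ne u 1 with rfl | hu1
  · rw [inv_one, one_mul] at hq
    exact ⟨1, K.one_mem, by rw [hone w hq hw3]; group⟩
  have hw1 : w ≠ 1 := by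
    rintro rfl
    rw [mul_one, inv_mem_iff] at hq
    exact hu1 (hone u hq hu3)
  have huo : orderOf u = 3 := orderOf_eq_prime hu3 hu1
  have hwo : orderOf w = 3 := orderOf_eq_prime hw3 hw1
  obtain ⟨n, hn, hnH⟩ := Coprime.exists_conj_eq_of_le_sup (N := K) (H := zpowers u) (L := zpowers w)
    (zpowers_le.2 hu)
    (by rw [Nat.card_zpowers, huo]; exact (Nat.prime_three).coprime_iff_not_dvd.2 h3)
    (Or.inl inferInstance)
    (zpowers_le.2 (by
      rw [show w = u * (u⁻¹ * w) by group]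
      exact mul_mem (mem_sup_right (mem_zpowers u)) (mem_sup_left hq)))
    (by rw [Nat.card_zpowers, Nat.card_zpowers, huo, hwo])
  have hmem : n * u * n⁻¹ ∈ zpowers w := by
    rw [← hnH, Coprime.mem_conj]
    simp [mul_assoc, mem_zpowers]
  obtain ⟨k, hk⟩ := hmem
  have hk' : w ^ k = n * u * n⁻¹ := hk
  have hdiff : (n * u * n⁻¹)⁻¹ * w ∈ K := by
    rw [show (n * u * n⁻¹)⁻¹ * w = n * (u⁻¹ * n⁻¹ * u) * (u⁻¹ * w) by group]
    refine mul_mem (mul_mem hn ?_) hq
    have := (mem_normalizer_iff.1 (Subgroup.inv_mem _ hu) n⁻¹).1 (inv_mem hn)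
    rwa [inv_inv] at this
  rw [← hk', ← zpow_mod_orderOf, hwo] at hdiff
  rw [← zpow_mod_orderOf, hwo] at hk'
  refine ⟨n⁻¹, inv_mem hn, ?_⟩
  rcases (show k % 3 = 0 ∨ k % 3 = 1 ∨ k % 3 = 2 by omega) with h | h | h <;>
    simp only [Nat.cast_ofNat, h] at hk' hdiff
  · rw [zpow_zero] at hk'
    exact absurd (conj_eq_one_iff.1 hk'.symm) hu1
  · rw [zpow_one] at hk'
    conv_lhs => rw [hk']
    group
  · exfalso
    refine hw1 (hone w ?_ hw3)
    have e : (w ^ (2 : ℤ))⁻¹ * w = w⁻¹ := by group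
    rwa [e, inv_mem_iff] at hdiff

variable {G : Type u} [Group G] [Finite G] {x z : G} {p : G → ↥Spor.M22} {y r g zy : G}
  {py : G → ↥Spor.M22} {Q : Subgroup G}

/-- Congruent elements of `C(x)` have the same image. -/
theorem Cover.map_eq_of_core (S : Cover x z p) (F : CoreFacts z Q) {a b : G} (ha : Commute a x)
    (hb : Commute b x) (h : a⁻¹ * b ∈ Q) : p a = p b := by
  have h1 : p (a⁻¹ * b) = 1 := by
    rcases S.fixed F h (ha.inv_left.mul_left hb) with e | e <;> rw [e]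
    exacts [S.map_one, S.map_z]
  rw [S.map_mul _ _ ha.inv_left hb, S.map_inv ha, inv_mul_eq_one] at h1
  exact h1

/-- `bar` induces a homomorphism of `C(z)` onto `Γ` with kernel `Q`. -/
structure Bar (z : G) (Q : Subgroup G) {Γ : Type u} [Group Γ] (bar : G → Γ) : Prop where
  surj : ∀ d, ∃ a, Commute a z ∧ bar a = d
  map_mul : ∀ a b, Commute a z → Commute b z → bar (a * b) = bar a * bar b
  eq_iff : ∀ a b, Commute a z → Commute b z → (bar a = bar b ↔ a⁻¹ * b ∈ Q)

theorem exists_bar (F : CoreFacts z Q) :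
    ∃ (Γ : Type u) (_ : Group Γ) (_ : Finite Γ) (bar : G → Γ), Bar z Q bar := by
  classical
  set H := centralizer ({z} : Set G) with hH
  have hHmem : ∀ {a : G}, a ∈ H ↔ Commute a z := fun {a} => mem_centralizer_singleton_iff
  haveI : (Q.subgroupOf H).Normal := ⟨fun a ha b => F.normal _ (hHmem.1 b.2) _ ha⟩
  let π : H →* ↥H ⧸ Q.subgroupOf H := QuotientGroup.mk' _
  let bar : G → ↥H ⧸ Q.subgroupOf H := fun a => if h : Commute a z then π ⟨a, hHmem.2 h⟩ else 1
  have hbar : ∀ {a : G} (h : Commute a z), bar a = π ⟨a, hHmem.2 h⟩ := fun {a} h => dif_pos h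
  refine ⟨↥H ⧸ Q.subgroupOf H, inferInstance, inferInstance, bar, ⟨fun d => ?_, fun a b ha hb => ?_,
    fun a b ha hb => ?_⟩⟩
  · obtain ⟨a, rfl⟩ := QuotientGroup.mk_surjective d
    exact ⟨a, hHmem.1 a.2, hbar (hHmem.1 a.2)⟩
  · rw [hbar ha, hbar hb, hbar (ha.mul_left hb), ← _root_.map_mul]
    rfl
  · rw [hbar ha, hbar hb]
    exact QuotientGroup.eq.trans Iff.rfl

namespace Bar

variable {Γ : Type u} [Group Γ] [Finite Γ] {bar : G → Γ} (B : Bar z Q bar)
include B

theorem map_one : bar 1 = 1 := by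
  have h := B.map_mul 1 1 (Commute.one_left z) (Commute.one_left z)
  rwa [mul_one, left_eq_mul] at h

theorem map_inv {a : G} (ha : Commute a z) : bar a⁻¹ = (bar a)⁻¹ :=
  eq_inv_of_mul_eq_one_left (by rw [← B.map_mul _ _ ha.inv_left ha, inv_mul_cancel, B.map_one])

theorem map_conj {a b : G} (ha : Commute a z) (hb : Commute b z) :
    bar (a * b * a⁻¹) = bar a * bar b * (bar a)⁻¹ := by
  rw [B.map_mul _ _ (ha.mul_left hb) ha.inv_left, B.map_mul _ _ ha hb, B.map_inv ha]

theorem map_pow {a : G} (ha : Commute a z) (n : ℕ) : bar (a ^ n) = bar a ^ n := by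
  induction n with
  | zero => rw [pow_zero, pow_zero, B.map_one]
  | succ n ih => rw [pow_succ, pow_succ, B.map_mul _ _ (ha.pow_left n) ha, ih]

theorem eq_one_iff {a : G} (ha : Commute a z) : bar a = 1 ↔ a ∈ Q := by
  rw [← B.map_one, eq_comm, B.eq_iff _ _ (Commute.one_left z) ha, inv_one, one_mul]

variable (D : QFacts x z p y r g zy py Q)
include D

theorem xz : Commute x z := D.conf.cover.comm.symm

theorem x_three : bar x ^ 3 = 1 := by rw [← B.map_pow (B.xz D), D.conf.cover.x3, B.map_one]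

theorem y_three : bar y ^ 3 = 1 := by rw [← B.map_pow D.yz, D.covy.x3, B.map_one]

theorem x_order : orderOf (bar x) = 3 := by
  haveI : Fact (Nat.Prime 3) := ⟨Nat.prime_three⟩
  refine orderOf_eq_prime (B.x_three D) fun h => ?_
  exact D.conf.cover.x_ne (D.core.eq_one_of_three ((B.eq_one_iff (B.xz D)).1 h) D.conf.cover.x3)

theorem x_ne : bar x ≠ 1 := fun h => by
  have := B.x_order D
  rw [h, orderOf_one] at this
  omega

theorem commute_x {c : G} (hc : Commute c x) : Commute (bar c) (bar x) := by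
  have hcz := D.conf.cover.central c hc
  rw [commute_iff_eq, ← B.map_mul _ _ hcz (B.xz D), ← B.map_mul _ _ (B.xz D) hcz, hc.eq]

theorem cases_zpowers {d : Γ} (hd : d ∈ zpowers (bar x)) : d = 1 ∨ d = bar x ∨ d = bar x ^ 2 := by
  rw [← mem_powers_iff_mem_zpowers, Submonoid.mem_powers_iff] at hd
  obtain ⟨k, rfl⟩ := hd
  rw [← pow_mod_orderOf, B.x_order D]
  rcases (show k % 3 = 0 ∨ k % 3 = 1 ∨ k % 3 = 2 by omega) with h | h | h <;> rw [h]
  · exact Or.inl (pow_zero _)
  · exact Or.inr (Or.inl (pow_one _))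
  · exact Or.inr (Or.inr rfl)

omit D in
theorem mem_normalizer_iff' {d : Γ} :
    d ∈ normalizer (zpowers (bar x) : Set Γ) ↔ d * bar x * d⁻¹ ∈ zpowers (bar x) := by
  refine ⟨fun h => (mem_normalizer_iff.1 h _).1 (mem_zpowers _), fun h => ?_⟩
  refine mem_normalizer_of_conj fun w hw => ?_
  obtain ⟨k, rfl⟩ := hw
  show d * bar x ^ k * d⁻¹ ∈ zpowers (bar x)
  rw [← conj_zpow]
  exact zpow_mem h k

theorem map_mem_zpowers {a : G} (h : a ∈ zpowers x) : bar a ∈ zpowers (bar x) := by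
  rw [← mem_powers_iff_mem_zpowers, Submonoid.mem_powers_iff] at h
  obtain ⟨k, rfl⟩ := h
  rw [B.map_pow (B.xz D)]
  exact pow_mem (mem_zpowers _) k

/-- Elements normalising the image of `⟨x⟩`. -/
theorem lift_normalizer {a : G} (ha : Commute a z) (h : bar a ∈ normalizer (zpowers (bar x) : Set Γ)) :
    ∃ q ∈ Q, q * a * x * (q * a)⁻¹ ∈ zpowers x := by
  have S := D.conf.cover
  have hxz := B.xz D
  have h' := B.mem_normalizer_iff'.1 h
  rw [← B.map_conj ha hxz] at h'
  have haxz : Commute (a * x * a⁻¹) z := (ha.mul_left hxz).mul_left ha.inv_left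
  have ha3 : (a * x * a⁻¹) ^ 3 = 1 := by rw [conj_pow, S.x3, mul_one, mul_inv_cancel]
  rcases B.cases_zpowers D h' with e | e | e
  · exact absurd (conj_eq_one_iff.1 (D.core.eq_one_of_three ((B.eq_one_iff haxz).1 e) ha3)) S.x_ne
  · obtain ⟨q, hq, hqe⟩ := D.core.conj_three hxz S.x3 ha3 S.x_ne ((B.eq_iff _ _ hxz haxz).1 e.symm)
    exact ⟨q, hq, by
      rw [show q * a * x * (q * a)⁻¹ = q * (a * x * a⁻¹) * q⁻¹ by group, hqe]; exact mem_zpowers x⟩
  · rw [← B.map_pow hxz] at e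
    obtain ⟨q, hq, hqe⟩ := D.core.conj_three (hxz.pow_left 2)
      (by rw [← pow_mul, mul_comm, pow_mul, S.x3, one_pow]) ha3 (fun h2 => S.x_ne (by
        calc x = x ^ 3 * (x ^ 2)⁻¹ := by group
          _ = 1 := by rw [S.x3, h2, inv_one, mul_one]))
      ((B.eq_iff _ _ (hxz.pow_left 2) haxz).1 e.symm)
    exact ⟨q, hq, by
      rw [show q * a * x * (q * a)⁻¹ = q * (a * x * a⁻¹) * q⁻¹ by group, hqe]
      exact pow_mem (mem_zpowers x) 2⟩

/-- The centraliser of the image of `x`. -/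
theorem exists_lift {d : Γ} (hd : Commute d (bar x)) : ∃ c, Commute c x ∧ bar c = d := by
  have S := D.conf.cover
  have hxz := B.xz D
  obtain ⟨a, ha, rfl⟩ := B.surj d
  have haxz : Commute (a * x * a⁻¹) z := (ha.mul_left hxz).mul_left ha.inv_left
  have e : bar x = bar (a * x * a⁻¹) := by rw [B.map_conj ha hxz, hd.eq, mul_inv_cancel_right]
  obtain ⟨q, hq, hqe⟩ := D.core.conj_three hxz S.x3 (by rw [conj_pow, S.x3, mul_one, mul_inv_cancel])
    S.x_ne ((B.eq_iff _ _ hxz haxz).1 e)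
  have hc : q * a * x * (q * a)⁻¹ = x := by
    rw [show q * a * x * (q * a)⁻¹ = q * (a * x * a⁻¹) * q⁻¹ by group, hqe]
  exact ⟨q * a, mul_inv_eq_iff_eq_mul.1 hc, by
    rw [B.map_mul _ _ (D.core.comm q hq) ha, (B.eq_one_iff (D.core.comm q hq)).2 hq, one_mul]⟩

/-- Lifts of order 3. -/
theorem exists_lift_three {v : Γ} (hv : Commute v (bar x)) (hv3 : v ^ 3 = 1) :
    ∃ c, Commute c x ∧ c ^ 3 = 1 ∧ bar c = v := by
  have S := D.conf.cover
  obtain ⟨c, hc, rfl⟩ := B.exists_lift D hv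
  have hcz := S.central c hc
  have hQ : c ^ 3 ∈ Q := (B.eq_one_iff (hcz.pow_left 3)).1 ((B.map_pow hcz 3).trans hv3)
  refine ⟨c ^ 4, hc.pow_left 4, ?_, by rw [B.map_pow hcz, pow_succ, hv3, one_mul]⟩
  have h12 : (c ^ 4) ^ 3 = (c ^ 3) ^ 4 := by rw [← pow_mul, ← pow_mul]
  rcases S.fixed D.core hQ (hc.pow_left 3) with e | e <;> rw [h12, e]
  · exact one_pow 4
  · rw [show 4 = 2 * 2 from rfl, pow_mul, pow_two z, S.z2, one_pow]

theorem mem_of_centralizing {d : Γ} (hd : Commute d (bar x)) : d ∈ normalizer (zpowers (bar x) : Set Γ) :=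
  B.mem_normalizer_iff'.2 (by rw [hd.eq, mul_inv_cancel_right]; exact mem_zpowers _)

/-- Centralisers of the other lines normalise. -/
theorem mem_of_commute (k : ℕ) {d : Γ} (hd : Commute d (bar y * bar x ^ k)) :
    d ∈ normalizer (zpowers (bar x) : Set Γ) := by
  have S := D.conf.cover
  have hxz := B.xz D
  have hyx := D.conf.yx
  have hyz := D.yz
  obtain ⟨a, ha, rfl⟩ := B.surj d
  set u := y * x ^ k with hu
  have huz : Commute u z := hyz.mul_left (hxz.pow_left k)
  have hu3 : u ^ 3 = 1 := by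
    rw [(hyx.pow_right k).mul_pow, D.covy.x3, one_mul, ← pow_mul, mul_comm, pow_mul, S.x3, one_pow]
  have hu1 : u ≠ 1 := fun h1 => D.conf.y_not (by
    rw [eq_inv_of_mul_eq_one_left h1]; exact inv_mem (pow_mem (mem_zpowers x) k))
  have hbu : bar u = bar y * bar x ^ k := by rw [hu, B.map_mul _ _ hyz (hxz.pow_left k), B.map_pow hxz]
  have hauz : Commute (a * u * a⁻¹) z := (ha.mul_left huz).mul_left ha.inv_left
  have e : bar u = bar (a * u * a⁻¹) := by rw [B.map_conj ha huz, hbu, hd.eq, mul_inv_cancel_right]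
  obtain ⟨q, hq, hqe⟩ := D.core.conj_three huz hu3 (by rw [conj_pow, hu3, mul_one, mul_inv_cancel]) hu1
    ((B.eq_iff _ _ huz hauz).1 e)
  have hqa : Commute (q * a) u := mul_inv_eq_iff_eq_mul.1 (by
    rw [show q * a * u * (q * a)⁻¹ = q * (a * u * a⁻¹) * q⁻¹ by group, hqe])
  have hrz : Commute (r ^ k) z := D.rz.pow_left k
  have hqz := D.core.comm q hq
  have hqaz : Commute (q * a) z := hqz.mul_left ha
  have hwy : Commute ((r ^ k)⁻¹ * (q * a) * r ^ k) y := by
    have h1 := hqa.map (MulAut.conj (r ^ k)⁻¹).toMonoidHom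
    simp only [MulEquiv.coe_toMonoidHom, MulAut.conj_apply, inv_inv] at h1
    rwa [show (r ^ k)⁻¹ * u * r ^ k = y by rw [hu, ← D.pow_shift k]; group] at h1
  have hwz : Commute ((r ^ k)⁻¹ * (q * a) * r ^ k) z := (hrz.inv_left.mul_left hqaz).mul_left hrz
  obtain ⟨q', hq', hmem⟩ := D.fixed_y hwz hwy
  have hq'z := D.core.comm q' hq'
  have hm : bar ((r ^ k)⁻¹ * (q * a) * r ^ k) ∈ normalizer (zpowers (bar x) : Set Γ) := by
    refine B.mem_normalizer_iff'.2 ?_
    have e2 := B.map_mem_zpowers D hmem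
    rwa [B.map_conj (hq'z.mul_left hwz) hxz, B.map_mul _ _ hq'z hwz, (B.eq_one_iff hq'z).2 hq', one_mul] at e2
  have hrM : bar (r ^ k) ∈ normalizer (zpowers (bar x) : Set Γ) :=
    B.mem_of_centralizing D (B.commute_x D (D.conf.rx.pow_left k))
  rw [B.map_mul _ _ (hrz.inv_left.mul_left hqaz) hrz, B.map_mul _ _ hrz.inv_left hqaz, B.map_inv hrz,
    B.map_mul _ _ hqz ha, (B.eq_one_iff hqz).2 hq, one_mul] at hm
  have := mul_mem (mul_mem hrM hm) (inv_mem hrM)
  rwa [show bar (r ^ k) * ((bar (r ^ k))⁻¹ * bar a * bar (r ^ k)) * (bar (r ^ k))⁻¹ = bar a by group] at this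

theorem commute_xy : Commute (bar x) (bar y) := (B.commute_x D D.conf.yx).symm

/-- Invariant 3'-subgroups are centralised by `x`. -/
theorem commute_of_invariant {U : Subgroup Γ} (hU : ¬ 3 ∣ Nat.card U) (hxU : bar x ∈ normalizer (U : Set Γ))
    (hyU : bar y ∈ normalizer (U : Set Γ)) {d : Γ} (hd : d ∈ U) : Commute d (bar x) := by
  haveI : Fact (Nat.Prime 3) := ⟨Nat.prime_three⟩
  set xb := bar x with hxb
  set yb := bar y
  have hxb3 := B.x_three D
  have hyb3 := B.y_three D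
  have hxbo := B.x_order D
  have hxyb := B.commute_xy D
  set Ab := closure ({xb, yb} : Set Γ) with hA
  have hxA : xb ∈ Ab := subset_closure (Or.inl rfl)
  have hyA : yb ∈ Ab := subset_closure (Or.inr rfl)
  haveI : IsMulCommutative Ab := isMulCommutative_closure (by
    rintro a (rfl | rfl) b (rfl | rfl)
    exacts [rfl, hxyb.eq, hxyb.symm.eq, rfl])
  have hA3 : ∀ a ∈ Ab, a ^ 3 = 1 := by
    intro a ha
    induction ha using closure_induction with
    | mem a ha => rcases ha with rfl | rfl; exacts [hxb3, hyb3]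
    | one => exact one_pow 3
    | mul a b ha hb iha ihb => rw [(show Commute a b from setLike_mul_comm ha hb).mul_pow, iha, ihb, one_mul]
    | inv a ha iha => rw [inv_pow, iha, inv_one]
  have hAp : IsPGroup 3 Ab := fun a => ⟨1, Subtype.ext (by
    rw [pow_one, SubmonoidClass.coe_pow]; exact hA3 a a.2)⟩
  have hcop : (Nat.card Ab).Coprime (Nat.card U) := by
    obtain ⟨n, hn⟩ := IsPGroup.iff_card.1 hAp
    rw [hn]
    exact ((Nat.prime_three).coprime_iff_not_dvd.2 hU).pow_left n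
  have hle : U ≤ normalizer (zpowers xb : Set Γ) := by
    refine Coprime.le_of_pair (A := Ab) (p := 3) ((closure_le _).2 ?_) hcop Nat.prime_three hxA hyA
      (by rw [hxb3]; exact one_mem _) (by rw [hyb3]; exact one_mem _) fun i j hij => ?_
    · rintro a (rfl | rfl)
      exacts [hxU, hyU]
    rintro e ⟨-, he⟩
    have he' : Commute e (xb ^ i * yb ^ j) := mem_centralizer_singleton_iff.1 he
    by_cases hj : 3 ∣ j
    · obtain ⟨j, rfl⟩ := hj
      rw [pow_mul, hyb3, one_pow, mul_one] at he'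
      have hi : ¬ 3 ∣ i := fun hi => hij ⟨hi, dvd_mul_right 3 j⟩
      obtain ⟨m, hm⟩ := exists_pow_eq_self_of_coprime (x := xb) (n := i)
        (by rw [hxbo]; exact ((Nat.prime_three).coprime_iff_not_dvd.2 hi).symm)
      exact B.mem_of_centralizing D (show Commute e xb from hm ▸ he'.pow_right m)
    · have hxi : xb ^ i = xb ^ (i % 3) := by rw [← pow_mod_orderOf, hxbo]
      have hyj : yb ^ j = yb ^ (j % 3) := by
        conv_lhs => rw [← Nat.div_add_mod j 3, pow_add, pow_mul, hyb3, one_pow, one_mul]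
      rw [hxi, hyj] at he'
      rcases (show j % 3 = 1 ∨ j % 3 = 2 by omega) with h0 | h0 <;> rw [h0] at he'
      · exact B.mem_of_commute D (i % 3) (by rw [pow_one] at he'; rwa [(hxyb.pow_left _).eq] at he')
      · refine B.mem_of_commute D (2 * (i % 3)) ?_
        have := he'.pow_right 2
        rwa [((hxyb.pow_left (i % 3)).pow_right 2).mul_pow, ← pow_mul, ← pow_mul, mul_comm (i % 3) 2,
          show yb ^ (2 * 2) = yb by rw [pow_succ, hyb3, one_mul], (hxyb.pow_left (2 * (i % 3))).eq] at this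
  have h1 := B.mem_normalizer_iff'.1 (hle hd)
  rw [← hxb] at h1
  have h2 : d * xb * d⁻¹ * xb⁻¹ ∈ U := by
    rw [show d * xb * d⁻¹ * xb⁻¹ = d * (xb * d⁻¹ * xb⁻¹) by group]
    exact mul_mem hd ((mem_normalizer_iff.1 hxU _).1 (inv_mem hd))
  have h3 : d * xb * d⁻¹ * xb⁻¹ ∈ zpowers xb := mul_mem h1 (inv_mem (mem_zpowers xb))
  have h3' := Subgroup.orderOf_dvd_natCard _ h3
  rw [Nat.card_zpowers, hxbo] at h3'
  have h4 : d * xb * d⁻¹ * xb⁻¹ = 1 := orderOf_eq_one_iff.1 (Nat.eq_one_of_dvd_coprimes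
    ((Nat.prime_three).coprime_iff_not_dvd.2 hU) h3' (Subgroup.orderOf_dvd_natCard _ h2))
  exact mul_inv_eq_iff_eq_mul.1 (mul_inv_eq_one.1 h4)

end Bar

end Cfsg.Agent.J4Type
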