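/-
A group acting on an elementary abelian group of order 16 in which a fixed point free element of
order 3 is weakly closed and the centraliser of a second one normalises it (owner: helper40).

Main result (namespace `Cfsg.Agent.J4Type`):
* `linear_normalizes` : then the fixed point free element generates a normal subgroup of the image
-/
import Cfsg.Agent.EqLemmas

set_option autoImplicit false

namespace Cfsg.Agent.J4Type.SixLinear

/-- Coordinates. -/
abbrev V4 := Bool × Bool × Bool × Bool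

/-- Linear maps, given by the images of the basis. -/
abbrev M4 := V4 × V4 × V4 × V4

def vadd (a b : V4) : V4 :=
  (xor a.1 b.1, xor a.2.1 b.2.1, xor a.2.2.1 b.2.2.1, xor a.2.2.2 b.2.2.2)

def veq (a b : V4) : Bool :=
  (a.1 == b.1) && (a.2.1 == b.2.1) && (a.2.2.1 == b.2.2.1) && (a.2.2.2 == b.2.2.2)

def meq (a b : M4) : Bool :=
  veq a.1 b.1 && veq a.2.1 b.2.1 && veq a.2.2.1 b.2.2.1 && veq a.2.2.2 b.2.2.2

def v0 : V4 := (false, false, false, false)
def e1 : V4 := (true, false, false, false)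
def e2 : V4 := (false, true, false, false)
def e3 : V4 := (false, false, true, false)
def e4 : V4 := (false, false, false, true)

def sel (b : Bool) (v : V4) : V4 := if b then v else v0

def app (m : M4) (v : V4) : V4 :=
  vadd (vadd (sel v.1 m.1) (sel v.2.1 m.2.1)) (vadd (sel v.2.2.1 m.2.2.1) (sel v.2.2.2 m.2.2.2))

def mmul (a b : M4) : M4 := (app a b.1, app a b.2.1, app a b.2.2.1, app a b.2.2.2)

def mX : M4 := (e2, vadd e1 e2, e4, vadd e3 e4)
def mX2 : M4 := mmul mX mX
def mY : M4 := (mX2.1, mX2.2.1, mX.2.2.1, mX.2.2.2)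
def mY2 : M4 := mmul mY mY

def allV : List V4 :=
  [false, true].flatMap fun a => [false, true].flatMap fun b => [false, true].flatMap fun c =>
    [false, true].map fun d => (a, b, c, d)

/-- The words used, with their inverses. -/
def wordsOf {M : Type*} (mul : M → M → M) (x x2 y y2 p p2 : M) : List (M × M) :=
  [(p, p2), (mul (mul p2 x) p, mul (mul p2 x2) p), (mul (mul p x) p2, mul (mul p x2) p2),
   (mul (mul (mul (mul (mul p x) y2) p) x) p, mul (mul (mul (mul (mul p2 x2) p2) y) x2) p2),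
   (mul (mul (mul (mul (mul p x) y) p) x) p, mul (mul (mul (mul (mul p2 x2) p2) y2) x2) p2),
   (mul (mul (mul (mul (mul p x) y) p) y) p, mul (mul (mul (mul (mul p2 y2) p2) y2) x2) p2),
   (mul (mul (mul (mul (mul p x2) y) p) y) p, mul (mul (mul (mul (mul p2 y2) p2) y2) x) p2)]

theorem wordsOf_map {M N : Type*} (mul : M → M → M) (mul' : N → N → N) (f : M → N)
    (hf : ∀ a b, f (mul a b) = mul' (f a) (f b)) (x x2 y y2 p p2 : M) :
    wordsOf mul' (f x) (f x2) (f y) (f y2) (f p) (f p2) =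
      (wordsOf mul x x2 y y2 p p2).map (Prod.map f f) := by
  simp [wordsOf, hf]

def isCube (p : M4) : Bool :=
  veq (vadd (vadd (app p p.1) p.1) e1) v0 && veq (vadd (vadd (app p p.2.1) p.2.1) e2) v0 &&
    veq (vadd (vadd (app p p.2.2.1) p.2.2.1) e3) v0 && veq (vadd (vadd (app p p.2.2.2) p.2.2.2) e4) v0

def good (w : M4 × M4) : Bool :=
  let c := mmul (mmul w.1 mX) w.2
  !(meq c mX || meq c mX2) && (meq (mmul c mX) (mmul mX c) || meq (mmul w.1 mY) (mmul mY w.1))

def okMap (p : M4) : Bool :=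
  meq p mX || meq p mX2 || meq (mmul p mX) (mmul mX p) ||
    (wordsOf mmul mX mX2 mY mY2 p (mmul p p)).any good

def check : Bool :=
  allV.all fun a => allV.all fun b => allV.all fun c => allV.all fun d =>
    !isCube (a, b, c, d) || okMap (a, b, c, d)

theorem check_true : check = true := by decide +kernel

theorem mem_allV : ∀ v : V4, v ∈ allV := by decide

theorem veq_iff : ∀ a b : V4, veq a b = true ↔ a = b := by decide +kernel

theorem meq_iff (a b : M4) : meq a b = true ↔ a = b := by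
  obtain ⟨a1, a2, a3, a4⟩ := a
  obtain ⟨b1, b2, b3, b4⟩ := b
  simp [meq, veq_iff, Prod.ext_iff, and_assoc]

section Coord

variable {U : Type*} [CommGroup U] (hexp : ∀ u : U, u * u = 1) (b : Fin 4 → U)

def pick (c : Bool) (u : U) : U := if c then u else 1

def toU (v : V4) : U := pick v.1 (b 0) * pick v.2.1 (b 1) * (pick v.2.2.1 (b 2) * pick v.2.2.2 (b 3))

include hexp in
theorem toU_vadd (v w : V4) : toU b (vadd v w) = toU b v * toU b w := by
  have key : ∀ (c d : Bool) (u : U), pick (xor c d) u = pick c u * pick d u := by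
    intro c d u
    cases c <;> cases d <;> simp [pick, hexp]
  simp only [toU, vadd, key]
  rw [mul_mul_mul_comm (pick v.1 (b 0)), mul_mul_mul_comm (pick v.2.2.1 (b 2)),
    mul_mul_mul_comm (pick v.1 (b 0) * pick v.2.1 (b 1))]

include hexp in
theorem toU_app (f : U →* U) {m : M4} (h0 : toU b m.1 = f (b 0)) (h1 : toU b m.2.1 = f (b 1))
    (h2 : toU b m.2.2.1 = f (b 2)) (h3 : toU b m.2.2.2 = f (b 3)) (v : V4) :
    toU b (app m v) = f (toU b v) := by
  have key : ∀ (c : Bool) (w : V4), toU b (sel c w) = pick c (toU b w) := by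
    intro c w
    cases c <;> simp [sel, toU, v0, pick]
  have keyf : ∀ (c : Bool) (u : U), pick c (f u) = f (pick c u) := by
    intro c u
    cases c <;> simp [pick]
  simp only [app, toU_vadd hexp b, key, h0, h1, h2, h3, keyf]
  simp only [toU, map_mul]

end Coord

end Cfsg.Agent.J4Type.SixLinear

namespace Cfsg.Agent.J4Type

open SixLinear

/-- The fixed point free element generates a normal subgroup of the image. -/
theorem linear_normalizes {H U : Type*} [Group H] [CommGroup U] [Finite U] (hU : Nat.card U = 16)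
    (hexp : ∀ u : U, u * u = 1) (ψ : H →* MulAut U) (x y : H)
    (hxU : ∀ u, ψ x (ψ x u) * ψ x u * u = 1) (hxy : ∀ u, ψ y (ψ x u) = ψ x (ψ y u))
    {p1 p2 : U} (hp1 : p1 ≠ 1) (hp2 : p2 ≠ 1) (hy1 : ψ y p1 = ψ x (ψ x p1)) (hy2 : ψ y p2 = ψ x p2)
    (hα : ∀ g, Commute (ψ g) (ψ y) → ψ (g * x * g⁻¹) = ψ x ∨ ψ (g * x * g⁻¹) = ψ x * ψ x)
    (hβ : ∀ g, Commute (ψ (g * x * g⁻¹)) (ψ x) → ψ (g * x * g⁻¹) = ψ x ∨ ψ (g * x * g⁻¹) = ψ x * ψ x)
    (g : H) : ψ (g * x * g⁻¹) = ψ x ∨ ψ (g * x * g⁻¹) = ψ x * ψ x := by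
  classical
  -- consequences of fixed point freeness
  have hfpf : ∀ u, ψ x u = u → u = 1 := fun u hu => by
    have h := hxU u
    rwa [hu, hu, hexp, one_mul] at h
  have hxx : ∀ u, ψ x (ψ x u) = ψ x u * u := fun u => by
    have h := hxU u
    rw [mul_assoc] at h
    calc ψ x (ψ x u) = ψ x (ψ x u) * ((ψ x u * u) * (ψ x u * u)) := by rw [hexp, mul_one]
      _ = (ψ x (ψ x u) * (ψ x u * u)) * (ψ x u * u) := (mul_assoc _ _ _).symm
      _ = ψ x u * u := by rw [h, one_mul]
  let b : Fin 4 → U := ![p1, ψ x p1, p2, ψ x p2]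
  have hb0 : b 0 = p1 := rfl
  have hb1 : b 1 = ψ x p1 := rfl
  have hb2 : b 2 = p2 := rfl
  have hb3 : b 3 = ψ x p2 := rfl
  -- the coordinates
  have hline : ∀ (p : U), p ≠ 1 → ∀ c d : Bool, pick c p * pick d (ψ x p) = 1 → c = false ∧ d = false := by
    intro p hp c d h
    cases c <;> cases d <;> simp [pick] at h ⊢
    · exact hp h
    · exact hp h
    · exact hp (hfpf p (by rw [← mul_one (ψ x p), ← h, mul_comm p, ← mul_assoc, hexp, one_mul]))
  have hinj : Function.Injective (toU b) := by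
    suffices hker : ∀ v, toU b v = 1 → v = v0 by
      intro v w h
      have h1 := hker (vadd v w) (by rw [toU_vadd hexp, h, hexp])
      have : ∀ v w : V4, vadd v w = v0 → v = w := by decide +kernel
      exact this v w h1
    rintro ⟨a1, a2, a3, a4⟩ h
    simp only [toU, hb0, hb1, hb2, hb3] at h
    set u := pick a1 p1 * pick a2 (ψ x p1) with hu
    have hu' : pick a3 p2 * pick a4 (ψ x p2) = u := by
      calc _ = (u * u) * (pick a3 p2 * pick a4 (ψ x p2)) := by rw [hexp, one_mul]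
        _ = u := by rw [mul_assoc, h, mul_one]
    have hy1' : ψ y (ψ x p1) = ψ x (ψ x (ψ x p1)) := by rw [hxy, hy1]
    have hy2' : ψ y (ψ x p2) = ψ x (ψ x p2) := by rw [hxy, hy2]
    have e1 : ψ y u = ψ x (ψ x u) := by
      rw [hu]; cases a1 <;> cases a2 <;> simp [pick, hy1, hy1']
    have e2 : ψ y u = ψ x u := by
      rw [← hu']; cases a3 <;> cases a4 <;> simp [pick, hy2, hy2']
    have hu1 : u = 1 := hfpf u ((ψ x).injective (e1.symm.trans e2))
    obtain ⟨rfl, rfl⟩ := hline p1 hp1 a1 a2 (hu ▸ hu1)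
    obtain ⟨rfl, rfl⟩ := hline p2 hp2 a3 a4 (hu'.trans hu1)
    rfl
  have hsurj : Function.Surjective (toU b) :=
    ((Nat.bijective_iff_injective_and_card (toU b)).2 ⟨hinj, by rw [hU]; simp [Nat.card_eq_fintype_card]⟩).2
  choose crd hcrd using hsurj
  -- the matrix of an automorphism
  let M : MulAut U → M4 := fun α => (crd (α (b 0)), crd (α (b 1)), crd (α (b 2)), crd (α (b 3)))
  have happ : ∀ α v, toU b (app (M α) v) = α (toU b v) := fun α v =>
    toU_app hexp b α.toMonoidHom (hcrd _) (hcrd _) (hcrd _) (hcrd _) v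
  have hM : ∀ α β, M (α * β) = mmul (M α) (M β) := by
    intro α β
    simp only [M, mmul, Prod.mk.injEq]
    refine ⟨?_, ?_, ?_, ?_⟩ <;> refine hinj ?_ <;>
      · show toU b _ = toU b (app (M α) _)
        rw [happ, hcrd, hcrd]
        rfl
  have hMinj : Function.Injective M := by
    intro α β h
    refine MulEquiv.ext fun u => ?_
    rw [← hcrd u, ← happ, ← happ, h]
  have hcol : ∀ {α : MulAut U} {v1 v2 v3 v4 : V4}, α (b 0) = toU b v1 → α (b 1) = toU b v2 →
      α (b 2) = toU b v3 → α (b 3) = toU b v4 → M α = (v1, v2, v3, v4) := by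
    intro α v1 v2 v3 v4 h1 h2 h3 h4
    simp only [M, Prod.mk.injEq]
    exact ⟨hinj ((hcrd _).trans h1), hinj ((hcrd _).trans h2), hinj ((hcrd _).trans h3),
      hinj ((hcrd _).trans h4)⟩
  have hMX : M (ψ x) = mX := by
    refine hcol ?_ ?_ ?_ ?_ <;> simp [toU, pick, e1, e2, e3, e4, vadd, hb0, hb1, hb2, hb3, hxx] <;>
      exact mul_comm _ _
  have hMX2 : M (ψ x * ψ x) = mX2 := by rw [hM, hMX]; rfl
  have hMY : M (ψ y) = mY := by
    have h2 : ∀ v, toU b (app mX2 v) = ψ x (ψ x (toU b v)) := fun v => by rw [← hMX2, happ]; rfl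
    have h1 : ∀ v, toU b (app mX v) = ψ x (toU b v) := fun v => by rw [← hMX, happ]
    refine hcol ?_ ?_ ?_ ?_
    · rw [hb0, hy1, show mX2.1 = app mX2 e1 by decide, h2]; simp [toU, pick, e1, hb0]
    · rw [hb1, hxy, hy1, show mX2.2.1 = app mX2 e2 by decide, h2]; simp [toU, pick, e2, hb1]
    · rw [hb2, hy2, show mX.2.2.1 = app mX e3 by decide, h1]; simp [toU, pick, e3, hb2]
    · rw [hb3, hxy, hy2, show mX.2.2.2 = app mX e4 by decide, h1]; simp [toU, pick, e4, hb3]
  -- cubes
  have hx3 : ψ x * ψ x * ψ x = 1 := by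
    refine MulEquiv.ext fun u => ?_
    show ψ x (ψ x (ψ x u)) = u
    rw [hxx (ψ x u), hxx u, mul_right_comm, hexp, one_mul]
  have hy3 : ψ y * ψ y * ψ y = 1 := by
    have hM1 : M 1 = (e1, e2, e3, e4) := by
      refine hcol ?_ ?_ ?_ ?_ <;> simp [toU, pick, e1, e2, e3, e4]
    exact hMinj (by rw [hM, hM, hMY, hM1]; decide)
  -- the conjugate
  set c := g * x * g⁻¹ with hc
  set p := M (ψ c) with hp
  have hc3 : ψ c * ψ c * ψ c = 1 := by
    rw [hc, map_mul, map_mul, map_inv]
    calc _ = ψ g * (ψ x * ψ x * ψ x) * (ψ g)⁻¹ := by group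
      _ = 1 := by rw [hx3, mul_one, mul_inv_cancel]
  have hcU : ∀ u, ψ c (ψ c u) * ψ c u * u = 1 := by
    intro u
    have hgu : ψ g ((ψ g)⁻¹ u) = u := MulAut.apply_inv_self _ _ _
    have hc1 : ∀ w, ψ c (ψ g w) = ψ g (ψ x w) := fun w => by
      rw [hc, map_mul, map_mul, map_inv]
      show ψ g (ψ x ((ψ g)⁻¹ (ψ g w))) = _
      rw [MulAut.inv_apply_self]
    rw [← hgu, hc1, hc1, ← map_mul, ← map_mul, hxU, map_one]
  have hcube : isCube p = true := by
    have key : ∀ v, veq (vadd (vadd (app p (app p v)) (app p v)) v) v0 = true := fun v => by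
      rw [veq_iff]
      refine hinj ?_
      rw [toU_vadd hexp, toU_vadd hexp, happ, happ]
      exact (hcU _).trans (by simp [toU, pick, v0])
    have a1 : app p e1 = p.1 := by simp [app, sel, e1, vadd, v0]
    have a2 : app p e2 = p.2.1 := by simp [app, sel, e2, vadd, v0]
    have a3 : app p e3 = p.2.2.1 := by simp [app, sel, e3, vadd, v0]
    have a4 : app p e4 = p.2.2.2 := by simp [app, sel, e4, vadd, v0]
    simp only [isCube, Bool.and_eq_true]
    exact ⟨⟨⟨a1 ▸ key e1, a2 ▸ key e2⟩, a3 ▸ key e3⟩, a4 ▸ key e4⟩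
  have hok : okMap p = true := by
    have h := check_true
    simp only [check, List.all_eq_true] at h
    have := h p.1 (mem_allV _) p.2.1 (mem_allV _) p.2.2.1 (mem_allV _) p.2.2.2 (mem_allV _)
    simpa [hcube] using this
  simp only [okMap, Bool.or_eq_true, meq_iff] at hok
  rcases hok with ((hok | hok) | hok) | hok
  · exact Or.inl (hMinj (hok.trans hMX.symm))
  · exact Or.inr (hMinj (hok.trans hMX2.symm))
  · exact hβ g (hMinj (by rw [hM, hM, hMX]; exact hok))
  exfalso
  rw [List.any_eq_true] at hok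
  obtain ⟨w, hw, hgood⟩ := hok
  have hpp : mmul p p = M (ψ (c * c)) := by rw [map_mul, hM]
  have hxm : M (ψ (x * x)) = mX2 := by rw [map_mul, hMX2]
  have hym : M (ψ (y * y)) = mY2 := by rw [map_mul, hM, hMY]; rfl
  rw [hpp, hp, ← hMX, ← hMY, ← hxm, ← hym,
    wordsOf_map (· * ·) mmul (fun h : H => M (ψ h)) (fun a b => by rw [map_mul, hM]), List.mem_map] at hw
  obtain ⟨⟨u, u'⟩, huw, rfl⟩ := hw
  have huu : ψ u' = (ψ u)⁻¹ := by
    have hX : ∀ a, ψ x * (ψ x * (ψ x * a)) = a := fun a => by simp only [← mul_assoc, hx3, one_mul]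
    have hY : ∀ a, ψ y * (ψ y * (ψ y * a)) = a := fun a => by simp only [← mul_assoc, hy3, one_mul]
    have hC : ∀ a, ψ c * (ψ c * (ψ c * a)) = a := fun a => by simp only [← mul_assoc, hc3, one_mul]
    have hX' : ψ x * (ψ x * ψ x) = 1 := by rw [← mul_assoc, hx3]
    have hY' : ψ y * (ψ y * ψ y) = 1 := by rw [← mul_assoc, hy3]
    have hC' : ψ c * (ψ c * ψ c) = 1 := by rw [← mul_assoc, hc3]
    refine (inv_eq_of_mul_eq_one_right ?_).symm
    simp only [wordsOf, List.mem_cons, Prod.mk.injEq, List.not_mem_nil, or_false] at huw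
    rcases huw with ⟨rfl, rfl⟩ | ⟨rfl, rfl⟩ | ⟨rfl, rfl⟩ | ⟨rfl, rfl⟩ | ⟨rfl, rfl⟩ | ⟨rfl, rfl⟩ | ⟨rfl, rfl⟩ <;>
      simp only [map_mul, mul_assoc, hX, hY, hC, hX', hY', hC', mul_one]
  simp only [good, Prod.map, Bool.and_eq_true, Bool.not_eq_true', Bool.or_eq_true,
    ← Bool.not_eq_true, meq_iff] at hgood
  obtain ⟨hne, hcase⟩ := hgood
  have hconj : mmul (mmul (M (ψ u)) mX) (M (ψ u')) = M (ψ (u * x * u⁻¹)) := by
    rw [← hMX, ← hM, ← hM, huu, map_mul, map_mul, map_inv]
  rw [hconj] at hne hcase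
  have key : ψ (u * x * u⁻¹) = ψ x ∨ ψ (u * x * u⁻¹) = ψ x * ψ x := by
    rcases hcase with h | h
    · exact hβ u (hMinj (by rw [hM, hM, hMX]; exact h))
    · exact hα u (hMinj (by rw [hM, hM, hMY]; exact h))
  rcases key with k | k
  · exact hne (Or.inl (by rw [k, hMX]))
  · exact hne (Or.inr (by rw [k, hMX2]))

end Cfsg.Agent.J4Type
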