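/-
The centraliser of the image of `zy` normalises the image of `⟨x⟩` (owner: helper40).

Main result (namespace `Cfsg.Agent.J4Type`):
* `Bar.centralizer_le` : so it does; by the linear lemma on the 2^4 part displaced by `zy`
-/
import Cfsg.Agent.Lib.J4Type.SixCoverAction
import Cfsg.Agent.Lib.J4Type.SixCoverBar
import Cfsg.Agent.Lib.J4Type.SixCoverLinear
import Cfsg.Agent.Lib.Cores.Fitting

set_option autoImplicit false
set_option linter.style.haveILetI false
set_option linter.unusedSectionVars false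

namespace Cfsg.Agent.J4Type

open Cfsg Subgroup Cfsg.Agent.OrderM22
open scoped Pointwise

universe u

variable {G : Type u} [Group G] [Finite G] {x z : G} {p : G → ↥Spor.M22} {y r g zy : G}
  {py : G → ↥Spor.M22} {Q : Subgroup G}

/-- The order of the sixfold cover. -/
theorem Cover.card_centralizer (S : Cover x z p) :
    Nat.card ↥(centralizer ({x} : Set G)) = 2661120 := by
  classical
  set C := centralizer ({x} : Set G) with hC
  have hxz : Commute x z := S.comm.symm
  let π' : C →* ↥Spor.M22 := MonoidHom.mk' (fun a => p a)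
    fun a b => S.map_mul a b (mem_centralizer_singleton_iff.1 a.2) (mem_centralizer_singleton_iff.1 b.2)
  have hsurj : Function.Surjective π' := fun m => by
    obtain ⟨a, ha, hm⟩ := S.surj m
    exact ⟨⟨a, mem_centralizer_singleton_iff.2 ha.eq⟩, hm⟩
  have hker : π'.ker.map C.subtype = zpowers (x * z) := by
    have hxz6 : orderOf (x * z) = 6 := by
      rw [hxz.orderOf_mul_eq_mul_orderOf_of_coprime (by rw [S.ordx, S.ordz]; norm_num), S.ordx, S.ordz]
    refine le_antisymm ?_ (zpowers_le.2 ?_)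
    · rintro _ ⟨a, ha, rfl⟩
      obtain ⟨i, j, hij⟩ := S.ker _ (mem_centralizer_singleton_iff.1 a.2) ha
      show (a : G) ∈ _
      rw [hij]
      have hpow : ∀ k : ℕ, (x * z) ^ k ∈ zpowers (x * z) := fun k => pow_mem (mem_zpowers _) k
      refine mul_mem (pow_mem ?_ i) (pow_mem ?_ j)
      · have := hpow 4
        rwa [hxz.mul_pow, show x ^ 4 = x by rw [pow_succ, S.x3, one_mul],
          show z ^ 4 = 1 by rw [show 4 = 2 * 2 from rfl, pow_mul, pow_two z, S.z2, one_pow], mul_one] at this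
      · have := hpow 3
        rwa [hxz.mul_pow, S.x3, one_mul, pow_succ, pow_two, S.z2, one_mul] at this
    · exact ⟨⟨x * z, mem_centralizer_singleton_iff.2 ((Commute.refl x).mul_left S.comm).eq⟩,
        (S.map_mul x z (Commute.refl x) S.comm).trans (by rw [S.map_x, S.map_z, one_mul]), rfl⟩
  have hxz6 : orderOf (x * z) = 6 := by
    rw [hxz.orderOf_mul_eq_mul_orderOf_of_coprime (by rw [S.ordx, S.ordz]; norm_num), S.ordx, S.ordz]
  rw [← π'.ker.card_mul_index, index_ker, MonoidHom.range_eq_top.2 hsurj, card_top, hyp_m22.card,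
    ← Subgroup.card_map_of_injective C.subtype_injective, hker, Nat.card_zpowers, hxz6]

/-- `⟨x, y⟩` contains the elements of order 3 centralising it in `C(x)`. -/
theorem QFacts.mem_sup_of_commute (D : QFacts x z p y r g zy py Q) {c : G} (hc : Commute c x)
    (hcy : Commute c y) (hc3 : c ^ 3 = 1) : c ∈ zpowers x ⊔ zpowers y := by
  haveI : Fact (Nat.Prime 3) := ⟨Nat.prime_three⟩
  have S := D.conf.cover
  have hyx := D.conf.yx
  by_contra hnot
  set C := centralizer ({x} : Set G) with hC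
  set L := closure ({x, y, c} : Set G) with hL
  haveI : IsMulCommutative L := isMulCommutative_closure (by
    rintro a (rfl | rfl | rfl) b (rfl | rfl | rfl)
    exacts [rfl, hyx.symm.eq, hc.symm.eq, hyx.eq, rfl, hcy.symm.eq, hc.eq, hcy.eq, rfl])
  have hL3 : ∀ a ∈ L, a ^ 3 = 1 ∧ Commute a x := by
    intro a ha
    induction ha using closure_induction with
    | mem a ha =>
      rcases ha with rfl | rfl | rfl
      exacts [⟨S.x3, Commute.refl _⟩, ⟨D.covy.x3, hyx⟩, ⟨hc3, hc⟩]
    | one => exact ⟨one_pow 3, Commute.one_left x⟩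
    | mul a b ha hb iha ihb =>
      exact ⟨by rw [(show Commute a b from setLike_mul_comm ha hb).mul_pow, iha.1, ihb.1, one_mul],
        iha.2.mul_left ihb.2⟩
    | inv a ha iha => exact ⟨by rw [inv_pow, iha.1, inv_one], iha.2.inv_left⟩
  have hLC : L ≤ C := fun a ha => mem_centralizer_singleton_iff.2 (hL3 a ha).2.eq
  have hLp : IsPGroup 3 L := fun a => ⟨1, Subtype.ext (by
    rw [pow_one, SubmonoidClass.coe_pow]; exact (hL3 a a.2).1)⟩
  have hCcard : Nat.card C = 2661120 := S.card_centralizer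
  -- the order of `L`
  obtain ⟨n, hn⟩ := IsPGroup.iff_card.1 hLp
  have hn3 : n ≤ 3 := by
    by_contra hlt
    have h1 := (pow_dvd_pow 3 (show 4 ≤ n by omega)).trans (hn ▸ hCcard ▸ Subgroup.card_dvd_of_le hLC)
    norm_num at h1
  have hlt : zpowers x ⊔ zpowers y < L := lt_of_le_of_ne
    (sup_le (zpowers_le.2 (subset_closure (Or.inl rfl))) (zpowers_le.2 (subset_closure (Or.inr (Or.inl rfl)))))
    (fun h => hnot (h ▸ subset_closure (Or.inr (Or.inr rfl))))
  have hlt2 : zpowers x < zpowers x ⊔ zpowers y := lt_of_le_of_ne le_sup_left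
    (fun h => D.conf.y_not (h ▸ mem_sup_right (mem_zpowers y)))
  have hstep : ∀ {P P' : Subgroup G}, P < P' → P' ≤ L → 3 * Nat.card P ≤ Nat.card P' := by
    intro P P' hlt hle
    obtain ⟨i, hi⟩ := IsPGroup.iff_card.1 (hLp.to_le (hlt.le.trans hle))
    obtain ⟨j, hj⟩ := IsPGroup.iff_card.1 (hLp.to_le hle)
    have hij : i < j := by
      by_contra hge
      refine hlt.ne (eq_of_le_of_card_ge hlt.le ?_)
      rw [hi, hj]
      exact Nat.pow_le_pow_right (by norm_num) (by omega)
    rw [hi, hj, ← pow_succ']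
    exact Nat.pow_le_pow_right (by norm_num) hij
  have h27 : Nat.card L = 27 := by
    have h1 := hstep hlt le_rfl
    have h2 := hstep hlt2 hlt.le
    rw [Nat.card_zpowers, S.ordx] at h2
    rw [hn] at h1 ⊢
    interval_cases n <;> omega
  refine S.not_abelian hCcard (L.subgroupOf C)
    ((Nat.card_congr (Subgroup.subgroupOfEquivOfLe hLC).toEquiv).trans h27) ⟨⟨fun a b => ?_⟩⟩
  exact Subtype.ext (Subtype.ext (setLike_mul_comm (show ((a : C) : G) ∈ L from a.2) (show ((b : C) : G) ∈ L from b.2)))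

/-- The centraliser of the involution normalises. -/
theorem Bar.centralizer_le {Γ : Type u} [Group Γ] [Finite Γ] {bar : G → Γ} (B₀ : Bar z Q bar)
    (D : QFacts x z p y r g zy py Q) {W : Type u} [CommGroup W] [Finite W] {act : G → MulAut W}
    {cls : G → W} (A : Act z Q act cls) :
    centralizer ({bar zy} : Set Γ) ≤ normalizer (zpowers (bar x) : Set Γ) := by
  classical
  haveI : Fact (Nat.Prime 3) := ⟨Nat.prime_three⟩
  have S := D.conf.cover
  have hxz : Commute x z := S.comm.symm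
  have hyz : Commute y z := D.yz
  have hyx : Commute y x := D.conf.yx
  set xb := bar x with hxb
  set yb := bar y with hyb
  set ib := bar zy with hib
  have hxb3 : xb ^ 3 = 1 := B₀.x_three D
  have hxbo : orderOf xb = 3 := B₀.x_order D
  have hxb1 : xb ≠ 1 := B₀.x_ne D
  have hyb3 : yb ^ 3 = 1 := B₀.y_three D
  have hxyb : Commute xb yb := B₀.commute_xy D
  have hibx : Commute ib xb := B₀.commute_x D D.zy_x
  set M := normalizer (zpowers xb : Set Γ) with hM
  have hfix' : ∀ d, Commute d yb → d ∈ M := fun d hd => B₀.mem_of_commute D 0 (by rwa [pow_zero, mul_one])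
  choose sec hsec hsecb using B₀.surj
  let actB : Γ →* MulAut W := MonoidHom.mk' (fun d => act (sec d)) fun d e => by
    rw [← A.act_mul _ _ (hsec d) (hsec e)]
    have h1 : (sec d * sec e)⁻¹ * sec (d * e) ∈ Q := (B₀.eq_iff _ _ ((hsec d).mul_left (hsec e)) (hsec _)).1
      (by rw [B₀.map_mul _ _ (hsec d) (hsec e), hsecb, hsecb, hsecb])
    calc act (sec (d * e)) = act (sec d * sec e * ((sec d * sec e)⁻¹ * sec (d * e))) := by rw [mul_inv_cancel_left]
      _ = act (sec d * sec e) := by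
        rw [A.act_mul _ _ ((hsec d).mul_left (hsec e)) (D.core.comm _ h1), A.act_mem D h1, mul_one]
  have hactB : ∀ {a : G}, Commute a z → actB (bar a) = act a := fun {a} ha => by
    have h1 : a⁻¹ * sec (bar a) ∈ Q := (B₀.eq_iff _ _ ha (hsec _)).1 (hsecb _).symm
    calc act (sec (bar a)) = act (a * (a⁻¹ * sec (bar a))) := by rw [mul_inv_cancel_left]
      _ = act a := by rw [A.act_mul _ _ ha (D.core.comm _ h1), A.act_mem D h1, mul_one]
  obtain ⟨-, hU16, hbasis⟩ := A.involution D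
  set U1 := (diffW act zy).range with hU1
  set B := centralizer ({ib} : Set Γ) with hB
  have hBc : ∀ b : B, Commute (actB b) (act zy) := fun b => by
    rw [← hactB D.zy_comm, ← hib]
    exact (show Commute (b : Γ) ib from mem_centralizer_singleton_iff.1 b.2).map actB
  have hBU : ∀ (b : B), ∀ w ∈ U1, actB b w ∈ U1 := by
    rintro b _ ⟨w, rfl⟩
    refine ⟨actB b w, ?_⟩
    rw [diffW_apply, diffW_apply, _root_.map_mul]
    exact congrArg _ (MulEquiv.congr_fun (hBc b).eq w).symm
  let ψ₀ : B → MulAut U1 := fun b =>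
    { toFun := fun w => ⟨actB b w, hBU b w w.2⟩
      invFun := fun w => ⟨(actB b)⁻¹ w, by
        rw [← _root_.map_inv, ← Subgroup.coe_inv]; exact hBU b⁻¹ w w.2⟩
      left_inv := fun w => Subtype.ext (MulAut.inv_apply_self _ _ _)
      right_inv := fun w => Subtype.ext (MulAut.apply_inv_self _ _ _)
      map_mul' := fun a b' => Subtype.ext (_root_.map_mul _ _ _) }
  let ψ : B →* MulAut U1 := MonoidHom.mk' ψ₀ fun a b => MulEquiv.ext fun w => Subtype.ext (by
    show actB ((a : Γ) * b) (w : W) = actB a (actB b w)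
    rw [_root_.map_mul]; rfl)
  have hψ : ∀ (b : B) (w : U1), ((ψ b w : U1) : W) = actB b w := fun b w => rfl
  have hxB : xb ∈ B := mem_centralizer_singleton_iff.2 hibx.symm.eq
  have hiby : Commute ib yb := by
    show bar zy * bar y = bar y * bar zy
    rw [← B₀.map_mul _ _ D.zy_comm hyz, ← B₀.map_mul _ _ hyz D.zy_comm, (D.covy.central y (Commute.refl y)).eq]
  have hyB : yb ∈ B := mem_centralizer_singleton_iff.2 hiby.symm.eq
  set X : B := ⟨xb, hxB⟩ with hX
  set Y : B := ⟨yb, hyB⟩ with hY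
  have hxU : ∀ u, ψ X (ψ X u) * ψ X u * u = 1 := fun u => Subtype.ext (by
    show actB xb (actB xb u) * actB xb u * u = 1
    rw [hxb, hactB hxz]; exact A.sum_x D u)
  have hxyU : ∀ u, ψ Y (ψ X u) = ψ X (ψ Y u) := fun u => Subtype.ext (by
    show actB yb (actB xb u) = actB xb (actB yb u)
    rw [hxb, hyb, hactB hxz, hactB hyz]
    exact A.act_comm hyz hxz hyx _)
  obtain ⟨u1, hu1, hu1ne, hu1fix⟩ := hbasis 1 (Or.inl rfl)
  obtain ⟨u2, hu2, hu2ne, hu2fix⟩ := hbasis 2 (Or.inr rfl)
  have hx3 : ∀ w : W, act x (act x (act x w)) = w := fun w => by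
    rw [← MulAut.mul_apply, ← MulAut.mul_apply, ← pow_three', ← A.act_pow hxz, S.x3, A.act_one,
      MulAut.one_apply]
  have hy1 : ψ Y ⟨u1, hu1⟩ = ψ X (ψ X ⟨u1, hu1⟩) := Subtype.ext (by
    show actB yb u1 = actB xb (actB xb u1)
    rw [hxb, hyb, hactB hxz, hactB hyz]
    have h : act (y * x ^ 1) u1 = u1 := hu1fix
    rw [pow_one, A.act_mul _ _ hyz hxz, MulAut.mul_apply, A.act_comm hyz hxz hyx] at h
    refine (act x).injective ?_
    rw [h, hx3])
  have hy2 : ψ Y ⟨u2, hu2⟩ = ψ X ⟨u2, hu2⟩ := Subtype.ext (by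
    show actB yb u2 = actB xb u2
    rw [hxb, hyb, hactB hxz, hactB hyz]
    have h : act (y * x ^ 2) u2 = u2 := hu2fix
    rw [pow_two, ← mul_assoc, A.act_mul _ _ (hyz.mul_left hxz) hxz, A.act_mul _ _ hyz hxz, MulAut.mul_apply,
      MulAut.mul_apply, A.act_comm hyz hxz hyx, A.act_comm hyz hxz hyx] at h
    refine (act x).injective ((act x).injective ?_)
    rw [h, hx3])
  set K := ψ.ker.map B.subtype with hK
  have hKB : K ≤ B := map_subtype_le _
  have hKn : ∀ b ∈ B, b ∈ normalizer (K : Set Γ) := fun b hb =>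
    mem_normalizer_of_conj (by
      rintro _ ⟨k, hk, rfl⟩
      exact ⟨⟨b, hb⟩ * k * ⟨b, hb⟩⁻¹, ψ.normal_ker.conj_mem k hk _, rfl⟩)
  -- no element of order three acts trivially
  have hK3 : ¬ 3 ∣ Nat.card K := by
    intro h3
    obtain ⟨⟨k, hk⟩, hko⟩ := exists_prime_orderOf_dvd_card' (G := K) 3 h3
    rw [Subgroup.orderOf_mk] at hko
    obtain ⟨kB, hkK, rfl⟩ := hk
    have hXY : Commute X Y := Subtype.ext hxyb.eq
    have hAb : IsPGroup 3 ↥(zpowers X ⊔ zpowers Y) := by
      refine IsPGroup.to_sup_of_normal_right' (H := zpowers X) (K := zpowers Y) ?_ ?_ ?_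
      · exact IsPGroup.of_card (n := 1) (by rw [Nat.card_zpowers, pow_one, ← Subgroup.orderOf_coe]; exact hxbo)
      · intro w
        refine ⟨1, ?_⟩
        obtain ⟨j, hj⟩ := w.2
        refine Subtype.ext ?_
        have hY3 : Y ^ 3 = 1 := Subtype.ext hyb3
        show (w : B) ^ 3 ^ 1 = 1
        rw [← hj]
        show (Y ^ j) ^ 3 ^ 1 = 1
        rw [pow_one, ← zpow_natCast, ← zpow_mul, mul_comm, zpow_mul, zpow_natCast, hY3, one_zpow]
      · refine zpowers_le.2 (mem_normalizer_of_conj fun w hw => ?_)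
        obtain ⟨j, rfl⟩ := hw
        exact ⟨j, show Y ^ j = X * Y ^ j * X⁻¹ by rw [(hXY.zpow_right j).eq, mul_inv_cancel_right]⟩
    obtain ⟨S3, hS3⟩ := hAb.exists_le_sylow
    obtain ⟨T', hT'⟩ := (IsPGroup.of_card (n := 1) (by
      rw [Nat.card_zpowers, pow_one, ← Subgroup.orderOf_coe]; exact hko) :
      IsPGroup 3 (zpowers kB)).exists_le_sylow
    obtain ⟨b, hb⟩ := MulAction.exists_smul_eq B T' S3
    set T := ψ.ker.subgroupOf (S3 : Subgroup B) with hT
    have hTne : T ≠ ⊥ := by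
      have hmem : b * kB * b⁻¹ ∈ (S3 : Subgroup B) := by
        rw [← hb, Sylow.coe_subgroup_smul, Coprime.mem_conj]
        simpa [mul_assoc] using hT' (mem_zpowers kB)
      rw [Ne, eq_bot_iff_forall]
      intro hall
      have h1 := hall ⟨_, hmem⟩ (show b * kB * b⁻¹ ∈ ψ.ker from ψ.normal_ker.conj_mem _ hkK b)
      have h2 : kB = 1 := conj_eq_one_iff.1 (congrArg Subtype.val h1)
      rw [h2] at hko
      simp at hko
    haveI : Group.IsNilpotent (S3 : Subgroup B) := S3.isPGroup'.isNilpotent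
    have hne := Cores.inf_center_ne_bot T hTne
    obtain ⟨⟨v, hv⟩, hv1⟩ := (Subgroup.ne_bot_iff_exists_ne_one).1 hne
    obtain ⟨m, hm⟩ : 3 ∣ orderOf v := by
      obtain ⟨n, hn⟩ := IsPGroup.iff_orderOf.1 S3.isPGroup' v
      rcases n with _ | n
      · exact absurd (Subtype.ext (orderOf_eq_one_iff.1 (by simpa using hn))) hv1
      · exact ⟨3 ^ n, by rw [hn, pow_succ']⟩
    set v3 := v ^ m with hv3def
    have hm0 : m ≠ 0 := fun h0 => by
      rw [h0, mul_zero] at hm
      exact (orderOf_pos v).ne' hm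
    have hv3o : orderOf v3 = 3 := by
      rw [hv3def, orderOf_pow_of_dvd hm0 (hm ▸ dvd_mul_left m 3), hm, Nat.mul_div_cancel _ (Nat.pos_of_ne_zero hm0)]
    have hv3m : v3 ∈ T ⊓ center (S3 : Subgroup B) := Subgroup.pow_mem _ hv m
    set e := ((v3 : B) : Γ) with he
    have he3 : e ^ 3 = 1 := by
      have h3 : v3 ^ 3 = 1 := by
        have := pow_orderOf_eq_one v3
        rwa [hv3o] at this
      rw [he, ← Subgroup.coe_pow, ← Subgroup.coe_pow, h3]; rfl
    have hex : Commute e xb := congrArg (fun t : (S3 : Subgroup B) => ((t : B) : Γ))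
      (mem_center_iff.1 hv3m.2 ⟨X, hS3 (mem_sup_left (mem_zpowers X))⟩).symm
    have hey : Commute e yb := congrArg (fun t : (S3 : Subgroup B) => ((t : B) : Γ))
      (mem_center_iff.1 hv3m.2 ⟨Y, hS3 (mem_sup_right (mem_zpowers Y))⟩).symm
    obtain ⟨c, hc, hc3, hce⟩ := B₀.exists_lift_three D hex he3
    have hcz := S.central c hc
    have hcy : Commute c y := by
      have hQ : y⁻¹ * (c * y * c⁻¹) ∈ Q := by
        rw [← B₀.eq_iff _ _ hyz ((hcz.mul_left hyz).mul_left hcz.inv_left), B₀.map_conj hcz hyz, hce, ← hyb, hey.eq,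
          mul_inv_cancel_right]
      rcases S.fixed D.core hQ (hyx.inv_left.mul_left ((hc.mul_left hyx).mul_left hc.inv_left)) with e' | e'
      · exact mul_inv_eq_iff_eq_mul.1 (inv_mul_eq_one.1 e').symm
      · exfalso
        rw [inv_mul_eq_iff_eq_mul] at e'
        have h1 := congrArg (· ^ 3) e'
        simp only [conj_pow, D.covy.x3, mul_one, mul_inv_cancel, hyz.mul_pow, one_mul] at h1
        rw [pow_succ, pow_two, S.z2, one_mul] at h1
        exact S.z_ne h1.symm
    have hcA : c ∈ zpowers x ⊔ zpowers y := D.mem_sup_of_commute hc hcy hc3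
    have hyn : zpowers y ≤ normalizer (zpowers x : Set G) := zpowers_le.2 (mem_normalizer_of_conj fun w hw => by
      obtain ⟨k, rfl⟩ := hw
      exact ⟨k, show x ^ k = y * x ^ k * y⁻¹ by rw [(hyx.zpow_right k).eq, mul_inv_cancel_right]⟩)
    obtain ⟨xi, hxi, yj, hyj, hcij⟩ := (Coprime.mem_sup_iff hyn).1 hcA
    rw [← mem_powers_iff_mem_zpowers, Submonoid.mem_powers_iff] at hxi hyj
    obtain ⟨i, rfl⟩ := hxi
    obtain ⟨j, rfl⟩ := hyj
    -- it acts as powers of `x` on the two parts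
    have heK : (v3 : B) ∈ ψ.ker := hv3m.1
    have hfixc : ∀ w : U1, act c w = w := fun w => by
      rw [← hactB hcz, hce]
      exact congrArg Subtype.val (DFunLike.congr_fun (MonoidHom.mem_ker.1 heK) w)
    have hpows : ∀ (n : ℕ) (w : W), (act x ^ n) w = w → w ≠ 1 → 3 ∣ n := by
      intro n w hw hw1
      by_contra hn
      have ho : act x ^ 3 = 1 := by rw [← A.act_pow hxz, S.x3, A.act_one]
      have hn' : act x ^ n = act x ^ (n % 3) := by
        conv_lhs => rw [← Nat.div_add_mod n 3, pow_add, pow_mul, ho, one_pow, one_mul]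
      rw [hn'] at hw
      rcases (show n % 3 = 1 ∨ n % 3 = 2 by omega) with h0 | h0 <;> rw [h0] at hw
      · rw [pow_one] at hw
        exact hw1 (A.fpf_x D hw)
      · refine hw1 (A.fpf_x D ?_)
        rw [pow_two, MulAut.mul_apply] at hw
        have h3 := hx3 w
        rwa [hw] at h3
    have key : ∀ (m : ℕ) (w : W), act y w = (act x ^ m) w → (act y ^ j) w = (act x ^ (m * j)) w := by
      intro m w hw
      have hcomm : Commute (act y) (act x ^ m) := by
        refine Commute.pow_right ?_ m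
        rw [commute_iff_eq, ← A.act_mul _ _ hyz hxz, ← A.act_mul _ _ hxz hyz, hyx.eq]
      clear hcij
      induction j with
      | zero => simp
      | succ j ih =>
        rw [pow_succ', MulAut.mul_apply, ih, ← MulAut.mul_apply, pow_mul',
          (show Commute (act y) ((act x ^ j) ^ m) by rw [← pow_mul', pow_mul]; exact hcomm.pow_right j).eq,
          MulAut.mul_apply, hw, ← MulAut.mul_apply, ← pow_mul', ← pow_add]
        congr 2
    have hact_c : ∀ (m : ℕ) (w : W), act y w = (act x ^ m) w → act c w = (act x ^ (i + m * j)) w := by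
      intro m w hw
      rw [← hcij, A.act_mul _ _ (hxz.pow_left i) (hyz.pow_left j), A.act_pow hxz, A.act_pow hyz,
        MulAut.mul_apply, key m w hw, ← MulAut.mul_apply, ← pow_add]
    have h1 : act y u1 = (act x ^ 2) u1 := by
      have h : actB yb u1 = actB xb (actB xb u1) := congrArg Subtype.val hy1
      rw [hxb, hyb, hactB hxz, hactB hyz] at h
      rw [pow_two, MulAut.mul_apply]
      exact h
    have h2 : act y u2 = (act x ^ 1) u2 := by
      have h : actB yb u2 = actB xb u2 := congrArg Subtype.val hy2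
      rw [hxb, hyb, hactB hxz, hactB hyz] at h
      rw [pow_one]
      exact h
    have d1 := hpows (i + 2 * j) u1 ((hact_c 2 u1 h1).symm.trans (hfixc ⟨u1, hu1⟩)) hu1ne
    have d2 := hpows (i + 1 * j) u2 ((hact_c 1 u2 h2).symm.trans (hfixc ⟨u2, hu2⟩)) hu2ne
    have hc1 : c = 1 := by
      rw [← hcij]
      obtain ⟨i', rfl⟩ : 3 ∣ i := by omega
      obtain ⟨j', rfl⟩ : 3 ∣ j := by omega
      rw [pow_mul, pow_mul, S.x3, D.covy.x3, one_pow, one_pow, mul_one]
    have he1 : v3 = 1 := Subtype.ext (Subtype.ext (by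
      show e = 1
      rw [← hce, hc1, B₀.map_one]))
    rw [he1, orderOf_one] at hv3o
    omega
  intro d hd
  set gB : B := ⟨d, hd⟩
  have hα : ∀ b : B, Commute (ψ b) (ψ Y) → ψ (b * X * b⁻¹) = ψ X ∨ ψ (b * X * b⁻¹) = ψ X * ψ X := by
    intro b hb
    have hmem : yb⁻¹ * ((b : Γ) * yb * (b : Γ)⁻¹) ∈ K := by
      refine ⟨Y⁻¹ * (b * Y * b⁻¹), ?_, rfl⟩
      rw [SetLike.mem_coe, MonoidHom.mem_ker, _root_.map_mul, _root_.map_mul, _root_.map_mul, _root_.map_inv, _root_.map_inv, hb.eq, mul_inv_cancel_right,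
        inv_mul_cancel]
    obtain ⟨k, hk, hke⟩ := conj_three_mod hK3 (hKn yb hyB) hyb3
      (by rw [conj_pow, hyb3, mul_one, mul_inv_cancel]) hmem
    have hc : Commute (k * (b : Γ)) yb := mul_inv_eq_iff_eq_mul.1 (by
      rw [show k * (b : Γ) * yb * (k * (b : Γ))⁻¹ =
        k * ((b : Γ) * yb * (b : Γ)⁻¹) * k⁻¹ by group, hke])
    have hbM : (b : Γ) ∈ M :=
      (M.mul_mem_cancel_left (B₀.mem_of_centralizing D (B₀.commute_of_invariant D hK3 (hKn xb hxB) (hKn yb hyB) hk))).1 (hfix' _ hc)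
    rcases B₀.cases_zpowers D (B₀.mem_normalizer_iff'.1 hbM) with e | e | e
    · exact absurd (conj_eq_one_iff.1 e) hxb1
    · exact Or.inl (congrArg ψ (Subtype.ext e))
    · refine Or.inr ?_
      rw [← _root_.map_mul]
      exact congrArg ψ (Subtype.ext (e.trans (pow_two xb)))
  have hβ : ∀ b : B, Commute (ψ (b * X * b⁻¹)) (ψ X) → ψ (b * X * b⁻¹) = ψ X ∨ ψ (b * X * b⁻¹) = ψ X * ψ X := by
    intro b hb
    set v := (b : Γ) * xb * (b : Γ)⁻¹ with hv
    set c := xb * v * xb⁻¹ * v⁻¹ with hc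
    have hcK : c ∈ K := by
      refine ⟨X * (b * X * b⁻¹) * X⁻¹ * (b * X * b⁻¹)⁻¹, ?_, rfl⟩
      rw [SetLike.mem_coe, MonoidHom.mem_ker, _root_.map_mul, _root_.map_mul, _root_.map_mul ψ X, _root_.map_inv, _root_.map_inv, ← hb.eq, mul_inv_cancel_right,
        mul_inv_cancel]
    have hKx := fun c hc => B₀.commute_of_invariant D hK3 (hKn xb hxB) (hKn yb hyB) (d := c) hc
    have hcv : Commute c v := by
      have hc' : (b : Γ)⁻¹ * c * (b : Γ) ∈ K := by
        have := (mem_normalizer_iff.1 (hKn _ (inv_mem b.2)) c).1 hcK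
        rwa [inv_inv] at this
      have := (hKx _ hc').map (MulAut.conj (b : Γ)).toMonoidHom
      simpa [mul_assoc, hv] using this
    have hv3 : v ^ 3 = 1 := by rw [hv, conj_pow, hxb3, mul_one, mul_inv_cancel]
    have hc3 : c ^ 3 = 1 := by
      have h1 : (c * v) ^ 3 = 1 := by
        rw [show c * v = xb * v * xb⁻¹ by rw [hc]; group, conj_pow, hv3, mul_one, mul_inv_cancel]
      rwa [hcv.mul_pow, hv3, mul_one] at h1
    have hc1 : c = 1 := orderOf_eq_one_iff.1 (Nat.eq_one_of_dvd_coprimes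
      ((Nat.prime_three).coprime_iff_not_dvd.2 hK3) (orderOf_dvd_of_pow_eq_one hc3)
      (Subgroup.orderOf_dvd_natCard K hcK))
    have hvx : Commute v xb := (mul_inv_eq_iff_eq_mul.1 (mul_inv_eq_one.1 hc1)).symm
    obtain ⟨w, hw, hwb⟩ := B₀.surj (b : Γ)
    obtain ⟨c1, hc1x, hc13, hc1v⟩ := B₀.exists_lift_three D hvx hv3
    have hwxz : Commute (w * x * w⁻¹) z := (hw.mul_left hxz).mul_left hw.inv_left
    have hc11 : c1 ≠ 1 := fun h1 => by
      rw [h1, B₀.map_one, hv] at hc1v
      exact hxb1 (conj_eq_one_iff.1 hc1v.symm)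
    obtain ⟨q, hq, hqe⟩ := D.core.conj_three (S.central c1 hc1x) hc13
      (by rw [conj_pow, S.x3, mul_one, mul_inv_cancel]) hc11
      ((B₀.eq_iff _ _ (S.central c1 hc1x) hwxz).1 (by rw [hc1v, hv, B₀.map_conj hw hxz, hwb]))
    have hconj : q * w * x * (q * w)⁻¹ = c1 := by
      rw [show q * w * x * (q * w)⁻¹ = q * (w * x * w⁻¹) * q⁻¹ by group, hqe]
    have hmem := D.mem_of_conj ((D.core.comm q hq).mul_left hw) (hconj ▸ hc1x)
    rw [hconj] at hmem
    have hvX : v ∈ zpowers xb := by rw [← hc1v]; exact B₀.map_mem_zpowers D hmem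
    rcases B₀.cases_zpowers D hvX with e | e | e
    · exact absurd (conj_eq_one_iff.1 e) hxb1
    · exact Or.inl (congrArg ψ (Subtype.ext e))
    · refine Or.inr ?_
      rw [← _root_.map_mul]
      exact congrArg ψ (Subtype.ext (e.trans (pow_two xb)))
  have hlin := linear_normalizes hU16 (fun u => Subtype.ext (A.exp D u)) ψ X Y hxU hxyU
    (p1 := ⟨u1, hu1⟩) (p2 := ⟨u2, hu2⟩) (fun h => hu1ne (congrArg Subtype.val h))
    (fun h => hu2ne (congrArg Subtype.val h)) hy1 hy2 hα hβ gB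
  obtain ⟨n, hnn, hn⟩ : ∃ n : ℕ, (n = 1 ∨ n = 2) ∧ (xb ^ n)⁻¹ * (d * xb * d⁻¹) ∈ K := by
    rcases hlin with e | e
    · refine ⟨1, Or.inl rfl, X⁻¹ * (gB * X * gB⁻¹), ?_, by rw [pow_one]; rfl⟩
      rw [SetLike.mem_coe, MonoidHom.mem_ker, _root_.map_mul, e, _root_.map_inv, inv_mul_cancel]
    · refine ⟨2, Or.inr rfl, (X ^ 2)⁻¹ * (gB * X * gB⁻¹), ?_, rfl⟩
      rw [SetLike.mem_coe, MonoidHom.mem_ker, _root_.map_mul, e, _root_.map_inv, _root_.map_pow, pow_two, inv_mul_cancel]
  obtain ⟨k, hk, hke⟩ := conj_three_mod hK3 (hKn _ (pow_mem hxB n))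
    (by rw [← pow_mul, mul_comm, pow_mul, hxb3, one_pow])
    (by rw [conj_pow, hxb3, mul_one, mul_inv_cancel]) hn
  refine (M.mul_mem_cancel_left (B₀.mem_of_centralizing D (B₀.commute_of_invariant D hK3 (hKn xb hxB) (hKn yb hyB) hk))).1 (B₀.mem_normalizer_iff'.2 ?_)
  rw [show k * d * xb * (k * d)⁻¹ = k * (d * xb * d⁻¹) * k⁻¹ by group, hke]
  exact pow_mem (mem_zpowers xb) n

end Cfsg.Agent.J4Type
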