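/-
A subgroup containing the centraliser of an involution and controlling its fusion (owner: helper40).

Main result (namespace `Cfsg.Agent.J4Type`):
* `eq_top_of_class` : if moreover the conjugates inside are closed under commuting products, their
  number is odd and divides the order of no odd subgroup inside, the subgroup is everything
-/
import Cfsg.Agent.Lib.Aschbacher.Basic
import Cfsg.Agent.Lib.OrderM22.Actions

set_option autoImplicit false
set_option linter.style.haveILetI false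

namespace Cfsg.Agent.J4Type

open Subgroup

universe u

theorem eq_top_of_class {Γ : Type u} [Group Γ] [Finite Γ] (M : Subgroup Γ) {i : Γ} (hi : orderOf i = 2)
    (hiM : i ∈ M) (hC : centralizer ({i} : Set Γ) ≤ M)
    (hfuse : ∀ g : Γ, g * i * g⁻¹ ∈ M → ∃ m ∈ M, m * i * m⁻¹ = g * i * g⁻¹)
    (hprod : ∀ d e : Γ, d ∈ M → e ∈ M → IsConj i d → IsConj i e → Commute d e → d ≠ e → IsConj i (d * e))
    (hodd : Odd (Nat.card {d : Γ // IsConj i d ∧ d ∈ M}))
    (hno : ∀ O : Subgroup Γ, O ≤ M → Odd (Nat.card O) →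
      ¬ Nat.card {d : Γ // IsConj i d ∧ d ∈ M} ∣ Nat.card O) :
    M = ⊤ := by
  classical
  set D : Set Γ := {d | IsConj i d} with hD
  have hex : ∀ d, d ∈ D → ∃ g : Γ, g * i * g⁻¹ = d := fun d hd => isConj_iff.1 hd
  let pt : Γ → Γ ⧸ M := fun d =>
    if h : d ∈ D then ((hex d h).choose : Γ ⧸ M) else ((1 : Γ) : Γ ⧸ M)
  have hsmul : ∀ d h : Γ, d • (h : Γ ⧸ M) = (h : Γ ⧸ M) ↔ h⁻¹ * d * h ∈ M := by
    intro d h
    show ((d * h : Γ) : Γ ⧸ M) = _ ↔ _
    rw [eq_comm, QuotientGroup.eq, mul_assoc]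
  have huniq : ∀ g : Γ, g * i * g⁻¹ ∈ M → g ∈ M := by
    intro g hg
    obtain ⟨m, hm, hmi⟩ := hfuse g hg
    have hc : m⁻¹ * g ∈ centralizer ({i} : Set Γ) := by
      refine mem_centralizer_singleton_iff.2 ?_
      calc m⁻¹ * g * i = m⁻¹ * (g * i * g⁻¹) * g := by group
        _ = m⁻¹ * (m * i * m⁻¹) * g := by rw [hmi]
        _ = i * (m⁻¹ * g) := by group
    simpa using M.mul_mem hm (hC hc)
  have hfixed : ∀ d ∈ D, ∀ p : Γ ⧸ M, d • p = p ↔ p = pt d := by
    intro d hd p
    have hspec := (hex d hd).choose_spec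
    simp only [pt, dif_pos hd]
    set g := (hex d hd).choose
    obtain ⟨h, rfl⟩ := QuotientGroup.mk_surjective p
    rw [hsmul, QuotientGroup.eq]
    constructor
    · intro h1
      refine huniq _ ?_
      rwa [show h⁻¹ * g * i * (h⁻¹ * g)⁻¹ = h⁻¹ * d * h by rw [← hspec]; group]
    · intro h1
      rw [show h⁻¹ * d * h = h⁻¹ * g * i * (h⁻¹ * g)⁻¹ by rw [← hspec]; group]
      exact M.mul_mem (M.mul_mem h1 hiM) (M.inv_mem h1)
  have hconj : ∀ g : Γ, ∀ d ∈ D, g * d * g⁻¹ ∈ D := fun g d hd =>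
    IsConj.trans hd (isConj_iff.2 ⟨g, rfl⟩)
  have hequiv : ∀ h : Γ, Nat.card {d : Γ // d ∈ D ∧ pt d = (h : Γ ⧸ M)} =
      Nat.card {d : Γ // IsConj i d ∧ d ∈ M} := by
    intro h
    refine Nat.card_congr
      { toFun := fun d => ⟨h⁻¹ * d.1 * h, ?_, (hsmul d.1 h).1 ((hfixed d.1 d.2.1 _).2 d.2.2.symm)⟩
        invFun := fun d => ⟨h * d.1 * h⁻¹, hconj h d.1 d.2.1, ?_⟩
        left_inv := fun d => Subtype.ext (by simp [mul_assoc])
        right_inv := fun d => Subtype.ext (by simp [mul_assoc]) }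
    · have h1 := hconj h⁻¹ d.1 d.2.1
      rw [inv_inv] at h1
      exact h1
    · refine ((hfixed _ (hconj h d.1 d.2.1) _).1 ((hsmul _ h).2 ?_)).symm
      simpa [mul_assoc] using d.2.2
  have P : Aschbacher.PointClass Γ (Γ ⧸ M) D pt := by
    refine ⟨fun d hd => ?_, hconj, hfixed, ?_, ?_⟩
    · obtain ⟨g, rfl⟩ := hex d hd
      exact (orderOf_injective (MulAut.conj g).toMonoidHom (MulAut.conj g).injective i).trans hi
    · intro d hd e he hde hne c hc
      obtain ⟨h, hh⟩ := QuotientGroup.mk_surjective (pt d)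
      have hdp : d • pt d = pt d := (hfixed d hd _).2 rfl
      have hpe : pt d = pt e := by
        refine ((hfixed d hd _).1 ?_).symm
        refine (hfixed e he _).1 ?_
        rw [← mul_smul, hde.symm.eq, mul_smul, (hfixed e he _).2 rfl]
      have hd' := (hsmul d h).1 (by rw [hh]; exact hdp)
      have he' := (hsmul e h).1 (by rw [hh, hpe]; exact (hfixed e he _).2 rfl)
      have hin : ∀ a ∈ D, IsConj i (h⁻¹ * a * h) := fun a ha => by
        have h1 := hconj h⁻¹ a ha
        rw [inv_inv] at h1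
        exact h1
      have hde' : d * e ∈ D := by
        have h1 := hprod _ _ hd' he' (hin d hd) (hin e he)
          (by simpa using hde.map (MulAut.conj h⁻¹).toMonoidHom) (fun h' => hne (by simpa using h'))
        have h2 := hconj h _ h1
        rwa [show h * (h⁻¹ * d * h * (h⁻¹ * e * h)) * h⁻¹ = d * e by group] at h2
      have hfix : (d * e) • pt d = pt d := by rw [mul_smul, hpe, (hfixed e he _).2 rfl, ← hpe, hdp]
      have heq := (hfixed _ hde' _).1 hfix
      rw [heq]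
      refine (hfixed _ hde' _).1 ?_
      rw [← mul_smul, ← hc.eq, mul_smul, (hfixed _ hde' _).2 rfl]
    · intro p
      obtain ⟨h, rfl⟩ := QuotientGroup.mk_surjective p
      rw [hequiv]
      exact hodd
  rw [eq_top_iff]
  intro g _
  by_contra hg
  have hxy : ((1 : Γ) : Γ ⧸ M) ≠ (g : Γ ⧸ M) := fun h => hg (by simpa using (QuotientGroup.eq.1 h))
  obtain ⟨O, hOle, hOodd, -, -, htrans⟩ := P.exists_odd_normal hxy
  have hOM : O ≤ M := fun a ha => by
    have : a • ((1 : Γ) : Γ ⧸ M) = ((1 : Γ) : Γ ⧸ M) := (hOle ha).1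
    simpa using (hsmul a 1).1 this
  refine hno O hOM hOodd ?_
  have hiD : i ∈ D := IsConj.refl i
  have hpi : pt i = ((1 : Γ) : Γ ⧸ M) := ((hfixed i hiD _).1 ((hsmul i 1).2 (by simpa using hiM))).symm
  have horb : OrderM22.orb O i = {d | IsConj i d ∧ d ∈ M} := by
    refine Set.Subset.antisymm ?_ fun d hd => ?_
    · rintro _ ⟨a, ha, rfl⟩
      exact ⟨hconj a i hiD, M.mul_mem (M.mul_mem (hOM ha) hiM) (M.inv_mem (hOM ha))⟩
    · have hpd : pt d = ((1 : Γ) : Γ ⧸ M) :=
        ((hfixed d hd.1 _).1 ((hsmul d 1).2 (by simpa using hd.2))).symm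
      obtain ⟨a, ha, e⟩ := htrans i hiD hpi d hd.1 hpd
      exact ⟨a, ha, e⟩
  have := OrderM22.ncard_orbit_mul O i
  rw [horb, ← Nat.card_coe_set_eq] at this
  exact ⟨_, this.symm⟩

end Cfsg.Agent.J4Type
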