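/-
The element of order 3 generates a normal subgroup of the centraliser of the central involution
modulo its 2-core (owner: helper40).

Main result (namespace `Cfsg.Agent.J4Type`):
* `QFacts.normal_form` : every element of `C(z)` is an element of `Q` times one normalising `⟨x⟩`
-/
import Cfsg.Agent.Lib.J4Type.SixCoverCentral
import Cfsg.Agent.Lib.J4Type.SixCoverPoint

set_option autoImplicit false
set_option linter.style.haveILetI false
set_option linter.unusedSectionVars false

namespace Cfsg.Agent.J4Type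

open Cfsg Subgroup Cfsg.Agent.OrderM22
open scoped Pointwise

universe u

variable {G : Type u} [Group G] [Finite G] {x z : G} {p : G → ↥Spor.M22} {y r g zy : G}
  {py : G → ↥Spor.M22} {Q : Subgroup G}

/-- Each element of `C(z)` normalises `⟨x⟩` modulo `Q`. -/
theorem QFacts.normal_form (D : QFacts x z p y r g zy py Q) {w₀ : G} (hw₀ : Commute w₀ z) :
    ∃ q ∈ Q, q * w₀ * x * (q * w₀)⁻¹ ∈ zpowers x := by
  classical
  haveI : Fact (Nat.Prime 2) := ⟨Nat.prime_two⟩
  haveI : Fact (Nat.Prime 3) := ⟨Nat.prime_three⟩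
  haveI := simple_m22
  have S := D.conf.cover
  obtain ⟨Γ, _, _, bar, B⟩ := exists_bar D.core
  obtain ⟨W, _, _, act, cls, A⟩ := exists_act D
  have hxz : Commute x z := S.comm.symm
  set xb := bar x with hxb
  set ib := bar zy with hib
  have hxb3 : xb ^ 3 = 1 := B.x_three D
  have hxbo : orderOf xb = 3 := B.x_order D
  have hxb1 : xb ≠ 1 := B.x_ne D
  have hib2 : ib * ib = 1 := by rw [hib, ← B.map_mul _ _ D.zy_comm D.zy_comm, D.covy.z2, B.map_one]
  have hib1 : ib ≠ 1 := fun h => D.zy_not ((B.eq_one_iff D.zy_comm).1 h)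
  have hibo : orderOf ib = 2 := orderOf_eq_prime (by rw [pow_two]; exact hib2) hib1
  have hibx : Commute ib xb := B.commute_x D D.zy_x
  set M := normalizer (zpowers xb : Set Γ) with hM
  suffices htop : M = ⊤ from B.lift_normalizer D hw₀ ((htop.symm ▸ mem_top _ : bar w₀ ∈ M))
  have hCib : centralizer ({ib} : Set Γ) ≤ M := B.centralizer_le D A
  -- conjugates inside commute with `xb`
  have hconjx : ∀ a, a * ib * a⁻¹ ∈ M → Commute (a * ib * a⁻¹) xb := by
    intro a ha
    obtain ⟨w, hw, rfl⟩ := B.surj a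
    rcases B.cases_zpowers D (B.mem_normalizer_iff'.1 ha) with e | e | e
    · exact absurd (conj_eq_one_iff.1 e) hxb1
    · exact mul_inv_eq_iff_eq_mul.1 e
    · exfalso
      refine A.not_inverting D hw ?_
      set a' := w * zy * w⁻¹ with ha'
      have ha'z : Commute a' z := (hw.mul_left D.zy_comm).mul_left hw.inv_left
      have haxz : Commute (a' * x * a'⁻¹) z := (ha'z.mul_left hxz).mul_left ha'z.inv_left
      have h1 : bar (1 : G) = bar (a' * x * a'⁻¹ * x) := by
        rw [B.map_one, B.map_mul _ _ haxz hxz, B.map_conj ha'z hxz, ha', B.map_conj hw D.zy_comm, ← hib, ← hxb, e,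
          ← pow_succ, hxb3]
      rw [B.eq_iff _ _ (Commute.one_left z) (haxz.mul_left hxz), inv_one, one_mul] at h1
      exact h1
  -- involutions commuting with `xb`
  have hp0 : ∀ {c : G}, Commute c x → c * c ∈ Q → bar c ≠ 1 → orderOf (p c) = 2 := by
    intro c hc hcQ hne
    have h1 : p (c * c) = 1 := by
      rcases S.fixed D.core hcQ (hc.mul_left hc) with e | e <;> rw [e]
      exacts [S.map_one, S.map_z]
    refine orderOf_eq_prime (by rw [pow_two, ← S.map_mul _ _ hc hc, h1]) fun hp => ?_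
    obtain ⟨i, j, rfl⟩ := S.ker c hc hp
    refine hne ?_
    have hbc : bar (x ^ i * z ^ j) = xb ^ i := by
      rw [B.map_mul _ _ (hxz.pow_left i) ((Commute.refl z).pow_left j), B.map_pow hxz,
        (B.eq_one_iff ((Commute.refl z).pow_left j)).2 (Q.pow_mem D.core.mem j), mul_one]
    have h2 : xb ^ (i + i) = 1 := by
      rw [pow_add, ← hbc, ← B.map_mul _ _ (S.central _ hc) (S.central _ hc), (B.eq_one_iff ((S.central _ hc).mul_left (S.central _ hc))).2 hcQ]
    rw [hbc]
    calc xb ^ i = (xb ^ 3) ^ i * (xb ^ (i + i))⁻¹ := by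
          rw [← pow_mul, show 3 * i = i + (i + i) by ring, pow_add, mul_inv_cancel_right]
      _ = 1 := by rw [hxb3, h2, one_pow, inv_one, mul_one]
  have hinvlift : ∀ d, Commute d xb → d * d = 1 → d ≠ 1 →
      ∃ c, Commute c x ∧ bar c = d ∧ orderOf (p c) = 2 := by
    intro d hd hd2 hd1
    obtain ⟨c, hc, rfl⟩ := (fun d => B.exists_lift D (d := d)) d hd
    refine ⟨c, hc, rfl, hp0 hc ?_ hd1⟩
    rw [← B.map_mul _ _ (S.central c hc) (S.central c hc), ← B.map_one, eq_comm,
      B.eq_iff _ _ (Commute.one_left z) ((S.central c hc).mul_left (S.central c hc)), inv_one, one_mul] at hd2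
    exact hd2
  have huniq : ∀ {c c' : G}, Commute c x → Commute c' x → p c = p c' → bar c * bar c = 1 →
      bar c' * bar c' = 1 → bar c' = bar c := by
    intro c c' hc hc' hp h2 h2'
    obtain ⟨i, j, hij⟩ := S.ker (c⁻¹ * c') (hc.inv_left.mul_left hc')
      (by rw [S.map_mul _ _ hc.inv_left hc', S.map_inv hc, hp, inv_mul_cancel])
    have he : bar c' = bar c * xb ^ i := by
      calc bar c' = bar (c * (c⁻¹ * c')) := by rw [mul_inv_cancel_left]
        _ = _ := by
          rw [hij, B.map_mul _ _ (S.central c hc) ((hxz.pow_left i).mul_left ((Commute.refl z).pow_left j)),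
            B.map_mul _ _ (hxz.pow_left i) ((Commute.refl z).pow_left j), B.map_pow hxz,
            (B.eq_one_iff ((Commute.refl z).pow_left j)).2 (Q.pow_mem D.core.mem j), mul_one]
    have hci : Commute (bar c) (xb ^ i) := (B.commute_x D hc).pow_right i
    have h4 : xb ^ i * xb ^ i = 1 := by
      rw [he, show bar c * xb ^ i * (bar c * xb ^ i) = bar c * (xb ^ i * bar c) * xb ^ i by group, ← hci.eq,
        ← mul_assoc (bar c) (bar c), h2, one_mul] at h2'
      exact h2'
    have h5 : xb ^ i = 1 := by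
      calc xb ^ i = (xb ^ 3) ^ i * (xb ^ i * xb ^ i)⁻¹ := by
            rw [← pow_mul, show 3 * i = i + (i + i) by ring, pow_add, pow_add, mul_inv_cancel_right]
        _ = 1 := by rw [hxb3, h4, one_pow, inv_one, mul_one]
    rw [he, h5, mul_one]
  have hfuse0 : ∀ d, Commute d xb → d * d = 1 → d ≠ 1 → ∃ m ∈ M, m * ib * m⁻¹ = d := by
    intro d hd hd2 hd1
    obtain ⟨c, hc, rfl, hpc⟩ := hinvlift d hd hd2 hd1
    have hpzy : orderOf (p zy) = 2 := hp0 D.zy_x (by rw [D.covy.z2]; exact Q.one_mem) hib1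
    obtain ⟨m, hm⟩ := isConj_iff.1 (hyp_m22.one_class hpzy hpc)
    obtain ⟨a, ha, rfl⟩ := S.surj m
    refine ⟨bar a, B.mem_of_centralizing D (B.commute_x D ha), ?_⟩
    have haz := S.central a ha
    rw [hib, ← B.map_conj haz D.zy_comm]
    refine (huniq ((ha.mul_left D.zy_x).mul_left ha.inv_left) hc (by rw [S.map_conj ha D.zy_x, hm]) ?_ hd2).symm
    rw [B.map_conj haz D.zy_comm, conj_mul, ← hib, hib2, mul_one, mul_inv_cancel]
  have hconj2 : ∀ {d}, IsConj ib d → d * d = 1 ∧ d ≠ 1 := by
    intro d hd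
    obtain ⟨a, rfl⟩ := isConj_iff.1 hd
    exact ⟨by rw [conj_mul, hib2, mul_one, mul_inv_cancel], fun e => hib1 (conj_eq_one_iff.1 e)⟩
  have hDM : ∀ {d}, IsConj ib d → d ∈ M → Commute d xb := by
    intro d hd hdM
    obtain ⟨a, rfl⟩ := isConj_iff.1 hd
    exact hconjx a hdM
  have hcount : Nat.card {d // IsConj ib d ∧ d ∈ M} = 1155 := by
    choose c hc hcb hcp using fun d : {d // IsConj ib d ∧ d ∈ M} =>
      hinvlift d.1 (hDM d.2.1 d.2.2) (hconj2 d.2.1).1 (hconj2 d.2.1).2
    let f : {d // IsConj ib d ∧ d ∈ M} → {m : ↥Spor.M22 // orderOf m = 2} := fun d => ⟨p (c d), hcp d⟩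
    have hf : Function.Bijective f := by
      refine ⟨fun d d' h => Subtype.ext ?_, fun m => ?_⟩
      · rw [← hcb d, ← hcb d']
        refine (huniq (hc d) (hc d') (congrArg Subtype.val h) ?_ ?_).symm
        · rw [hcb]; exact (hconj2 d.2.1).1
        · rw [hcb]; exact (hconj2 d'.2.1).1
      · obtain ⟨c0, hc0, hm⟩ := S.surj m.1
        have hm2 : p c0 * p c0 = 1 := by
          have := pow_orderOf_eq_one m.1
          rw [m.2, pow_two] at this
          rwa [hm]
        obtain ⟨i, j, hij⟩ := S.ker (c0 * c0) (hc0.mul_left hc0) (by rw [S.map_mul _ _ hc0 hc0, hm2])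
        set c3 := c0 ^ 3 with hc3
        have hc3x : Commute c3 x := hc0.pow_left 3
        have hpc3 : p c3 = m.1 := by
          rw [hc3, S.map_pow hc0, pow_succ, pow_two, hm2, one_mul, hm]
        have h2 : c3 * c3 ∈ Q := by
          rw [hc3, (Commute.refl c0).mul_pow 3 |>.symm, hij, ((hxz.pow_left i).pow_right j).mul_pow, ← pow_mul,
            mul_comm i 3, pow_mul, S.x3, one_pow, one_mul]
          exact Q.pow_mem (Q.pow_mem D.core.mem j) 3
        have hne : bar c3 ≠ 1 := fun h1 => by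
          have h1' : c3 ∈ Q := by
            rw [← B.map_one, eq_comm, B.eq_iff _ _ (Commute.one_left z) (S.central c3 hc3x), inv_one, one_mul] at h1
            exact h1
          have hp1 : p c3 = 1 := by
            rw [S.map_eq_of_core D.core hc3x (Commute.one_left x) (by rw [mul_one]; exact inv_mem h1'), S.map_one]
          have := m.2
          rw [← hpc3, hp1, orderOf_one] at this
          omega
        have hsq : bar c3 * bar c3 = 1 := by
          rw [← B.map_mul _ _ (S.central _ hc3x) (S.central _ hc3x), (B.eq_one_iff ((S.central _ hc3x).mul_left (S.central _ hc3x))).2 h2]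
        obtain ⟨a, haM, hab⟩ := hfuse0 (bar c3) (B.commute_x D hc3x) hsq hne
        set d : {d // IsConj ib d ∧ d ∈ M} := ⟨bar c3, isConj_iff.2 ⟨a, hab⟩, B.mem_of_centralizing D (B.commute_x D hc3x)⟩ with hd
        refine ⟨d, Subtype.ext ?_⟩
        show p (c d) = m.1
        rw [← hpc3]
        exact S.map_eq_of_core D.core (hc d) hc3x ((B.eq_iff _ _ (S.central _ (hc d)) (S.central _ hc3x)).1 (hcb d))
    rw [Nat.card_congr (Equiv.ofBijective f hf)]
    obtain ⟨t, ht⟩ := exists_prime_orderOf_dvd_card' (G := ↥Spor.M22) 2 (by rw [hyp_m22.card]; norm_num)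
    have horb : orb (⊤ : Subgroup ↥Spor.M22) t = {m | orderOf m = 2} := by
      ext m
      constructor
      · rintro ⟨a, -, rfl⟩
        exact (orderOf_injective (MulAut.conj a).toMonoidHom (MulAut.conj a).injective t).trans ht
      · intro hm
        obtain ⟨a, ha⟩ := isConj_iff.1 (hyp_m22.one_class ht hm)
        exact ⟨a, mem_top a, ha⟩
    have h1 := ncard_orbit_mul (⊤ : Subgroup ↥Spor.M22) t
    rw [horb, top_inf_eq, hyp_m22.card_centralizer_two ht, card_top, hyp_m22.card, ← Nat.card_coe_set_eq] at h1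
    exact Nat.eq_of_mul_eq_mul_right (show 0 < 384 by norm_num) (h1.trans (by norm_num))
  refine eq_top_of_class M hibo (B.mem_of_centralizing D hibx) hCib (fun a ha => ?_) (fun d e hdM heM hd he hde hne => ?_)
    (by rw [hcount]; decide) fun O hOM hOodd hdvd => ?_
  · obtain ⟨m, hm, hme⟩ := hfuse0 _ (hconjx a ha) (hconj2 (isConj_iff.2 ⟨a, rfl⟩)).1
      (hconj2 (isConj_iff.2 ⟨a, rfl⟩)).2
    exact ⟨m, hm, hme⟩
  · have h1 : d * e ≠ 1 := fun h => hne (by
      rw [eq_inv_of_mul_eq_one_left h]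
      exact inv_eq_of_mul_eq_one_right (hconj2 he).1)
    obtain ⟨m, -, hm⟩ := hfuse0 (d * e) ((hDM hd hdM).mul_left (hDM he heM))
      (by rw [show d * e * (d * e) = d * (e * d) * e by group, ← hde.eq, ← mul_assoc d d, (hconj2 hd).1, one_mul,
        (hconj2 he).1]) h1
    exact isConj_iff.2 ⟨m, hm⟩
  -- no odd subgroup
  rw [hcount] at hdvd
  have hOx : ∀ o ∈ O, Commute o xb := by
    intro o ho
    rcases B.cases_zpowers D (B.mem_normalizer_iff'.1 (hOM ho)) with e | e | e
    · exact absurd (conj_eq_one_iff.1 e) hxb1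
    · exact mul_inv_eq_iff_eq_mul.1 e
    · have h2 : Commute (o ^ 2) xb := mul_inv_eq_iff_eq_mul.1 (by
        rw [show o ^ 2 * xb * (o ^ 2)⁻¹ = o * (o * xb * o⁻¹) * o⁻¹ by rw [pow_two]; group, e, ← conj_pow, e,
          ← pow_mul, show 2 * 2 = 3 + 1 from rfl, pow_succ, hxb3, one_mul])
      obtain ⟨l, hl⟩ := exists_pow_eq_self_of_coprime (x := o) (n := 2)
        (Nat.coprime_two_left.2 (hOodd.of_dvd_nat (Subgroup.orderOf_dvd_natCard O ho)))
      exact hl ▸ h2.pow_left l
  choose c hc hcb using fun o : O => (fun d => B.exists_lift D (d := d)) o.1 (hOx o o.2)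
  let θ : O →* ↥Spor.M22 := MonoidHom.mk' (fun o => p (c o)) fun o o' => by
    rw [← S.map_mul _ _ (hc o) (hc o')]
    refine (S.map_eq_of_core D.core ((hc o).mul_left (hc o')) (hc (o * o')) ((B.eq_iff _ _ ((S.central _ (hc o)).mul_left
      (S.central _ (hc o'))) (S.central _ (hc (o * o')))).1 ?_)).symm
    rw [B.map_mul _ _ (S.central _ (hc o)) (S.central _ (hc o')), hcb, hcb, hcb]
    rfl
  have hker : θ.ker.map O.subtype ≤ zpowers xb := by
    rintro _ ⟨o, ho, rfl⟩
    obtain ⟨i, j, hij⟩ := S.ker (c o) (hc o) ho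
    show (o : Γ) ∈ zpowers xb
    rw [← hcb o, hij, B.map_mul _ _ (hxz.pow_left i) ((Commute.refl z).pow_left j), B.map_pow hxz,
      (B.eq_one_iff ((Commute.refl z).pow_left j)).2 (Q.pow_mem D.core.mem j), mul_one]
    exact pow_mem (mem_zpowers xb) i
  have hk3 : Nat.card θ.ker ∣ 3 := by
    have := Subgroup.card_dvd_of_le hker
    rwa [Subgroup.card_map_of_injective O.subtype_injective, Nat.card_zpowers, hxbo] at this
  have hprod := θ.ker.card_mul_index
  rw [Subgroup.index_ker] at hprod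
  refine no_odd_385 hyp_m22 (O := θ.range) ?_ ?_
  · exact hOodd.of_dvd_nat ⟨Nat.card θ.ker, by rw [← hprod, mul_comm]⟩
  · exact ((show Nat.Coprime 385 3 by norm_num).of_dvd_right hk3).dvd_of_dvd_mul_left
      (((by norm_num : 385 ∣ 1155).trans hdvd).trans (dvd_of_eq hprod.symm))

end Cfsg.Agent.J4Type
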