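/-
The conditions of Janko-four type at the central involution of a sixfold cover of M22 (owner: helper40).

Main result (namespace `Cfsg.Agent.J4Type`):
* `QFacts.isOfJankoFourTypeWith` : they hold, with `P = ⟨x⟩`
-/
import Cfsg.Agent.Lib.J4Type.SixCoverNormal
import Cfsg.Agent.Lib.J4Type.ThreeFacts
import Cfsg.Agent.Lib.Coprime.Basic
import Cfsg.Prelude.Def_JankoFourType

set_option autoImplicit false
set_option linter.style.haveILetI false
set_option linter.unusedSectionVars false

namespace Cfsg.Agent.J4Type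

open Cfsg Subgroup Cfsg.Agent.OrderM22
open scoped Pointwise

universe u

variable {G : Type u} [Group G] [Finite G] {x z : G} {p : G → ↥Spor.M22} {y r g zy : G}
  {py : G → ↥Spor.M22} {Q : Subgroup G}

/-- An element normalising `⟨x⟩` maps `C(x)` to itself. -/
theorem commute_conj_of_normalizes {k c : G} (hk : k ∈ normalizer (zpowers x : Set G))
    (hc : Commute c x) : Commute (k * c * k⁻¹) x := by
  obtain ⟨i, hi⟩ := (mem_normalizer_iff''.1 hk x).1 (mem_zpowers x)
  have hx : k * x ^ i * k⁻¹ = x := by rw [show x ^ i = k⁻¹ * x * k from hi]; group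
  have := (hc.zpow_right i).map (MulAut.conj k).toMonoidHom
  simp only [MulEquiv.coe_toMonoidHom, MulAut.conj_apply] at this
  rwa [hx] at this

/-- The conditions of Janko-four type. -/
theorem QFacts.isOfJankoFourTypeWith (D : QFacts x z p y r g zy py Q) :
    IsOfJankoFourTypeWith z (zpowers x) := by
  classical
  haveI := simple_m22
  have S := D.conf.cover
  have F := D.core
  set H := centralizer ({z} : Set G) with hH
  have hHmem : ∀ {a : G}, a ∈ H ↔ Commute a z := fun {a} => mem_centralizer_singleton_iff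
  have hxz : Commute x z := S.comm.symm
  set X := zpowers x with hX
  set N := Q ⊔ X with hN
  have hXQ : X ≤ normalizer (Q : Set G) := by
    refine zpowers_le.2 (mem_normalizer_iff.2 fun q => ⟨F.normal x hxz q, fun h => ?_⟩)
    have := F.normal x⁻¹ hxz.inv_left _ h
    rwa [show x⁻¹ * (x * q * x⁻¹) * x⁻¹⁻¹ = q by group] at this
  have hQH : Q ≤ H := fun q hq => hHmem.2 (F.comm q hq)
  have hXH : X ≤ H := zpowers_le.2 (hHmem.2 hxz)
  have hNH : N ≤ H := sup_le hQH hXH
  have hxN : x ∈ N := mem_sup_right (mem_zpowers x)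
  -- `N` is normal in `H`
  have hconj : ∀ a, Commute a z → ∀ n ∈ N, a * n * a⁻¹ ∈ N := by
    intro a ha n hn
    have hle : N.map (MulAut.conj a).toMonoidHom ≤ N := by
      rw [hN, Subgroup.map_sup, hX, MonoidHom.map_zpowers]
      refine sup_le ?_ (zpowers_le.2 ?_)
      · rintro _ ⟨q, hq, rfl⟩
        exact mem_sup_left (F.normal a ha q hq)
      · obtain ⟨q, hq, hqa⟩ := D.normal_form ha
        show a * x * a⁻¹ ∈ _
        rw [show a * x * a⁻¹ = q⁻¹ * (q * a * x * (q * a)⁻¹) * q by group]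
        exact mul_mem (mul_mem (mem_sup_left (inv_mem hq)) (mem_sup_right hqa)) (mem_sup_left hq)
    exact hle ⟨n, hn, rfl⟩
  have hHN : H ≤ normalizer (N : Set G) := fun a ha => mem_normalizer_iff.2 fun n =>
    ⟨hconj a (hHmem.1 ha) n, fun h => by
      have := hconj a⁻¹ (hHmem.1 ha).inv_left _ h
      rwa [show a⁻¹ * (a * n * a⁻¹) * a⁻¹⁻¹ = n by group] at this⟩
  have hXcard : Nat.card X = 3 := by rw [hX, Nat.card_zpowers, S.ordx]
  have hcop : (Nat.card Q).Coprime (Nat.card X) := by rw [D.card, hXcard]; norm_num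
  have hNcard : Nat.card N = 3 * Nat.card Q := by
    rw [hN, Coprime.card_sup_of_coprime hXQ hcop, hXcard, mul_comm]
  -- the normaliser of `X` in `H`
  set K := H ⊓ normalizer (X : Set G) with hK
  have hKH : K ≤ H := inf_le_left
  have hKz : ∀ k : K, Commute (k : G) z := fun k => hHmem.1 k.2.1
  have hKc : ∀ (k : K) {c : G}, Commute c x → Commute ((k : G) * c * (k : G)⁻¹) x :=
    fun k _ hc => commute_conj_of_normalizes k.2.2 hc
  have hCK : ∀ {c : G}, Commute c x → c ∈ K := fun {c} hc => by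
    refine ⟨hHmem.2 (S.central c hc), mem_normalizer_iff.2 fun h => ⟨?_, ?_⟩⟩
    · rintro ⟨i, rfl⟩
      exact ⟨i, by rw [(hc.zpow_right i).eq, mul_inv_cancel_right]⟩
    · intro h'
      obtain ⟨i, hi⟩ := h'
      refine ⟨i, ?_⟩
      show x ^ i = h
      calc x ^ i = c⁻¹ * x ^ i * c := by rw [mul_assoc, ← (hc.zpow_right i).eq, inv_mul_cancel_left]
        _ = c⁻¹ * (c * h * c⁻¹) * c := by rw [show x ^ i = c * h * c⁻¹ from hi]
        _ = h := by group
  choose s hs hps using S.surj
  -- the action is well defined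
  have hwd : ∀ (k : K) {c c' : G}, Commute c x → Commute c' x → p c = p c' →
      p ((k : G) * c * (k : G)⁻¹) = p ((k : G) * c' * (k : G)⁻¹) := by
    intro k c c' hc hc' hp
    obtain ⟨i, j, hij⟩ := S.ker (c⁻¹ * c') (hc.inv_left.mul_left hc')
      (by rw [S.map_mul _ _ hc.inv_left hc', S.map_inv hc, hp, inv_mul_cancel])
    have he : (k : G) * c' * (k : G)⁻¹ = (k : G) * c * (k : G)⁻¹ * (((k : G) * x * (k : G)⁻¹) ^ i * z ^ j) := by
      calc (k : G) * c' * (k : G)⁻¹ = (k : G) * c * (k : G)⁻¹ * ((k : G) * (c⁻¹ * c') * (k : G)⁻¹) := by group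
        _ = _ := by
          have hz : (k : G) * z ^ j * (k : G)⁻¹ = z ^ j := by
            rw [((hKz k).pow_right j).eq, mul_inv_cancel_right]
          rw [hij, conj_pow]
          calc (k : G) * c * (k : G)⁻¹ * ((k : G) * (x ^ i * z ^ j) * (k : G)⁻¹)
              = (k : G) * c * (k : G)⁻¹ * ((k : G) * x ^ i * (k : G)⁻¹ * ((k : G) * z ^ j * (k : G)⁻¹)) := by group
            _ = _ := by rw [hz]
    obtain ⟨m, hm⟩ := (mem_normalizer_iff.1 k.2.2 x).1 (mem_zpowers x)
    have hkx : Commute ((k : G) * x * (k : G)⁻¹) x := hm ▸ (Commute.refl x).zpow_left m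
    have hp0 : p ((k : G) * x * (k : G)⁻¹) = 1 := by
      rw [← show x ^ m = (k : G) * x * (k : G)⁻¹ from hm]
      obtain ⟨n, hn⟩ := mem_powers_iff_mem_zpowers.2 (show x ^ m ∈ zpowers x from ⟨m, rfl⟩)
      rw [← show x ^ n = x ^ m from hn, S.map_pow (Commute.refl x), S.map_x, one_pow]
    rw [he, S.map_mul _ _ (hKc k hc) ((hkx.pow_left i).mul_left (S.comm.pow_left j)),
      S.map_mul _ _ (hkx.pow_left i) (S.comm.pow_left j), S.map_pow hkx, S.map_pow S.comm, hp0, S.map_z,
      one_pow, one_pow, one_mul, mul_one]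
  let act : K → ↥Spor.M22 → ↥Spor.M22 := fun k m => p ((k : G) * s m * (k : G)⁻¹)
  have hact : ∀ (k : K) {c : G}, Commute c x → act k (p c) = p ((k : G) * c * (k : G)⁻¹) :=
    fun k c hc => hwd k (hs _) hc (hps _)
  have act_mul : ∀ k m m', act k (m * m') = act k m * act k m' := by
    intro k m m'
    conv_lhs => rw [← hps m, ← hps m', ← S.map_mul _ _ (hs m) (hs m'), hact k ((hs m).mul_left (hs m'))]
    rw [show (k : G) * (s m * s m') * (k : G)⁻¹ = (k : G) * s m * (k : G)⁻¹ * ((k : G) * s m' * (k : G)⁻¹) by group,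
      S.map_mul _ _ (hKc k (hs m)) (hKc k (hs m'))]
  have act_comp : ∀ (k k' : K) m, act (k * k') m = act k (act k' m) := by
    intro k k' m
    show _ = act k (p ((k' : G) * s m * (k' : G)⁻¹))
    rw [hact k (hKc k' (hs m))]
    exact congrArg p (by rw [Subgroup.coe_mul]; group)
  have act_one : ∀ m, act 1 m = m := fun m => by
    show p _ = m
    rw [Subgroup.coe_one, inv_one, one_mul, mul_one, hps]
  let φ : K →* MulAut ↥Spor.M22 :=
    { toFun := fun k =>
        { toFun := act k
          invFun := act k⁻¹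
          left_inv := fun m => by rw [← act_comp, inv_mul_cancel, act_one]
          right_inv := fun m => by rw [← act_comp, mul_inv_cancel, act_one]
          map_mul' := act_mul k }
      map_one' := MulEquiv.ext act_one
      map_mul' := fun k k' => MulEquiv.ext (act_comp k k') }
  -- its kernel
  have hker : ∀ k : K, φ k = 1 ↔ Commute (k : G) x ∧ p k = 1 := by
    intro k
    constructor
    · intro hk
      have hfix : ∀ {c : G}, Commute c x → p ((k : G) * c * (k : G)⁻¹) = p c := fun {c} hc => by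
        rw [← hact k hc, show act k (p c) = φ k (p c) from rfl, hk]
        rfl
      have hkC : ∀ {c : G}, Commute c x → Commute (k : G) c := by
        suffices centralizer ({x} : Set G) ≤ centralizer ({(k : G)} : Set G) from fun {c} hc =>
          (mem_centralizer_singleton_iff.1 (this (mem_centralizer_singleton_iff.2 hc.eq)) : c * k = k * c).symm
        have hu : ∀ {c : G}, Commute c x → ∃ u, (k : G) * c * (k : G)⁻¹ = c * u ∧
            ∀ b, Commute b x → Commute u b := by
          intro c hc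
          obtain ⟨i, j, hij⟩ := S.ker (c⁻¹ * ((k : G) * c * (k : G)⁻¹)) (hc.inv_left.mul_left (hKc k hc))
            (by rw [S.map_mul _ _ hc.inv_left (hKc k hc), S.map_inv hc, hfix hc, inv_mul_cancel])
          exact ⟨x ^ i * z ^ j, by rw [← hij, mul_inv_cancel_left],
            fun b hb => (hb.symm.pow_left i).mul_left ((S.central b hb).symm.pow_left j)⟩
        rw [← S.perf, commutator_le]
        intro a ha b hb
        replace ha : Commute a x := mem_centralizer_singleton_iff.1 ha
        replace hb : Commute b x := mem_centralizer_singleton_iff.1 hb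
        obtain ⟨u, hua, hu'⟩ := hu ha
        obtain ⟨v, hvb, hv'⟩ := hu hb
        refine mem_centralizer_singleton_iff.2 (mul_inv_eq_iff_eq_mul.1 ?_).symm
        rw [commutatorElement_def,
          show (k : G) * (a * b * a⁻¹ * b⁻¹) * (k : G)⁻¹ =
            ((k : G) * a * (k : G)⁻¹) * ((k : G) * b * (k : G)⁻¹) * ((k : G) * a * (k : G)⁻¹)⁻¹ *
              ((k : G) * b * (k : G)⁻¹)⁻¹ by group, hua, hvb]
        have huv : Commute u v := by
          have hux : Commute (a⁻¹ * ((k : G) * a * (k : G)⁻¹)) x := ha.inv_left.mul_left (hKc k ha)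
          rw [hua, inv_mul_cancel_left] at hux
          exact (hv' u hux).symm
        calc a * u * (b * v) * (a * u)⁻¹ * (b * v)⁻¹ = a * (u * b) * v * u⁻¹ * a⁻¹ * v⁻¹ * b⁻¹ := by group
          _ = a * (b * u) * v * u⁻¹ * a⁻¹ * v⁻¹ * b⁻¹ := by rw [(hu' b hb).eq]
          _ = a * b * (u * v) * u⁻¹ * a⁻¹ * v⁻¹ * b⁻¹ := by group
          _ = a * b * (v * u) * u⁻¹ * a⁻¹ * v⁻¹ * b⁻¹ := by rw [huv.eq]
          _ = a * b * (v * a⁻¹) * v⁻¹ * b⁻¹ := by group
          _ = a * b * (a⁻¹ * v) * v⁻¹ * b⁻¹ := by rw [(hv' a⁻¹ ha.inv_left).eq]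
          _ = _ := by group
      have hkx : Commute (k : G) x := hkC (Commute.refl x)
      refine ⟨hkx, inner_injective ?_⟩
      rw [map_one]
      refine MulEquiv.ext fun m => ?_
      obtain ⟨c, hc, rfl⟩ := S.surj m
      rw [inner_apply, ← S.map_conj hkx hc, (hkC hc).eq, mul_inv_cancel_right]
      rfl
    · rintro ⟨hkx, hk⟩
      refine MulEquiv.ext fun m => ?_
      show act k m = m
      rw [← hps m, hact k (hs m), S.map_conj hkx (hs m), hk, inv_one, one_mul, mul_one]
  -- its image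
  have hxz6 : orderOf (x * z) = 6 := by
    rw [hxz.orderOf_mul_eq_mul_orderOf_of_coprime (by rw [S.ordx, S.ordz]; norm_num), S.ordx, S.ordz]
  have hkerK : φ.ker.map K.subtype = zpowers (x * z) := by
    refine le_antisymm ?_ (zpowers_le.2 ?_)
    · rintro _ ⟨k, hk, rfl⟩
      obtain ⟨i, j, hij⟩ := S.ker _ ((hker k).1 hk).1 ((hker k).1 hk).2
      show (k : G) ∈ _
      rw [hij]
      have hpow : ∀ n : ℕ, (x * z) ^ n ∈ zpowers (x * z) := fun n => pow_mem (mem_zpowers _) n
      refine mul_mem (pow_mem ?_ i) (pow_mem ?_ j)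
      · have := hpow 4
        rwa [hxz.mul_pow, show x ^ 4 = x by rw [pow_succ, S.x3, one_mul],
          show z ^ 4 = 1 by rw [show 4 = 2 * 2 from rfl, pow_mul, pow_two z, S.z2, one_pow], mul_one] at this
      · have := hpow 3
        rwa [hxz.mul_pow, S.x3, one_mul, pow_succ, pow_two, S.z2, one_mul] at this
    · have hc : Commute (x * z) x := (Commute.refl x).mul_left S.comm
      refine ⟨⟨x * z, hCK hc⟩, (hker _).2 ⟨hc, ?_⟩, rfl⟩
      rw [S.map_mul x z (Commute.refl x) S.comm, S.map_x, S.map_z, one_mul]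
  have hgK : g ∈ K := by
    refine ⟨hHmem.2 D.conf.gz, mem_normalizer_iff.2 fun h => ?_⟩
    have hgi : g⁻¹ * x⁻¹ * g = x := by rw [← D.conf.inverts]; group
    constructor
    · rintro ⟨i, rfl⟩
      exact ⟨-i, by rw [← conj_zpow, D.conf.inverts, inv_zpow']⟩
    · rintro ⟨i, hi⟩
      refine ⟨-i, ?_⟩
      show x ^ (-i) = h
      calc x ^ (-i) = (g⁻¹ * x⁻¹ * g⁻¹⁻¹) ^ (-i) := by rw [inv_inv, hgi]
        _ = g⁻¹ * x ^ i * g⁻¹⁻¹ := by rw [conj_zpow, inv_zpow', neg_neg]
        _ = g⁻¹ * (g * h * g⁻¹) * g⁻¹⁻¹ := by rw [show x ^ i = g * h * g⁻¹ from hi]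
        _ = h := by group
  have hKcard : Nat.card K = 2 * 2661120 := by
    set C := centralizer ({x} : Set G) with hC
    have hCle : C ≤ K := fun c hc => hCK (mem_centralizer_singleton_iff.1 hc)
    have hidx : (C.subgroupOf K).index = 2 := by
      refine index_eq_two_iff.2 ⟨⟨g, hgK⟩, fun b => ?_⟩
      simp only [mem_subgroupOf, Subgroup.coe_mul]
      obtain ⟨m, hm⟩ := (mem_normalizer_iff.1 b.2.2 x).1 (mem_zpowers x)
      replace hm : x ^ m = (b : G) * x * (b : G)⁻¹ := hm
      have hx2 : x⁻¹ ≠ x := fun h => S.x_ne (by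
        have h2 : x * x = 1 := by nth_rewrite 2 [← h]; rw [mul_inv_cancel]
        have := S.x3
        rwa [pow_succ, pow_two, h2, one_mul] at this)
      have hbg : ((b : G) * g) * x * ((b : G) * g)⁻¹ = ((b : G) * x * (b : G)⁻¹)⁻¹ := by
        rw [show (b : G) * g * x * ((b : G) * g)⁻¹ = (b : G) * (g * x * g⁻¹) * (b : G)⁻¹ by group,
          D.conf.inverts]
        group
      have hmem : ∀ a : G, a ∈ C ↔ a * x * a⁻¹ = x := fun a => by
        rw [hC, mem_centralizer_singleton_iff, mul_inv_eq_iff_eq_mul]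
      rw [hmem, hmem, hbg]
      have hne : (b : G) * x * (b : G)⁻¹ ≠ 1 := fun h => S.x_ne (conj_eq_one_iff.1 h)
      obtain ⟨n, hn, hn3⟩ : ∃ n : ℕ, x ^ n = x ^ m ∧ n < 3 := ⟨(m % 3).toNat, by
        rw [← zpow_natCast, Int.toNat_of_nonneg (Int.emod_nonneg m (by norm_num)),
          show (3 : ℤ) = ((orderOf x : ℕ) : ℤ) by rw [S.ordx]; rfl, zpow_mod_orderOf], by omega⟩
      rw [hm] at hn
      rcases (show n = 0 ∨ n = 1 ∨ n = 2 by omega) with rfl | rfl | rfl
      · exact absurd (by rw [← hn, pow_zero]) hne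
      · rw [pow_one] at hn
        exact Or.inr ⟨hn.symm, by rw [← hn]; exact hx2⟩
      · have hxx : x ^ 2 = x⁻¹ := eq_inv_of_mul_eq_one_left (by rw [← pow_succ]; exact S.x3)
        rw [hxx] at hn
        exact Or.inl ⟨by rw [← hn, inv_inv], by rw [← hn]; exact hx2⟩
    rw [← (C.subgroupOf K).card_mul_index, hidx, Nat.card_congr (subgroupOfEquivOfLe hCle).toEquiv,
      S.card_centralizer, mul_comm]
  have hsurj : Function.Surjective φ := by
    refine MonoidHom.range_eq_top.1 (eq_top_of_card_eq _ ?_)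
    have h := φ.ker.card_mul_index
    rw [index_ker, ← Subgroup.card_map_of_injective K.subtype_injective, hkerK, Nat.card_zpowers, hxz6,
      hKcard] at h
    rw [natCard_aut]
    omega
  -- the quotient
  set N' := N.subgroupOf H with hN'
  haveI hnorm : N'.Normal := ⟨fun n hn a => hconj a (hHmem.1 a.2) n hn⟩
  let ρ : K →* H ⧸ N' := (QuotientGroup.mk' N').comp (inclusion hKH)
  have hρker : ∀ k : K, ρ k = 1 ↔ (k : G) ∈ N := fun k => by
    rw [MonoidHom.comp_apply, QuotientGroup.mk'_apply, QuotientGroup.eq_one_iff]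
    rfl
  have heq : ρ.ker = φ.ker := by
    ext k
    rw [MonoidHom.mem_ker, MonoidHom.mem_ker, hρker, hker]
    constructor
    · intro hk
      have hk' : (k : G) ∈ ((X ⊔ Q : Subgroup G) : Set G) := by rw [sup_comm]; exact hk
      rw [coe_mul_of_left_le_normalizer_right X Q hXQ] at hk'
      obtain ⟨a, ha, q, hq, haq⟩ := hk'
      replace haq : a * q = (k : G) := haq
      obtain ⟨i, rfl⟩ := ha
      have hcx : Commute (x ^ i) x := (Commute.refl x).zpow_left i
      have hqK : q ∈ normalizer (X : Set G) := by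
        rw [show q = (x ^ i)⁻¹ * (k : G) by rw [← haq]; group]
        exact mul_mem (inv_mem ((hCK hcx).2)) k.2.2
      have h1 : q * x * q⁻¹ * x⁻¹ ∈ X :=
        mul_mem ((mem_normalizer_iff.1 hqK x).1 (mem_zpowers x)) (inv_mem (mem_zpowers x))
      have h2 : q * x * q⁻¹ * x⁻¹ ∈ Q := by
        rw [show q * x * q⁻¹ * x⁻¹ = q * (x * q⁻¹ * x⁻¹) by group]
        exact mul_mem hq (F.normal x hxz _ (inv_mem hq))
      have h3 : q * x * q⁻¹ * x⁻¹ ∈ (Q ⊓ X : Subgroup G) := ⟨h2, h1⟩
      rw [(disjoint_of_coprime_natCard hcop).eq_bot, mem_bot, mul_inv_eq_one] at h3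
      have hqx : Commute q x := mul_inv_eq_iff_eq_mul.1 h3
      refine ⟨haq ▸ hcx.mul_left hqx, ?_⟩
      rw [← haq, S.map_mul _ _ hcx hqx]
      obtain ⟨n, hn⟩ := mem_powers_iff_mem_zpowers.2 (show x ^ i ∈ zpowers x from ⟨i, rfl⟩)
      rw [← show x ^ n = x ^ i from hn, S.map_pow (Commute.refl x), S.map_x, one_pow, one_mul]
      rcases S.fixed F hq hqx with rfl | rfl
      exacts [S.map_one, S.map_z]
    · rintro ⟨hkx, hk⟩
      obtain ⟨i, j, hij⟩ := S.ker _ hkx hk
      rw [hij]
      exact mul_mem (pow_mem hxN i) (pow_mem (mem_sup_left F.mem) j)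
  have hρs : Function.Surjective ρ := by
    intro a
    obtain ⟨⟨a, ha⟩, rfl⟩ := QuotientGroup.mk_surjective a
    obtain ⟨q, hq, hqa⟩ := D.normal_form (hHmem.1 ha)
    have hqaH : q * a ∈ H := mul_mem (hQH hq) ha
    have hnx : q * a ∈ normalizer (X : Set G) := by
      have hle : X.map (MulAut.conj (q * a)).toMonoidHom ≤ X := by
        rw [hX, MonoidHom.map_zpowers]
        exact zpowers_le.2 hqa
      have he : X.map (MulAut.conj (q * a)).toMonoidHom = X := eq_of_le_of_card_ge hle (by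
        rw [Subgroup.card_map_of_injective (MulAut.conj (q * a)).injective])
      refine mem_normalizer_iff.2 fun n => ?_
      conv_rhs => rw [← he]
      exact (Subgroup.mem_map_iff_mem (MulAut.conj (q * a)).injective).symm
    refine ⟨⟨q * a, hqaH, hnx⟩, ?_⟩
    rw [MonoidHom.comp_apply, QuotientGroup.mk'_apply, eq_comm, QuotientGroup.eq, hN', mem_subgroupOf]
    show a⁻¹ * (q * a) ∈ N
    rw [show a⁻¹ * (q * a) = a⁻¹ * q * a⁻¹⁻¹ by group]
    exact hconj _ (hHmem.1 ha).inv_left q (mem_sup_left hq)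
  have hiso : Nonempty (H ⧸ N' ≃* MulAut ↥Spor.M22) :=
    ⟨(QuotientGroup.quotientKerEquivOfSurjective ρ hρs).symm.trans
      ((QuotientGroup.quotientMulEquivOfEq heq).trans (QuotientGroup.quotientKerEquivOfSurjective φ hsurj))⟩
  -- the conditions
  have hCX : ∀ {a : G}, a ∈ centralizer (X : Set G) ↔ Commute a x := fun {a} => by
    rw [hX, zpowers_eq_closure, centralizer_closure, mem_centralizer_singleton_iff]
    rfl
  have hHC : H ⊓ centralizer (X : Set G) = centralizer ({x} : Set G) := by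
    ext a
    rw [mem_inf, hCX, hHmem, mem_centralizer_singleton_iff]
    exact ⟨fun h => h.2.eq, fun h => ⟨S.central a h, h⟩⟩
  obtain rfl := D.core.eq
  refine ⟨S.ordz, D.extra, D.card, fun a ha => ?_, ⟨N, le_sup_left, hNH, hHN, hNcard, ⟨hnorm, hiso⟩,
    le_sup_right⟩, hXcard, ?_, fun h => ?_, ?_⟩
  · exact F.self a (hHmem.1 ha.1) fun q hq => (mem_centralizer_iff.1 ha.2 q hq).symm
  · refine le_antisymm (fun q hq => ?_) (zpowers_le.2 ⟨F.mem, hCX.2 S.comm⟩)
    rcases S.fixed F hq.1 (hCX.1 hq.2) with rfl | rfl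
    exacts [one_mem _, mem_zpowers _]
  · have hg : g ∈ H ⊓ centralizer (X : Set G) := h ▸ hgK
    have h1 := D.conf.inverts
    rw [(hCX.1 hg.2).eq, mul_inv_cancel_right] at h1
    refine S.x_ne ?_
    have h2 : x * x = 1 := by nth_rewrite 2 [h1]; rw [mul_inv_cancel]
    have := S.x3
    rwa [pow_succ, pow_two, h2, one_mul] at this
  · rw [hHC, S.perf]
    exact zpowers_le.2 (mem_centralizer_singleton_iff.2 rfl)

end Cfsg.Agent.J4Type
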