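import Cfsg.Agent.Lib.J4Type.Setup
import Cfsg.Agent.Lib.J4Type.Scalar
import Cfsg.Agent.Lib.LargeExtraspecial.OutForm
import Cfsg.Agent.Lib.Extraspecial.Basic

/-!
`W = E / Z(E)` as a symplectic space with the action of the centraliser, and as a space over the
field with four elements (helper19).

* `Setting.WS`, `pr`, `qS`, `beta`, `rho`
* `rho_eq_one_iff` : the kernel of the action is `E`
* `rho_inner`, `rho_outer` : the linear and the semilinear elements
* `innerH`, `rhoK` : the linear ones as endomorphisms over `K4`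
* `mem_commutator_of_central`, `Setting.gen_mem_commutator` : `gen` lies in the derived group of any
  subgroup containing a Sylow 3-subgroup of the centraliser of `P`
-/

set_option autoImplicit false
set_option linter.style.haveILetI false
set_option linter.unusedSectionVars false
open scoped commutatorElement
open Cfsg Subgroup

namespace Cfsg.Agent.J4Type

open LargeExtraspecial

/-- A central `p`-element of the derived group lies in the derived group of a subgroup of index prime to it. -/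
theorem mem_commutator_of_central {K : Type*} [Group K] [Finite K] (R : Subgroup K) {x : K} (hxR : x ∈ R)
    (hxc : ∀ k : K, k * x = x * k) (hx : x ∈ commutator K) (hcop : (orderOf x).Coprime R.index) :
    (⟨x, hxR⟩ : ↥R) ∈ commutator ↥R := by
  have key : ∀ (k : ℕ) (g₀ : K), g₀⁻¹ * x ^ k * g₀ ∈ R → g₀⁻¹ * x ^ k * g₀ = x ^ k := by
    intro k g₀ _
    rw [mul_assoc, ← ((show Commute g₀ x from hxc g₀).pow_right k).eq, inv_mul_cancel_left]
  have h1 := MonoidHom.transfer_eq_pow (Abelianization.of (G := ↥R)) x key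
  have h2 : MonoidHom.transfer (Abelianization.of (G := ↥R)) x = 1 :=
    Abelianization.commutator_subset_ker _ hx
  rw [h2] at h1
  have h3 : (⟨x, hxR⟩ : ↥R) ^ R.index ∈ commutator ↥R := by
    rw [← Abelianization.ker_of, MonoidHom.mem_ker]
    exact (congrArg Abelianization.of (Subtype.ext (by simp))).trans h1.symm
  have hn : Nat.Coprime (orderOf (⟨x, hxR⟩ : ↥R)) R.index := by rwa [Subgroup.orderOf_mk]
  obtain ⟨m, hm⟩ := exists_pow_eq_self_of_coprime hn.symm
  rw [← hm]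
  exact pow_mem h3 m

namespace Setting

variable {G : Type*} [Group G] [Finite G] {z : G} {P : Subgroup G} (S : Setting z P)
include S

theorem fact : Fact (IsExtraspecial 2 ↥(Ez z)) := ⟨S.extra⟩

/-- The space `E / Z(E)`. -/
def WS (_S : Setting z P) : Type _ := Additive (↥(Ez z) ⧸ Subgroup.center ↥(Ez z))

noncomputable instance instAddCommGroupWS : AddCommGroup S.WS :=
  haveI := S.fact
  inferInstanceAs (AddCommGroup (OutForm.Vm ↥(Ez z)))

noncomputable instance instModuleWS : Module (ZMod 2) S.WS :=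
  haveI := S.fact
  inferInstanceAs (Module (ZMod 2) (OutForm.Vm ↥(Ez z)))

instance instFiniteWS : Finite S.WS :=
  inferInstanceAs (Finite (Additive (↥(Ez z) ⧸ Subgroup.center ↥(Ez z))))

/-- The projection. -/
def pr (e : ↥(Ez z)) : S.WS := OutForm.pr e

theorem pr_surjective : Function.Surjective S.pr :=
  haveI := S.fact
  OutForm.pr_surjective

theorem exists_pr (w : S.WS) : ∃ e, ∃ he : e ∈ Ez z, S.pr ⟨e, he⟩ = w := by
  obtain ⟨⟨e, he⟩, h⟩ := S.pr_surjective w
  exact ⟨e, he, h⟩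

theorem pr_mul (a b : ↥(Ez z)) : S.pr (a * b) = S.pr a + S.pr b :=
  haveI := S.fact
  OutForm.pr_mul a b

theorem pr_one : S.pr 1 = 0 :=
  haveI := S.fact
  rfl

theorem mem_center_iff' (e : ↥(Ez z)) :
    e ∈ Subgroup.center ↥(Ez z) ↔ (e : G) = 1 ∨ (e : G) = z := by
  refine ⟨fun h => S.center_cases e.2 fun a ha => congrArg Subtype.val (mem_center_iff.1 h ⟨a, ha⟩), ?_⟩
  rintro (h | h) <;> refine mem_center_iff.2 fun a => Subtype.ext ?_ <;>
    rw [Subgroup.coe_mul, Subgroup.coe_mul, h]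
  · simp
  · exact S.data.z_central _ a.2

theorem pr_eq_zero (e : ↥(Ez z)) : S.pr e = 0 ↔ (e : G) = 1 ∨ (e : G) = z :=
  haveI := S.fact
  OutForm.pr_eq_zero.trans (S.mem_center_iff' e)

theorem pr_inv (e : ↥(Ez z)) : S.pr e⁻¹ = S.pr e :=
  haveI := S.fact
  OutForm.pr_inv e

theorem pr_eq_iff (a b : ↥(Ez z)) : S.pr a = S.pr b ↔ (a : G) = b ∨ (a : G) = b * z := by
  rw [← sub_eq_zero, ZModModule.sub_eq_add, ← S.pr_inv b, add_comm, ← S.pr_mul, S.pr_eq_zero,
    Subgroup.coe_mul, InvMemClass.coe_inv, inv_mul_eq_one, inv_mul_eq_iff_eq_mul, eq_comm]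

/-- The squaring form. -/
noncomputable def qS : QuadraticForm (ZMod 2) S.WS :=
  haveI := S.fact
  OutForm.qf ↥(Ez z)

/-- The commutator form. -/
noncomputable def beta : LinearMap.BilinForm (ZMod 2) S.WS := QuadraticMap.polarBilin S.qS

theorem qS_pr (e : ↥(Ez z)) : S.qS (S.pr e) = 0 ↔ (e : G) * e = 1 := by
  haveI := S.fact
  have h : S.qS (S.pr e) = OutForm.eps (e * e) := OutForm.qf_apply e
  rw [h, ← OutForm.eps_one (E := ↥(Ez z))]
  exact ⟨fun h => congrArg Subtype.val (OutForm.eps_inj (OutForm.sq_mem e) (one_mem _) h),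
    fun h => congrArg OutForm.eps (Subtype.ext h)⟩

theorem qS_pr_one (e : ↥(Ez z)) : S.qS (S.pr e) = 1 ↔ (e : G) * e = z := by
  have h := S.qS_pr e
  rcases OutForm.two_cases (S.qS (S.pr e)) with h0 | h0
  · rw [h0, h.1 h0]
    exact ⟨fun h => absurd h (by decide), fun h => absurd h.symm S.z_ne⟩
  · refine ⟨fun _ => (S.data.sq e.2).resolve_left fun h1 => ?_, fun _ => h0⟩
    rw [h.2 h1] at h0
    exact absurd h0 (by decide)

theorem beta_apply (v w : S.WS) : S.beta v w = S.qS (v + w) - S.qS v - S.qS w := rfl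

theorem beta_pr (a b : ↥(Ez z)) : S.beta (S.pr a) (S.pr b) = 0 ↔ (a : G) * b = b * a := by
  haveI := S.fact
  have h : S.beta (S.pr a) (S.pr b) = OutForm.eps ⁅a, b⁆ := OutForm.polar_pr a b
  rw [h, ← OutForm.eps_one (E := ↥(Ez z))]
  refine ⟨fun h => ?_, fun h => congrArg OutForm.eps (commutatorElement_eq_one_iff_mul_comm.2 (Subtype.ext h))⟩
  exact congrArg Subtype.val
    (commutatorElement_eq_one_iff_mul_comm.1 (OutForm.eps_inj (OutForm.comm_mem a b) (one_mem _) h))

theorem beta_pr_one (a b : ↥(Ez z)) :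
    S.beta (S.pr a) (S.pr b) = 1 ↔ (a : G) * b * (a : G)⁻¹ = b * z := by
  have h := S.beta_pr a b
  constructor
  · intro h1
    have hne : (a : G) * b ≠ b * a := fun e => by
      rw [h.2 e] at h1; exact absurd h1 (by decide)
    rcases S.data.comm a a.2 b b.2 with e | e
    · exact absurd (commutatorElement_eq_one_iff_mul_comm.1 e) hne
    · calc (a : G) * b * (a : G)⁻¹ = ⁅(a : G), (b : G)⁆ * b := by rw [commutatorElement_def]; group
        _ = b * z := by rw [e, S.data.z_central b b.2]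
  · intro h1
    rcases OutForm.two_cases (S.beta (S.pr a) (S.pr b)) with h0 | h0
    · exfalso
      rw [h.1 h0, mul_inv_cancel_right] at h1
      exact S.z_ne (mul_eq_left.1 h1.symm)
    · exact h0

theorem beta_self (v : S.WS) : S.beta v v = 0 := by
  obtain ⟨a, rfl⟩ := S.pr_surjective v
  exact (S.beta_pr a a).2 rfl

theorem beta_comm (v w : S.WS) : S.beta v w = S.beta w v := by
  rw [S.beta_apply, S.beta_apply, add_comm v w]; abel

theorem qS_add (v w : S.WS) : S.qS (v + w) = S.qS v + S.qS w + S.beta v w := by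
  rw [S.beta_apply]; abel

theorem beta_nondeg (v : S.WS) (h : ∀ w, S.beta v w = 0) : v = 0 := by
  obtain ⟨a, rfl⟩ := S.pr_surjective v
  exact (S.pr_eq_zero a).2 (S.center_cases a.2 fun e he => ((S.beta_pr a ⟨e, he⟩).1 (h _)).symm)

theorem card_WS : Nat.card S.WS = 2 ^ 12 :=
  haveI := S.fact
  OutForm.card_Vm (E := ↥(Ez z)) (n := 6) S.card_E

/-- Conjugation on `E`. -/
def conjE (h : ↥(Cz z)) : MulAut ↥(Ez z) where
  toFun e := ⟨(h : G) * e * (h : G)⁻¹, conj_mem_Ez h.2 e.2⟩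
  invFun e := ⟨(h : G)⁻¹ * e * (h : G), by simpa using conj_mem_Ez (inv_mem h.2) e.2⟩
  left_inv e := Subtype.ext (by simp [mul_assoc])
  right_inv e := Subtype.ext (by simp [mul_assoc])
  map_mul' e f := Subtype.ext (by simp [mul_assoc])

/-- The action on `W`. -/
noncomputable def rho : ↥(Cz z) →* (S.WS ≃ₗ[ZMod 2] S.WS) where
  toFun h :=
    haveI := S.fact
    OutForm.actLin (conjE h)
  map_one' := by
    haveI := S.fact
    refine LinearEquiv.ext fun v => ?_
    obtain ⟨e, rfl⟩ := S.pr_surjective v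
    show OutForm.actLin (conjE 1) (OutForm.pr e) = OutForm.pr e
    rw [OutForm.actLin_pr]
    congr 1
    exact Subtype.ext (by simp [conjE])
  map_mul' g h := by
    haveI := S.fact
    refine LinearEquiv.ext fun v => ?_
    obtain ⟨e, rfl⟩ := S.pr_surjective v
    show OutForm.actLin (conjE (g * h)) (OutForm.pr e) =
      OutForm.actLin (conjE g) (OutForm.actLin (conjE h) (OutForm.pr e))
    rw [OutForm.actLin_pr, OutForm.actLin_pr, OutForm.actLin_pr]
    congr 1
    exact Subtype.ext (by simp [conjE, mul_assoc])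

theorem rho_pr (h : ↥(Cz z)) (e : ↥(Ez z)) :
    S.rho h (S.pr e) = S.pr ⟨(h : G) * e * (h : G)⁻¹, conj_mem_Ez h.2 e.2⟩ :=
  haveI := S.fact
  OutForm.actLin_pr (conjE h) e

theorem qS_rho (h : ↥(Cz z)) (v : S.WS) : S.qS (S.rho h v) = S.qS v :=
  haveI := S.fact
  ((OutForm.act ↥(Ez z)) (conjE h)).2 v

theorem beta_rho (h : ↥(Cz z)) (v w : S.WS) : S.beta (S.rho h v) (S.rho h w) = S.beta v w := by
  rw [S.beta_apply, S.beta_apply, ← map_add, S.qS_rho, S.qS_rho, S.qS_rho]

theorem rho_fix_iff (h : ↥(Cz z)) (e : ↥(Ez z)) :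
    S.rho h (S.pr e) = S.pr e ↔ (h : G) * e * (h : G)⁻¹ = e ∨ (h : G) * e * (h : G)⁻¹ = e * z := by
  rw [S.rho_pr, S.pr_eq_iff]

theorem rho_of_mem {h : ↥(Cz z)} (hh : (h : G) ∈ Ez z) : S.rho h = 1 := by
  refine LinearEquiv.ext fun v => ?_
  obtain ⟨e, rfl⟩ := S.pr_surjective v
  show S.rho h (S.pr e) = S.pr e
  rw [S.rho_fix_iff]
  rcases S.data.comm _ hh e e.2 with e' | e'
  · exact Or.inl (mul_inv_eq_iff_eq_mul.2 (commutatorElement_eq_one_iff_mul_comm.1 e'))
  · refine Or.inr ?_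
    calc (h : G) * e * (h : G)⁻¹ = ⁅(h : G), (e : G)⁆ * e := by rw [commutatorElement_def]; group
      _ = e * z := by rw [e', S.data.z_central e e.2]

theorem rho_eq_one_iff (h : ↥(Cz z)) : S.rho h = 1 ↔ (h : G) ∈ Ez z := by
  refine ⟨fun h1 => ?_, S.rho_of_mem⟩
  haveI := S.fact
  have h2 : conjE h ∈ (OutForm.act ↥(Ez z)).ker := by
    rw [MonoidHom.mem_ker]
    exact Subtype.ext h1
  rw [OutForm.ker_eq] at h2
  obtain ⟨e, he⟩ := h2
  have h3 : (e : G)⁻¹ * h ∈ Ez z := by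
    refine S.cent_E _ (mul_mem (inv_mem (Ez_le_Cz z e.2)) h.2) fun a ha => ?_
    have := congrArg Subtype.val (MulEquiv.ext_iff.1 he ⟨a, ha⟩)
    have h4 : (e : G) * a * (e : G)⁻¹ = (h : G) * a * (h : G)⁻¹ := this
    calc a * ((e : G)⁻¹ * h) = (e : G)⁻¹ * ((e : G) * a * (e : G)⁻¹) * h := by group
      _ = (e : G)⁻¹ * h * a := by rw [h4]; group
  simpa using mul_mem e.2 h3

/-- The operator of the generator. -/
noncomputable def omega : Module.End (ZMod 2) S.WS := (S.rho ⟨S.gen, S.gen_mem⟩).toLinearMap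

theorem omega_apply (v : S.WS) : S.omega v = S.rho ⟨S.gen, S.gen_mem⟩ v := rfl

theorem omega_fix {v : S.WS} (h : S.omega v = v) : v = 0 := by
  obtain ⟨e, rfl⟩ := S.pr_surjective v
  rw [omega_apply, S.rho_fix_iff] at h
  refine (S.pr_eq_zero e).2 (S.fix e e.2 ?_)
  rcases h with h | h
  · exact (mul_inv_eq_iff_eq_mul.1 h).symm
  · exfalso
    replace h : S.gen * e * S.gen⁻¹ = e * z := h
    have hz : ∀ a : G, a ∈ Ez z → a * z = z * a := fun a ha => S.data.z_central a ha
    have hg : S.gen * z = z * S.gen := mem_Cz.1 S.gen_mem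
    have h1 : S.gen * z * S.gen⁻¹ = z := mul_inv_eq_iff_eq_mul.2 hg
    have h2 : S.gen ^ 2 * e * (S.gen ^ 2)⁻¹ = e := by
      calc S.gen ^ 2 * e * (S.gen ^ 2)⁻¹ = S.gen * (S.gen * e * S.gen⁻¹) * S.gen⁻¹ := by
            rw [sq]; group
        _ = S.gen * (e * z) * S.gen⁻¹ := by rw [h]
        _ = (S.gen * e * S.gen⁻¹) * (S.gen * z * S.gen⁻¹) := by group
        _ = e * (z * z) := by rw [h, h1, mul_assoc]
        _ = e := by rw [S.z_sq, mul_one]
    have h3 : S.gen ^ 3 * e * (S.gen ^ 3)⁻¹ = e * z := by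
      calc S.gen ^ 3 * e * (S.gen ^ 3)⁻¹ = S.gen * (S.gen ^ 2 * e * (S.gen ^ 2)⁻¹) * S.gen⁻¹ := by group
        _ = _ := by rw [h2, h]
    rw [S.gen_cube] at h3
    exact S.z_ne (mul_eq_left.1 (h3.symm.trans (by simp)))

theorem omega_cube : S.omega * S.omega * S.omega = 1 := by
  refine LinearMap.ext fun v => ?_
  show S.rho _ (S.rho _ (S.rho _ v)) = v
  rw [← LinearEquiv.mul_apply, ← LinearEquiv.mul_apply, ← map_mul, ← map_mul]
  have : (⟨S.gen, S.gen_mem⟩ : ↥(Cz z)) * ⟨S.gen, S.gen_mem⟩ * ⟨S.gen, S.gen_mem⟩ = 1 :=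
    Subtype.ext (by simpa [pow_succ] using S.gen_cube)
  rw [this, map_one]; rfl

theorem omega_relation : S.omega * S.omega + S.omega + 1 = 0 :=
  opHom_relation S.omega_cube fun _ h => S.omega_fix h

theorem omega_sum (v : S.WS) : S.omega (S.omega v) = S.omega v + v := by
  have h : S.omega (S.omega v) + S.omega v + v = 0 := DFunLike.congr_fun S.omega_relation v
  rw [add_assoc] at h
  rw [eq_neg_of_add_eq_zero_left h, ZModModule.neg_eq_self]

noncomputable instance instModuleK4 : Module K4 S.WS :=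
  Module.compHom S.WS (opHom S.omega S.omega_relation)

theorem smul_def' (c : K4) (v : S.WS) : c • v = opHom S.omega S.omega_relation c v := rfl

theorem zeta_smul (v : S.WS) : K4.zeta • v = S.omega v := by
  rw [S.smul_def', opHom_zeta]

theorem finrank_WS : Module.finrank K4 S.WS = 6 := by
  have h := natCard_eq_four_pow (U := S.WS)
  rw [S.card_WS] at h
  exact Nat.pow_right_injective (le_refl 2) (by
    rw [show (4 : ℕ) = 2 ^ 2 by norm_num, ← pow_mul] at h
    show 2 ^ Module.finrank K4 S.WS = 2 ^ 6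
    have := Nat.pow_right_injective (le_refl 2) h
    rw [show Module.finrank K4 S.WS = 6 by omega])

theorem qS_omega (v : S.WS) : S.qS (S.omega v) = S.qS v := S.qS_rho _ v

theorem beta_omega (v w : S.WS) : S.beta (S.omega v) (S.omega w) = S.beta v w := S.beta_rho _ v w

/-- The elements mapped into M22. -/
def innerH : Subgroup ↥(Cz z) := Spor.M22.comap S.κ

theorem mem_innerH (h : ↥(Cz z)) : h ∈ S.innerH ↔ S.κ h pA = pA :=
  (Subgroup.mem_comap).trans (mem_M22_iff (S.κ_mem h))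

theorem mem_innerH_of_mem_E {h : ↥(Cz z)} (hh : (h : G) ∈ Ez z) : h ∈ S.innerH := by
  rw [S.mem_innerH, show h = ⟨(h : G), Ez_le_Cz z hh⟩ from rfl, S.κ_E hh]; rfl

theorem rho_decomp (h : ↥(Cz z)) : ∃ k : ↥(Cz z), (k : G) ∈ Subgroup.normalizer (P : Set G) ∧
    S.κ k = S.κ h ∧ S.rho k = S.rho h := by
  obtain ⟨e, he, k, hk, hkn, hek⟩ := S.frattini h h.2
  have hh : h = ⟨e, Ez_le_Cz z he⟩ * ⟨k, hk⟩ := Subtype.ext hek
  refine ⟨⟨k, hk⟩, hkn, ?_, ?_⟩
  · rw [hh, map_mul, S.κ_E he, one_mul]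
  · rw [hh, map_mul, S.rho_of_mem (h := ⟨e, Ez_le_Cz z he⟩) he, one_mul]

theorem rho_inner {h : ↥(Cz z)} (hh : h ∈ S.innerH) (v : S.WS) :
    S.rho h (S.omega v) = S.omega (S.rho h v) := by
  obtain ⟨k, hk, hκ, hρ⟩ := S.rho_decomp h
  have hc := (S.inner k hk).1 (by rw [hκ]; exact (S.mem_innerH h).1 hh)
  rw [← hρ, omega_apply, omega_apply, ← LinearEquiv.mul_apply, ← LinearEquiv.mul_apply, ← map_mul,
    ← map_mul, show k * ⟨S.gen, S.gen_mem⟩ = ⟨S.gen, S.gen_mem⟩ * k from Subtype.ext hc]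

theorem rho_outer {h : ↥(Cz z)} (hh : h ∉ S.innerH) (v : S.WS) :
    S.rho h (S.omega v) = S.omega (S.omega (S.rho h v)) := by
  obtain ⟨k, hk, hκ, hρ⟩ := S.rho_decomp h
  have hc := (S.inner k hk).2 (by rw [hκ]; exact fun e => hh ((S.mem_innerH h).2 e))
  have hkc : (k : G) * S.gen = S.gen * S.gen * k := by
    rw [mul_inv_eq_iff_eq_mul] at hc
    rw [hc, show S.gen⁻¹ = S.gen * S.gen from inv_eq_of_mul_eq_one_right (by
      rw [← mul_assoc]; simpa [pow_succ] using S.gen_cube)]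
  rw [← hρ, omega_apply, omega_apply, omega_apply, ← LinearEquiv.mul_apply, ← LinearEquiv.mul_apply,
    ← LinearEquiv.mul_apply, ← map_mul, ← map_mul, ← map_mul,
    show k * ⟨S.gen, S.gen_mem⟩ = ⟨S.gen, S.gen_mem⟩ * ⟨S.gen, S.gen_mem⟩ * k from Subtype.ext hkc]

/-- An inner element as a map over `K4`. -/
noncomputable def linK {h : ↥(Cz z)} (hh : h ∈ S.innerH) : Module.End K4 S.WS where
  toFun := S.rho h
  map_add' := map_add (S.rho h)
  map_smul' c v := by
    rcases K4.cases' c with rfl | rfl | rfl | rfl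
    · simp
    · simp
    · rw [RingHom.id_apply, S.zeta_smul, S.zeta_smul, S.rho_inner hh]
    · rw [RingHom.id_apply, add_smul, add_smul, one_smul, one_smul, map_add, S.zeta_smul, S.zeta_smul,
        S.rho_inner hh]

theorem linK_apply {h : ↥(Cz z)} (hh : h ∈ S.innerH) (v : S.WS) : S.linK hh v = S.rho h v := rfl

/-- The action of the inner elements over `K4`. -/
noncomputable def rhoK : ↥S.innerH →* Module.End K4 S.WS where
  toFun h := S.linK h.2
  map_one' := LinearMap.ext fun v => by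
    show S.rho 1 v = v
    rw [map_one]; rfl
  map_mul' g h := LinearMap.ext fun v => by
    show S.rho ((g : ↥(Cz z)) * h) v = S.rho g (S.rho h v)
    rw [map_mul]; rfl

theorem rhoK_apply (h : ↥S.innerH) (v : S.WS) : S.rhoK h v = S.rho (h : ↥(Cz z)) v := rfl

theorem gen_mem_innerH : (⟨S.gen, S.gen_mem⟩ : ↥(Cz z)) ∈ S.innerH := by
  rw [S.mem_innerH, S.κ_gen]; rfl

theorem rhoK_gen : S.rhoK ⟨⟨S.gen, S.gen_mem⟩, S.gen_mem_innerH⟩ = K4.zeta • 1 :=
  LinearMap.ext fun v => by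
    show S.rho _ v = K4.zeta • v
    rw [S.zeta_smul]; rfl

theorem gen_mem_commutator {R : Subgroup ↥(Cz z)} (hg : (⟨S.gen, S.gen_mem⟩ : ↥(Cz z)) ∈ R)
    (hRK : ∀ r ∈ R, (r : G) ∈ Kz z P) (hidx : ¬ 3 ∣ ((R.map (Cz z).subtype).subgroupOf (Kz z P)).index) :
    (⟨⟨S.gen, S.gen_mem⟩, hg⟩ : ↥R) ∈ commutator ↥R := by
  set R' : Subgroup G := R.map (Cz z).subtype
  have hR'K : R' ≤ Kz z P := by
    rintro _ ⟨r, hr, rfl⟩
    exact hRK r hr
  have hgK : S.gen ∈ Kz z P := hRK _ hg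
  have hder : (⟨S.gen, hgK⟩ : ↥(Kz z P)) ∈ commutator ↥(Kz z P) := by
    have h := S.derived
    rw [← Subgroup.map_subtype_commutator] at h
    obtain ⟨x, hx, hxe⟩ := h
    rwa [show (⟨S.gen, hgK⟩ : ↥(Kz z P)) = x from Subtype.ext hxe.symm]
  have hcen : ∀ k : ↥(Kz z P), k * ⟨S.gen, hgK⟩ = ⟨S.gen, hgK⟩ * k := fun k => Subtype.ext (by
    have h := (mem_inf.1 k.2).2
    exact (mem_centralizer_iff.1 h S.gen (S.gen_zpowers.le (mem_zpowers _))).symm)
  have hgR : (⟨S.gen, hgK⟩ : ↥(Kz z P)) ∈ R'.subgroupOf (Kz z P) := ⟨_, hg, rfl⟩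
  have h := mem_commutator_of_central (R'.subgroupOf (Kz z P)) hgR hcen hder (by
    rw [Subgroup.orderOf_mk, S.gen_ord]
    exact (Nat.Prime.coprime_iff_not_dvd Nat.prime_three).2 hidx)
  let e : ↥(R'.subgroupOf (Kz z P)) ≃* ↥R :=
    (Subgroup.subgroupOfEquivOfLe hR'K).trans
      (Subgroup.equivMapOfInjective R (Cz z).subtype (Subgroup.subtype_injective _)).symm
  have h2 : e ⟨⟨S.gen, hgK⟩, hgR⟩ ∈ commutator ↥R := by
    have : (commutator ↥(R'.subgroupOf (Kz z P))).map e.toMonoidHom ≤ commutator ↥R := by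
      rw [commutator_def, commutator_def, Subgroup.map_commutator]
      exact Subgroup.commutator_mono le_top le_top
    exact this ⟨_, h, rfl⟩
  have h3 : e ⟨⟨S.gen, hgK⟩, hgR⟩ = ⟨⟨S.gen, S.gen_mem⟩, hg⟩ := by
    apply (Subgroup.equivMapOfInjective R (Cz z).subtype (Subgroup.subtype_injective _)).injective
    simp only [e, MulEquiv.trans_apply, MulEquiv.apply_symm_apply]
    exact Subtype.ext rfl
  rwa [h3] at h2

end Setting

end Cfsg.Agent.J4Type
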