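import Cfsg.Agent.Lib.J4Type.Elem11
import Cfsg.Agent.Lib.J4Type.OctPair

/-!
The lift of the common stabiliser of two octads commuting with `gen` (helper26).

* `Setting.mem_centralizer_P`, `Setting.κ_one_comm` : elements over the identity commuting with `gen`
* `Setting.Linn`, `Setting.zH_not_mem_commutator` : the central involution is not in its derived group
* `Setting.Cfix_disjoint` : the fixed spaces of the two octads meet trivially
-/

set_option autoImplicit false
set_option linter.style.haveILetI false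
set_option linter.unusedSectionVars false
open scoped Pointwise commutatorElement
open Cfsg Subgroup

namespace Cfsg.Agent.J4Type.Setting

open Cfsg.Agent.Golay

variable {G : Type*} [Group G] [Finite G] {z : G} {P : Subgroup G} (S : Setting z P)

/-- The central involution inside the centraliser. -/
def zH (_S : Setting z P) : ↥(Cz z) := ⟨z, self_mem_Cz z⟩

/-- A proper subgroup has at most half the order. -/
theorem two_mul_card_le_of_lt {K : Type*} [Group K] [Finite K] {A B : Subgroup K} (h : A < B) :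
    2 * Nat.card ↥A ≤ Nat.card ↥B := by
  obtain ⟨m, hm⟩ := Subgroup.card_dvd_of_le h.le
  rcases m with _ | _ | m
  · exfalso; have : 0 < Nat.card ↥B := Nat.card_pos; omega
  · exact absurd (Subgroup.eq_of_le_of_card_ge h.le (by omega)) h.ne
  · rw [hm]; nlinarith

include S

theorem zH_comm (y : ↥(Cz z)) : y * S.zH = S.zH * y := Subtype.ext (mem_Cz.1 y.2)

theorem zH_sq : S.zH * S.zH = 1 := Subtype.ext S.z_sq

theorem zH_ne : S.zH ≠ 1 := fun h => S.z_ne (congrArg Subtype.val h)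

theorem κ_zH : S.κ S.zH = 1 := S.κ_E S.z_mem_E

theorem mem_centralizer_P (x : ↥(Cz z)) :
    x ∈ (Subgroup.centralizer (P : Set G)).subgroupOf (Cz z) ↔ x * S.genH = S.genH * x := by
  rw [Subgroup.mem_subgroupOf, Subgroup.mem_centralizer_iff]
  refine ⟨fun h => Subtype.ext (h S.gen (S.gen_zpowers.le (mem_zpowers _))).symm, fun h q hq => ?_⟩
  rw [SetLike.mem_coe, ← S.gen_zpowers] at hq
  obtain ⟨n, rfl⟩ := mem_zpowers_iff.1 hq
  exact ((show Commute (x : G) S.gen from congrArg Subtype.val h).zpow_right n).eq.symm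

theorem genH_cube : S.genH ^ 3 = 1 := Subtype.ext S.gen_cube

/-- An element over the identity commuting with `gen`. -/
theorem κ_one_comm {x : ↥(Cz z)} (hk : S.κ x = 1) (hc : x * S.genH = S.genH * x) :
    ∃ n : ℕ, x = S.genH ^ n ∨ x = S.zH * S.genH ^ n := by
  obtain ⟨e, he, n, hn⟩ := (S.κ_ker x).1 hk
  refine ⟨n, ?_⟩
  have hc' : Commute (x : G) S.gen := congrArg Subtype.val hc
  have hec : Commute e S.gen := by
    have h : Commute ((x : G) * (S.gen ^ n)⁻¹) S.gen :=
      hc'.mul_left ((Commute.refl S.gen).pow_left n).inv_left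
    rwa [hn, mul_inv_cancel_right] at h
  rcases S.fix e he hec with rfl | rfl
  · exact Or.inl (Subtype.ext (by rw [hn, one_mul]; rfl))
  · exact Or.inr (Subtype.ext (by rw [hn]; rfl))

theorem κ_one_comm_mem {x : ↥(Cz z)} (hk : S.κ x = 1) (hc : x * S.genH = S.genH * x) :
    x ∈ Subgroup.zpowers (S.zH * S.genH) := by
  have hcm : Commute S.zH S.genH := (S.zH_comm S.genH).symm
  have hgen : S.genH ∈ Subgroup.zpowers (S.zH * S.genH) := by
    refine mem_zpowers_iff.2 ⟨4, ?_⟩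
    rw [show ((4 : ℤ)) = ((4 : ℕ) : ℤ) from rfl, zpow_natCast, hcm.mul_pow,
      show S.zH ^ 4 = 1 by rw [show 4 = 2 * 2 from rfl, pow_mul, pow_two S.zH, S.zH_sq, one_pow],
      pow_succ, S.genH_cube, one_mul, one_mul]
  have hz : S.zH ∈ Subgroup.zpowers (S.zH * S.genH) := by
    have h := mul_mem (mem_zpowers (S.zH * S.genH)) (inv_mem hgen)
    rwa [mul_inv_cancel_right] at h
  obtain ⟨n, h | h⟩ := S.κ_one_comm hk hc <;> rw [h]
  · exact pow_mem hgen n
  · exact mul_mem hz (pow_mem hgen n)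

theorem pow_six {x : ↥(Cz z)} (hk : S.κ x = 1) (hc : x * S.genH = S.genH * x) : x ^ 6 = 1 := by
  obtain ⟨n, h | h⟩ := S.κ_one_comm hk hc <;> rw [h]
  · rw [← pow_mul, show n * 6 = 3 * (n * 2) by ring, pow_mul, S.genH_cube, one_pow]
  · rw [(show Commute S.zH (S.genH ^ n) from (S.zH_comm _).symm).mul_pow,
      show S.zH ^ 6 = 1 by rw [show 6 = 2 * 3 from rfl, pow_mul, pow_two S.zH, S.zH_sq, one_pow],
      one_mul, ← pow_mul, show n * 6 = 3 * (n * 2) by ring, pow_mul, S.genH_cube, one_pow]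

theorem exists_comm_lift {g : Equiv.Perm GolayPt} (hg : g ∈ Spor.M22) :
    ∃ x : ↥(Cz z), S.κ x = g ∧ x * S.genH = S.genH * x := by
  obtain ⟨k, hkn, hkk⟩ := S.frattini' (m22_le_pairStab hg)
  exact ⟨k, hkk, Subtype.ext ((S.inner k hkn).1 (by rw [hkk]; exact hg.1.2))⟩

theorem exists_involution_lift {g : Equiv.Perm GolayPt} (hg : g ∈ Spor.M22) (h2 : g * g = 1) (h1 : g ≠ 1) :
    ∃ x : ↥(Cz z), S.κ x = g ∧ x * S.genH = S.genH * x ∧ x * x = 1 := by
  obtain ⟨o, ho, hgo⟩ := exists_hexOct_of_involution hg h2 h1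
  obtain ⟨x, hx, hxk, hxg⟩ := S.exists_fixed_coset ho hgo
  exact ⟨x, hxk, Subtype.ext hxg, S.Vo_sq ho hx⟩

variable (o o' : Finset GolayPt)

/-- The elements over the common stabiliser commuting with `gen`. -/
def Linn : Subgroup ↥(Cz z) := S.preM (R0 o o') ⊓ (Subgroup.centralizer (P : Set G)).subgroupOf (Cz z)

variable {o o'}

theorem mem_Linn {x : ↥(Cz z)} : x ∈ S.Linn o o' ↔ S.κ x ∈ R0 o o' ∧ x * S.genH = S.genH * x := by
  rw [Linn, Subgroup.mem_inf, S.mem_centralizer_P]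
  rfl

variable (h : PairOct o o')
include h

theorem R0_le_M22 : R0 o o' ≤ Spor.M22 := fun _ hg => hg.1.1

theorem exists_Linn_lift {g : Equiv.Perm GolayPt} (hg : g ∈ R0 o o') : ∃ x ∈ S.Linn o o', S.κ x = g := by
  obtain ⟨x, hx, hc⟩ := S.exists_comm_lift hg.1.1
  exact ⟨x, S.mem_Linn.2 ⟨hx ▸ hg, hc⟩, hx⟩

theorem map_Linn : (S.Linn o o').map S.κ = R0 o o' := by
  refine le_antisymm ?_ fun g hg => ?_
  · rintro _ ⟨x, hx, rfl⟩; exact (S.mem_Linn.1 hx).1
  · obtain ⟨x, hx, hxk⟩ := S.exists_Linn_lift h hg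
    exact ⟨x, hx, hxk⟩

theorem natCard_Linn_dvd : Nat.card ↥(S.Linn o o') ∣ 2160 := by
  let f : ↥(S.Linn o o') →* Equiv.Perm GolayPt := S.κ.comp (S.Linn o o').subtype
  have hr : f.range = R0 o o' := by rw [MonoidHom.range_comp, Subgroup.range_subtype, S.map_Linn h]
  have hk : Nat.card f.ker ∣ 6 := by
    have hle : (f.ker).map (S.Linn o o').subtype ≤ Subgroup.zpowers (S.zH * S.genH) := by
      rintro _ ⟨x, hx, rfl⟩
      exact S.κ_one_comm_mem hx (S.mem_Linn.1 x.2).2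
    have h1 := Subgroup.card_dvd_of_le hle
    rw [← Nat.card_congr (Subgroup.equivMapOfInjective _ _ (Subgroup.subtype_injective _)).toEquiv,
      Nat.card_zpowers] at h1
    refine h1.trans (orderOf_dvd_of_pow_eq_one ?_)
    refine S.pow_six ?_ ?_
    · rw [map_mul, S.κ_zH, show S.κ S.genH = 1 from S.κ_gen, one_mul]
    · rw [mul_assoc, ← mul_assoc S.genH, S.zH_comm S.genH, mul_assoc]
  have h2 := f.ker.index_mul_card
  rw [Subgroup.index_ker, hr, h.natCard_R0] at h2
  rw [← h2, show (2160 : ℕ) = 360 * 6 from rfl]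
  exact Nat.mul_dvd_mul_left 360 hk

/-- A dihedral pair of involutions in the common stabiliser. -/
theorem exists_dihedral_pair : ∃ a b : Equiv.Perm GolayPt, a ∈ R0 o o' ∧ b ∈ R0 o o' ∧ a * a = 1 ∧
    b * b = 1 ∧ (a * b) ^ 4 = 1 ∧ (a * b) ^ 2 ≠ 1 := by
  classical
  obtain ⟨e⟩ := h.nonempty_R0_equiv
  let σ : Fin 6 ≃ Six o := (Fintype.equivFinOfCardEq h.fst.card_six).symm
  let φ : Equiv.Perm (Fin 6) →* Equiv.Perm (Six o) := σ.permCongrHom.toMonoidHom
  let a' : Equiv.Perm (Fin 6) := Equiv.swap 0 1 * Equiv.swap 4 5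
  let b' : Equiv.Perm (Fin 6) := Equiv.swap 0 2 * Equiv.swap 1 3
  have hev : ∀ {p : Equiv.Perm (Fin 6)}, Equiv.Perm.sign p = 1 → φ p ∈ alternatingGroup (Six o) := fun {p} hp =>
    Equiv.Perm.mem_alternatingGroup.2 (by
      show Equiv.Perm.sign (σ.permCongr p) = 1
      rw [Equiv.Perm.sign_permCongr, hp])
  have ha : φ a' ∈ alternatingGroup (Six o) := hev (by decide)
  have hb : φ b' ∈ alternatingGroup (Six o) := hev (by decide)
  let ι : ↥(alternatingGroup (Six o)) →* Equiv.Perm GolayPt := (R0 o o').subtype.comp e.symm.toMonoidHom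
  have hι : Function.Injective ι := (Subgroup.subtype_injective _).comp e.symm.injective
  have hφ : Function.Injective φ := σ.permCongrHom.injective
  have k1 : (⟨φ a', ha⟩ : ↥(alternatingGroup (Six o))) * ⟨φ a', ha⟩ = 1 :=
    Subtype.ext (by rw [Subgroup.coe_mul, ← map_mul, show a' * a' = 1 by decide, map_one]; rfl)
  have k2 : (⟨φ b', hb⟩ : ↥(alternatingGroup (Six o))) * ⟨φ b', hb⟩ = 1 :=
    Subtype.ext (by rw [Subgroup.coe_mul, ← map_mul, show b' * b' = 1 by decide, map_one]; rfl)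
  have k3 : ((⟨φ a', ha⟩ : ↥(alternatingGroup (Six o))) * ⟨φ b', hb⟩) ^ 4 = 1 :=
    Subtype.ext (by rw [SubmonoidClass.coe_pow, Subgroup.coe_mul, ← map_mul, ← map_pow,
      show (a' * b') ^ 4 = 1 by decide, map_one]; rfl)
  refine ⟨ι ⟨φ a', ha⟩, ι ⟨φ b', hb⟩, (e.symm _).2, (e.symm _).2, ?_, ?_, ?_, ?_⟩
  · rw [← map_mul, k1, map_one]
  · rw [← map_mul, k2, map_one]
  · rw [← map_mul, ← map_pow, k3, map_one]
  · rw [← map_mul, ← map_pow]
    intro hh
    have h' := congrArg Subtype.val (hι (hh.trans (map_one ι).symm))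
    rw [SubmonoidClass.coe_pow, Subgroup.coe_mul, ← map_mul, ← map_pow, OneMemClass.coe_one,
      ← map_one φ] at h'
    exact absurd (hφ h') (by decide)

/-- **The central involution is not in the derived group.** -/
theorem zH_not_mem_commutator : S.zH ∉ ⁅S.Linn o o', S.Linn o o'⁆ := by
  classical
  haveI : Fact (Nat.Prime 2) := ⟨Nat.prime_two⟩
  obtain ⟨a, b, ha, hb, ha2, hb2, hab4, hab2⟩ := S.exists_dihedral_pair h
  have hne : a * b ≠ b * a := fun e => hab2 (by
    rw [pow_two]; nth_rewrite 2 [e]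
    rw [mul_assoc, ← mul_assoc b, hb2, one_mul, ha2])
  have ha1 : a ≠ 1 := fun e => hne (by rw [e, one_mul, mul_one])
  have hb1 : b ≠ 1 := fun e => hne (by rw [e, one_mul, mul_one])
  obtain ⟨x, hxk, hxg, hx2⟩ := S.exists_involution_lift ha.1.1 ha2 ha1
  obtain ⟨y, hyk, hyg, hy2⟩ := S.exists_involution_lift hb.1.1 hb2 hb1
  have hxL : x ∈ S.Linn o o' := S.mem_Linn.2 ⟨hxk ▸ ha, hxg⟩
  have hyL : y ∈ S.Linn o o' := S.mem_Linn.2 ⟨hyk ▸ hb, hyg⟩
  set c := x * y with hc
  have hxi : x⁻¹ = x := inv_eq_of_mul_eq_one_right hx2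
  have hyi : y⁻¹ = y := inv_eq_of_mul_eq_one_right hy2
  have hconj : x * c * x⁻¹ = c⁻¹ := by
    rw [hc, ← mul_assoc, hx2, one_mul, mul_inv_rev, hyi]
  -- the square of the product is an involution
  have hc4 : c ^ 4 = 1 := by
    have hr2 : (a * b) ^ 2 * (a * b) ^ 2 = 1 := by rw [← pow_add, hab4]
    obtain ⟨w, hwk, hwg, hw2⟩ := S.exists_involution_lift (Spor.M22.pow_mem (mul_mem ha.1.1 hb.1.1) 2) hr2 hab2
    set k := w * c ^ 2 with hk
    have hkk : S.κ k = 1 := by rw [hk, map_mul, map_pow, hc, map_mul, hxk, hyk, hwk, hr2]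
    have hcg : Commute c S.genH := (show Commute x S.genH from hxg).mul_left hyg
    have hkg : k * S.genH = S.genH * k := ((show Commute w S.genH from hwg).mul_left (hcg.pow_left 2)).eq
    have hcomm : ∀ v : ↥(Cz z), v * S.genH = S.genH * v → Commute v k := by
      intro v hv
      obtain ⟨n, e | e⟩ := S.κ_one_comm hkk hkg <;> rw [e]
      · exact (show Commute v S.genH from hv).pow_right n
      · exact (show Commute v S.zH from S.zH_comm v).mul_right ((show Commute v S.genH from hv).pow_right n)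
    have hwi : w⁻¹ = w := inv_eq_of_mul_eq_one_right hw2
    have hc2 : c ^ 2 = w * k := by rw [hk, ← mul_assoc, hw2, one_mul]
    have hxw : x * w * x⁻¹ = k⁻¹ * w * k⁻¹ := by
      have h1 : x * c ^ 2 * x⁻¹ = (c ^ 2)⁻¹ := by rw [← conj_pow, hconj, inv_pow]
      rw [hc2] at h1
      calc x * w * x⁻¹ = x * (w * k) * x⁻¹ * (x * k * x⁻¹)⁻¹ := by group
        _ = (w * k)⁻¹ * k⁻¹ := by rw [h1, (hcomm x hxg).eq, mul_inv_cancel_right]
        _ = _ := by rw [mul_inv_rev, hwi]
    have hsq : (k⁻¹ * w * k⁻¹) * (k⁻¹ * w * k⁻¹) = 1 := by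
      rw [← hxw]
      calc x * w * x⁻¹ * (x * w * x⁻¹) = x * (w * w) * x⁻¹ := by group
        _ = 1 := by rw [hw2]; group
    have hwk' : Commute w k⁻¹ := (hcomm w hwg).inv_right
    have hk4 : (k ^ 4)⁻¹ = 1 := by
      rw [← hsq, hwk'.symm.eq, mul_assoc w k⁻¹ k⁻¹, ← mul_assoc (w * (k⁻¹ * k⁻¹)),
        mul_assoc w (k⁻¹ * k⁻¹) w, ← (hwk'.mul_right hwk').eq, ← mul_assoc w w, hw2, one_mul]
      group
    rw [inv_eq_one] at hk4
    have hk2 : k ^ 2 = 1 := by
      have h6 := S.pow_six hkk hkg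
      rwa [show 6 = 4 + 2 from rfl, pow_add, hk4, one_mul] at h6
    rw [show 4 = 2 * 2 from rfl, pow_mul, hc2, pow_two, ← pow_two,
      (hcomm w hwg).mul_pow, pow_two w, hw2, one_mul, hk2]
  set C0 := Subgroup.zpowers c
  set X0 := Subgroup.zpowers x
  have hnorm : X0 ≤ Subgroup.normalizer (C0 : Set ↥(Cz z)) := by
    refine zpowers_le.2 (Subgroup.mem_normalizer_fintype fun q hq => ?_)
    obtain ⟨n, rfl⟩ := mem_zpowers_iff.1 hq
    rw [SetLike.mem_coe, ← conj_zpow, hconj]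
    exact zpow_mem (inv_mem (mem_zpowers c)) n
  set U0 := C0 ⊔ X0
  have hX0p : IsPGroup 2 ↥X0 := by
    obtain ⟨i, -, hi⟩ := (Nat.dvd_prime_pow Nat.prime_two).1
      (orderOf_dvd_of_pow_eq_one (show x ^ (2 ^ 1) = 1 by rw [pow_one, pow_two, hx2]))
    exact IsPGroup.of_card (n := i) (by rw [Nat.card_zpowers, hi])
  have hC0p : IsPGroup 2 ↥C0 := by
    obtain ⟨i, -, hi⟩ := (Nat.dvd_prime_pow Nat.prime_two).1
      (orderOf_dvd_of_pow_eq_one (show c ^ (2 ^ 2) = 1 from hc4))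
    exact IsPGroup.of_card (n := i) (by rw [Nat.card_zpowers, hi])
  have hab4o : orderOf (a * b) = 4 := by
    have := orderOf_eq_prime_pow (p := 2) (n := 1) (x := a * b) (by simpa using hab2) hab4
    simpa using this
  -- the central involution is outside
  have hout : S.zH ∉ U0 := by
    intro hz
    rw [← SetLike.mem_coe, Subgroup.coe_mul_of_right_le_normalizer_left C0 X0 hnorm] at hz
    obtain ⟨u, hu, v, hv, huv⟩ := Set.mem_mul.1 hz
    obtain ⟨i, rfl⟩ := mem_zpowers_iff.1 hu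
    have hk0 : (a * b) ^ i * S.κ v = 1 := by
      have := congrArg S.κ huv
      rwa [map_mul, map_zpow, hc, map_mul, hxk, hyk, S.κ_zH] at this
    have hv' : v = 1 ∨ v = x := LargeExtraspecial.mem_zpowers_two hx2 hv
    rcases hv' with rfl | rfl
    · rw [map_one, mul_one, ← orderOf_dvd_iff_zpow_eq_one, hab4o] at hk0
      obtain ⟨j, rfl⟩ := hk0
      rw [mul_one, zpow_mul, show c ^ ((4 : ℕ) : ℤ) = 1 by rw [zpow_natCast, hc4], one_zpow] at huv
      exact S.zH_ne huv.symm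
    · rw [hxk, mul_eq_one_iff_eq_inv, inv_eq_of_mul_eq_one_right ha2] at hk0
      refine hne ?_
      have hcm : Commute a (a * b) := by
        have hc' := (Commute.refl (a * b)).zpow_left i
        rwa [hk0] at hc'
      calc a * b = (a * b) * (a * a) := by rw [ha2, mul_one]
        _ = (a * (a * b)) * a := by rw [hcm.eq]; group
        _ = b * a := by rw [← mul_assoc, ha2, one_mul]
  have hU0p : IsPGroup 2 ↥U0 := IsPGroup.to_sup_of_normal_left' hC0p hX0p hnorm
  set Z0 := Subgroup.zpowers S.zH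
  have hZn : Z0.Normal := ⟨fun q hq v => by
    obtain ⟨i, rfl⟩ := mem_zpowers_iff.1 hq
    rw [((show Commute v S.zH from S.zH_comm v).zpow_right i).eq, mul_inv_cancel_right]
    exact hq⟩
  haveI := hZn
  have hZp : IsPGroup 2 ↥Z0 := IsPGroup.of_card (n := 1) (by
    rw [Nat.card_zpowers, orderOf_eq_prime (by rw [pow_two, S.zH_sq]) S.zH_ne, pow_one])
  set U := U0 ⊔ Z0
  have hUp : IsPGroup 2 ↥U := IsPGroup.to_sup_of_normal_right hU0p hZp
  have hUL : U ≤ S.Linn o o' := by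
    refine sup_le (sup_le (zpowers_le.2 (mul_mem hxL hyL)) (zpowers_le.2 hxL)) (zpowers_le.2 (S.mem_Linn.2 ?_))
    exact ⟨by rw [S.κ_zH]; exact one_mem _, (S.zH_comm _).symm⟩
  -- it is a Sylow subgroup
  have hU16 : Nat.card ↥U = 16 := by
    obtain ⟨i, hi⟩ := IsPGroup.iff_card.1 hUp
    have hdvd := (Subgroup.card_dvd_of_le hUL).trans (S.natCard_Linn_dvd h)
    rw [hi] at hdvd
    have hi4 : i ≤ 4 := by
      by_contra hlt
      have h32 : 2 ^ 5 ∣ 2160 := (pow_dvd_pow 2 (by omega)).trans hdvd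
      norm_num at h32
    have hlt : C0 ⊔ Z0 < U := by
      refine lt_of_le_of_ne (sup_le (le_sup_of_le_left le_sup_left) le_sup_right) fun e => ?_
      have hx' : x ∈ C0 ⊔ Z0 := e ▸ Subgroup.mem_sup_left (Subgroup.mem_sup_right (mem_zpowers x))
      rw [Subgroup.mem_sup_of_normal_right] at hx'
      obtain ⟨u, hu, v, hv, huv⟩ := hx'
      obtain ⟨j, rfl⟩ := mem_zpowers_iff.1 hu
      have hkv : S.κ v = 1 := by
        obtain ⟨l, rfl⟩ := mem_zpowers_iff.1 hv
        rw [map_zpow, S.κ_zH, one_zpow]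
      have := congrArg S.κ huv
      rw [map_mul, map_zpow, hkv, mul_one, hc, map_mul, hxk, hyk] at this
      refine hne ?_
      have hcm : Commute a (a * b) := by
        have hc' := (Commute.refl (a * b)).zpow_left j
        rwa [this] at hc'
      calc a * b = (a * b) * (a * a) := by rw [ha2, mul_one]
        _ = (a * (a * b)) * a := by rw [hcm.eq]; group
        _ = b * a := by rw [← mul_assoc, ha2, one_mul]
    have hlt2 : C0 < C0 ⊔ Z0 := lt_of_le_of_ne le_sup_left fun e =>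
      hout (Subgroup.mem_sup_left (e ▸ Subgroup.mem_sup_right (mem_zpowers S.zH) : S.zH ∈ C0))
    have hc0 : 4 ≤ Nat.card ↥C0 := by
      rw [Nat.card_zpowers, ← hab4o]
      refine Nat.le_of_dvd (orderOf_pos _) ?_
      have hk : S.κ c = a * b := by rw [hc, map_mul, hxk, hyk]
      rw [← hk]
      exact orderOf_map_dvd S.κ c
    have h1 : 2 * Nat.card ↥C0 ≤ Nat.card ↥(C0 ⊔ Z0) := two_mul_card_le_of_lt hlt2
    have h2 : 2 * Nat.card ↥(C0 ⊔ Z0) ≤ Nat.card ↥U := two_mul_card_le_of_lt hlt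
    rw [hi] at h2 ⊢
    interval_cases i <;> omega
  intro hz
  have hzL : S.zH ∈ S.Linn o o' := hUL (Subgroup.mem_sup_right (mem_zpowers _))
  rw [← Subgroup.map_subtype_commutator] at hz
  obtain ⟨q, hq, hqe⟩ := hz
  rw [show q = ⟨S.zH, hzL⟩ from Subtype.ext hqe] at hq
  have hzU : (⟨S.zH, hzL⟩ : ↥(S.Linn o o')) ∈ U.subgroupOf (S.Linn o o') :=
    Subgroup.mem_subgroupOf.2 (Subgroup.mem_sup_right (mem_zpowers _))
  have hm := mem_commutator_of_central (U.subgroupOf (S.Linn o o')) hzU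
    (fun v => Subtype.ext (S.zH_comm v)) hq (by
      rw [Subgroup.orderOf_mk, orderOf_eq_prime (by rw [pow_two, S.zH_sq]) S.zH_ne,
        Nat.coprime_two_left, Nat.odd_iff]
      have hm := (U.subgroupOf (S.Linn o o')).index_mul_card
      rw [Nat.card_congr (Subgroup.subgroupOfEquivOfLe hUL).toEquiv, hU16] at hm
      have hd : (U.subgroupOf (S.Linn o o')).index ∣ 135 := by
        have h1 := S.natCard_Linn_dvd h
        rw [← hm, show (2160 : ℕ) = 135 * 16 from rfl] at h1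
        exact Nat.dvd_of_mul_dvd_mul_right (by norm_num) h1
      exact Nat.odd_iff.1 (Odd.of_dvd_nat (by decide) hd))
  apply hout
  have hmem : S.zH ∈ ⁅U, U⁆ := by
    let f : ↥(U.subgroupOf (S.Linn o o')) →* ↥(Cz z) :=
      (S.Linn o o').subtype.comp (U.subgroupOf (S.Linn o o')).subtype
    have h1 : f ⟨⟨S.zH, hzL⟩, hzU⟩ ∈ (commutator ↥(U.subgroupOf (S.Linn o o'))).map f := ⟨_, hm, rfl⟩
    rw [_root_.commutator_def, Subgroup.map_commutator] at h1
    refine Subgroup.commutator_mono ?_ ?_ h1 <;> · rintro _ ⟨w, -, rfl⟩; exact Subgroup.mem_subgroupOf.1 w.2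
  refine (Subgroup.commutator_le.2 fun p hp q hq => ?_) hmem
  rw [Subgroup.mem_sup_of_normal_right] at hp hq
  obtain ⟨p1, hp1, p2, hp2, rfl⟩ := hp
  obtain ⟨q1, hq1, q2, hq2, rfl⟩ := hq
  have hcen : ∀ v ∈ Z0, ∀ w : ↥(Cz z), Commute v w := fun v hv w => by
    obtain ⟨l, rfl⟩ := mem_zpowers_iff.1 hv
    exact (show Commute S.zH w from (S.zH_comm w).symm).zpow_left l
  rw [show ⁅p1 * p2, q1 * q2⁆ = ⁅p1, q1⁆ by
    rw [commutatorElement_def, commutatorElement_def, mul_inv_rev, mul_inv_rev,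
      show p1 * p2 * (q1 * q2) * (p2⁻¹ * p1⁻¹) * (q2⁻¹ * q1⁻¹) =
        p1 * (p2 * (q1 * q2) * p2⁻¹) * p1⁻¹ * (q2⁻¹ * q1⁻¹) by group,
      (hcen p2 hp2 _).eq, mul_inv_cancel_right,
      show p1 * (q1 * q2) * p1⁻¹ * (q2⁻¹ * q1⁻¹) = p1 * q1 * (q2 * (p1⁻¹) * q2⁻¹) * q1⁻¹ by group,
      (hcen q2 hq2 _).eq, mul_inv_cancel_right]]
  exact mul_mem (mul_mem (mul_mem hp1 hq1) (inv_mem hp1)) (inv_mem hq1)

/-- **The fixed spaces meet trivially.** -/
theorem Cfix_disjoint : S.Cfix o ⊓ S.Cfix o' = ⊥ := by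
  have h3 := S.finrank_dvd_three_of_invariant (Y := R0 o o') ?_ (S.Cfix o ⊓ S.Cfix o') ?_
  · have hle : Module.finrank K4 ↥(S.Cfix o ⊓ S.Cfix o') ≤ 3 := by
      rw [← S.finrank_Cfix h.fst]; exact Submodule.finrank_mono inf_le_left
    have hcases : Module.finrank K4 ↥(S.Cfix o ⊓ S.Cfix o') = 0 ∨
        Module.finrank K4 ↥(S.Cfix o ⊓ S.Cfix o') = 3 := by omega
    rcases hcases with h0 | h0
    · exact Submodule.finrank_eq_zero.1 h0
    exfalso
    have e1 : S.Cfix o ⊓ S.Cfix o' = S.Cfix o :=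
      Submodule.eq_of_le_of_finrank_eq inf_le_left (h0.trans (S.finrank_Cfix h.fst).symm)
    have e2 : S.Cfix o ⊓ S.Cfix o' = S.Cfix o' :=
      Submodule.eq_of_le_of_finrank_eq inf_le_right (h0.trans (S.finrank_Cfix h.snd).symm)
    have heq : S.Cfix o = S.Cfix o' := e1.symm.trans e2
    obtain ⟨a', ha', hne⟩ := S.exists_mem_fix_ne h.snd
    have hmem : a' ∈ octadFix o := by
      refine h.fst.centralizes_octadFix (mem_octadFix.1 ha').1 fun a ha => ?_
      obtain ⟨fa, fa2⟩ := S.fix_M22 h.fst ha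
      obtain ⟨fb, fb2⟩ := S.fix_M22 h.snd ha'
      obtain ⟨p, -, hp, -, hpI⟩ := S.exists_invLift fa fa2
      obtain ⟨q, -, hq, -, hqI⟩ := S.exists_invLift fb fb2
      have hcm : S.rho p * S.rho q = S.rho q * S.rho p := by
        refine LinearEquiv.ext fun v => ?_
        show S.rho p (S.rho q v) = S.rho q (S.rho p v)
        rw [← hpI, ← hqI]
        have m1 : ∀ w, S.invLift a w = w + S.mv a w := fun w => by
          rw [S.mv_apply fa fa2, add_left_comm, ← ZModModule.sub_eq_add w w, sub_self, add_zero]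
        have m2 : ∀ w, S.invLift a' w = w + S.mv a' w := fun w => by
          rw [S.mv_apply fb fb2, add_left_comm, ← ZModModule.sub_eq_add w w, sub_self, add_zero]
        have z1 : S.mv a (S.mv a' v) = 0 :=
          S.Cfix_le_ker h.fst ha (heq ▸ S.mv_mem_Cfix h.snd ha' v)
        have z2 : S.mv a' (S.mv a v) = 0 :=
          S.Cfix_le_ker h.snd ha' (heq ▸ S.mv_mem_Cfix h.fst ha v)
        rw [m2 v, m1, m1 v, m2, map_add, map_add, z1, z2]
        abel
      have hE : ((p * q * p⁻¹ * q⁻¹ : ↥(Cz z)) : G) ∈ Ez z := (S.rho_eq_one_iff _).1 (by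
        rw [map_mul, map_mul, map_mul, map_inv, map_inv, hcm]; group)
      have hk := S.κ_E hE
      change S.κ (p * q * p⁻¹ * q⁻¹) = 1 at hk
      rw [map_mul, map_mul, map_mul, map_inv, map_inv, hp, hq, mul_inv_eq_one, mul_inv_eq_iff_eq_mul] at hk
      exact hk.symm
    have := h.fst.octad_unique h.snd hmem ha' hne
    have hI := h.inter
    rw [← this, Finset.inter_self] at hI
    have hc := h.fst.mem.2
    rw [hI, Finset.card_pair pA_ne_pB] at hc
    omega
  · have hm := ((R0 o o').subgroupOf Spor.M22).index_mul_card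
    rw [show Nat.card ↥((R0 o o').subgroupOf Spor.M22) = Nat.card ↥(R0 o o') from
      Nat.card_congr (Subgroup.subgroupOfEquivOfLe (S.R0_le_M22 h)).toEquiv, h.natCard_R0,
      natCard_M22'] at hm
    omega
  · intro k hk _ u hu
    exact ⟨S.rho_mem_Cfix h.fst (stab0_le_stabO o hk.1) hu.1,
      S.rho_mem_Cfix h.snd ⟨m22_le_pairStab hk.1.1, hk.2⟩ hu.2⟩

end Cfsg.Agent.J4Type.Setting
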