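import Cfsg.Agent.Lib.J4Type.SplitInner

/-!
Centralisers in the elementary subgroup of order 2^11 of elements of its normaliser outside it (helper26).

* `Setting.exists_dbl_eq` : the elements of `Vo` moved only by `z` by an outer element
* `Setting.dbl_fix`, `Setting.natCard_cent_outer` : they are centralised; there are at most 64
* `Setting.exists_elements` : elements of `Ez` centralising at most 64, and at least 128
-/

set_option autoImplicit false
set_option linter.style.haveILetI false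
set_option linter.unusedSectionVars false
open scoped Pointwise commutatorElement
open Cfsg Subgroup

namespace Cfsg.Agent.J4Type.Setting

open Cfsg.Agent.Golay

variable {G : Type*} [Group G] [Finite G] {z : G} {P : Subgroup G} (S : Setting z P) {o : Finset GolayPt}
  (ho : HexOct o)
include S

/-- The elements of `Vo` centralised by `w`. -/
def centV (w : ↥(Cz z)) : Subgroup ↥(Cz z) := S.Vo ho ⊓ Subgroup.centralizer ({w} : Set ↥(Cz z))

theorem mem_centV {w x : ↥(Cz z)} : x ∈ S.centV ho w ↔ x ∈ S.Vo ho ∧ w * x = x * w := by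
  rw [centV, Subgroup.mem_inf, Subgroup.mem_centralizer_singleton_iff]
  exact and_congr_right fun _ => ⟨Eq.symm, Eq.symm⟩

/-- The fixed space of an octad group over the field with two elements. -/
noncomputable def Cfix2 (o : Finset GolayPt) : Submodule (ZMod 2) S.WS where
  toAddSubmonoid := (S.Cfix o).toAddSubmonoid
  smul_mem' := fun c x hx => by
    rcases LargeExtraspecial.OutForm.two_cases c with rfl | rfl
    · rw [zero_smul]; exact (S.Cfix o).zero_mem
    · rw [one_smul]; exact hx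

theorem mem_Cfix2 {v : S.WS} : v ∈ S.Cfix2 o ↔ v ∈ S.Cfix o := Iff.rfl

include ho in
theorem natCard_Cfix : Nat.card ↥(S.Cfix o) = 64 := by
  rw [natCard_eq_four_pow, S.finrank_Cfix ho]; norm_num

/-- On the fixed space an outer element has image equal to its fixed points. -/
theorem exists_dlt_eq {k : ↥(Cz z)} (ho' : HexOct o) (hk : k ∉ S.innerH) (hko : S.κ k ∈ stabO o)
    (hk2 : S.rho k * S.rho k = 1) {v : S.WS} (hv : v ∈ S.Cfix o) (hfix : S.rho k v = v) :
    ∃ u ∈ S.Cfix o, S.rho k u + u = v := by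
  have hadd2 : ∀ w : S.WS, w + w = 0 := fun w => by rw [← ZModModule.sub_eq_add, sub_self]
  let δ : ↥(S.Cfix2 o) →ₗ[ZMod 2] ↥(S.Cfix2 o) :=
    { toFun := fun u => ⟨S.rho k u + u, add_mem (S.rho_mem_Cfix ho' hko u.2) u.2⟩
      map_add' := fun u w => Subtype.ext (by
        show S.rho k ((u : S.WS) + w) + ((u : S.WS) + w) = (S.rho k u + u) + (S.rho k w + w)
        rw [map_add]; abel)
      map_smul' := fun c u => Subtype.ext (by
        show S.rho k (c • (u : S.WS)) + c • (u : S.WS) = c • (S.rho k u + u)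
        rw [map_smul, smul_add]) }
  have hker : ∀ u : ↥(S.Cfix2 o), u ∈ LinearMap.ker δ → S.rho k u = u := fun u hu => by
    have h0 : S.rho k (u : S.WS) + u = 0 := congrArg Subtype.val hu
    rwa [← ZModModule.sub_eq_add, sub_eq_zero] at h0
  have hom : ∀ u : ↥(S.Cfix2 o), S.omega u ∈ S.Cfix o := fun u => by
    rw [← S.zeta_smul]; exact Submodule.smul_mem _ _ u.2
  have hsmall : Nat.card ↥(LinearMap.ker δ) * Nat.card ↥(LinearMap.ker δ) ≤ 64 := by
    rw [← Nat.card_prod, ← S.natCard_Cfix ho']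
    refine Nat.card_le_card_of_injective
      (fun p : ↥(LinearMap.ker δ) × ↥(LinearMap.ker δ) =>
        (⟨((p.1 : ↥(S.Cfix2 o)) : S.WS) + S.omega ((p.2 : ↥(S.Cfix2 o)) : S.WS),
          add_mem p.1.1.2 (hom p.2.1)⟩ : ↥(S.Cfix o))) ?_
    rintro ⟨a, b⟩ ⟨c, d⟩ e
    have e' : ((a : ↥(S.Cfix2 o)) : S.WS) + S.omega ((b : ↥(S.Cfix2 o)) : S.WS) =
        ((c : ↥(S.Cfix2 o)) : S.WS) + S.omega ((d : ↥(S.Cfix2 o)) : S.WS) := congrArg Subtype.val e
    set y := ((b : ↥(S.Cfix2 o)) : S.WS) + ((d : ↥(S.Cfix2 o)) : S.WS) with hy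
    have h1 : S.omega y = ((a : ↥(S.Cfix2 o)) : S.WS) + ((c : ↥(S.Cfix2 o)) : S.WS) := by
      have h0 : ((a : ↥(S.Cfix2 o)) : S.WS) + c + (S.omega ((b : ↥(S.Cfix2 o)) : S.WS) +
          S.omega ((d : ↥(S.Cfix2 o)) : S.WS)) = 0 := by
        rw [add_add_add_comm, e', hadd2]
      rw [← ZModModule.sub_eq_add, sub_eq_zero] at h0
      rw [hy, map_add, h0]
    have hb' : S.rho k y = y := by rw [hy, map_add, hker _ b.2, hker _ d.2]
    have ha' : S.rho k (S.omega y) = S.omega y := by rw [h1, map_add, hker _ a.2, hker _ c.2]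
    have h2 := S.rho_outer hk y
    rw [hb', ha'] at h2
    have h3 : S.omega y = 0 := S.omega_fix h2.symm
    rw [omega_apply] at h3
    have h4 : y = 0 := (LinearEquiv.map_eq_zero_iff _).1 h3
    rw [hy, ← ZModModule.sub_eq_add, sub_eq_zero] at h4
    rw [h4] at e'
    exact Prod.ext (Subtype.ext (Subtype.ext (add_right_cancel e'))) (Subtype.ext (Subtype.ext h4))
  have hle : LinearMap.range δ ≤ LinearMap.ker δ := by
    rintro _ ⟨u, rfl⟩
    refine LinearMap.mem_ker.2 (Subtype.ext ?_)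
    show S.rho k (S.rho k (u : S.WS) + u) + (S.rho k (u : S.WS) + u) = 0
    rw [map_add, ← LinearEquiv.mul_apply, hk2, add_comm (S.rho k (u : S.WS))]
    exact hadd2 _
  have heq : LinearMap.range δ = LinearMap.ker δ := by
    refine SetLike.coe_injective (Set.eq_of_subset_of_ncard_le hle ?_ (Set.toFinite _))
    rw [← Nat.card_coe_set_eq, ← Nat.card_coe_set_eq]
    show Nat.card ↥(LinearMap.ker δ) ≤ Nat.card ↥(LinearMap.range δ)
    have h := Submodule.card_eq_card_quotient_mul_card (LinearMap.ker δ)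
    rw [Nat.card_congr (LinearMap.quotKerEquivRange δ).toEquiv,
      show Nat.card ↥(S.Cfix2 o) = 64 from S.natCard_Cfix ho'] at h
    by_contra hlt
    push Not at hlt
    nlinarith
  have hv' : (⟨v, hv⟩ : ↥(S.Cfix2 o)) ∈ LinearMap.ker δ :=
    LinearMap.mem_ker.2 (Subtype.ext (by show S.rho k v + v = 0; rw [hfix]; exact hadd2 v))
  rw [← heq] at hv'
  obtain ⟨u, hu⟩ := hv'
  exact ⟨u, u.2, congrArg Subtype.val hu⟩

variable {k : ↥(Cz z)}

/-- The product of an element with its conjugate. -/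
def dbl (_S : Setting z P) (k y : ↥(Cz z)) : ↥(Cz z) := y * (k * y * k⁻¹)

theorem dbl_mem (hko : S.κ k ∈ stabO o) {y : ↥(Cz z)} (hy : y ∈ S.Vo ho) : S.dbl k y ∈ S.Vo ho :=
  mul_mem hy (S.conj_mem_Vo ho hko hy)

theorem dbl_mul (hko : S.κ k ∈ stabO o) {y w : ↥(Cz z)} (hy : y ∈ S.Vo ho) (hw : w ∈ S.Vo ho) :
    S.dbl k (y * w) = S.dbl k y * S.dbl k w := by
  show y * w * (k * (y * w) * k⁻¹) = y * (k * y * k⁻¹) * (w * (k * w * k⁻¹))
  calc y * w * (k * (y * w) * k⁻¹) = y * (w * (k * y * k⁻¹)) * (k * w * k⁻¹) := by group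
    _ = y * ((k * y * k⁻¹) * w) * (k * w * k⁻¹) := by
        rw [S.Vo_comm ho hw (S.conj_mem_Vo ho hko hy)]
    _ = _ := by group

/-- An element centralised by the square is doubled to a centralised one. -/
theorem dbl_fixed (hko : S.κ k ∈ stabO o) (hkk : k * k = 1 ∨ k * k = S.zH) {y : ↥(Cz z)}
    (hy : y ∈ S.Vo ho) : k * S.dbl k y * k⁻¹ = S.dbl k y := by
  have h2 : k * (k * y * k⁻¹) * k⁻¹ = y := by
    calc k * (k * y * k⁻¹) * k⁻¹ = (k * k) * y * (k * k)⁻¹ := by group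
      _ = y := by
        rcases hkk with e | e <;> rw [e]
        · group
        · rw [← S.zH_comm y, mul_inv_cancel_right]
  show k * (y * (k * y * k⁻¹)) * k⁻¹ = y * (k * y * k⁻¹)
  rw [show k * (y * (k * y * k⁻¹)) * k⁻¹ = (k * y * k⁻¹) * (k * (k * y * k⁻¹) * k⁻¹) by group, h2,
    S.Vo_comm ho (S.conj_mem_Vo ho hko hy) hy]

variable (hk : k ∉ S.innerH) (hko : S.κ k ∈ stabO o) (hkk : k * k = 1 ∨ k * k = S.zH)
  (hg4 : Nat.card {a : ↥(octadFix o) // S.κ k * a = a * S.κ k} ≤ 4)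
include ho hk hko hkk hg4

/-- The elements moved at most by `z` are doubles up to `z`. -/
theorem exists_dbl_eq {x : ↥(Cz z)} (hx : x ∈ S.Vo ho)
    (hxc : k * x * k⁻¹ = x ∨ k * x * k⁻¹ = x * S.zH) :
    ∃ y ∈ S.Vo ho, x = S.dbl k y ∨ x = S.dbl k y * S.zH := by
  classical
  set g := S.κ k
  have hgg : g * g = 1 := by
    rcases hkk with e | e <;> rw [← map_mul, e]
    · exact map_one _
    · exact S.κ_zH
  have hgi : g⁻¹ = g := inv_eq_of_mul_eq_one_right hgg
  have hconj : ∀ a ∈ octadFix o, g * a * g⁻¹ ∈ octadFix o := fun a ha =>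
    HexOct.conj_mem_fix (S.κ_stab ho hko) ha
  let δ : ↥(octadFix o) →* ↥(octadFix o) :=
    { toFun := fun a => ⟨(a : Equiv.Perm GolayPt) * (g * a * g⁻¹), mul_mem a.2 (hconj a a.2)⟩
      map_one' := Subtype.ext (by simp)
      map_mul' := fun a b => Subtype.ext (by
        show (a : Equiv.Perm GolayPt) * b * (g * (a * b) * g⁻¹) = a * (g * a * g⁻¹) * (b * (g * b * g⁻¹))
        calc (a : Equiv.Perm GolayPt) * b * (g * (a * b) * g⁻¹)
            = a * (b * (g * a * g⁻¹)) * (g * b * g⁻¹) := by group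
          _ = a * ((g * a * g⁻¹) * b) * (g * b * g⁻¹) := by rw [ho.comm_fix b.2 (hconj a a.2)]
          _ = _ := by group) }
  have hker : Nat.card δ.ker ≤ 4 := by
    refine le_trans (Nat.card_le_card_of_injective
      (fun a : δ.ker => (⟨a.1, ?_⟩ : {a : ↥(octadFix o) // g * a = a * g})) ?_) hg4
    · have ha : ((a.1 : ↥(octadFix o)) : Equiv.Perm GolayPt) * (g * a.1 * g⁻¹) = 1 :=
        congrArg Subtype.val (MonoidHom.mem_ker.1 a.2)
      rw [mul_eq_one_iff_inv_eq, inv_eq_of_mul_eq_one_right (mul_self_octadFix ho.mem a.1.2)] at ha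
      exact (mul_inv_eq_iff_eq_mul.1 ha.symm)
    · intro a b e
      exact Subtype.ext (congrArg (fun q : {a : ↥(octadFix o) // g * a = a * g} => q.1) e)
  have hkx : g * S.κ x * g⁻¹ = S.κ x := by
    rcases hxc with e | e <;> have e' := congrArg S.κ e
    · rwa [map_mul, map_mul, map_inv] at e'
    · rwa [map_mul, map_mul, map_inv, map_mul, S.κ_zH, mul_one] at e'
  set A := ((S.mem_Vo ho).1 hx).1.1
  have hmemr : (⟨S.κ x, A⟩ : ↥(octadFix o)) ∈ δ.range := by
    have hle : δ.range ≤ δ.ker := by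
      rintro _ ⟨a, rfl⟩
      refine MonoidHom.mem_ker.2 (Subtype.ext ?_)
      show (a : Equiv.Perm GolayPt) * (g * a * g⁻¹) * (g * (a * (g * a * g⁻¹)) * g⁻¹) = 1
      rw [show g * ((a : Equiv.Perm GolayPt) * (g * a * g⁻¹)) * g⁻¹ =
          (g * a * g⁻¹) * ((g * g) * a * (g * g)⁻¹) by group, hgg, one_mul, inv_one, mul_one,
        ho.comm_fix (hconj a a.2) a.2]
      exact mul_self_octadFix ho.mem (mul_mem a.2 (hconj a a.2))
    have h16 := δ.ker.index_mul_card
    rw [Subgroup.index_ker, natCard_octadFix ho.mem] at h16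
    have hge : Nat.card δ.ker ≤ Nat.card δ.range := by
      by_contra hlt
      push Not at hlt
      nlinarith
    rw [Subgroup.eq_of_le_of_card_ge hle hge]
    refine MonoidHom.mem_ker.2 (Subtype.ext ?_)
    show S.κ x * (g * S.κ x * g⁻¹) = 1
    rw [hkx]; exact mul_self_octadFix ho.mem A
  obtain ⟨a, ha⟩ := hmemr
  obtain ⟨y, hy, hya⟩ := S.exists_mem_Vo ho a.2
  have hdk : S.κ (S.dbl k y) = S.κ x := by
    show S.κ (y * (k * y * k⁻¹)) = _
    rw [map_mul, map_mul, map_mul, map_inv, hya]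
    exact congrArg Subtype.val ha
  set u := (S.dbl k y)⁻¹ * x with hu
  have huV : u ∈ S.Vo ho := mul_mem (inv_mem (S.dbl_mem ho hko hy)) hx
  have huk : S.κ u = 1 := by rw [hu, map_mul, map_inv, hdk, inv_mul_cancel]
  have huc : k * u * k⁻¹ = u ∨ k * u * k⁻¹ = u * S.zH := by
    have e1 : k * u * k⁻¹ = (S.dbl k y)⁻¹ * (k * x * k⁻¹) := by
      calc k * u * k⁻¹ = (k * S.dbl k y * k⁻¹)⁻¹ * (k * x * k⁻¹) := by rw [hu]; group
        _ = _ := by rw [S.dbl_fixed ho hko hkk hy]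
    rcases hxc with e | e <;> rw [e1, e]
    · exact Or.inl rfl
    · exact Or.inr (by rw [hu, mul_assoc])
  have huE := S.mem_E_of_mem_Vo ho huV huk
  have hC : S.pr ⟨(u : G), huE⟩ ∈ S.Cfix o := (S.inE_mem_Vo_iff ho ⟨_, huE⟩).1 huV
  have hfix : S.rho k (S.pr ⟨(u : G), huE⟩) = S.pr ⟨(u : G), huE⟩ := by
    rw [S.rho_fix_iff]
    rcases huc with e | e
    · exact Or.inl (congrArg Subtype.val e)
    · exact Or.inr (congrArg Subtype.val e)
  have hk2 : S.rho k * S.rho k = 1 := by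
    rw [← map_mul]
    rcases hkk with e | e <;> rw [e]
    · exact map_one _
    · exact S.rho_of_mem S.z_mem_E
  obtain ⟨w, hw, hwv⟩ := S.exists_dlt_eq ho hk hko hk2 hC hfix
  obtain ⟨e, he, hew⟩ := S.exists_pr w
  have heV : inE ⟨e, he⟩ ∈ S.Vo ho := (S.inE_mem_Vo_iff ho ⟨e, he⟩).2 (hew.symm ▸ hw)
  refine ⟨y * inE ⟨e, he⟩, mul_mem hy heV, ?_⟩
  rw [S.dbl_mul ho hko hy heV]
  have hpr : S.pr ⟨(u : G), huE⟩ =
      S.pr (⟨e, he⟩ * ⟨(k : G) * e * (k : G)⁻¹, conj_mem_Ez k.2 he⟩) := by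
    rw [S.pr_mul, ← hwv, ← hew, S.rho_pr]
    exact add_comm _ _
  have hxu : x = S.dbl k y * u := (mul_inv_cancel_left _ _).symm
  rcases (S.pr_eq_iff _ _).1 hpr with e1 | e1
  · exact Or.inl (by rw [hxu]; congr 1; exact Subtype.ext e1)
  · refine Or.inr ?_
    rw [hxu, mul_assoc]
    congr 1
    exact Subtype.ext e1

/-- They are centralised. -/
theorem dbl_fix {x : ↥(Cz z)} (hx : x ∈ S.Vo ho) (hxc : k * x * k⁻¹ = x ∨ k * x * k⁻¹ = x * S.zH) :
    k * x = x * k := by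
  obtain ⟨y, hy, e⟩ := S.exists_dbl_eq ho hk hko hkk hg4 hx hxc
  have h := mul_inv_eq_iff_eq_mul.1 (S.dbl_fixed ho hko hkk hy)
  rcases e with rfl | rfl
  · exact h
  · rw [← mul_assoc, h, mul_assoc, S.zH_comm k, ← mul_assoc]

/-- There are at most 64 of them. -/
theorem natCard_cent_outer : Nat.card ↥(S.centV ho k) ≤ 64 := by
  classical
  let δ : ↥(S.Vo ho) →* ↥(Cz z) :=
    MonoidHom.mk' (fun y => S.dbl k y) fun y w => S.dbl_mul ho hko y.2 w.2
  have hker : Nat.card δ.ker = Nat.card ↥(S.centV ho k) := by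
    refine Nat.card_congr
      { toFun := fun y => ⟨(y.1 : ↥(Cz z)), (S.mem_centV ho).2 ⟨y.1.2, ?_⟩⟩
        invFun := fun x => ⟨⟨x.1, ((S.mem_centV ho).1 x.2).1⟩, ?_⟩
        left_inv := fun y => Subtype.ext (Subtype.ext rfl)
        right_inv := fun x => Subtype.ext rfl }
    · have h1 : (y.1 : ↥(Cz z)) * (k * y.1 * k⁻¹) = 1 := MonoidHom.mem_ker.1 y.2
      rw [mul_eq_one_iff_inv_eq, inv_eq_of_mul_eq_one_right (S.Vo_sq ho y.1.2)] at h1
      exact mul_inv_eq_iff_eq_mul.1 h1.symm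
    · refine MonoidHom.mem_ker.2 ?_
      show (x.1 : ↥(Cz z)) * (k * x.1 * k⁻¹) = 1
      rw [((S.mem_centV ho).1 x.2).2, mul_inv_cancel_right]
      exact S.Vo_sq ho ((S.mem_centV ho).1 x.2).1
  have hle : Nat.card ↥(S.centV ho k) ≤ 2 * Nat.card δ.range := by
    have hval : ∀ x : ↥(S.centV ho k), ∃ p : δ.range × Bool,
        (x : ↥(Cz z)) = (p.1 : ↥(Cz z)) * bif p.2 then S.zH else 1 := by
      intro x
      obtain ⟨hxV, hxk⟩ := (S.mem_centV ho).1 x.2
      obtain ⟨y, hy, e | e⟩ := S.exists_dbl_eq ho hk hko hkk hg4 hxV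
        (Or.inl (mul_inv_eq_iff_eq_mul.2 hxk))
      · exact ⟨(⟨_, ⟨y, hy⟩, rfl⟩, false), by simpa [δ] using e⟩
      · exact ⟨(⟨_, ⟨y, hy⟩, rfl⟩, true), by simpa [δ] using e⟩
    choose f hf using hval
    have hinj : Function.Injective f := fun a b e => Subtype.ext (by rw [hf a, hf b, e])
    have h := Nat.card_le_card_of_injective f hinj
    rwa [Nat.card_prod, Nat.card_eq_fintype_card (α := Bool), Fintype.card_bool, mul_comm] at h
  have h := δ.ker.index_mul_card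
  rw [Subgroup.index_ker, hker, S.natCard_Vo ho] at h
  by_contra hlt
  push Not at hlt
  nlinarith

omit hk hko hkk hg4

/-- An element of `Ez` outside `Vo` centralises a hyperplane of `Ez ∩ Vo`. -/
theorem exists_elements {o' : Finset GolayPt} (h : PairOct o o') :
    ∃ f f' : ↥(Ez z), S.pr f ∈ S.Cfix o' ∧ S.pr f ∉ S.Cfix o ∧ (f : G) * f = 1 ∧
      Nat.card ↥(S.centV ho (inE f)) ≤ 64 ∧ S.pr f' ∉ S.Cfix o ∧ 128 ≤ Nat.card ↥(S.centV ho (inE f')) := by
  classical
  -- the kernel of the commutator map on the preimage of the fixed space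
  let U : Subgroup ↥(Cz z) := S.Vo ho ⊓ S.κ.ker
  have hmemU : ∀ {x : ↥(Cz z)}, x ∈ U ↔ ∃ e : ↥(Ez z), inE e = x ∧ S.pr e ∈ S.Cfix o := by
    intro x
    constructor
    · rintro ⟨hx, hk⟩
      have hE := S.mem_E_of_mem_Vo ho hx (MonoidHom.mem_ker.1 hk)
      exact ⟨⟨_, hE⟩, rfl, (S.inE_mem_Vo_iff ho ⟨_, hE⟩).1 hx⟩
    · rintro ⟨e, rfl, he⟩
      exact ⟨(S.inE_mem_Vo_iff ho e).2 he, MonoidHom.mem_ker.2 (S.κ_E e.2)⟩
  have hUcard : Nat.card ↥U = 128 := by
    rw [← S.natCard_U ho]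
    refine (Nat.card_congr (Equiv.ofBijective
      (fun e : {e : ↥(Ez z) // S.pr e ∈ S.Cfix o} => (⟨inE e.1, hmemU.2 ⟨e.1, rfl, e.2⟩⟩ : ↥U)) ⟨?_, ?_⟩)).symm
    · intro a b e
      have e1 : inE a.1 = inE b.1 := congrArg Subtype.val e
      exact Subtype.ext (Subtype.ext (congrArg Subtype.val e1 :))
    · rintro ⟨x, hx⟩
      obtain ⟨e, rfl, he⟩ := hmemU.1 hx
      exact ⟨⟨e, he⟩, rfl⟩
  have hnot : ∀ e : ↥(Ez z), S.pr e ∉ S.Cfix o →
      ∃ u ∈ U, inE e * u * (inE e)⁻¹ = u * S.zH := by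
    intro e he
    have h1 : ∃ c ∈ S.Cfix o, S.beta c (S.pr e) ≠ 0 := by
      by_contra hcon
      push Not at hcon
      exact he (S.mem_Cfix_of_orth ho hcon)
    obtain ⟨c, hc, hne⟩ := h1
    obtain ⟨d, rfl⟩ := S.pr_surjective c
    refine ⟨inE d, hmemU.2 ⟨d, rfl, hc⟩, Subtype.ext ?_⟩
    have hb : S.beta (S.pr e) (S.pr d) = 1 :=
      (LargeExtraspecial.OutForm.two_cases _).resolve_left (by rwa [S.beta_comm])
    exact (S.beta_pr_one e d).1 hb
  have hC64 : Nat.card ↥(S.Cfix o') = 64 := S.natCard_Cfix h.snd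
  -- a vector of the second space killed by no involution
  have hv : ∃ v ∈ S.Cfix o', ∀ a ∈ octadFix o, a ≠ 1 → S.mv a v ≠ 0 := by
    by_contra hcon
    push Not at hcon
    choose A hA hA1 hA0 using fun v : ↥(S.Cfix o') => hcon v v.2
    have hint : ∀ a ∈ octadFix o, a ≠ 1 →
        Nat.card ↥(LinearMap.ker (S.mv a) ⊓ S.Cfix o') ≤ 4 := by
      intro a ha ha1
      rw [natCard_eq_four_pow]
      refine le_trans (Nat.pow_le_pow_right (by norm_num) (?_ : _ ≤ 1)) (le_of_eq (pow_one 4))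
      have hs := Submodule.finrank_sup_add_finrank_inf_eq (LinearMap.ker (S.mv a) ⊓ S.Cfix o') (S.Cfix o)
      have hb : (LinearMap.ker (S.mv a) ⊓ S.Cfix o') ⊓ S.Cfix o = ⊥ := by
        refine le_bot_iff.1 (le_of_le_of_eq ?_ (S.Cfix_disjoint h))
        exact le_inf inf_le_right (inf_le_left.trans inf_le_right)
      have hle := Submodule.finrank_mono (sup_le (inf_le_left : LinearMap.ker (S.mv a) ⊓ S.Cfix o' ≤ _)
        (S.Cfix_le_ker ho ha))
      rw [hb, finrank_bot, add_zero, S.finrank_Cfix ho] at hs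
      rw [S.finrank_ker_mv ho ha ha1] at hle
      omega
    let N := {a : ↥(octadFix o) // a ≠ 1}
    have hinj : Function.Injective (fun v : ↥(S.Cfix o') =>
        (⟨⟨⟨A v, hA v⟩, fun e => hA1 v (congrArg Subtype.val e)⟩, ⟨(v : S.WS), ⟨LinearMap.mem_ker.2 (hA0 v), v.2⟩⟩⟩ :
          Σ a : N, ↥(LinearMap.ker (S.mv ((a.1 : ↥(octadFix o)) : Equiv.Perm GolayPt)) ⊓ S.Cfix o'))) := by
      intro v w e
      exact Subtype.ext (congrArg (fun p : Σ a : N,
        ↥(LinearMap.ker (S.mv ((a.1 : ↥(octadFix o)) : Equiv.Perm GolayPt)) ⊓ S.Cfix o') => (p.2 : S.WS)) e)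
    haveI : Fintype N := Fintype.ofFinite N
    haveI : ∀ a : N, Finite ↥(LinearMap.ker (S.mv ((a.1 : ↥(octadFix o)) : Equiv.Perm GolayPt)) ⊓ S.Cfix o') :=
      fun a => inferInstance
    have hbound := Nat.card_le_card_of_injective _ hinj
    rw [hC64, Nat.card_sigma] at hbound
    have hsum := Finset.sum_le_card_nsmul (Finset.univ : Finset N)
      (fun a => Nat.card ↥(LinearMap.ker (S.mv ((a.1 : ↥(octadFix o)) : Equiv.Perm GolayPt)) ⊓ S.Cfix o')) 4
      fun a _ => hint _ a.1.2 fun e => a.2 (Subtype.ext e)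
    have hN : Fintype.card N ≤ 15 := by
      have h0 : Nat.card N < Nat.card ↥(octadFix o) := by
        haveI := Fintype.ofFinite ↥(octadFix o)
        rw [Nat.card_eq_fintype_card, Nat.card_eq_fintype_card]
        exact Fintype.card_subtype_lt (x := (1 : ↥(octadFix o))) (by simp)
      rw [natCard_octadFix ho.mem, Nat.card_eq_fintype_card] at h0
      omega
    rw [Finset.card_univ, smul_eq_mul] at hsum
    omega
  obtain ⟨v, hvC, hvbad⟩ := hv
  obtain ⟨f, rfl⟩ := S.pr_surjective v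
  obtain ⟨a, ha, ha1⟩ := S.exists_mem_fix_ne ho
  have hfC : S.pr f ∉ S.Cfix o := fun hh => hvbad a ha ha1 (S.Cfix_le_ker ho ha hh)
  obtain ⟨w, hwk, hwC⟩ : ∃ w ∈ LinearMap.ker (S.mv a), w ∉ S.Cfix o :=
    SetLike.exists_of_lt (lt_of_le_of_ne (S.Cfix_le_ker ho ha) fun e => by
      have := S.finrank_ker_mv ho ha ha1
      rw [← e, S.finrank_Cfix ho] at this
      omega)
  obtain ⟨f', rfl⟩ := S.pr_surjective w
  refine ⟨f, f', hvC, hfC, (S.qS_pr f).1 (S.qS_Cfix h.snd hvC), ?_, hwC, ?_⟩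
  · -- at most 64
    have hle : S.centV ho (inE f) ≤ U := by
      intro x hx
      obtain ⟨hxV, hxc⟩ := (S.mem_centV ho).1 hx
      refine ⟨hxV, MonoidHom.mem_ker.2 ?_⟩
      obtain ⟨⟨hxa, hxr⟩, -⟩ := (S.mem_Vo ho).1 hxV
      by_contra hx1
      refine hvbad _ hxa hx1 ((S.mv_eq_zero_iff (S.fix_M22 ho hxa).1 (S.fix_M22 ho hxa).2 _).2 ?_)
      rw [← hxr, S.rho_fix_iff]
      exact Or.inl (congrArg Subtype.val (mul_inv_eq_iff_eq_mul.2 hxc.symm) :)
    obtain ⟨u, hu, hue⟩ := hnot f hfC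
    have hlt : S.centV ho (inE f) < U := lt_of_le_of_ne hle fun e => by
      rw [← e, S.mem_centV] at hu
      rw [hu.2, mul_inv_cancel_right] at hue
      exact S.zH_ne (mul_eq_left.1 hue.symm)
    have := two_mul_card_le_of_lt hlt
    rw [hUcard] at this
    omega
  · -- at least 128
    obtain ⟨u, hu, hue⟩ := hnot f' hwC
    set q := inE f'
    have hqc : ∀ x ∈ U, q * x * q⁻¹ = x ∨ q * x * q⁻¹ = x * S.zH := by
      intro x hx
      obtain ⟨e, rfl, -⟩ := hmemU.1 hx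
      rcases (S.rho_fix_iff q e).1 (by rw [S.rho_of_mem (h := q) f'.2]; rfl) with h1 | h1
      · exact Or.inl (Subtype.ext h1)
      · exact Or.inr (Subtype.ext h1)
    have hcomb : ∀ x ∈ S.Vo ho, q * x * q⁻¹ = x * S.zH → x * u ∈ S.centV ho q := by
      intro x hx hxq
      refine (S.mem_centV ho).2 ⟨mul_mem hx hu.1, mul_inv_eq_iff_eq_mul.1 ?_⟩
      calc q * (x * u) * q⁻¹ = (q * x * q⁻¹) * (q * u * q⁻¹) := by group
        _ = x * u * (S.zH * S.zH) := by rw [hxq, hue, mul_assoc x, ← mul_assoc S.zH u, ← S.zH_comm u]; group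
        _ = x * u := by rw [S.zH_sq, mul_one]
    -- half of `U`
    have hhalf : 64 ≤ Nat.card ↥(S.centV ho q ⊓ U) := by
      have hval : ∀ x : ↥U, ∃ p : ↥(S.centV ho q ⊓ U) × Bool,
          (x : ↥(Cz z)) = (p.1 : ↥(Cz z)) * bif p.2 then u⁻¹ else 1 := by
        intro x
        rcases hqc x x.2 with e | e
        · exact ⟨(⟨x, ⟨(S.mem_centV ho).2 ⟨x.2.1, mul_inv_eq_iff_eq_mul.1 e⟩, x.2⟩⟩, false), by simp⟩
        · exact ⟨(⟨x * u, ⟨hcomb x x.2.1 e, mul_mem x.2 hu⟩⟩, true), by simp⟩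
      choose F hF using hval
      have hinj : Function.Injective F := fun a b e => Subtype.ext (by rw [hF a, hF b, e])
      have h1 := Nat.card_le_card_of_injective F hinj
      rw [hUcard, Nat.card_prod, Nat.card_eq_fintype_card (α := Bool), Fintype.card_bool] at h1
      omega
    obtain ⟨x0, hx0, hx0a⟩ := S.exists_mem_Vo ho ha
    have hfix : q * x0 * q⁻¹ = x0 ∨ q * x0 * q⁻¹ = x0 * S.zH := by
      have h1 : S.rho x0 (S.pr f') = S.pr f' := by
        rw [((S.mem_Vo ho).1 hx0).1.2, hx0a]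
        exact (S.mv_eq_zero_iff (S.fix_M22 ho ha).1 (S.fix_M22 ho ha).2 _).1 hwk
      rcases (S.rho_fix_iff x0 f').1 h1 with e | e
      · left
        have e' : x0 * q * x0⁻¹ = q := Subtype.ext e
        rw [mul_inv_eq_iff_eq_mul] at e'
        rw [← e', mul_inv_cancel_right]
      · right
        have e' : x0 * q * x0⁻¹ = q * S.zH := Subtype.ext e
        have e2 : x0 * q = q * x0 * S.zH := by
          rw [mul_inv_eq_iff_eq_mul] at e'
          rw [e', mul_assoc, ← S.zH_comm x0, ← mul_assoc]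
        calc q * x0 * q⁻¹ = q * x0 * (S.zH * S.zH) * q⁻¹ := by rw [S.zH_sq, mul_one]
          _ = (x0 * q) * (S.zH * q⁻¹) := by rw [e2]; group
          _ = x0 * S.zH := by
            rw [← S.zH_comm q⁻¹, mul_assoc, mul_inv_cancel_left]
    obtain ⟨y, hy, hyU⟩ : ∃ y ∈ S.centV ho q, y ∉ U := by
      rcases hfix with e | e
      · exact ⟨x0, (S.mem_centV ho).2 ⟨hx0, mul_inv_eq_iff_eq_mul.1 e⟩,
          fun hh => ha1 (by rw [← hx0a]; exact MonoidHom.mem_ker.1 hh.2)⟩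
      · refine ⟨x0 * u, hcomb x0 hx0 e, fun hh => ha1 ?_⟩
        have h2 : S.κ (x0 * u) = 1 := MonoidHom.mem_ker.1 hh.2
        rwa [map_mul, MonoidHom.mem_ker.1 hu.2, mul_one, hx0a] at h2
    have hlt : S.centV ho q ⊓ U < S.centV ho q :=
      lt_of_le_of_ne inf_le_left fun e => hyU (e.symm.le hy).2
    have := two_mul_card_le_of_lt hlt
    omega

end Cfsg.Agent.J4Type.Setting
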