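import Cfsg.Agent.Lib.J4Type.VClasses
import Cfsg.Agent.Lib.Golay.Perm

/-!
The coordinate model of `Vo`: codes below 2048, the 276 codes of the elements outside the class of `z`, their
labels by duads of the 24 points, and the kernel checks on them (helper19).

* `lcode`, `vcode`, `tList` : codes of the lifts, of the fixed space and of the 276
* `eta` : a label for each point, the label of a duad being the sum of the two
* `pin_sign`, `duad_mem`, `duadList_bits`, `eta_ker`, `eta_exact`, `eta_gen`
-/

set_option autoImplicit false
set_option linter.style.haveILetI false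

namespace Cfsg.Agent.J4Type.TModel

open Cfsg Cfsg.Agent.Golay

/-- A scalar as two bits. -/
def k4n (x : K4) : ℕ := x.a.val + 2 * x.b.val

/-- The code of a vector of the fixed space. -/
def vcode (x : Fin 3 → K4) : ℕ := (k4n (x 0) <<< 5) ^^^ (k4n (x 1) <<< 7) ^^^ (k4n (x 2) <<< 9)

/-- The code of a lift with the given signs in the two product rules. -/
def lcode (ε δ : Bool) (i j : Fin 6) : ℕ :=
  let f : Fin 6 → ℕ := fun k => if k.val < 5 then 2 ^ k.val else 30 ^^^ δ.toNat
  if i = 0 then f j else if j = 0 then f i else f i ^^^ f j ^^^ ε.toNat

/-- The scalars. -/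
def k4List : List K4 := [0, 1, K4.zeta, K4.zeta + 1]

/-- The unordered pairs of six points. -/
def pairList : List (Fin 6 × Fin 6) :=
  (List.finRange 6).flatMap fun i => ((List.finRange 6).filter fun j => i < j).map fun j => (i, j)

/-- The codes over the points of the hyperoval. -/
def hList : List ℕ :=
  (List.finRange 6).flatMap fun i => [1, K4.zeta, K4.zeta + 1].flatMap fun s =>
    [false, true].map fun b => vcode (fun k => s * Setting.hco i k) ^^^ Bool.toNat b

/-- The codes over the secants. -/
def sList (ε δ : Bool) : List ℕ :=
  pairList.flatMap fun p => k4List.flatMap fun s => k4List.map fun t =>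
    lcode ε δ p.1 p.2 ^^^ vcode (fun k => s * Setting.hco p.1 k + t * Setting.hco p.2 k) ^^^
      Bool.toNat (decide (s = 0) != decide (t = 0))

/-- All 276 codes. -/
def tList (ε δ : Bool) : List ℕ := hList ++ sList ε δ

/-- The bits at the members of a list. -/
def bitsAt : List ℕ → ℕ
  | [] => 0
  | y :: L => 2 ^ y ||| bitsAt L

theorem testBit_bitsAt (L : List ℕ) (x : ℕ) : (bitsAt L).testBit x = L.contains x := by
  induction L with
  | nil => simp [bitsAt]
  | cons y L ih =>
    rw [bitsAt, Nat.testBit_or, Nat.testBit_two_pow, ih, List.contains_cons]
    congr 1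
    exact decide_eq_decide.2 ⟨fun h => h.symm, fun h => h.symm⟩

/-- Every member is new. -/
def allNew : List ℕ → Bool
  | [] => true
  | y :: L => !(bitsAt L).testBit y && allNew L

theorem nodup_of_allNew : ∀ {L : List ℕ}, allNew L = true → L.Nodup
  | [], _ => List.nodup_nil
  | y :: L, h => by
    rw [allNew, Bool.and_eq_true, Bool.not_eq_true', testBit_bitsAt, List.contains_eq_mem,
      decide_eq_false_iff_not] at h
    exact List.nodup_cons.2 ⟨h.1, nodup_of_allNew h.2⟩

/-- The number of codes in the list whose sum with `x` is in it. -/
def nb (ε δ : Bool) (x : ℕ) : ℕ :=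
  (fun M => ((tList ε δ).filter fun y => M.testBit (x ^^^ y)).length) (bitsAt (tList ε δ))

theorem nb_eq (ε δ : Bool) (x : ℕ) :
    nb ε δ x = ((tList ε δ).filter fun y => (tList ε δ).contains (x ^^^ y)).length := by
  simp only [nb, testBit_bitsAt]

/-- The set of the codes as the bits of one number. -/
def tMask : ℕ :=
  0x2402a032010010008040100000081400801040020011000022a40030081004080100400544040038004100081000040000084102100001000840010042020a3800410008010040054404003810000400804010002402a032010010000008140022a4003080104002001100000810040008400100000841021000010042020a320011000022a4003080104000081004054404003800410008010040081000040201001000804010002402a0300008140210000100084001000008410042020a30000900400900004090000041008088b0900000400009004009000041008088b0090000409000004000090041008088b4002022b4002022b4002022ba9959554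

/-- The labels of the points, in the order of the bits. -/
def eta : List ℕ :=
  [0x2, 0x21, 0x41, 0x61, 0x4, 0x83, 0x605, 0x8, 0x2a9, 0x731, 0x1f, 0x6de, 0x10, 0x4f1, 0x183, 0x205, 0x37e,
    0x103, 0x405, 0x3d1, 0x549, 0x5be, 0x7e9, 0x0]

/-- The label of the point with bit `i`. -/
def etaAt (i : ℕ) : ℕ := eta.getD i 0

/-- Even sets of points whose labels add up to the unit codes. -/
def basisMasks : List ℕ :=
  [0x80000e, 0x800001, 0x800010, 0x800080, 0x80049f, 0xc, 0xa, 0x80002f, 0x6c3, 0x1ad, 0x8001f3]

theorem tList_lt : ∀ ε δ : Bool, (tList ε δ).all (fun x => decide (x < 2048)) = true := by decide +kernel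

theorem tList_allNew : ∀ ε δ : Bool, allNew (tList ε δ) = true := by decide +kernel

theorem tList_nodup (ε δ : Bool) : (tList ε δ).Nodup := nodup_of_allNew (tList_allNew ε δ)

theorem tList_length : ∀ ε δ : Bool, (tList ε δ).length = 276 := by decide +kernel

/-- A lift and an element over a point have equally many neighbours only for one choice of the signs. -/
theorem pin_sign : ∀ ε δ : Bool, nb ε δ (lcode ε δ 0 1) = nb ε δ (vcode (fun k => 1 * Setting.hco 0 k)) →
    ε = false ∧ δ = true := by
  decide +kernel

theorem tMask_spec : bitsAt (tList false true) = tMask := by decide +kernel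

theorem mem_tList_iff {x : ℕ} : x ∈ tList false true ↔ tMask.testBit x = true := by
  rw [← tMask_spec, testBit_bitsAt, List.contains_eq_mem, decide_eq_true_iff]

theorem duad_mem : ∀ a b : Fin 24, a ≠ b → tMask.testBit (etaAt a ^^^ etaAt b) = true := by decide +kernel

/-- The labels of all the duads. -/
def duadList : List ℕ :=
  (List.range 24).flatMap fun j => (List.range j).map fun i => etaAt i ^^^ etaAt j

theorem duadList_bits : bitsAt duadList = tMask := by decide +kernel

theorem mem_duadList_iff {x : ℕ} : x ∈ duadList ↔ tMask.testBit x = true := by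
  rw [← duadList_bits, testBit_bitsAt, List.contains_eq_mem, decide_eq_true_iff]

theorem eta_lt : ∀ a : Fin 24, etaAt a < 2048 := by decide +kernel

theorem eta_ker : (rows.all fun r => encAux eta r == 0) = true := by decide +kernel

/-- An even set with vanishing sum of labels lies in the code. -/
theorem eta_exact : ((List.range 4096).all fun h =>
    h == 0 || encAux eta (h <<< 12) != 0 || popcount (h <<< 12) % 2 == 1) = true := by
  decide +kernel

theorem eta_gen : ((List.range 11).all fun k => encAux eta (basisMasks.getD k 0) == 2 ^ k) = true := by
  decide +kernel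

theorem eta_none : etaAt 23 = 0 := rfl

end Cfsg.Agent.J4Type.TModel
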