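import Cfsg.Agent.Lib.J4Type.TLift
import Cfsg.Agent.Lib.J4Type.TModel

/-!
`Vo` in the coordinates of the model (helper19).

* `phiAux`, `Setting.Phi` : the map from codes
* `Setting.exists_model` : a bijection from the codes carrying the 276 codes onto the class outside that of `z`
-/

set_option autoImplicit false
set_option maxHeartbeats 1000000
set_option linter.style.haveILetI false
set_option linter.unusedSectionVars false
open scoped Pointwise commutatorElement
open Cfsg Subgroup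

namespace Cfsg.Agent.J4Type

/-- The product of the elements chosen by the bits. -/
def phiAux {M : Type*} [Monoid M] : List M → ℕ → M
  | [], _ => 1
  | g :: gs, x => (if x % 2 = 1 then g else 1) * phiAux gs (x / 2)

theorem phiAux_zero {M : Type*} [Monoid M] (gs : List M) : phiAux gs 0 = 1 := by
  induction gs with
  | nil => rfl
  | cons g gs ih => simp [phiAux, ih]

theorem phiAux_mem {M : Type*} [Monoid M] {gs : List M} {H : Submonoid M} (h : ∀ g ∈ gs, g ∈ H) :
    ∀ x, phiAux gs x ∈ H := by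
  induction gs with
  | nil => intro x; exact H.one_mem
  | cons g gs ih =>
    intro x
    refine H.mul_mem ?_ (ih (fun a ha => h a (List.mem_cons_of_mem _ ha)) _)
    split
    · exact h g List.mem_cons_self
    · exact H.one_mem

theorem phiAux_xor {M : Type*} [CommMonoid M] {gs : List M} (h : ∀ g ∈ gs, g * g = 1) :
    ∀ x y, phiAux gs (x ^^^ y) = phiAux gs x * phiAux gs y := by
  induction gs with
  | nil => intro x y; simp [phiAux]
  | cons g gs ih =>
    intro x y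
    have h2 : (x ^^^ y) % 2 = (x % 2) ^^^ (y % 2) := by
      simpa using Nat.xor_mod_two_pow (a := x) (b := y) (n := 1)
    simp only [phiAux, Nat.xor_div_two, h2, ih fun a ha => h a (List.mem_cons_of_mem _ ha)]
    rw [mul_mul_mul_comm]
    congr 1
    rcases Nat.mod_two_eq_zero_or_one x with hx | hx <;>
      rcases Nat.mod_two_eq_zero_or_one y with hy | hy <;>
      simp [hx, hy, h g List.mem_cons_self]

theorem phiAux_mod {M : Type*} [Monoid M] (gs : List M) :
    ∀ x, phiAux gs (x % 2 ^ gs.length) = phiAux gs x := by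
  induction gs with
  | nil => intro x; rfl
  | cons g gs ih =>
    intro x
    have h1 : x % 2 ^ (gs.length + 1) % 2 = x % 2 := Nat.mod_mod_of_dvd _ (dvd_pow_self 2 (by omega))
    have h2 : x % 2 ^ (gs.length + 1) / 2 = x / 2 % 2 ^ gs.length := by
      rw [pow_succ', Nat.mod_mul_right_div_self]
    simp only [phiAux, List.length_cons, h1, h2, ih]

theorem phiAux_map {M N : Type*} [Monoid M] [Monoid N] (f : M →* N) (gs : List M) :
    ∀ x, f (phiAux gs x) = phiAux (gs.map f) x := by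
  induction gs with
  | nil => intro x; exact map_one f
  | cons g gs ih =>
    intro x
    simp only [phiAux, List.map_cons, map_mul, ih]
    split <;> simp

namespace Setting

open Cfsg.Agent.Golay TModel

variable {G : Type*} [Group G] [Finite G] {z : G} {P : Subgroup G} (S : Setting z P)
  {o : Finset GolayPt}

/-- The eleven generators. -/
noncomputable def gens (ho : HexOct o) (c : S.Coord o) : List ↥(Cz z) :=
  [⟨z, self_mem_Cz z⟩, S.lT ho (c.lab 0 1), S.lT ho (c.lab 0 2), S.lT ho (c.lab 0 3), S.lT ho (c.lab 0 4),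
    S.sig (c.h 0), S.sig (K4.zeta • c.h 0), S.sig (c.h 1), S.sig (K4.zeta • c.h 1),
    S.sig (c.h 2), S.sig (K4.zeta • c.h 2)]

/-- The element with a given code. -/
noncomputable def Phi (ho : HexOct o) (c : S.Coord o) (x : ℕ) : ↥(Cz z) := phiAux (S.gens ho c) x

variable (ho : HexOct o) (c : S.Coord o)
include S ho

theorem gens_mem : ∀ g ∈ S.gens ho c, g ∈ S.Vo ho := by
  have hl : ∀ i j : Fin 6, i ≠ j → S.lT ho (c.lab i j) ∈ S.Vo ho :=
    fun i j h => (S.lT_spec ho (c.lab_mem i j h).1).1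
  intro g hg
  simp only [gens, List.mem_cons, List.not_mem_nil, or_false] at hg
  rcases hg with rfl | rfl | rfl | rfl | rfl | rfl | rfl | rfl | rfl | rfl | rfl
  · exact S.z_mem_Vo ho
  · exact hl _ _ (by decide)
  · exact hl _ _ (by decide)
  · exact hl _ _ (by decide)
  · exact hl _ _ (by decide)
  all_goals first
    | exact S.sig_mem_Vo ho (c.mem _)
    | exact S.sig_mem_Vo ho (Submodule.smul_mem _ _ (c.mem _))

theorem Phi_mem (x : ℕ) : S.Phi ho c x ∈ S.Vo ho :=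
  phiAux_mem (H := (S.Vo ho).toSubmonoid) (S.gens_mem ho c) x

theorem Phi_xor (x y : ℕ) : S.Phi ho c (x ^^^ y) = S.Phi ho c x * S.Phi ho c y := by
  letI : CommGroup ↥(S.Vo ho) :=
    { (inferInstance : Group ↥(S.Vo ho)) with mul_comm := fun a b => Subtype.ext (S.Vo_comm ho a.2 b.2) }
  let gs : List ↥(S.Vo ho) := (S.gens ho c).attach.map fun g => ⟨g.1, S.gens_mem ho c g.1 g.2⟩
  have hgs : gs.map (S.Vo ho).subtype = S.gens ho c := by
    simp only [gs, List.map_map]
    exact List.attach_map_subtype_val _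
  have h : ∀ v, S.Phi ho c v = ((phiAux gs v : ↥(S.Vo ho)) : ↥(Cz z)) := fun v => by
    show _ = (S.Vo ho).subtype (phiAux gs v)
    rw [phiAux_map, hgs]; rfl
  rw [h, h, h, phiAux_xor (gs := gs) fun g _ => Subtype.ext (S.Vo_sq ho g.2)]
  rfl

theorem Phi_zero : S.Phi ho c 0 = 1 := phiAux_zero _

theorem Phi_one : S.Phi ho c 1 = ⟨z, self_mem_Cz z⟩ := by
  simp [Phi, gens, phiAux]

theorem Phi_toNat (b : Bool) : S.Phi ho c b.toNat = zpw z b := by
  cases b
  · exact S.Phi_zero ho c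
  · exact S.Phi_one ho c

/-- The product rules up to two fixed signs. -/
theorem exists_signs (hs : IsSimpleGroup G) (hG : ¬ IsMulCommutative G) :
    ∃ ε δ : Bool, (∀ i j k, i ≠ j → j ≠ k → i ≠ k →
        S.lT ho (c.lab i j) * S.lT ho (c.lab j k) = S.lT ho (c.lab i k) * zpw z ε) ∧
      S.lT ho (c.lab 0 1) * S.lT ho (c.lab 2 3) = S.lT ho (c.lab 4 5) * zpw z δ := by
  have hcase : ∀ {a b d : Equiv.Perm GolayPt}, a ∈ octadFix o → b ∈ octadFix o → d ∈ octadFix o → a * b = d →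
      ∃ e : Bool, S.lT ho a * S.lT ho b = S.lT ho d * zpw z e := by
    intro a b d ha hb hd hab
    obtain ⟨h1, h2, h3⟩ := S.lT_spec ho ha
    obtain ⟨g1, g2, g3⟩ := S.lT_spec ho hb
    rcases S.lift_cases ho hd (mul_mem h1 g1) (by rw [map_mul, h2, g2, hab])
      ((show Commute (S.lT ho a : G) S.gen from h3).mul_left g3).eq with h | h
    · exact ⟨false, by simpa [zpw] using h⟩
    · exact ⟨true, h⟩
  obtain ⟨ε, hε⟩ := hcase (c.lab_mem 0 1 (by decide)).1 (c.lab_mem 1 2 (by decide)).1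
    (c.lab_mem 0 2 (by decide)).1 (c.mul_three 0 1 2 (by decide) (by decide) (by decide))
  obtain ⟨δ, hδ⟩ := hcase (c.lab_mem 0 1 (by decide)).1 (c.lab_mem 2 3 (by decide)).1
    (c.lab_mem 4 5 (by decide)).1 (c.mul_four 0 1 2 3 4 5 (by decide))
  refine ⟨ε, δ, fun i j k hij hjk hik => ?_, hδ⟩
  obtain ⟨l, hil, hjl, hkl⟩ := (by decide : ∀ i j k : Fin 6, ∃ l, i ≠ l ∧ j ≠ l ∧ k ≠ l) i j k
  obtain ⟨π, hπ, p0, p1, p2, -⟩ := exists_even_map i j k l hij hik hil hjk hjl hkl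
  obtain ⟨g, -, hgs, hgg, -, hglab⟩ := S.exists_equiv_gen ho c hπ
  have hc : ∀ a b : Fin 6, a ≠ b → g * S.lT ho (c.lab a b) * g⁻¹ = S.lT ho (c.lab (π a) (π b)) := fun a b hab => by
    rw [S.lT_conj ho hs hG (c.lab_mem a b hab).1 (c.lab_mem a b hab).2 hgs hgg, hglab a b hab]
  have h := congrArg (fun x => g * x * g⁻¹) hε
  rwa [show g * (S.lT ho (c.lab 0 1) * S.lT ho (c.lab 1 2)) * g⁻¹ =
      (g * S.lT ho (c.lab 0 1) * g⁻¹) * (g * S.lT ho (c.lab 1 2) * g⁻¹) by group,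
    show g * (S.lT ho (c.lab 0 2) * zpw z ε) * g⁻¹ = (g * S.lT ho (c.lab 0 2) * g⁻¹) * (g * zpw z ε * g⁻¹) by group,
    S.zpw_conj ho, hc 0 1 (by decide), hc 1 2 (by decide), hc 0 2 (by decide), p0, p1, p2] at h

theorem Phi_vcode (x : Fin 3 → K4) : S.Phi ho c (vcode x) = S.sig (S.cvec c x) := by
  have hk : ∀ (k : Fin 3) (s : K4),
      S.Phi ho c (k4n s <<< (5 + 2 * k.val)) = S.sig (s • c.h (k.castLE (by norm_num))) := by
    intro k s
    have hC : c.h (k.castLE (by norm_num)) ∈ S.Cfix o := c.mem _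
    have h1 : S.Phi ho c (1 <<< (5 + 2 * k.val)) = S.sig (c.h (k.castLE (by norm_num))) := by
      fin_cases k <;> simp [Phi, gens, phiAux] <;> rfl
    have h2 : S.Phi ho c (2 <<< (5 + 2 * k.val)) = S.sig (K4.zeta • c.h (k.castLE (by norm_num))) := by
      fin_cases k <;> simp [Phi, gens, phiAux] <;> rfl
    have h3 : (3 : ℕ) <<< (5 + 2 * k.val) = (1 <<< (5 + 2 * k.val)) ^^^ (2 <<< (5 + 2 * k.val)) := by
      fin_cases k <;> rfl
    rcases K4.cases' s with rfl | rfl | rfl | rfl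
    · rw [zero_smul, S.sig_zero, show k4n 0 = 0 by decide +kernel, Nat.zero_shiftLeft, S.Phi_zero]
    · rw [one_smul, show k4n 1 = 1 by decide +kernel, h1]
    · rw [show k4n K4.zeta = 2 by decide +kernel, h2]
    · rw [show k4n (K4.zeta + 1) = 3 by decide +kernel, h3, S.Phi_xor, h1, h2, add_smul, one_smul,
        S.sig_add ho (Submodule.smul_mem _ _ hC) hC, S.Vo_comm ho (S.sig_mem_Vo ho hC)
          (S.sig_mem_Vo ho (Submodule.smul_mem _ _ hC))]
  have e0 := hk 0 (x 0)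
  have e1 := hk 1 (x 1)
  have e2 := hk 2 (x 2)
  have m0 : x 0 • c.h 0 ∈ S.Cfix o := Submodule.smul_mem _ _ (c.mem 0)
  have m1 : x 1 • c.h 1 ∈ S.Cfix o := Submodule.smul_mem _ _ (c.mem 1)
  have m2 : x 2 • c.h 2 ∈ S.Cfix o := Submodule.smul_mem _ _ (c.mem 2)
  show S.Phi ho c ((k4n (x 0) <<< 5) ^^^ (k4n (x 1) <<< 7) ^^^ (k4n (x 2) <<< 9)) = _
  rw [S.Phi_xor, S.Phi_xor]
  refine (congrArg₂ (· * ·) (congrArg₂ (· * ·) e0 e1) e2).trans ?_
  rw [cvec, S.sig_add ho (add_mem m0 m1) m2, S.sig_add ho m0 m1]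
  rfl

theorem sig_smul_h (i : Fin 6) (s : K4) :
    S.sig (s • c.h i) = S.Phi ho c (vcode fun k => s * hco i k) := by
  rw [S.Phi_vcode, S.cvec_hco c i, S.smul_cvec]

theorem Phi_lcode {ε δ : Bool}
    (h3 : ∀ i j k, i ≠ j → j ≠ k → i ≠ k →
      S.lT ho (c.lab i j) * S.lT ho (c.lab j k) = S.lT ho (c.lab i k) * zpw z ε)
    (h4 : S.lT ho (c.lab 0 1) * S.lT ho (c.lab 2 3) = S.lT ho (c.lab 4 5) * zpw z δ)
    {i j : Fin 6} (hij : i ≠ j) : S.Phi ho c (lcode ε δ i j) = S.lT ho (c.lab i j) := by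
  have hV : ∀ a b : Fin 6, a ≠ b → S.lT ho (c.lab a b) ∈ S.Vo ho :=
    fun a b h => (S.lT_spec ho (c.lab_mem a b h).1).1
  have hz : ∀ b : Bool, zpw z b * zpw z b = 1 := fun b => by cases b <;> simp [zpw, S.zH_mul_self]
  have hzV : ∀ b : Bool, zpw z b ∈ S.Vo ho := fun b => by
    cases b
    · exact one_mem _
    · exact S.z_mem_Vo ho
  have hsmall : ∀ k : Fin 6, k ≠ 0 → k.val < 5 → S.Phi ho c (2 ^ k.val) = S.lT ho (c.lab 0 k) := by
    intro k h0 h5
    fin_cases k
    · exact absurd rfl h0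
    all_goals first
      | exact absurd h5 (by decide)
      | simp [Phi, gens, phiAux]
  have hab : ∀ a b : Fin 6, a ≠ 0 → b ≠ 0 → a ≠ b →
      S.lT ho (c.lab 0 a) * S.lT ho (c.lab 0 b) = S.lT ho (c.lab a b) * zpw z ε := by
    intro a b ha hb hne
    rw [c.lab_comm 0 a (Ne.symm ha)]
    exact h3 a 0 b ha (Ne.symm hb) hne
  have h05 : S.Phi ho c (30 ^^^ δ.toNat) = S.lT ho (c.lab 0 5) := by
    rw [show (30 : ℕ) = 2 ^ 1 ^^^ 2 ^ 2 ^^^ 2 ^ 3 ^^^ 2 ^ 4 from rfl, S.Phi_xor, S.Phi_xor, S.Phi_xor, S.Phi_xor,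
      hsmall 1 (by decide) (by decide) |> (fun h => (show S.Phi ho c (2 ^ 1) = _ from h)),
      hsmall 2 (by decide) (by decide) |> (fun h => (show S.Phi ho c (2 ^ 2) = _ from h)),
      hsmall 3 (by decide) (by decide) |> (fun h => (show S.Phi ho c (2 ^ 3) = _ from h)),
      hsmall 4 (by decide) (by decide) |> (fun h => (show S.Phi ho c (2 ^ 4) = _ from h)), S.Phi_toNat]
    set A := S.lT ho (c.lab 0 1)
    set B := S.lT ho (c.lab 0 2)
    set C := S.lT ho (c.lab 0 3)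
    set D := S.lT ho (c.lab 0 4)
    set F := S.lT ho (c.lab 0 5)
    have r1 : B * C = S.lT ho (c.lab 2 3) * zpw z ε := hab 2 3 (by decide) (by decide) (by decide)
    have r2 : D * F = S.lT ho (c.lab 4 5) * zpw z ε := hab 4 5 (by decide) (by decide) (by decide)
    set e := zpw z ε
    set d := zpw z δ
    set L := S.lT ho (c.lab 4 5)
    have hcomm : ∀ {p q : ↥(Cz z)}, p ∈ S.Vo ho → q ∈ S.Vo ho → p * q = q * p := fun hp hq => S.Vo_comm ho hp hq
    have hLV : L ∈ S.Vo ho := hV _ _ (by decide)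
    have hDV : D ∈ S.Vo ho := hV _ _ (by decide)
    have hF : F = D * (L * e) := by
      rw [← r2, ← mul_assoc, S.Vo_sq ho hDV, one_mul]
    calc A * B * C * D * d = A * (B * C) * D * d := by simp only [mul_assoc]
      _ = L * d * e * D * d := by rw [r1, ← mul_assoc, h4]
      _ = L * (e * D) * (d * d) := by
        rw [mul_assoc L d e, hcomm (hzV δ) (hzV ε), ← mul_assoc L e d, mul_assoc _ d D, hcomm (hzV δ) hDV]
        simp only [mul_assoc]
        rfl
      _ = F := by rw [hz, mul_one, hF, ← mul_assoc L e D, hcomm hDV (mul_mem hLV (hzV ε))]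
  have h0 : ∀ k : Fin 6, k ≠ 0 →
      S.Phi ho c (if k.val < 5 then 2 ^ k.val else 30 ^^^ δ.toNat) = S.lT ho (c.lab 0 k) := by
    intro k hk
    split
    · exact hsmall k hk ‹_›
    · rw [show k = 5 from Fin.ext (by have := k.isLt; show k.val = 5; omega), h05]
  unfold lcode
  simp only []
  by_cases hi : i = 0
  · subst hi
    rw [if_pos rfl]
    exact h0 j (Ne.symm hij)
  rw [if_neg hi]
  by_cases hj : j = 0
  · subst hj
    rw [if_pos rfl, c.lab_comm _ _ hij]
    exact h0 i hi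
  · rw [if_neg hj, S.Phi_xor, S.Phi_xor, S.Phi_toNat, h0 i hi, h0 j hj, hab i j hi hj hij, mul_assoc, hz, mul_one]

/-- **The model.** -/
theorem exists_model (hs : IsSimpleGroup G) (hG : ¬ IsMulCommutative G) :
    ∃ Φ : ℕ → ↥(Cz z), (∀ x y, Φ (x ^^^ y) = Φ x * Φ y) ∧ Set.BijOn Φ (Set.Iio 2048) (S.Vo ho) ∧
      ∀ x < 2048, (Φ x ∈ S.Tz ho ↔ tMask.testBit x = true) := by
  classical
  obtain ⟨c⟩ := S.exists_coord ho
  obtain ⟨ε, δ, h3, h4⟩ := S.exists_signs ho c hs hG
  have hl : ∀ {i j : Fin 6}, i ≠ j → S.Phi ho c (lcode ε δ i j) = S.lT ho (c.lab i j) :=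
    fun h => S.Phi_lcode ho c h3 h4 h
  -- the lifts and the commutator part generate
  have hcov : ∀ v ∈ S.Vo ho, ∃ x < 2048, (S.Phi ho c) x = v := by
    intro v hv
    have hlt : ∀ x, ∃ y < 2048, (S.Phi ho c) y = (S.Phi ho c) x := fun x => ⟨x % 2048, Nat.mod_lt _ (by norm_num),
      by
        have h := phiAux_mod (S.gens ho c) x
        rw [show (S.gens ho c).length = 11 from rfl, show (2 : ℕ) ^ 11 = 2048 by norm_num] at h
        exact h⟩
    suffices h : ∃ x, (S.Phi ho c) x = v by obtain ⟨x, rfl⟩ := h; exact hlt x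
    have hU : ∀ w ∈ S.Vo ho, S.κ w = 1 → ∃ x, (S.Phi ho c) x = w := by
      intro w hw hk
      have hE := S.mem_E_of_mem_Vo ho hw hk
      have he : S.pr ⟨(w : G), hE⟩ ∈ S.Cfix o := (S.inE_mem_Vo_iff ho ⟨_, hE⟩).1 hw
      obtain ⟨d, hd, hdp⟩ := S.exists_sig (S.pr ⟨(w : G), hE⟩)
      obtain ⟨x, hx⟩ := S.exists_cvec c he
      rw [← hx, ← S.Phi_vcode ho c x] at hd
      rcases (S.pr_eq_iff ⟨(w : G), hE⟩ d).1 hdp.symm with h | h
      · exact ⟨vcode x, by rw [← hd]; exact Subtype.ext h.symm⟩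
      · refine ⟨vcode x ^^^ 1, ?_⟩
        rw [S.Phi_xor, S.Phi_one, ← hd]
        exact Subtype.ext h.symm
    by_cases hk : S.κ v = 1
    · exact hU v hv hk
    · obtain ⟨i, j, hij, hlab⟩ := c.lab_surj _ ((S.mem_Vo ho).1 hv).1.1 hk
      obtain ⟨hlV, hlk, -⟩ := S.lT_spec ho (c.lab_mem i j hij).1
      obtain ⟨x, hx⟩ := hU ((S.lT ho (c.lab i j))⁻¹ * v) (mul_mem (inv_mem hlV) hv)
        (by rw [map_mul, map_inv, hlk, hlab, inv_mul_cancel])
      exact ⟨lcode ε δ i j ^^^ x, by rw [S.Phi_xor, hl hij, hx, mul_inv_cancel_left]⟩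
  have hbij : Set.BijOn (S.Phi ho c) (Set.Iio 2048) (S.Vo ho) := by
    refine ⟨fun x _ => S.Phi_mem ho c x, ?_, fun v hv => ?_⟩
    · refine Set.injOn_of_ncard_image_eq ?_ (Set.toFinite _)
      rw [show (S.Phi ho c) '' Set.Iio 2048 = (S.Vo ho : Set ↥(Cz z)) from Set.Subset.antisymm
        (by rintro _ ⟨x, -, rfl⟩; exact S.Phi_mem ho c x) (fun v hv => ?_),
        ← Nat.card_coe_set_eq, ← Nat.card_coe_set_eq]
      · show Nat.card ↥(S.Vo ho) = _
        rw [S.natCard_Vo ho, Nat.card_coe_set_eq, Set.ncard_Iio_nat]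
        norm_num
      · obtain ⟨x, hx, rfl⟩ := hcov v hv
        exact ⟨x, hx, rfl⟩
    · obtain ⟨x, hx, rfl⟩ := hcov v hv
      exact ⟨x, hx, rfl⟩
  -- the listed codes
  have hmem : ∀ x ∈ tList ε δ, (S.Phi ho c) x ∈ S.Tz ho := by
    intro x hx
    rw [tList, List.mem_append] at hx
    rcases hx with hx | hx
    · simp only [hList, List.mem_flatMap, List.mem_map] at hx
      obtain ⟨i, -, s, hsl, b, -, rfl⟩ := hx
      have hs0 : s ≠ 0 := by
        rintro rfl
        revert hsl; decide +kernel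
      rw [S.Phi_xor, ← S.sig_smul_h ho c, S.Phi_toNat, S.Tz_eq ho hs hG c]
      left
      obtain ⟨d, hd, hdp⟩ := S.exists_sig (s • c.h i)
      rw [← hd]
      cases b
      · exact ⟨d, (mul_one _).symm, i, s, hs0, hdp⟩
      · exact ⟨d * ⟨z, S.z_mem_E⟩, Subtype.ext rfl, i, s, hs0, by
          rw [S.pr_mul, hdp, (S.pr_eq_zero ⟨z, S.z_mem_E⟩).2 (Or.inr rfl), add_zero]⟩
    · simp only [sList, List.mem_flatMap, List.mem_map] at hx
      obtain ⟨⟨i, j⟩, hp, s, -, t, -, rfl⟩ := hx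
      have hij : i ≠ j := by
        have hall : (pairList.all fun p => decide (p.1 ≠ p.2)) = true := by decide +kernel
        exact of_decide_eq_true (List.all_eq_true.1 hall _ hp)
      rw [S.Phi_xor, S.Phi_xor, hl hij, S.Phi_toNat, S.Phi_vcode]
      have h := S.xT_mem_Tz ho hs hG c hij s t
      rwa [show S.cvec c (fun k => s * hco i k + t * hco j k) = s • c.h i + t • c.h j by
        rw [S.cvec_hco c i, S.cvec_hco c j, S.smul_cvec, S.smul_cvec, S.cvec_add]]
  have hlt : ∀ {ε δ : Bool} {x : ℕ}, x ∈ tList ε δ → x < 2048 := fun {ε δ x} h =>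
    of_decide_eq_true (List.all_eq_true.1 (tList_lt ε δ) x h)
  have hxlt : ∀ {x y : ℕ}, x < 2048 → y < 2048 → x ^^^ y < 2048 := fun hx hy =>
    Nat.xor_lt_two_pow (n := 11) hx hy
  have heq : (S.Phi ho c) '' {x | x ∈ tList ε δ} = S.Tz ho := by
    refine Set.eq_of_subset_of_ncard_le (by rintro _ ⟨x, hx, rfl⟩; exact hmem x hx) ?_ (Set.toFinite _)
    have hsub : {x | x ∈ tList ε δ} ⊆ Set.Iio 2048 := fun x hx => hlt hx
    rw [S.ncard_Tz ho hs hG, (hbij.injOn.mono hsub).ncard_image,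
      show ({x | x ∈ tList ε δ} : Set ℕ) = ((tList ε δ).toFinset : Set ℕ) by ext x; simp, Set.ncard_coe_finset,
      List.toFinset_card_of_nodup (tList_nodup ε δ), tList_length]
  have hiff : ∀ x < 2048, ((S.Phi ho c) x ∈ S.Tz ho ↔ x ∈ tList ε δ) := by
    refine fun x hx => ⟨fun h => ?_, hmem x⟩
    rw [← heq] at h
    obtain ⟨y, hy, hyx⟩ := h
    exact hbij.injOn (hlt hy) hx hyx ▸ hy
  -- equally many neighbours
  have hnb : ∀ a ∈ tList ε δ, ∀ b ∈ tList ε δ, nb ε δ a = nb ε δ b := by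
    intro a ha b hb
    obtain ⟨n, hn, hne⟩ := S.Tz_trans ho hs hG (hmem a ha) (hmem b hb)
    have hcount : ∀ a ∈ tList ε δ, nb ε δ a = {v : ↥(Cz z) | v ∈ S.Tz ho ∧ (S.Phi ho c) a * v ∈ S.Tz ho}.ncard := by
      intro a ha
      rw [nb_eq, show {v : ↥(Cz z) | v ∈ S.Tz ho ∧ (S.Phi ho c) a * v ∈ S.Tz ho} =
          (S.Phi ho c) '' (((tList ε δ).filter fun y => (tList ε δ).contains (a ^^^ y)).toFinset : Set ℕ) from ?_,
        Set.ncard_image_of_injOn (hbij.injOn.mono fun y hy => hlt (List.mem_filter.1 (List.mem_toFinset.1 hy)).1),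
        Set.ncard_coe_finset, List.toFinset_card_of_nodup ((tList_nodup ε δ).filter _)]
      ext v
      simp only [Set.mem_image, Finset.mem_coe, List.mem_toFinset, List.mem_filter, List.contains_eq_mem,
        decide_eq_true_eq]
      constructor
      · rintro ⟨hv, hav⟩
        rw [← heq] at hv
        obtain ⟨y, hy, rfl⟩ := hv
        refine ⟨y, ⟨hy, (hiff _ (hxlt (hlt ha) (hlt hy))).1 ?_⟩, rfl⟩
        rw [S.Phi_xor]; exact hav
      · rintro ⟨y, ⟨hy, hay⟩, rfl⟩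
        refine ⟨hmem y hy, ?_⟩
        rw [← S.Phi_xor]; exact hmem _ hay
    rw [hcount a ha, hcount b hb]
    let f : G → G := fun v => n * v * n⁻¹
    have hf : Function.Injective f := fun u v h => mul_left_cancel (mul_right_cancel h)
    have himg : ∀ A : Set ↥(Cz z), A.ncard = (f '' ((↑) '' A)).ncard := fun A => by
      rw [Set.ncard_image_of_injective _ hf, Set.ncard_image_of_injective _ Subtype.val_injective]
    rw [himg, ← Set.ncard_image_of_injective {v : ↥(Cz z) | v ∈ S.Tz ho ∧ (S.Phi ho c) b * v ∈ S.Tz ho} Subtype.val_injective]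
    refine congrArg Set.ncard (Set.ext fun w => ⟨?_, ?_⟩)
    · rintro ⟨_, ⟨v, ⟨hv, hav⟩, rfl⟩, rfl⟩
      obtain ⟨v', hv', he⟩ := S.conj_mem_Tz ho hn hv
      obtain ⟨u, hu, hue⟩ := S.conj_mem_Tz ho hn hav
      refine ⟨v', ⟨hv', ?_⟩, he⟩
      convert hu using 1
      refine Subtype.ext ?_
      rw [hue, Subgroup.coe_mul, he, ← hne, Subgroup.coe_mul]
      group
    · rintro ⟨v', ⟨hv', hbv⟩, rfl⟩
      have hn' := inv_mem hn
      obtain ⟨v, hv, he⟩ := S.conj_mem_Tz ho hn' hv'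
      obtain ⟨u, hu, hue⟩ := S.conj_mem_Tz ho hn' hbv
      refine ⟨_, ⟨v, ⟨hv, ?_⟩, rfl⟩, by simp only [f]; rw [he]; group⟩
      convert hu using 1
      refine Subtype.ext ?_
      rw [hue, Subgroup.coe_mul, he, Subgroup.coe_mul, ← hne]
      group
  have hl01 : lcode ε δ 0 1 ∈ tList ε δ ∧ vcode (fun k => 1 * hco 0 k) ∈ tList ε δ := by
    have hall : ∀ ε δ : Bool, ((tList ε δ).contains (lcode ε δ 0 1) &&
        (tList ε δ).contains (vcode fun k => 1 * hco 0 k)) = true := by decide +kernel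
    have h := hall ε δ
    rw [Bool.and_eq_true, List.contains_eq_mem, List.contains_eq_mem, decide_eq_true_iff, decide_eq_true_iff] at h
    exact h
  obtain ⟨rfl, rfl⟩ := pin_sign ε δ (hnb _ hl01.1 _ hl01.2)
  exact ⟨S.Phi ho c, S.Phi_xor ho c, hbij, fun x hx => (hiff x hx).trans mem_tList_iff⟩

end Setting

end Cfsg.Agent.J4Type
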