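import Cfsg.Agent.Lib.J4Type.OrbitT

/-!
Distinguished lifts in `Vo` (helper19).

* `Setting.sig` : the lift of the fixed space into the commutator with the generator
* `Setting.lT` : the element outside the class of `z` over an involution, commuting with the generator
* `Setting.xT_mem_Tz` : the elements outside the class of `z` over a secant
-/

set_option autoImplicit false
set_option maxHeartbeats 1000000
set_option linter.style.haveILetI false
set_option linter.unusedSectionVars false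
open scoped Pointwise commutatorElement
open Cfsg Subgroup

namespace Cfsg.Agent.J4Type.Setting

open Cfsg.Agent.Golay

variable {G : Type*} [Group G] [Finite G] {z : G} {P : Subgroup G} (S : Setting z P)
  {o : Finset GolayPt}

/-- A preimage of the rotated vector. -/
noncomputable def sigPre (v : S.WS) : ↥(Ez z) := (S.pr_surjective (S.omega v)).choose

/-- The lift of a vector into the commutator with the generator. -/
noncomputable def sig (v : S.WS) : ↥(Cz z) :=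
  inE (S.sigPre v) * (S.genH * inE (S.sigPre v) * S.genH⁻¹)⁻¹

include S

theorem zH_conj (h : ↥(Cz z)) : h * ⟨z, self_mem_Cz z⟩ * h⁻¹ = ⟨z, self_mem_Cz z⟩ :=
  Subtype.ext (S.conj_fix_z h)

theorem zH_mul_self : (⟨z, self_mem_Cz z⟩ : ↥(Cz z)) * ⟨z, self_mem_Cz z⟩ = 1 := Subtype.ext S.z_sq

theorem sig_eq (v : S.WS) (f : ↥(Ez z)) (hf : S.pr f = S.omega v) :
    S.sig v = inE f * (S.genH * inE f * S.genH⁻¹)⁻¹ := by
  set zH : ↥(Cz z) := ⟨z, self_mem_Cz z⟩
  rcases (S.pr_eq_iff (S.sigPre v) f).1 ((S.pr_surjective (S.omega v)).choose_spec.trans hf.symm) with h | h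
  · rw [sig, show inE (S.sigPre v) = inE f from Subtype.ext h]
  · rw [sig, show inE (S.sigPre v) = inE f * zH from Subtype.ext h]
    have e : S.genH * (inE f * zH) * S.genH⁻¹ = S.genH * inE f * S.genH⁻¹ * zH := by
      calc S.genH * (inE f * zH) * S.genH⁻¹ = S.genH * inE f * S.genH⁻¹ * (S.genH * zH * S.genH⁻¹) := by group
        _ = _ := by rw [S.zH_conj]
    rw [e, mul_inv_rev, mul_assoc, mul_inv_cancel_left]

theorem exists_sig (v : S.WS) : ∃ d : ↥(Ez z), inE d = S.sig v ∧ S.pr d = v := by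
  let f := S.sigPre v
  have hf : S.pr f = S.omega v := (S.pr_surjective _).choose_spec
  let g : ↥(Ez z) := ⟨S.gen * f * S.gen⁻¹, conj_mem_Ez S.gen_mem f.2⟩
  refine ⟨f * g⁻¹, Subtype.ext rfl, ?_⟩
  rw [S.pr_mul, S.pr_inv, hf, show S.pr g = S.omega (S.pr f) from (S.rho_pr S.genH f).symm, hf, S.omega_sum,
    ← add_assoc, ZModModule.add_self, zero_add]

theorem κ_sig (v : S.WS) : S.κ (S.sig v) = 1 := by
  obtain ⟨d, hd, -⟩ := S.exists_sig v
  rw [← hd, S.κ_inE]

theorem sig_zero : S.sig 0 = 1 := by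
  rw [S.sig_eq 0 1 (by rw [S.pr_one, map_zero]), show inE (1 : ↥(Ez z)) = 1 from Subtype.ext rfl]
  simp

theorem sig_ne_sig_mul {v w : S.WS} (h : S.sig v = S.sig w ∨ S.sig v = S.sig w * ⟨z, self_mem_Cz z⟩) : v = w := by
  obtain ⟨d, hd, hv⟩ := S.exists_sig v
  obtain ⟨d', hd', hw⟩ := S.exists_sig w
  rw [← hd, ← hd'] at h
  rw [← hv, ← hw, S.pr_eq_iff]
  exact h.imp (fun e => congrArg (fun x : ↥(Cz z) => (x : G)) e) (fun e => congrArg (fun x : ↥(Cz z) => (x : G)) e)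

theorem sig_conj {k : ↥(Cz z)} (hk : (k : G) * S.gen = S.gen * k) (v : S.WS) :
    k * S.sig v * k⁻¹ = S.sig (S.rho k v) := by
  have hkH : k * S.genH = S.genH * k := Subtype.ext hk
  let f := S.sigPre v
  have hf : S.pr f = S.omega v := (S.pr_surjective _).choose_spec
  let f' : ↥(Ez z) := ⟨(k : G) * f * (k : G)⁻¹, conj_mem_Ez k.2 f.2⟩
  have hf' : S.pr f' = S.omega (S.rho k v) := by
    rw [show S.pr f' = S.rho k (S.pr f) from (S.rho_pr k f).symm, hf, S.omega_eq, S.omega_eq,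
      ← LinearEquiv.mul_apply, ← map_mul, hkH, map_mul, LinearEquiv.mul_apply]
  rw [S.sig_eq _ f' hf', show inE f' = k * inE f * k⁻¹ from Subtype.ext rfl]
  show k * (inE f * (S.genH * inE f * S.genH⁻¹)⁻¹) * k⁻¹ = _
  calc k * (inE f * (S.genH * inE f * S.genH⁻¹)⁻¹) * k⁻¹
      = (k * inE f * k⁻¹) * ((k * S.genH) * inE f * (k * S.genH)⁻¹)⁻¹ := by group
    _ = _ := by rw [hkH]; group

variable (ho : HexOct o)
include ho

theorem sig_mem_Vo {v : S.WS} (hv : v ∈ S.Cfix o) : S.sig v ∈ S.Vo ho := by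
  obtain ⟨d, hd, rfl⟩ := S.exists_sig v
  rw [← hd]
  exact (S.inE_mem_Vo_iff ho d).2 hv

theorem sig_add {v w : S.WS} (hv : v ∈ S.Cfix o) (hw : w ∈ S.Cfix o) : S.sig (v + w) = S.sig v * S.sig w := by
  let f := S.sigPre v
  let f' := S.sigPre w
  have hf : S.pr f = S.omega v := (S.pr_surjective _).choose_spec
  have hf' : S.pr f' = S.omega w := (S.pr_surjective _).choose_spec
  have hω : ∀ {u}, u ∈ S.Cfix o → S.omega u ∈ S.Cfix o := fun {u} hu => by
    rw [← S.zeta_smul]; exact Submodule.smul_mem _ _ hu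
  have hfV : inE f ∈ S.Vo ho := (S.inE_mem_Vo_iff ho f).2 (by rw [hf]; exact hω hv)
  have hfV' : inE f' ∈ S.Vo ho := (S.inE_mem_Vo_iff ho f').2 (by rw [hf']; exact hω hw)
  have hg : S.κ S.genH ∈ stabO o := by
    rw [show S.κ S.genH = 1 from S.κ_gen]; exact one_mem _
  rw [S.sig_eq (v + w) (f * f') (by rw [S.pr_mul, hf, hf', map_add]),
    show inE (f * f') = inE f * inE f' from Subtype.ext rfl]
  show _ = inE f * (S.genH * inE f * S.genH⁻¹)⁻¹ * (inE f' * (S.genH * inE f' * S.genH⁻¹)⁻¹)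
  set a := inE f
  set b := inE f'
  set ga := S.genH * a * S.genH⁻¹ with hga
  set gb := S.genH * b * S.genH⁻¹ with hgb
  have hgaV : ga ∈ S.Vo ho := S.conj_mem_Vo ho hg hfV
  have hgbV : gb ∈ S.Vo ho := S.conj_mem_Vo ho hg hfV'
  rw [show S.genH * (a * b) * S.genH⁻¹ = ga * gb by rw [hga, hgb]; group, mul_inv_rev,
    S.Vo_comm ho (inv_mem hgbV) (inv_mem hgaV), mul_assoc, ← mul_assoc b,
    S.Vo_comm ho hfV' (inv_mem hgaV)]
  group

omit ho in
open Classical in
/-- The element outside the class of `z` over an element of the octad group, commuting with the generator. -/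
noncomputable def lT (ho : HexOct o) (a : Equiv.Perm GolayPt) : ↥(Cz z) :=
  if S.yF ho a ∈ S.Oz ho then S.yF ho a * ⟨z, self_mem_Cz z⟩ else S.yF ho a

theorem lT_spec {a : Equiv.Perm GolayPt} (ha : a ∈ octadFix o) :
    S.lT ho a ∈ S.Vo ho ∧ S.κ (S.lT ho a) = a ∧ (S.lT ho a : G) * S.gen = S.gen * S.lT ho a := by
  obtain ⟨h1, h2, h3⟩ := S.yF_spec ho ha
  unfold lT
  split
  · refine ⟨mul_mem h1 (S.z_mem_Vo ho), by rw [map_mul, h2, S.κ_z, mul_one], ?_⟩
    exact ((show Commute (S.yF ho a : G) S.gen from h3).mul_left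
      (show Commute z S.gen from (mem_Cz.1 S.gen_mem).symm)).eq
  · exact ⟨h1, h2, h3⟩

theorem lift_cases {a : Equiv.Perm GolayPt} (ha : a ∈ octadFix o) {x : ↥(Cz z)} (hx : x ∈ S.Vo ho)
    (hk : S.κ x = a) (hc : (x : G) * S.gen = S.gen * x) :
    x = S.lT ho a ∨ x = S.lT ho a * ⟨z, self_mem_Cz z⟩ := by
  obtain ⟨h1, h2, h3⟩ := S.lT_spec ho ha
  have hu : (S.lT ho a)⁻¹ * x ∈ S.Vo ho := mul_mem (inv_mem h1) hx
  have hE := S.mem_E_of_mem_Vo ho hu (by rw [map_mul, map_inv, h2, hk, inv_mul_cancel])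
  rcases S.fix _ hE ((show Commute (S.lT ho a : G) S.gen from h3).inv_left.mul_left hc).eq with e | e
  · exact Or.inl (inv_mul_eq_one.1 (Subtype.ext e : (S.lT ho a)⁻¹ * x = 1)).symm
  · exact Or.inr (inv_mul_eq_iff_eq_mul.1 (Subtype.ext e : (S.lT ho a)⁻¹ * x = ⟨z, self_mem_Cz z⟩))

theorem lT_class (hs : IsSimpleGroup G) (hG : ¬ IsMulCommutative G) {a : Equiv.Perm GolayPt}
    (ha : a ∈ octadFix o) (ha1 : a ≠ 1) :
    S.lT ho a ∈ S.Tz ho ∧ S.lT ho a * ⟨z, self_mem_Cz z⟩ ∈ S.Oz ho := by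
  obtain ⟨c⟩ := S.exists_coord ho
  obtain ⟨-, -, -, -, hd⟩ := S.ncard_Oz ho hs hG c
  set zH : ↥(Cz z) := ⟨z, self_mem_Cz z⟩
  set y := S.yF ho a with hy
  have hone : y ∈ S.Oz ho ↔ y * zH ∉ S.Oz ho := by
    have hcl : ∀ x ∈ S.ShortSet ho, S.conjH o y x ∨ S.conjH o (y * zH) x :=
      fun x hx => S.short_cases ho ha ha1 hx
    constructor
    · intro h1 h2
      have hsub : S.ShortSet ho ⊆ S.Oz ho := fun x hx =>
        (hcl x hx).elim (fun h => (S.Oz_iff_of_conjH ho h).1 h1) (fun h => (S.Oz_iff_of_conjH ho h).1 h2)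
      rw [Set.inter_eq_left.2 hsub, S.ncard_Short ho] at hd
      omega
    · intro h2
      by_contra h1
      have hsub : S.ShortSet ho ∩ S.Oz ho = ∅ := Set.eq_empty_iff_forall_notMem.2 fun x ⟨hx, hxO⟩ =>
        (hcl x hx).elim (fun h => h1 ((S.Oz_iff_of_conjH ho h).2 hxO))
          (fun h => h2 ((S.Oz_iff_of_conjH ho h).2 hxO))
      rw [hsub, Set.ncard_empty] at hd
      omega
  obtain ⟨h1, h2, -⟩ := S.lT_spec ho ha
  have hlt : S.lT ho a ∉ S.Oz ho ∧ S.lT ho a * zH ∈ S.Oz ho := by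
    unfold lT
    split
    · rename_i h
      exact ⟨hone.1 h, by rw [mul_assoc, S.zH_mul_self, mul_one]; exact h⟩
    · rename_i h
      exact ⟨h, by by_contra hh; exact h (hone.2 hh)⟩
  exact ⟨⟨h1, fun e => ha1 (by rw [← h2, e, map_one]), fun hc => hlt.1 ⟨h1, hc⟩⟩, hlt.2⟩

theorem eq_lT (hs : IsSimpleGroup G) (hG : ¬ IsMulCommutative G) {a : Equiv.Perm GolayPt}
    (ha : a ∈ octadFix o) (ha1 : a ≠ 1) {x : ↥(Cz z)} (hx : x ∈ S.Tz ho) (hk : S.κ x = a)
    (hc : (x : G) * S.gen = S.gen * x) : x = S.lT ho a :=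
  (S.lift_cases ho ha hx.1 hk hc).resolve_right fun e => hx.2.2 (e ▸ (S.lT_class ho hs hG ha ha1).2.2)

theorem Tz_conj {k : ↥(Cz z)} (hk : S.κ k ∈ stabO o) {x : ↥(Cz z)} (hx : x ∈ S.Tz ho) :
    k * x * k⁻¹ ∈ S.Tz ho := by
  refine ⟨S.conj_mem_Vo ho hk hx.1, fun e => hx.2.1 (conj_eq_one_iff.1 e), fun hc => hx.2.2 ?_⟩
  exact hc.trans (isConj_iff.2 ⟨(k : G)⁻¹, by simp [mul_assoc]⟩)

theorem lT_conj (hs : IsSimpleGroup G) (hG : ¬ IsMulCommutative G) {a : Equiv.Perm GolayPt}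
    (ha : a ∈ octadFix o) (ha1 : a ≠ 1) {k : ↥(Cz z)} (hk : S.κ k ∈ stabO o)
    (hkg : (k : G) * S.gen = S.gen * k) :
    k * S.lT ho a * k⁻¹ = S.lT ho (S.κ k * a * (S.κ k)⁻¹) := by
  obtain ⟨h1, h2, h3⟩ := S.lT_spec ho ha
  have hT := S.Tz_conj ho hk (S.lT_class ho hs hG ha ha1).1
  have hκ : S.κ (k * S.lT ho a * k⁻¹) = S.κ k * a * (S.κ k)⁻¹ := by rw [map_mul, map_mul, map_inv, h2]
  refine S.eq_lT ho hs hG (hκ ▸ ((S.mem_Vo ho).1 hT.1).1.1) (fun e => ha1 (conj_eq_one_iff.1 e)) hT hκ ?_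
  exact (((show Commute (k : G) S.gen from hkg).mul_left h3).mul_left
    (show Commute (k : G) S.gen from hkg).inv_left).eq

/-- A lift of an even permutation of the six points commuting with the generator. -/
theorem exists_equiv_gen (c : S.Coord o) {π : Equiv.Perm (Fin 6)} (hπ : π ∈ alternatingGroup (Fin 6)) :
    ∃ k : ↥(Cz z), k ∈ S.innerH ∧ S.κ k ∈ stabO o ∧ (k : G) * S.gen = S.gen * k ∧
      (∀ i, ∃ d : K4, d ≠ 0 ∧ S.rho k (c.h i) = d • c.h (π i)) ∧
      ∀ i j, i ≠ j → S.κ k * c.lab i j * (S.κ k)⁻¹ = c.lab (π i) (π j) := by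
  obtain ⟨k0, hi0, hk0, hmap0, hlab0⟩ := c.equiv π hπ
  obtain ⟨k, hkn, hkk⟩ := S.frattini' (S.κ_mem k0)
  have hpA : S.κ k0 pA = pA := (S.mem_innerH k0).1 hi0
  have hi : k ∈ S.innerH := (S.mem_innerH k).2 (by rw [hkk]; exact hpA)
  obtain ⟨n, hn⟩ := S.rho_of_κ_one (h := k0⁻¹ * k) (by rw [map_mul, map_inv, hkk, inv_mul_cancel])
  refine ⟨k, hi, by rw [hkk]; exact stab0_le_stabO o hk0, (S.inner k hkn).1 (by rw [hkk]; exact hpA),
    fun i => ?_, fun i j hij => by rw [hkk]; exact hlab0 i j hij⟩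
  obtain ⟨d, hd, he⟩ := hmap0 i
  have hz : ∀ v : S.WS, (S.rho S.genH ^ n) v = (K4.zeta ^ n) • v := by
    intro v
    clear hn
    induction n with
    | zero => simp
    | succ n ih => rw [pow_succ', pow_succ', LinearEquiv.mul_apply, ih, mul_smul, S.zeta_smul (_ • v), ← S.omega_eq]
  refine ⟨K4.zeta ^ n * d, mul_ne_zero (pow_ne_zero _ (by decide +kernel)) hd, ?_⟩
  rw [show k = k0 * (k0⁻¹ * k) by group, map_mul, LinearEquiv.mul_apply, hn, hz,
    show S.rho k0 ((K4.zeta ^ n) • c.h i) = (K4.zeta ^ n) • S.rho k0 (c.h i) from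
      map_smul (S.linK hi0) _ _, he, smul_smul]

omit ho in
/-- The condition on the sign: exactly one coordinate is nonzero. -/
def qc (s t : K4) : Bool := decide (s = 0) != decide (t = 0)

omit ho in
/-- The power of `z` given by a sign. -/
def zpw (z : G) (b : Bool) : ↥(Cz z) := bif b then ⟨z, self_mem_Cz z⟩ else 1

theorem zpw_xor (a b : Bool) : zpw z (a ^^ b) = zpw z a * zpw z b := by
  cases a <;> cases b <;> simp [zpw, S.zH_mul_self]

theorem zpw_injective : Function.Injective (zpw z : Bool → ↥(Cz z)) := by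
  intro a b h
  cases a <;> cases b <;> first | rfl | exact absurd (congrArg Subtype.val h) (by simp [zpw, S.z_ne, Ne.symm S.z_ne])

theorem zpw_conj (k : ↥(Cz z)) (b : Bool) : k * zpw z b * k⁻¹ = zpw z b := by
  cases b
  · simp [zpw]
  · exact S.zH_conj k

/-- Over each vector of a secant exactly one of the two elements is outside the class, given by a form. -/
theorem exists_sign (hs : IsSimpleGroup G) (hG : ¬ IsMulCommutative G) {a : Equiv.Perm GolayPt}
    (ha : a ∈ octadFix o) (ha1 : a ≠ 1) :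
    ∃ q : S.WS → Bool, (∀ v ∈ LinearMap.range (S.mv a), ∀ b, (S.lT ho a * S.sig v * zpw z b ∈ S.Tz ho ↔ b = q v)) ∧
      ∀ v ∈ LinearMap.range (S.mv a), ∃ u, S.mv a u = v ∧ ∀ w ∈ LinearMap.range (S.mv a),
        q (v + w) = ((q v ^^ q w) ^^ decide (S.beta u w = 1)) := by
  classical
  set zH : ↥(Cz z) := ⟨z, self_mem_Cz z⟩
  obtain ⟨hlV, hlk, hlg⟩ := S.lT_spec ho ha
  obtain ⟨hlT, hlO⟩ := S.lT_class ho hs hG ha ha1
  -- moving by `E`
  have hmove : ∀ f : ↥(Ez z), ∃ b, inE f * S.lT ho a * (inE f)⁻¹ =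
      S.lT ho a * S.sig (S.mv a (S.pr f)) * zpw z b := by
    intro f
    obtain ⟨d, hd, he⟩ := S.conj_yF_cases ho ha f
    obtain ⟨d', hd', hv⟩ := S.exists_sig (S.mv a (S.pr f))
    have hE : inE f * S.yF ho a * (inE f)⁻¹ = S.yF ho a * inE d := Subtype.ext he
    have hl : inE f * S.lT ho a * (inE f)⁻¹ = S.lT ho a * inE d := by
      unfold lT
      split
      · rw [show inE f * (S.yF ho a * zH) * (inE f)⁻¹ =
          inE f * S.yF ho a * (inE f)⁻¹ * (inE f * zH * (inE f)⁻¹) by group, S.zH_conj, hE, mul_assoc, mul_assoc]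
        exact congrArg _ (Subtype.ext (mem_Cz.1 (inE d).2))
      · exact hE
    rw [hl, ← hd']
    rcases (S.pr_eq_iff d d').1 (hd.trans hv.symm) with h | h
    · exact ⟨false, by rw [show inE d = inE d' from Subtype.ext h]; simp [zpw]⟩
    · exact ⟨true, by rw [show inE d = inE d' * zH from Subtype.ext h, ← mul_assoc]; rfl⟩
  have huniq : ∀ v, ∀ f : ↥(Ez z), S.mv a (S.pr f) = v → ∀ b,
      inE f * S.lT ho a * (inE f)⁻¹ = S.lT ho a * S.sig v * zpw z b →
      ∀ b', (S.lT ho a * S.sig v * zpw z b' ∈ S.Tz ho ↔ b' = b) := by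
    intro v f _ b hb b'
    have hfs : S.κ (inE f) ∈ stabO o := by rw [S.κ_inE]; exact one_mem _
    have h1 : S.lT ho a * S.sig v * zpw z b ∈ S.Tz ho := hb ▸ S.Tz_conj ho hfs hlT
    refine ⟨fun h => ?_, fun e => e ▸ h1⟩
    by_contra hne
    have h2 : inE f * (S.lT ho a * zH) * (inE f)⁻¹ = S.lT ho a * S.sig v * zpw z b' := by
      rw [show inE f * (S.lT ho a * zH) * (inE f)⁻¹ =
        inE f * S.lT ho a * (inE f)⁻¹ * (inE f * zH * (inE f)⁻¹) by group, S.zH_conj, hb, mul_assoc _ _ zH,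
        show zH = zpw z true from rfl, ← S.zpw_xor ho]
      revert hne; cases b <;> cases b' <;> simp
    have h3 : IsConj z ((inE f * (S.lT ho a * zH) * (inE f)⁻¹ : ↥(Cz z)) : G) :=
      hlO.2.trans (isConj_iff.2 ⟨f, rfl⟩)
    rw [h2] at h3
    exact h.2.2 h3
  have hex : ∀ v ∈ LinearMap.range (S.mv a), ∃ f : ↥(Ez z), S.mv a (S.pr f) = v := by
    rintro v ⟨u, rfl⟩
    obtain ⟨f, rfl⟩ := S.pr_surjective u
    exact ⟨f, rfl⟩
  let q : S.WS → Bool := fun v => decide (S.lT ho a * S.sig v * zpw z true ∈ S.Tz ho)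
  have hq : ∀ v ∈ LinearMap.range (S.mv a), ∀ b,
      (S.lT ho a * S.sig v * zpw z b ∈ S.Tz ho ↔ b = q v) := by
    intro v hv
    obtain ⟨f, hf⟩ := hex v hv
    obtain ⟨b0, hb0⟩ := hmove f
    rw [hf] at hb0
    have h := huniq v f hf b0 hb0
    intro b
    rw [h b]
    simp only [q, h true]
    cases b0 <;> cases b <;> simp
  have hqf : ∀ f : ↥(Ez z), inE f * S.lT ho a * (inE f)⁻¹ =
      S.lT ho a * S.sig (S.mv a (S.pr f)) * zpw z (q (S.mv a (S.pr f))) := by
    intro f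
    obtain ⟨b, hb⟩ := hmove f
    have h1 := (huniq _ f rfl b hb (q (S.mv a (S.pr f)))).1 ((hq _ ⟨_, rfl⟩ _).2 rfl)
    rw [h1]; exact hb
  refine ⟨q, hq, fun v hv => ?_⟩
  obtain ⟨f, rfl⟩ := hex v hv
  refine ⟨S.pr f, rfl, fun w hw => ?_⟩
  obtain ⟨g, rfl⟩ := hex w hw
  have hvC := S.range_mv_le ho ha hv
  have hwC := S.range_mv_le ho ha hw
  obtain ⟨d, hd, hdp⟩ := S.exists_sig (S.mv a (S.pr g))
  have hfd : inE f * S.sig (S.mv a (S.pr g)) * (inE f)⁻¹ =
      S.sig (S.mv a (S.pr g)) * zpw z (decide (S.beta (S.pr f) (S.mv a (S.pr g)) = 1)) := by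
    rw [← hd, ← hdp]
    by_cases hb : S.beta (S.pr f) (S.pr d) = 1
    · rw [decide_eq_true hb]
      exact Subtype.ext ((S.beta_pr_one f d).1 hb)
    · rw [decide_eq_false hb]
      have h0 := (LargeExtraspecial.OutForm.two_cases _).resolve_right hb
      refine Subtype.ext ?_
      show (f : G) * d * (f : G)⁻¹ = (d : G) * 1
      rw [mul_one, mul_inv_eq_iff_eq_mul, (S.beta_pr f d).1 h0]
  have h1 := hqf (f * g)
  rw [show inE (f * g) = inE f * inE g from Subtype.ext rfl] at h1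
  have h2 : inE f * inE g * S.lT ho a * (inE f * inE g)⁻¹ =
      inE f * (inE g * S.lT ho a * (inE g)⁻¹) * (inE f)⁻¹ := by group
  rw [h2, hqf g, show inE f * (S.lT ho a * S.sig (S.mv a (S.pr g)) * zpw z (q (S.mv a (S.pr g)))) * (inE f)⁻¹ =
      inE f * S.lT ho a * (inE f)⁻¹ * (inE f * S.sig (S.mv a (S.pr g)) * (inE f)⁻¹) *
        (inE f * zpw z (q (S.mv a (S.pr g))) * (inE f)⁻¹) by group,
    S.zpw_conj ho, hqf f, hfd, S.pr_mul, map_add, S.sig_add ho hvC hwC] at h1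
  have hcomm : ∀ (b : Bool) (x : ↥(Cz z)), zpw z b * x = x * zpw z b := fun b x =>
    (mul_inv_eq_iff_eq_mul.1 (S.zpw_conj ho x b)).symm
  set A := S.lT ho a
  set B := S.sig (S.mv a (S.pr f))
  set C := S.sig (S.mv a (S.pr g))
  set bb := decide (S.beta (S.pr f) (S.mv a (S.pr g)) = 1)
  have h3 : A * (B * C) * zpw z ((q (S.mv a (S.pr f)) ^^ q (S.mv a (S.pr g))) ^^ bb) =
      A * (B * C) * zpw z (q (S.mv a (S.pr f) + S.mv a (S.pr g))) := by
    rw [← h1, S.zpw_xor ho, S.zpw_xor ho]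
    calc A * (B * C) * (zpw z (q (S.mv a (S.pr f))) * zpw z (q (S.mv a (S.pr g))) * zpw z bb)
        = A * B * (C * zpw z (q (S.mv a (S.pr f)))) * (zpw z (q (S.mv a (S.pr g))) * zpw z bb) := by
          simp only [mul_assoc]
      _ = A * B * zpw z (q (S.mv a (S.pr f))) * (C * zpw z bb) * zpw z (q (S.mv a (S.pr g))) := by
          rw [← hcomm, hcomm (q (S.mv a (S.pr g))) (zpw z bb)]
          simp only [mul_assoc]
  exact (S.zpw_injective ho (mul_left_cancel h3)).symm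

theorem lab_conj_gen (c : S.Coord o) {i j : Fin 6} (hij : i ≠ j) :
    S.genH * S.lT ho (c.lab i j) * S.genH⁻¹ = S.lT ho (c.lab i j) :=
  Subtype.ext (mul_inv_eq_iff_eq_mul.2 (S.lT_spec ho (c.lab_mem i j hij).1).2.2.symm)

/-- **The elements outside the class of `z` over a secant.** -/
theorem xT_mem_Tz (hs : IsSimpleGroup G) (hG : ¬ IsMulCommutative G) (c : S.Coord o) {i j : Fin 6} (hij : i ≠ j)
    (s t : K4) :
    S.lT ho (c.lab i j) * S.sig (s • c.h i + t • c.h j) * zpw z (qc s t) ∈ S.Tz ho := by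
  obtain ⟨ha, ha1⟩ := c.lab_mem 0 1 (by decide)
  obtain ⟨q, hq, hadd⟩ := S.exists_sign ho hs hG ha ha1
  set a := c.lab 0 1
  let w : K4 → K4 → S.WS := fun s t => s • c.h 0 + t • c.h 1
  have hw : ∀ s t, w s t ∈ LinearMap.range (S.mv a) := fun s t => by
    rw [c.lab_range 0 1 (by decide)]
    exact add_mem (Submodule.mem_sup_left (Submodule.smul_mem _ _ (Submodule.mem_span_singleton_self _)))
      (Submodule.mem_sup_right (Submodule.smul_mem _ _ (Submodule.mem_span_singleton_self _)))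
  have hwsurj : ∀ v ∈ LinearMap.range (S.mv a), ∃ s t, w s t = v := by
    intro v hv
    rw [c.lab_range 0 1 (by decide), ← Submodule.span_union, Set.singleton_union,
      Submodule.mem_span_pair] at hv
    exact hv
  have hwadd : ∀ s t s' t', w (s + s') (t + t') = w s t + w s' t' := fun s t s' t' => by
    simp only [w, add_smul]; abel
  let Q : K4 → K4 → Bool := fun s t => q (w s t)
  -- invariance under an element commuting with the generator
  have hinv : ∀ (k : ↥(Cz z)), S.κ k ∈ stabO o → (k : G) * S.gen = S.gen * k → k * S.lT ho a * k⁻¹ = S.lT ho a →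
      ∀ s t s' t', S.rho k (w s t) = w s' t' → Q s t = Q s' t' := by
    intro k hk hkg hka s t s' t' he
    refine (hq _ (hw s' t') (Q s t)).1 ?_
    have h1 := S.Tz_conj ho hk ((hq _ (hw s t) _).2 rfl)
    rwa [show k * (S.lT ho a * S.sig (w s t) * zpw z (q (w s t))) * k⁻¹ =
      k * S.lT ho a * k⁻¹ * (k * S.sig (w s t) * k⁻¹) * (k * zpw z (q (w s t)) * k⁻¹) by group,
      hka, S.sig_conj hkg, S.zpw_conj ho, he] at h1
  -- scalars
  have hscal : ∀ s t, Q (K4.zeta * s) (K4.zeta * t) = Q s t := fun s t => by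
    refine (hinv S.genH (by rw [show S.κ S.genH = 1 from S.κ_gen]; exact one_mem _) rfl
      (S.lab_conj_gen ho c (by decide)) s t _ _ ?_).symm
    rw [← S.omega_eq, ← S.zeta_smul]
    simp only [w, smul_add, smul_smul]
  -- the ratio
  obtain ⟨k, hi, hk, hkg, hmap, hlab⟩ := S.exists_equiv_gen ho c (π := Equiv.swap 2 3 * Equiv.swap 3 4)
    (Equiv.Perm.mem_alternatingGroup.2 (by decide +kernel))
  obtain ⟨d0, hd0, e0⟩ := hmap 0
  obtain ⟨d1, hd1, e1⟩ := hmap 1
  obtain ⟨d2, hd2, e2⟩ := hmap 2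
  obtain ⟨d3, hd3, e3⟩ := hmap 3
  rw [show (Equiv.swap (2 : Fin 6) 3 * Equiv.swap 3 4 : Equiv.Perm (Fin 6)) (0 : Fin 6) = (0 : Fin 6) by decide +kernel] at e0
  rw [show (Equiv.swap (2 : Fin 6) 3 * Equiv.swap 3 4 : Equiv.Perm (Fin 6)) (1 : Fin 6) = (1 : Fin 6) by decide +kernel] at e1
  rw [show (Equiv.swap (2 : Fin 6) 3 * Equiv.swap 3 4 : Equiv.Perm (Fin 6)) (2 : Fin 6) = (3 : Fin 6) by decide +kernel] at e2
  rw [show (Equiv.swap (2 : Fin 6) 3 * Equiv.swap 3 4 : Equiv.Perm (Fin 6)) (3 : Fin 6) = (4 : Fin 6) by decide +kernel] at e3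
  have hka : k * S.lT ho a * k⁻¹ = S.lT ho a := by
    rw [S.lT_conj ho hs hG ha ha1 hk hkg, hlab 0 1 (by decide),
      show (Equiv.swap (2 : Fin 6) 3 * Equiv.swap 3 4 : Equiv.Perm (Fin 6)) (0 : Fin 6) = (0 : Fin 6) by decide +kernel,
      show (Equiv.swap (2 : Fin 6) 3 * Equiv.swap 3 4 : Equiv.Perm (Fin 6)) (1 : Fin 6) = (1 : Fin 6) by decide +kernel]
  have hlin : ∀ v u : S.WS, S.rho k (v + u) = S.rho k v + S.rho k u := map_add _
  have hsm : ∀ (r : K4) (v : S.WS), S.rho k (r • v) = r • S.rho k v := fun r v => map_smul (S.linK hi) r v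
  have hd : d1 = d0 * (K4.zeta + 1) := by
    have h : d0 • c.h 0 + d1 • c.h 1 + d2 • c.h 3 = d3 • c.h 4 := by
      rw [← e3, c.h3, hlin, hlin, e0, e1, e2, c.h3]
    rw [c.h3, c.h4] at h
    have hh : S.cvec c ![d0 + d2, d1 + d2, d2] = S.cvec c ![d3, d3 * K4.zeta, d3 * (K4.zeta + 1)] := by
      simp only [cvec, Matrix.cons_val_zero, Matrix.cons_val_one, Matrix.cons_val]
      simp only [smul_add, smul_smul] at h
      rw [← h]
      simp only [add_smul]
      abel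
    have hx := S.cvec_injective c hh
    have key : ∀ d0 d1 d2 d3 : K4, d0 + d2 = d3 → d1 + d2 = d3 * K4.zeta → d2 = d3 * (K4.zeta + 1) →
        d1 = d0 * (K4.zeta + 1) := by decide +kernel
    exact key d0 d1 d2 d3 (congrFun hx 0) (congrFun hx 1) (congrFun hx 2)
  have hratio : ∀ s t, Q (d0 * s) (d1 * t) = Q s t := fun s t => by
    refine (hinv k hk hkg hka s t _ _ ?_).symm
    simp only [w, hlin, hsm, e0, e1, smul_smul, mul_comm]
  -- the shape of the sign
  have hQ00 : Q 0 0 = false := by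
    refine ((hq _ (hw 0 0) false).1 ?_).symm
    simp only [w, zero_smul, add_zero, S.sig_zero, mul_one, zpw, cond_false]
    exact (S.lT_class ho hs hG ha ha1).1
  have hthird : ∀ s t s' t' s'' t'', (Q (s + (s' + s'')) (t + (t' + t''))) =
      ((Q (s + s') (t + t') ^^ Q (s + s'') (t + t'')) ^^ (Q (s' + s'') (t' + t'') ^^
        ((Q s t ^^ Q s' t') ^^ Q s'' t''))) := by
    intro s t s' t' s'' t''
    obtain ⟨u, -, hu⟩ := hadd _ (hw s t)
    have a1 := hu _ (hw (s' + s'') (t' + t''))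
    have a2 := hu _ (hw s' t')
    have a3 := hu _ (hw s'' t'')
    rw [← hwadd] at a1 a2 a3
    have hb : decide (S.beta u (w (s' + s'') (t' + t'')) = 1) =
        (decide (S.beta u (w s' t') = 1) ^^ decide (S.beta u (w s'' t'') = 1)) := by
      rw [hwadd, map_add]
      generalize S.beta u (w s' t') = p, S.beta u (w s'' t'') = r
      revert p r; decide +kernel
    simp only [Q]
    rw [a1, a2, a3, hb]
    generalize q (w s t) = p1, q (w s' t') = p2, q (w s'' t'') = p3, q (w (s' + s'') (t' + t'')) = p4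
    generalize decide (S.beta u (w s' t') = 1) = p5, decide (S.beta u (w s'' t'') = 1) = p6
    revert p1 p2 p3 p4 p5 p6; decide
  have hnondeg : ∀ s t, w s t ≠ 0 → ∃ s' t', Q (s + s') (t + t') ≠ (Q s t ^^ Q s' t') := by
    intro s t hne
    by_contra hh
    push Not at hh
    obtain ⟨u, hu, hadd'⟩ := hadd _ (hw s t)
    refine hne (S.beta_nondeg _ fun y => ?_)
    obtain ⟨s', t', hst'⟩ := hwsurj _ ⟨y, rfl⟩
    have h1 := hadd' _ (hw s' t')
    have h2 := hh s' t'
    simp only [Q] at h2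
    rw [← hwadd, h2] at h1
    have h3 : S.beta u (w s' t') ≠ 1 := by
      intro h
      rw [decide_eq_true h] at h1
      revert h1; cases q (w s t) <;> cases q (w s' t') <;> simp
    have h4 := (LargeExtraspecial.OutForm.two_cases _).resolve_right h3
    rw [hst', ← S.beta_mv (S.fix_M22 ho ha).1 (S.fix_M22 ho ha).2, hu] at h4
    exact h4
  have hne01 : w 0 1 ≠ 0 ∧ w 1 0 ≠ 0 := by
    simp only [w, zero_smul, one_smul, zero_add, add_zero]
    exact ⟨S.h_ne_zero c 1, S.h_ne_zero c 0⟩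
  have hshape : ∀ s t, Q s t = qc s t := by
    have hcl : ∀ s t, Q s t =
        if s = 0 then (if t = 0 then false else Q 0 1) else (if t = 0 then Q 1 0 else Q 1 1) := by
      have e01 : Q 0 K4.zeta = Q 0 1 := by simpa using hscal 0 1
      have e02 : Q 0 (K4.zeta + 1) = Q 0 1 := by
        have h := hscal 0 K4.zeta
        rw [mul_zero, show K4.zeta * K4.zeta = K4.zeta + 1 by decide +kernel, e01] at h
        exact h
      have e10 : Q K4.zeta 0 = Q 1 0 := by simpa using hscal 1 0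
      have e20 : Q (K4.zeta + 1) 0 = Q 1 0 := by
        have h := hscal K4.zeta 0
        rw [mul_zero, show K4.zeta * K4.zeta = K4.zeta + 1 by decide +kernel, e10] at h
        exact h
      have hpow : ∀ r s t, r ≠ 0 → Q (r * s) (r * t) = Q s t := by
        intro r s t hr
        rcases scalar_pow r hr with rfl | rfl | rfl
        · simp
        · exact hscal s t
        · rw [mul_assoc, mul_assoc, hscal, hscal]
      have hone : ∀ t, t ≠ 0 → Q 1 t = Q 1 1 := by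
        have hstep : ∀ t, Q 1 ((K4.zeta + 1) * t) = Q 1 t := fun t => by
          rw [← hratio 1 t, hd, mul_one, ← hpow d0 1 ((K4.zeta + 1) * t) hd0, mul_one, mul_assoc]
        intro t ht
        have hc := (by decide +kernel : ∀ t : K4, t ≠ 0 → t = 1 ∨ t = (K4.zeta + 1) * 1 ∨
          t = (K4.zeta + 1) * ((K4.zeta + 1) * 1)) t ht
        rcases hc with rfl | rfl | rfl
        · rfl
        · exact hstep 1
        · rw [hstep, hstep]
      intro s t
      split_ifs with h1 h2 h3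
      · rw [h1, h2]; exact hQ00
      · rw [h1]
        rcases (K4.cases' t).resolve_left h2 with rfl | rfl | rfl
        exacts [rfl, e01, e02]
      · rw [h3]
        rcases (K4.cases' s).resolve_left h1 with rfl | rfl | rfl
        exacts [rfl, e10, e20]
      · have h := hpow s 1 (s⁻¹ * t) h1
        rw [mul_one, mul_inv_cancel_left₀ h1] at h
        rw [h, hone _ (mul_ne_zero (inv_ne_zero h1) h3)]
    intro s t
    have key : ∀ A B C : Bool,
        (let F : K4 → K4 → Bool := fun s t =>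
          if s = 0 then (if t = 0 then false else B) else (if t = 0 then A else C)
        (F (0 + (0 + 1)) (1 + (K4.zeta + 0)) =
            ((F (0 + 0) (1 + K4.zeta) ^^ F (0 + 1) (1 + 0)) ^^ (F (0 + 1) (K4.zeta + 0) ^^
              ((F 0 1 ^^ F 0 K4.zeta) ^^ F 1 0)))) →
        (∃ s' t', F (0 + s') (1 + t') ≠ (F 0 1 ^^ F s' t')) →
        (∃ s' t', F (1 + s') (0 + t') ≠ (F 1 0 ^^ F s' t')) → A = true ∧ B = true ∧ C = false) := by
      decide +kernel
    obtain ⟨A, B, C, hcl'⟩ : ∃ A B C : Bool, ∀ s t, Q s t =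
        if s = 0 then (if t = 0 then false else B) else (if t = 0 then A else C) := ⟨_, _, _, hcl⟩
    obtain ⟨hA, hB, hC⟩ := key A B C
      (by have h := hthird 0 1 0 K4.zeta 1 0; simp only [hcl'] at h; exact h)
      (by obtain ⟨a', b', h⟩ := hnondeg 0 1 hne01.1; simp only [hcl'] at h; exact ⟨a', b', h⟩)
      (by obtain ⟨a', b', h⟩ := hnondeg 1 0 hne01.2; simp only [hcl'] at h; exact ⟨a', b', h⟩)
    rw [hcl', hA, hB, hC]
    by_cases h1 : s = 0 <;> by_cases h2 : t = 0 <;> simp [qc, h1, h2]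
  -- transfer to the given pair
  obtain ⟨l, m, hil, hjl, him, hjm, hlm⟩ := (by decide : ∀ i j : Fin 6,
    ∃ l m, i ≠ l ∧ j ≠ l ∧ i ≠ m ∧ j ≠ m ∧ l ≠ m) i j
  obtain ⟨π, hπ, p0, p1, -⟩ := exists_even_map i j l m hij hil him hjl hjm hlm
  obtain ⟨g, hgi, hgs, hgg, hgmap, hglab⟩ := S.exists_equiv_gen ho c hπ
  obtain ⟨r0, hr0, f0⟩ := hgmap 0
  obtain ⟨r1, hr1, f1⟩ := hgmap 1
  rw [p0] at f0; rw [p1] at f1
  have h1 := S.Tz_conj ho hgs ((hq _ (hw (s * r0⁻¹) (t * r1⁻¹)) _).2 rfl)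
  have hrho : S.rho g (w (s * r0⁻¹) (t * r1⁻¹)) = s • c.h i + t • c.h j := by
    simp only [w, map_add, show ∀ (r : K4) (v : S.WS), S.rho g (r • v) = r • S.rho g v from
      fun r v => map_smul (S.linK hgi) r v, f0, f1, smul_smul]
    rw [inv_mul_cancel_right₀ hr0, inv_mul_cancel_right₀ hr1]
  have hsign : q (w (s * r0⁻¹) (t * r1⁻¹)) = qc s t := by
    show Q _ _ = _
    rw [hshape]
    simp [qc, hr0, hr1]
  rwa [show g * (S.lT ho a * S.sig (w (s * r0⁻¹) (t * r1⁻¹)) * zpw z (q (w (s * r0⁻¹) (t * r1⁻¹)))) * g⁻¹ =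
    g * S.lT ho a * g⁻¹ * (g * S.sig (w (s * r0⁻¹) (t * r1⁻¹)) * g⁻¹) *
      (g * zpw z (q (w (s * r0⁻¹) (t * r1⁻¹))) * g⁻¹) by group, S.lT_conj ho hs hG ha ha1 hgs hgg,
    hglab 0 1 (by decide), p0, p1, S.sig_conj hgg, hrho, S.zpw_conj ho, hsign] at h1

end Cfsg.Agent.J4Type.Setting
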